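import Mathlib

set_option autoImplicit false
set_option linter.style.haveILetI false
universe u

namespace Groth.Agent.Lib.helper17.FFMin

theorem mapsTo_minimalPrimes_of_flat (R R' : Type u) [CommRing R] [CommRing R'] [Algebra R R']
    [Module.Flat R R'] :
    Set.MapsTo (Ideal.comap (algebraMap R R')) (minimalPrimes R') (minimalPrimes R) := by
  intro Q hQ
  haveI hQp : Q.IsPrime := hQ.1.1
  refine ⟨⟨Ideal.IsPrime.comap _, bot_le⟩, ?_⟩
  rintro P' ⟨hP', -⟩ hle
  haveI := hP'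
  haveI : Q.LiesOver (Q.under R) := ⟨rfl⟩
  obtain ⟨P₁, hP₁Q, hP₁, hP₁over⟩ := Ideal.exists_ideal_le_liesOver_of_le Q
    (p := P') (q := Q.under R) hle
  have : Q ≤ P₁ := hQ.2 ⟨hP₁, bot_le⟩ hP₁Q
  have hQP : P₁ = Q := le_antisymm hP₁Q this
  show Q.under R ≤ P'
  rw [← hQP, ← hP₁over.over]

theorem surjOn_minimalPrimes_of_faithfullyFlat (R R' : Type u) [CommRing R] [CommRing R']
    [Algebra R R'] [Module.FaithfullyFlat R R'] :
    Set.SurjOn (Ideal.comap (algebraMap R R')) (minimalPrimes R') (minimalPrimes R) := by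
  intro P hP
  haveI hPp : P.IsPrime := hP.1.1
  obtain ⟨Q, hQ⟩ := PrimeSpectrum.comap_surjective_of_faithfullyFlat (A := R) (B := R') ⟨P, hPp⟩
  obtain ⟨Q', hQ', hQ'Q⟩ := Ideal.exists_minimalPrimes_le (I := ⊥) (J := Q.asIdeal) bot_le
  refine ⟨Q', hQ', ?_⟩
  have h1 : Ideal.comap (algebraMap R R') Q' ∈ minimalPrimes R :=
    mapsTo_minimalPrimes_of_flat R R' hQ'
  have h2 : Ideal.comap (algebraMap R R') Q' ≤ P := by
    have h3 : Ideal.comap (algebraMap R R') Q.asIdeal = P := congrArg PrimeSpectrum.asIdeal hQ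
    rw [← h3]
    exact Ideal.comap_mono hQ'Q
  exact le_antisymm h2 (hP.2 ⟨h1.1.1, bot_le⟩ h2)

theorem encard_minimalPrimes_le_of_faithfullyFlat (R R' : Type u) [CommRing R] [CommRing R']
    [Algebra R R'] [Module.FaithfullyFlat R R'] :
    (minimalPrimes R).encard ≤ (minimalPrimes R').encard :=
  (Set.encard_le_encard (surjOn_minimalPrimes_of_faithfullyFlat R R')).trans
    (Set.encard_image_le _ _)

end Groth.Agent.Lib.helper17.FFMin
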