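import Mathlib
import Groth.Agent.Lib.Helper2.SpreadOut

/-!
# helper17: spreading a regular sequence from a localization at a prime to a basic open

* `locQuotEquiv`: `M_T / x M_T ≅ (M/xM)_T` for an arbitrary submonoid `T`.
* `spread_away`: `A` Noetherian, `M` finite; a sequence weakly regular on `M_p` is weakly regular on
  `M_T` for every submonoid `T` containing a multiple of a fixed `g ∉ p`.
-/

set_option autoImplicit false
set_option linter.style.haveILetI false
universe u

open RingTheory.Sequence

namespace Groth.Agent.Lib.helper17.RegSpread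

variable {A : Type u} [CommRing A]

/-- `M_T / x M_T ≅ (M/xM)_T`. -/
noncomputable def locQuotEquiv (T : Submonoid A) (M : Type u) [AddCommGroup M] [Module A M]
    (x : A) :
    QuotSMulTop (algebraMap A (Localization T) x) (LocalizedModule T M)
      ≃ₗ[Localization T] LocalizedModule T (QuotSMulTop x M) :=
  (QuotSMulTop.congr (algebraMap A (Localization T) x)
    (IsLocalizedModule.isBaseChange T (Localization T)
      (LocalizedModule.mkLinearMap T M)).equiv).symm ≪≫ₗ
  (QuotSMulTop.algebraMapTensorEquivTensorQuotSMulTop x M (Localization T)) ≪≫ₗ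
  (IsLocalizedModule.isBaseChange T (Localization T)
      (LocalizedModule.mkLinearMap T (QuotSMulTop x M))).equiv

/-- regularity of `x/1` on `M_T` in elementary terms -/
lemma isSMulRegular_localized_iff (T : Submonoid A) (M : Type u) [AddCommGroup M]
    [Module A M] (x : A) :
    IsSMulRegular (LocalizedModule T M) (algebraMap A (Localization T) x) ↔
      ∀ m : M, (∃ t : A, t ∈ T ∧ t • x • m = 0) → ∃ t : A, t ∈ T ∧ t • m = 0 := by
  constructor
  · intro h m ⟨t, ht, htm⟩
    have h0 : algebraMap A (Localization T) x •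
        (LocalizedModule.mk m (1 : T)) = algebraMap A (Localization T) x • 0 := by
      rw [smul_zero, algebraMap_smul, LocalizedModule.smul'_mk,
        ← LocalizedModule.zero_mk (1 : T), LocalizedModule.mk_eq]
      exact ⟨⟨t, ht⟩, by simpa [Submonoid.smul_def] using htm⟩
    have h1 := h h0
    rw [← LocalizedModule.zero_mk (1 : T), LocalizedModule.mk_eq] at h1
    obtain ⟨c, hc⟩ := h1
    exact ⟨c.1, c.2, by simpa [Submonoid.smul_def] using hc⟩
  · intro h a b hab
    rw [← sub_eq_zero] at hab ⊢
    rw [← smul_sub] at hab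
    generalize a - b = z at hab ⊢
    induction z using LocalizedModule.induction_on with
    | h m s =>
      rw [algebraMap_smul, LocalizedModule.smul'_mk, ← LocalizedModule.zero_mk s,
        LocalizedModule.mk_eq] at hab
      obtain ⟨c, hc⟩ := hab
      obtain ⟨t, ht, htm⟩ := h m ⟨c.1 * s.1, T.mul_mem c.2 s.2, by
        simpa [Submonoid.smul_def, mul_smul] using hc⟩
      rw [← LocalizedModule.zero_mk s, LocalizedModule.mk_eq]
      refine ⟨⟨t, ht⟩, ?_⟩
      simp only [Submonoid.smul_def, smul_zero]
      rw [smul_comm, htm, smul_zero]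

variable [IsNoetherianRing A]

/-- spreading out regularity of one element -/
theorem spread_isSMulRegular (p : Ideal A) [p.IsPrime] (M : Type u) [AddCommGroup M]
    [Module A M] [Module.Finite A M] (x : A)
    (h : IsSMulRegular (LocalizedModule p.primeCompl M)
      (algebraMap A (Localization p.primeCompl) x)) :
    ∃ g : A, g ∉ p ∧ ∀ (T : Submonoid A) (u : A), u ∈ T → g ∣ u →
      IsSMulRegular (LocalizedModule T M) (algebraMap A (Localization T) x) := by
  rw [isSMulRegular_localized_iff] at h
  let K : Submodule A M := LinearMap.ker (LinearMap.lsmul A M x)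
  have hKmem : ∀ m : M, m ∈ K ↔ x • m = 0 := fun m => by
    simp [K, LinearMap.mem_ker]
  have hsupp : (⟨p, inferInstance⟩ : PrimeSpectrum A) ∉ Module.support A K := by
    rw [Module.mem_support_iff']
    push Not
    intro k
    obtain ⟨t, ht, htk⟩ := h k.1 ⟨1, p.primeCompl.one_mem, by
      rw [one_smul]; exact (hKmem _).mp k.2⟩
    exact ⟨t, ht, Subtype.ext (by simpa using htk)⟩
  rw [Module.mem_support_iff_of_finite, SetLike.not_le_iff_exists] at hsupp
  obtain ⟨g, hgann, hgp⟩ := hsupp
  refine ⟨g, hgp, fun T u huT hgu => ?_⟩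
  rw [isSMulRegular_localized_iff]
  rintro m ⟨t, ht, htm⟩
  have hmem : t • m ∈ K := by
    rw [hKmem, smul_comm]; exact htm
  have h0 : g • (⟨t • m, hmem⟩ : K) = 0 := (Module.mem_annihilator.mp hgann) _
  have h0' : g • t • m = 0 := congrArg Subtype.val h0
  obtain ⟨w, rfl⟩ := hgu
  refine ⟨g * w * t, T.mul_mem huT ht, ?_⟩
  rw [mul_smul, mul_comm, mul_smul, h0', smul_zero]

/-- spreading out a weakly regular sequence from `M_p` to all localizations inverting a multiple of
some `g ∉ p` -/
theorem spread_away (p : Ideal A) [p.IsPrime] (xs : List A) :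
    ∀ (M : Type u) [AddCommGroup M] [Module A M] [Module.Finite A M],
      IsWeaklyRegular (LocalizedModule p.primeCompl M)
        (xs.map (algebraMap A (Localization p.primeCompl))) →
      ∃ g : A, g ∉ p ∧ ∀ (T : Submonoid A) (u : A), u ∈ T → g ∣ u →
        IsWeaklyRegular (LocalizedModule T M) (xs.map (algebraMap A (Localization T))) := by
  induction xs with
  | nil =>
    intro M _ _ _ _
    exact ⟨1, fun h => (inferInstance : p.IsPrime).ne_top ((Ideal.eq_top_iff_one p).mpr h),
      fun T u _ _ => IsWeaklyRegular.nil _ _⟩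
  | cons x xs ih =>
    intro M _ _ _ h
    rw [List.map_cons, isWeaklyRegular_cons_iff] at h
    obtain ⟨hx, hxs⟩ := h
    obtain ⟨g₁, hg₁p, hg₁⟩ := spread_isSMulRegular p M x hx
    have hxs' : IsWeaklyRegular (LocalizedModule p.primeCompl (QuotSMulTop x M))
        (xs.map (algebraMap A (Localization p.primeCompl))) :=
      ((locQuotEquiv p.primeCompl M x).isWeaklyRegular_congr _).mp hxs
    obtain ⟨g₂, hg₂p, hg₂⟩ := ih (QuotSMulTop x M) hxs'
    refine ⟨g₁ * g₂, fun hmem => ?_, fun T u huT hgu => ?_⟩
    · rcases (inferInstance : p.IsPrime).mem_or_mem hmem with h' | h'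
      · exact hg₁p h'
      · exact hg₂p h'
    · have hq₁ : g₁ ∣ u := (Dvd.intro _ rfl).trans hgu
      have hq₂ : g₂ ∣ u := (Dvd.intro_left _ rfl).trans hgu
      rw [List.map_cons, isWeaklyRegular_cons_iff]
      exact ⟨hg₁ T u huT hq₁, ((locQuotEquiv T M x).isWeaklyRegular_congr _).mpr
        (hg₂ T u huT hq₂)⟩

end Groth.Agent.Lib.helper17.RegSpread
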