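import Mathlib
import Groth.Agent.Lib.Helper17.RegSpread

/-!
# helper17: spreading out "the ideal is generated by a regular sequence" from `S_P` to `S_g`

* `isWeaklyRegular_iff_localizedModule`: weak regularity on an abstract localization `B` of `S` vs
  on `LocalizedModule T S`.
* `ofList_eq_of_forall₂_unit`: unit multiples generate the same ideal.
* `spread_regular`: `S` Noetherian, `P` prime, `K ≤ P`, `K S_P` generated by a weakly regular sequence
  ⇒ there are `g ∉ P` and `ks ⊆ K` whose images form a regular sequence generating `K B` for any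
  `B = S_g`.
-/

set_option autoImplicit false
set_option linter.style.haveILetI false
universe u

open RingTheory.Sequence

namespace Groth.Agent.Lib.helper17.RegSpread

variable {S : Type u} [CommRing S]

/-- weak regularity on an abstract localization `B = T⁻¹S` vs on `LocalizedModule T S` -/
lemma isWeaklyRegular_iff_localizedModule (T : Submonoid S) (B : Type u) [CommRing B] [Algebra S B]
    [IsLocalization T B] (ks : List S) :
    IsWeaklyRegular B (ks.map (algebraMap S B)) ↔
      IsWeaklyRegular (LocalizedModule T S) (ks.map (algebraMap S (Localization T))) := by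
  rw [isWeaklyRegular_map_algebraMap_iff, isWeaklyRegular_map_algebraMap_iff]
  let e : LocalizedModule T S ≃ₗ[S] B :=
    IsLocalizedModule.linearEquiv T (LocalizedModule.mkLinearMap T S) (Algebra.linearMap S B)
  exact (e.isWeaklyRegular_congr ks).symm

/-- unit multiples generate the same ideal -/
lemma ofList_eq_of_forall₂_unit {B : Type u} [CommRing B] {rs rs' : List B}
    (h : List.Forall₂ (fun r r' : B => ∃ u : Bˣ, r' = u * r) rs rs') :
    Ideal.ofList rs' = Ideal.ofList rs := by
  induction h with
  | nil => rfl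
  | @cons r r' rs rs' hr _ ih =>
    obtain ⟨u, rfl⟩ := hr
    rw [Ideal.ofList_cons, Ideal.ofList_cons, ih, Ideal.span_singleton_mul_left_unit u.isUnit]

variable [IsNoetherianRing S]

/-- a multiplier killing `K/I` locally at `P` -/
lemma exists_smul_le (P : Ideal S) [P.IsPrime] (I K : Ideal S)
    (h : K.map (algebraMap S (Localization.AtPrime P)) ≤
      I.map (algebraMap S (Localization.AtPrime P))) :
    ∃ g : S, g ∉ P ∧ ∀ k ∈ K, g * k ∈ I := by
  classical
  obtain ⟨t, ht⟩ : K.FG := IsNoetherian.noetherian K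
  have hloc : ∀ k ∈ K, ∃ s : S, s ∉ P ∧ s * k ∈ I := by
    intro k hk
    have hk' : algebraMap S (Localization.AtPrime P) k ∈
        I.map (algebraMap S (Localization.AtPrime P)) := h (Ideal.mem_map_of_mem _ hk)
    obtain ⟨⟨a, s⟩, hs⟩ := (IsLocalization.mem_map_algebraMap_iff P.primeCompl
      (Localization.AtPrime P)).mp hk'
    rw [← map_mul] at hs
    obtain ⟨c, hc⟩ := (IsLocalization.eq_iff_exists P.primeCompl (Localization.AtPrime P)).mp hs
    refine ⟨c.1 * s.1, P.primeCompl.mul_mem c.2 s.2, ?_⟩
    have : c.1 * s.1 * k = c.1 * a.1 := by rw [← hc]; ring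
    rw [this]
    exact I.mul_mem_left _ a.2
  choose! s hs using hloc
  refine ⟨∏ k ∈ t, s k, ?_, ?_⟩
  · intro hmem
    obtain ⟨k, hk, hsk⟩ := (Ideal.IsPrime.prod_mem_iff).mp hmem
    exact (hs k (ht ▸ Ideal.subset_span hk)).1 hsk
  · intro k hk
    rw [← ht] at hk
    refine Submodule.span_induction ?_ ?_ ?_ ?_ hk
    · intro x hx
      obtain ⟨w, hw⟩ := Finset.dvd_prod_of_mem s hx
      rw [hw, mul_comm (s x) w, mul_assoc]
      exact I.mul_mem_left _ (hs x (ht ▸ Ideal.subset_span hx)).2
    · simp
    · intro x y _ _ hx hy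
      rw [mul_add]; exact I.add_mem hx hy
    · intro a x _ hx
      rw [smul_eq_mul, mul_left_comm]; exact I.mul_mem_left _ hx

theorem spread_regular (P : Ideal S) [P.IsPrime] (K : Ideal S) (hKP : K ≤ P)
    (rs : List (Localization.AtPrime P)) (hreg : IsWeaklyRegular (Localization.AtPrime P) rs)
    (hK : K.map (algebraMap S (Localization.AtPrime P)) = Ideal.ofList rs) :
    ∃ g : S, g ∉ P ∧ ∃ ks : List S, ks.length = rs.length ∧ (∀ k ∈ ks, k ∈ K) ∧
      ∀ (B : Type u) [CommRing B] [Algebra S B] [IsLocalization.Away g B],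
        IsRegular B (ks.map (algebraMap S B)) ∧
          K.map (algebraMap S B) = Ideal.ofList (ks.map (algebraMap S B)) := by
  have hmem : ∀ r ∈ rs, r ∈ K.map (algebraMap S (Localization.AtPrime P)) := by
    intro r hr
    rw [hK]; exact Ideal.subset_span hr
  obtain ⟨ks, hlen, hksK, hall⟩ := Groth.Agent.Lib.helper2.SpreadOut.exists_lift_list P K rs hmem
  have hreg' : IsWeaklyRegular (Localization.AtPrime P)
      (ks.map (algebraMap S (Localization.AtPrime P))) :=
    Groth.Agent.Lib.helper2.SpreadOut.isWeaklyRegular_of_forall₂_unit hall _ hreg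
  have hspan : Ideal.ofList (ks.map (algebraMap S (Localization.AtPrime P))) = Ideal.ofList rs :=
    ofList_eq_of_forall₂_unit hall
  have hIK : Ideal.ofList ks ≤ K := by
    rw [Ideal.ofList, Ideal.span_le]
    intro k hk
    exact hksK k hk
  have hle : K.map (algebraMap S (Localization.AtPrime P)) ≤
      (Ideal.ofList ks).map (algebraMap S (Localization.AtPrime P)) := by
    rw [Ideal.map_ofList, hspan, hK]
  obtain ⟨g₁, hg₁P, hg₁⟩ := exists_smul_le P (Ideal.ofList ks) K hle
  have hreg'' : IsWeaklyRegular (LocalizedModule P.primeCompl S)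
      (ks.map (algebraMap S (Localization P.primeCompl))) :=
    (isWeaklyRegular_iff_localizedModule P.primeCompl (Localization.AtPrime P) ks).mp hreg'
  obtain ⟨g₂, hg₂P, hg₂⟩ := spread_away P ks S hreg''
  refine ⟨g₁ * g₂, fun hmem' => ?_, ks, hlen, hksK, ?_⟩
  · rcases (inferInstance : P.IsPrime).mem_or_mem hmem' with h' | h'
    · exact hg₁P h'
    · exact hg₂P h'
  intro B _ _ _
  have hgP : g₁ * g₂ ∉ P := fun hmem' => by
    rcases (inferInstance : P.IsPrime).mem_or_mem hmem' with h' | h'
    · exact hg₁P h'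
    · exact hg₂P h'
  have hweak : IsWeaklyRegular B (ks.map (algebraMap S B)) := by
    rw [isWeaklyRegular_iff_localizedModule (Submonoid.powers (g₁ * g₂)) B ks]
    exact hg₂ _ (g₁ * g₂) (Submonoid.mem_powers _) (Dvd.intro_left _ rfl)
  have hunit : IsUnit (algebraMap S B g₁) := by
    have h := IsLocalization.Away.algebraMap_isUnit (S := B) (g₁ * g₂)
    rw [map_mul] at h
    exact isUnit_of_mul_isUnit_left h
  have hideal : K.map (algebraMap S B) = Ideal.ofList (ks.map (algebraMap S B)) := by
    rw [← Ideal.map_ofList]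
    apply le_antisymm
    · rw [Ideal.map_le_iff_le_comap]
      intro k hk
      rw [Ideal.mem_comap]
      have h1 : algebraMap S B (g₁ * k) ∈ (Ideal.ofList ks).map (algebraMap S B) :=
        Ideal.mem_map_of_mem _ (hg₁ k hk)
      rw [map_mul] at h1
      exact (Ideal.unit_mul_mem_iff_mem _ hunit).mp h1
    · exact Ideal.map_mono hIK
  refine ⟨⟨hweak, ?_⟩, hideal⟩
  rw [← hideal, smul_eq_mul, Ideal.mul_top]
  intro htop
  have hdisj : Disjoint (Submonoid.powers (g₁ * g₂) : Set S) (P : Set S) :=
    (Ideal.disjoint_powers_iff_notMem_of_isPrime _).mpr hgP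
  have hprime : (P.map (algebraMap S B)).IsPrime :=
    IsLocalization.isPrime_of_isPrime_disjoint (Submonoid.powers (g₁ * g₂)) B P inferInstance hdisj
  have : P.map (algebraMap S B) = ⊤ := top_le_iff.mp (htop.symm ▸ Ideal.map_mono hKP)
  exact hprime.ne_top this

end Groth.Agent.Lib.helper17.RegSpread
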