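import Mathlib
import Groth.Prelude.Def_Mor2
import Groth.Agent.Lib.Helper17.RegSpread2

/-!
# helper17: regular closed immersions near a point

* `ker_stalkMap_eq_map`: for a closed immersion `i : Y ⟶ X`, the kernel of the stalk map at `y` is the
  extension of the kernel on an affine open neighbourhood.
* `RegAt i z`: on some affine open around `i z` the kernel ideal is generated by a regular sequence.
* `regAt_iff_stalk`: (`X` locally Noetherian) `RegAt i z ↔` the kernel of the stalk map at `z` is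
  generated by a regular sequence.
* `regNear_iff_regAt`: `i` is a regular closed immersion over some open neighbourhood of `i z` iff
  `RegAt i z`.
-/

set_option autoImplicit false
set_option linter.style.haveILetI false
universe u

open CategoryTheory AlgebraicGeometry RingTheory.Sequence

namespace Groth.Agent.Lib.helper17.RegNear

open Groth.Agent.Lib.helper17.RegSpread

lemma isRegular_map_ringEquiv {A B : Type u} [CommRing A] [CommRing B] (e : A ≃+* B)
    (rs : List A) : IsRegular A rs ↔ IsRegular B (rs.map e) :=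
  e.toAddEquiv.isRegular_congr <| List.forall₂_map_right_iff.mpr <|
    List.forall₂_same.mpr fun r _ x => map_mul e r x

lemma isWeaklyRegular_map_ringEquiv {A B : Type u} [CommRing A] [CommRing B] (e : A ≃+* B)
    (rs : List A) : IsWeaklyRegular A rs ↔ IsWeaklyRegular B (rs.map e) :=
  e.toAddEquiv.isWeaklyRegular_congr <| List.forall₂_map_right_iff.mpr <|
    List.forall₂_same.mpr fun r _ x => map_mul e r x

/-- abstract-localization version of `spread_regular` -/
theorem spread_regular' {S : Type u} [CommRing S] [IsNoetherianRing S] (P : Ideal S) [P.IsPrime]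
    (K : Ideal S) (hKP : K ≤ P) (A : Type u) [CommRing A] [Algebra S A]
    [IsLocalization.AtPrime A P] (rs : List A) (hreg : IsWeaklyRegular A rs)
    (hK : K.map (algebraMap S A) = Ideal.ofList rs) :
    ∃ g : S, g ∉ P ∧ ∃ ks : List S, ks.length = rs.length ∧ (∀ k ∈ ks, k ∈ K) ∧
      ∀ (B : Type u) [CommRing B] [Algebra S B] [IsLocalization.Away g B],
        IsRegular B (ks.map (algebraMap S B)) ∧
          K.map (algebraMap S B) = Ideal.ofList (ks.map (algebraMap S B)) := by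
  let e : A ≃ₐ[S] Localization.AtPrime P := IsLocalization.algEquiv P.primeCompl _ _
  have hreg' : IsWeaklyRegular (Localization.AtPrime P) (rs.map e.toRingEquiv) :=
    (isWeaklyRegular_map_ringEquiv e.toRingEquiv rs).mp hreg
  have hK' : K.map (algebraMap S (Localization.AtPrime P)) =
      Ideal.ofList (rs.map e.toRingEquiv) := by
    have h1 : (algebraMap S (Localization.AtPrime P)) =
        (e.toRingEquiv : A →+* Localization.AtPrime P).comp (algebraMap S A) := by
      ext a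
      exact (e.commutes a).symm
    rw [h1, ← Ideal.map_map, hK, Ideal.map_ofList]
    rfl
  obtain ⟨g, hg, ks, hlen, hks, h⟩ := spread_regular P K hKP _ hreg' hK'
  exact ⟨g, hg, ks, by rw [hlen, List.length_map], hks, h⟩

/-- kernel of the stalk map of a closed immersion -/
theorem ker_stalkMap_eq_map {X Y : Scheme.{u}} (i : Y ⟶ X) [IsClosedImmersion i] (y : Y)
    (W : X.Opens) (hW : IsAffineOpen W) (hyW : i y ∈ W) :
    letI := X.presheaf.algebra_section_stalk (⟨i y, hyW⟩ : W)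
    (RingHom.ker (i.app W).hom).map (algebraMap Γ(X, W) (X.presheaf.stalk (i y))) =
      RingHom.ker (i.stalkMap y).hom := by
  have hV : IsAffineOpen (i ⁻¹ᵁ W) := hW.preimage i
  have hyV : y ∈ i ⁻¹ᵁ W := hyW
  have hψ : Function.Surjective (i.app W).hom := i.app_surjective W hW
  have hPy : (hW.primeIdealOf ⟨i y, hyW⟩).asIdeal =
      (hV.primeIdealOf ⟨y, hyV⟩).asIdeal.comap (i.app W).hom := by
    have h := IsAffineOpen.comap_primeIdealOf_appLE (f := i) W hW (i ⁻¹ᵁ W) hV le_rfl hyV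
    rw [Scheme.Hom.appLE_eq_app] at h
    exact (congrArg PrimeSpectrum.asIdeal h).symm
  letI := X.presheaf.algebra_section_stalk (⟨i y, hyW⟩ : W)
  letI := Y.presheaf.algebra_section_stalk (⟨y, hyV⟩ : (i ⁻¹ᵁ W : Y.Opens))
  haveI ip : IsLocalization.AtPrime (X.presheaf.stalk (i y))
      (hW.primeIdealOf ⟨i y, hyW⟩).asIdeal := hW.isLocalization_stalk ⟨i y, hyW⟩
  haveI iy : IsLocalization.AtPrime (Y.presheaf.stalk y) (hV.primeIdealOf ⟨y, hyV⟩).asIdeal :=
    hV.isLocalization_stalk ⟨y, hyV⟩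
  have hsq : ∀ a : Γ(X, W), (i.stalkMap y).hom (algebraMap Γ(X, W) (X.presheaf.stalk (i y)) a) =
      algebraMap Γ(Y, i ⁻¹ᵁ W) (Y.presheaf.stalk y) ((i.app W).hom a) := by
    intro a
    exact Scheme.Hom.germ_stalkMap_apply i W y hyW a
  change (RingHom.ker (i.app W).hom).map (algebraMap Γ(X, W) (X.presheaf.stalk (i y))) =
      RingHom.ker (i.stalkMap y).hom
  apply le_antisymm
  · rw [Ideal.map_le_iff_le_comap]
    intro a ha
    rw [Ideal.mem_comap, RingHom.mem_ker, hsq, (RingHom.mem_ker).mp ha, map_zero]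
  · intro α hα
    obtain ⟨⟨a, s⟩, has⟩ := IsLocalization.surj (hW.primeIdealOf ⟨i y, hyW⟩).asIdeal.primeCompl α
    dsimp only at has
    have h1 : algebraMap Γ(Y, i ⁻¹ᵁ W) (Y.presheaf.stalk y) ((i.app W).hom a) = 0 := by
      rw [← hsq, ← has, map_mul, (RingHom.mem_ker).mp hα, zero_mul]
    rw [IsLocalization.map_eq_zero_iff (hV.primeIdealOf ⟨y, hyV⟩).asIdeal.primeCompl] at h1
    obtain ⟨⟨c, hc⟩, hca⟩ := h1
    obtain ⟨s', rfl⟩ := hψ c
    have hs' : s' ∈ (hW.primeIdealOf ⟨i y, hyW⟩).asIdeal.primeCompl := by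
      intro hmem
      rw [hPy] at hmem
      exact hc hmem
    have h2 : s' * a ∈ RingHom.ker (i.app W).hom := by
      rw [RingHom.mem_ker, map_mul]; exact hca
    have h3 : algebraMap Γ(X, W) (X.presheaf.stalk (i y)) (s' * a) ∈
        (RingHom.ker (i.app W).hom).map (algebraMap Γ(X, W) (X.presheaf.stalk (i y))) :=
      Ideal.mem_map_of_mem _ h2
    have hu1 : IsUnit (algebraMap Γ(X, W) (X.presheaf.stalk (i y)) s') :=
      IsLocalization.map_units _ ⟨s', hs'⟩
    have hu2 : IsUnit (algebraMap Γ(X, W) (X.presheaf.stalk (i y)) s) :=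
      IsLocalization.map_units _ s
    rw [map_mul, ← has] at h3
    have h4 : α * (algebraMap Γ(X, W) (X.presheaf.stalk (i y)) s *
        algebraMap Γ(X, W) (X.presheaf.stalk (i y)) s') ∈
        (RingHom.ker (i.app W).hom).map (algebraMap Γ(X, W) (X.presheaf.stalk (i y))) := by
      convert h3 using 1; ring
    exact (Ideal.mul_unit_mem_iff_mem _ (hu2.mul hu1)).mp h4

/-- the kernel on an affine open neighbourhood lies in the prime of the point -/
theorem ker_le_primeIdealOf {X Y : Scheme.{u}} (i : Y ⟶ X) [IsClosedImmersion i] (y : Y)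
    (W : X.Opens) (hW : IsAffineOpen W) (hyW : i y ∈ W) :
    RingHom.ker (i.app W).hom ≤ (hW.primeIdealOf ⟨i y, hyW⟩).asIdeal := by
  have hV : IsAffineOpen (i ⁻¹ᵁ W) := hW.preimage i
  have hyV : y ∈ i ⁻¹ᵁ W := hyW
  have hPy : (hW.primeIdealOf ⟨i y, hyW⟩).asIdeal =
      (hV.primeIdealOf ⟨y, hyV⟩).asIdeal.comap (i.app W).hom := by
    have h := IsAffineOpen.comap_primeIdealOf_appLE (f := i) W hW (i ⁻¹ᵁ W) hV le_rfl hyV
    rw [Scheme.Hom.appLE_eq_app] at h
    exact (congrArg PrimeSpectrum.asIdeal h).symm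
  rw [hPy]
  intro a ha
  rw [Ideal.mem_comap, (RingHom.mem_ker).mp ha]
  exact Ideal.zero_mem _

/-- On some affine open around `i z` the kernel ideal is generated by a regular sequence. -/
def RegAt {X Z : Scheme.{u}} (i : Z ⟶ X) (z : Z) : Prop :=
  ∃ (U : X.Opens) (hU : IsAffineOpen U), i z ∈ U ∧
    ∃ rs : List Γ(X, U), IsRegular Γ(X, U) rs ∧ i.ker.ideal ⟨U, hU⟩ = Ideal.ofList rs

theorem isRegularClosedImmersion_iff {X Z : Scheme.{u}} (i : Z ⟶ X) :
    Mor2.IsRegularClosedImmersion i ↔ IsClosedImmersion i ∧ ∀ z, RegAt i z := Iff.rfl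

theorem stalk_of_regAt {X Z : Scheme.{u}} (i : Z ⟶ X) [IsClosedImmersion i] (z : Z)
    (h : RegAt i z) :
    ∃ rs : List ↑(X.presheaf.stalk (i z)), IsRegular ↑(X.presheaf.stalk (i z)) rs ∧
      RingHom.ker (i.stalkMap z).hom = Ideal.ofList rs := by
  obtain ⟨U, hU, hzU, rs, hrs, hker⟩ := h
  rw [Scheme.Hom.ker_apply] at hker
  have hk := ker_stalkMap_eq_map i z U hU hzU
  have hle := ker_le_primeIdealOf i z U hU hzU
  letI := X.presheaf.algebra_section_stalk (⟨i z, hzU⟩ : U)
  haveI ip : IsLocalization.AtPrime (X.presheaf.stalk (i z))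
      (hU.primeIdealOf ⟨i z, hzU⟩).asIdeal := hU.isLocalization_stalk ⟨i z, hzU⟩
  refine ⟨rs.map (algebraMap Γ(X, U) (X.presheaf.stalk (i z))), ?_, ?_⟩
  · refine hrs.1.isRegular_of_isLocalization_of_mem (X.presheaf.stalk (i z))
      (hU.primeIdealOf ⟨i z, hzU⟩).asIdeal ?_
    intro r hr
    apply hle
    change r ∈ RingHom.ker (i.app U).hom
    rw [hker]
    exact Ideal.subset_span hr
  · rw [← Ideal.map_ofList, ← hker]
    exact hk.symm

theorem regAt_of_stalk {X Z : Scheme.{u}} [IsLocallyNoetherian X] (i : Z ⟶ X)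
    [IsClosedImmersion i] (z : Z)
    (h : ∃ rs : List ↑(X.presheaf.stalk (i z)), IsRegular ↑(X.presheaf.stalk (i z)) rs ∧
      RingHom.ker (i.stalkMap z).hom = Ideal.ofList rs) : RegAt i z := by
  obtain ⟨rs, hrs, hker⟩ := h
  obtain ⟨W, hW, hzW, -⟩ :=
    exists_isAffineOpen_mem_and_subset (X := X) (x := i z) (U := ⊤) trivial
  haveI : IsNoetherianRing Γ(X, W) := IsLocallyNoetherian.component_noetherian ⟨W, hW⟩
  have hk := ker_stalkMap_eq_map i z W hW hzW
  have hle := ker_le_primeIdealOf i z W hW hzW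
  letI := X.presheaf.algebra_section_stalk (⟨i z, hzW⟩ : W)
  haveI ip : IsLocalization.AtPrime (X.presheaf.stalk (i z))
      (hW.primeIdealOf ⟨i z, hzW⟩).asIdeal := hW.isLocalization_stalk ⟨i z, hzW⟩
  have hK : (RingHom.ker (i.app W).hom).map (algebraMap Γ(X, W) (X.presheaf.stalk (i z))) =
      Ideal.ofList rs := hk.trans hker
  obtain ⟨g, hg, ks, -, -, hB⟩ := spread_regular' (hW.primeIdealOf ⟨i z, hzW⟩).asIdeal
    (RingHom.ker (i.app W).hom) hle (X.presheaf.stalk (i z)) rs hrs.1 hK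
  haveI := hW.isLocalization_basicOpen g
  obtain ⟨hreg, hideal⟩ := hB Γ(X, X.basicOpen g)
  refine ⟨X.basicOpen g, hW.basicOpen g, ?_, ks.map (algebraMap Γ(X, W) Γ(X, X.basicOpen g)),
    hreg, ?_⟩
  · rw [Scheme.mem_basicOpen _ _ _ hzW]
    exact (IsLocalization.AtPrime.isUnit_to_map_iff (X.presheaf.stalk (i z))
      (hW.primeIdealOf ⟨i z, hzW⟩).asIdeal g).mpr hg
  · have h1 := i.ker.map_ideal_basicOpen ⟨W, hW⟩ g
    rw [Scheme.Hom.ker_apply] at h1
    rw [← hideal]
    exact h1.symm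

theorem regAt_iff_stalk {X Z : Scheme.{u}} [IsLocallyNoetherian X] (i : Z ⟶ X)
    [IsClosedImmersion i] (z : Z) :
    RegAt i z ↔ ∃ rs : List ↑(X.presheaf.stalk (i z)),
      IsRegular ↑(X.presheaf.stalk (i z)) rs ∧
        RingHom.ker (i.stalkMap z).hom = Ideal.ofList rs :=
  ⟨stalk_of_regAt i z, regAt_of_stalk i z⟩

theorem regNear_iff_regAt {X Z : Scheme.{u}} (i : Z ⟶ X) [IsClosedImmersion i] (z : Z) :
    (∃ V : X.Opens, i z ∈ V ∧ Mor2.IsRegularClosedImmersion (i ∣_ V)) ↔ RegAt i z := by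
  constructor
  · rintro ⟨V, hzV, -, h⟩
    obtain ⟨U, hU, hzU, rs, hrs, hker⟩ := h ⟨z, hzV⟩
    rw [Scheme.ker_morphismRestrict_ideal i V ⟨U, hU⟩] at hker
    refine ⟨V.ι ''ᵁ U, hU.image_of_isOpenImmersion V.ι, ?_, rs, hrs, hker⟩
    refine ⟨(i ∣_ V) ⟨z, hzV⟩, hzU, ?_⟩
    have := congrArg (fun f => f.base ⟨z, hzV⟩) (morphismRestrict_ι i V)
    exact this
  · rintro ⟨U, hU, hzU, rs, hrs, hker⟩
    refine ⟨U, hzU, IsZariskiLocalAtTarget.restrict ‹_› U, fun z' => ?_⟩
    haveI : IsAffine U.toScheme := hU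
    have aux : ∀ (U' : X.Opens) (hU' : IsAffineOpen U'), U' = U →
        ∃ rs' : List Γ(X, U'), IsRegular Γ(X, U') rs' ∧
          i.ker.ideal ⟨U', hU'⟩ = Ideal.ofList rs' := by
      intro U' hU' h
      subst h
      exact ⟨rs, hrs, hker⟩
    have htop : IsAffineOpen (⊤ : U.toScheme.Opens) := isAffineOpen_top _
    obtain ⟨rs', hrs', hker'⟩ := aux (U.ι ''ᵁ ⊤) (htop.image_of_isOpenImmersion U.ι)
      U.ι_image_top
    refine ⟨⊤, htop, trivial, rs', hrs', ?_⟩
    rw [Scheme.ker_morphismRestrict_ideal i U ⟨⊤, htop⟩]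
    exact hker'

end Groth.Agent.Lib.helper17.RegNear
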