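import Groth.Prelude.Def_FlatMod2
import Mathlib
import Groth.Agent.Lib.Helper8.FlatSections

/-!
# Relative flatness toolkit I (helper17, LT13)

`FlatMod.IsFlatOverAt f F x` / `FlatMod.IsFlatOver f F` in terms of sections over affine opens.

* `flat_of_isLocalizedModule_over`: a localization (as `B`-module) of a `B`-module flat over `A`
  is flat over `A`.
* `isFlatOverAt_iff_flat_stalk_sections`: for affine `V ∋ f x`:
  `F` flat over `S` at `x` iff `F_x` is flat over `Γ(S,V)`.
* `flat_stalk_sections_of_flat_sections`, `isFlatOverAt_of_flat_sections`: qcoh `F`, affine `U ≤ f⁻¹V`,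
  `Γ(F,U)` flat over `Γ(S,V)` ⟹ `F` flat over `S` at every `x ∈ U`.
* `flat_sections_of_isFlatOverAt`: conversely.
* `isFlatOver_iff_forall_affine`: S9353.
-/

set_option autoImplicit false
set_option linter.style.haveILetI false
universe u
open CategoryTheory AlgebraicGeometry TopologicalSpace Opposite TensorProduct

namespace Groth.Agent.Lib.helper17.FlatOver1

open Scheme.Modules Groth.Agent.Lib.helper16.CohStalk

/-- a localization (as a `B`-module) of a `B`-module which is flat over `A` is flat over `A`. -/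
theorem flat_of_isLocalizedModule_over {A B : Type*} [CommRing A] [CommRing B] [Algebra A B]
    (S : Submonoid B) {M M' : Type*} [AddCommGroup M] [Module A M] [Module B M]
    [IsScalarTower A B M] [AddCommGroup M'] [Module A M'] [Module B M'] [IsScalarTower A B M']
    (g : M →ₗ[B] M') [IsLocalizedModule S g] [hM : Module.Flat A M] : Module.Flat A M' := by
  rw [Module.Flat.iff_lTensor_injectiveₛ]
  intro P _ _ N
  have h := (Module.Flat.iff_lTensor_injectiveₛ (R := A) (M := M)).mp hM N
  rw [← AlgebraTensorModule.coe_lTensor (A := B)] at h ⊢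
  rw [← IsLocalizedModule.map_lTensor (S := S) (f := N.subtype) (g := g)]
  exact IsLocalizedModule.map_injective S _ _ _ h

variable {X S : Scheme.{u}} (f : X ⟶ S) (F : X.Modules)

/-- the `Γ(S,V)`-module structure on the stalk `F_x`, for `f x ∈ V` -/
@[reducible] noncomputable def modStalkBase {V : S.Opens} (x : X) (hx : f.base x ∈ V) :
    Module Γ(S, V) ↑(F.presheaf.stalk x) :=
  Module.compHom _ ((f.stalkMap x).hom.comp (S.presheaf.germ V (f.base x) hx).hom)

/-- the `Γ(S,V)`-module structure on the sections `Γ(F,U)`, for `U ≤ f⁻¹V` -/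
@[reducible] noncomputable def modSecBase {U : X.Opens} {V : S.Opens} (hUV : U ≤ f ⁻¹ᵁ V) :
    Module Γ(S, V) Γ(F, U) :=
  Module.compHom _ (f.appLE V U hUV).hom

/-- **Flatness over the base at a point can be tested over the sections of an affine open of the
base.** -/
theorem isFlatOverAt_iff_flat_stalk_sections {V : S.Opens} (hV : IsAffineOpen V) (x : X)
    (hx : f.base x ∈ V) :
    FlatMod.IsFlatOverAt f F x ↔
      @Module.Flat Γ(S, V) (F.presheaf.stalk x) _ _ (modStalkBase f F x hx) := by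
  letI := FlatMod.moduleStalkOver f F x
  letI := TopCat.Presheaf.algebra_section_stalk S.presheaf (⟨f.base x, hx⟩ : V)
  letI := modStalkBase f F x hx
  haveI : IsScalarTower Γ(S, V) (S.presheaf.stalk (f.base x)) (F.presheaf.stalk x) :=
    ⟨fun a b m => by
      change (f.stalkMap x).hom ((S.presheaf.germ V (f.base x) hx).hom a * b) • m =
        (f.stalkMap x).hom ((S.presheaf.germ V (f.base x) hx).hom a) • ((f.stalkMap x).hom b • m)
      rw [map_mul, mul_smul]⟩
  haveI : IsLocalization.AtPrime (S.presheaf.stalk (f.base x))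
      (hV.primeIdealOf ⟨f.base x, hx⟩).asIdeal := hV.isLocalization_stalk ⟨_, hx⟩
  exact Module.flat_iff_of_isLocalization (S.presheaf.stalk (f.base x))
    (hV.primeIdealOf ⟨f.base x, hx⟩).asIdeal.primeCompl _

section towers

variable {U : X.Opens} {V : S.Opens} (hUV : U ≤ f ⁻¹ᵁ V)

theorem germ_appLE_apply (x : X) (hx : x ∈ U) (a : Γ(S, V)) :
    (X.presheaf.germ U x hx).hom ((f.appLE V U hUV).hom a) =
      (f.stalkMap x).hom ((S.presheaf.germ V (f.base x) (hUV hx)).hom a) := by
  have h1 := f.germ_stalkMap_apply V x (hUV hx) a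
  have h2 : (f.appLE V U hUV).hom a = (X.presheaf.map (homOfLE hUV).op).hom ((f.app V).hom a) := rfl
  rw [h2]
  erw [TopCat.Presheaf.germ_res_apply X.presheaf (homOfLE hUV) x hx]
  exact h1.symm

theorem isScalarTower_sections :
    @IsScalarTower Γ(S, V) Γ(X, U) Γ(F, U) (f.appLE V U hUV).hom.toAlgebra.toSMul _
      (modSecBase f F hUV).toSMul := by
  letI := (f.appLE V U hUV).hom.toAlgebra
  letI := modSecBase f F hUV
  exact ⟨fun a b m => by
    change ((f.appLE V U hUV).hom a * b) • m = (f.appLE V U hUV).hom a • (b • m)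
    rw [mul_smul]⟩

theorem isScalarTower_stalk_base (x : X) (hx : x ∈ U) :
    @IsScalarTower Γ(S, V) Γ(X, U) (F.presheaf.stalk x) (f.appLE V U hUV).hom.toAlgebra.toSMul
      (modStalk F x hx).toSMul (modStalkBase f F x (hUV hx)).toSMul := by
  letI := (f.appLE V U hUV).hom.toAlgebra
  letI := modStalk F x hx
  letI := modStalkBase f F x (hUV hx)
  exact ⟨fun a b m => by
    change (X.presheaf.germ U x hx).hom ((f.appLE V U hUV).hom a * b) • m =
      (f.stalkMap x).hom ((S.presheaf.germ V (f.base x) (hUV hx)).hom a) •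
        ((X.presheaf.germ U x hx).hom b • m)
    rw [map_mul, mul_smul, germ_appLE_apply]⟩

end towers

variable [F.IsQuasicoherent]

/-- qcoh `F`, affine `U ≤ f⁻¹V`: if `Γ(F,U)` is flat over `Γ(S,V)` then so are the stalks `F_x`,
`x ∈ U`. -/
theorem flat_stalk_sections_of_flat_sections {U : X.Opens} {V : S.Opens} (hUV : U ≤ f ⁻¹ᵁ V)
    (hU : IsAffineOpen U)
    (h : @Module.Flat Γ(S, V) Γ(F, U) _ _ (modSecBase f F hUV)) (x : X) (hx : x ∈ U) :
    @Module.Flat Γ(S, V) (F.presheaf.stalk x) _ _ (modStalkBase f F x (hUV hx)) := by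
  letI := (f.appLE V U hUV).hom.toAlgebra
  letI := modSecBase f F hUV
  letI := modStalk F x hx
  letI := modStalkBase f F x (hUV hx)
  haveI := isScalarTower_sections f F hUV
  haveI := isScalarTower_stalk_base f F hUV x hx
  haveI := isLocalizedModule_stalk F hU x hx
  exact flat_of_isLocalizedModule_over (hU.primeIdealOf ⟨x, hx⟩).asIdeal.primeCompl
    (germLin F x hx)

/-- qcoh `F`, affine `U ≤ f⁻¹V` with `V` affine: if `Γ(F,U)` is flat over `Γ(S,V)` then `F` is flat
over `S` at all points of `U`. -/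
theorem isFlatOverAt_of_flat_sections {U : X.Opens} {V : S.Opens} (hUV : U ≤ f ⁻¹ᵁ V)
    (hU : IsAffineOpen U) (hV : IsAffineOpen V)
    (h : @Module.Flat Γ(S, V) Γ(F, U) _ _ (modSecBase f F hUV)) (x : X) (hx : x ∈ U) :
    FlatMod.IsFlatOverAt f F x :=
  (isFlatOverAt_iff_flat_stalk_sections f F hV x (hUV hx)).mpr
    (flat_stalk_sections_of_flat_sections f F hUV hU h x hx)


/-- qcoh `F`, affine `U ≤ f⁻¹V`: if all stalks `F_x`, `x ∈ U`, are flat over `Γ(S,V)` then so is
`Γ(F,U)`. -/
theorem flat_sections_of_flat_stalk_sections {U : X.Opens} {V : S.Opens} (hUV : U ≤ f ⁻¹ᵁ V)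
    (hU : IsAffineOpen U)
    (h : ∀ (x : X) (hx : x ∈ U),
      @Module.Flat Γ(S, V) (F.presheaf.stalk x) _ _ (modStalkBase f F x (hUV hx))) :
    @Module.Flat Γ(S, V) Γ(F, U) _ _ (modSecBase f F hUV) := by
  letI := (f.appLE V U hUV).hom.toAlgebra
  letI := modSecBase f F hUV
  haveI := isScalarTower_sections f F hUV
  refine Module.flat_of_isLocalized_maximal (R := Γ(S, V)) Γ(X, U) Γ(F, U)
    (fun P _ => LocalizedModule P.primeCompl Γ(F, U))
    (fun P _ => LocalizedModule.mkLinearMap P.primeCompl Γ(F, U)) ?_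
  intro P hP
  haveI : P.IsPrime := hP.isPrime
  set p : Spec Γ(X, U) := ⟨P, inferInstance⟩ with hp
  set x : X := hU.fromSpec p with hxdef
  have hx : x ∈ U := by
    have : x ∈ hU.fromSpec.opensRange := ⟨p, rfl⟩
    rwa [hU.opensRange_fromSpec] at this
  have hpx : hU.primeIdealOf ⟨x, hx⟩ = p := by
    apply hU.fromSpec.isOpenEmbedding.injective
    exact hU.fromSpec_primeIdealOf ⟨x, hx⟩
  letI := modStalk F x hx
  letI := modStalkBase f F x (hUV hx)
  haveI := isScalarTower_stalk_base f F hUV x hx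
  haveI hloc := isLocalizedModule_stalk F hU x hx
  haveI := h x hx
  have hP' : (hU.primeIdealOf ⟨x, hx⟩).asIdeal.primeCompl = P.primeCompl := by rw [hpx]
  rw [hP'] at hloc
  exact Module.Flat.of_linearEquiv
    ((IsLocalizedModule.linearEquiv P.primeCompl
      (LocalizedModule.mkLinearMap P.primeCompl Γ(F, U)) (germLin F x hx)).restrictScalars Γ(S, V))

/-- qcoh `F`, affine `U ≤ f⁻¹V`, `V` affine: if `F` is flat over `S` at all points of `U` then
`Γ(F,U)` is flat over `Γ(S,V)`. -/
theorem flat_sections_of_isFlatOverAt {U : X.Opens} {V : S.Opens} (hUV : U ≤ f ⁻¹ᵁ V)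
    (hU : IsAffineOpen U) (hV : IsAffineOpen V)
    (h : ∀ x ∈ U, FlatMod.IsFlatOverAt f F x) :
    @Module.Flat Γ(S, V) Γ(F, U) _ _ (modSecBase f F hUV) :=
  flat_sections_of_flat_stalk_sections f F hUV hU fun x hx =>
    (isFlatOverAt_iff_flat_stalk_sections f F hV x (hUV hx)).mp (h x hx)

/-- **S9353**: a quasi-coherent module is flat over the base iff its sections over affine opens
`U ≤ f⁻¹V` (`V` affine) are flat over `Γ(S,V)`. -/
theorem isFlatOver_iff_forall_affine :
    FlatMod.IsFlatOver f F ↔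
      ∀ (U : X.Opens) (V : S.Opens) (hUV : U ≤ f ⁻¹ᵁ V), IsAffineOpen U → IsAffineOpen V →
        @Module.Flat Γ(S, V) Γ(F, U) _ _ (modSecBase f F hUV) := by
  constructor
  · intro h U V hUV hU hV
    exact flat_sections_of_isFlatOverAt f F hUV hU hV fun x _ => h x
  · intro h x
    obtain ⟨_, ⟨V, hV : IsAffineOpen V, rfl⟩, hxV, -⟩ :=
      S.isBasis_affineOpens.exists_subset_of_mem_open (Set.mem_univ (f.base x)) isOpen_univ
    obtain ⟨_, ⟨U, hU : IsAffineOpen U, rfl⟩, hxU, hUV⟩ :=
      X.isBasis_affineOpens.exists_subset_of_mem_open (show x ∈ (f ⁻¹ᵁ V : Set X) from hxV)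
        (f ⁻¹ᵁ V).2
    exact isFlatOverAt_of_flat_sections f F hUV hU hV (h U V hUV hU hV) x hxU

/-- local version: `F` is flat over `S` at all points of an affine `U ≤ f⁻¹V` (`V` affine) iff
`Γ(F,U)` is flat over `Γ(S,V)`. -/
theorem forall_mem_isFlatOverAt_iff {U : X.Opens} {V : S.Opens} (hUV : U ≤ f ⁻¹ᵁ V)
    (hU : IsAffineOpen U) (hV : IsAffineOpen V) :
    (∀ x ∈ U, FlatMod.IsFlatOverAt f F x) ↔
      @Module.Flat Γ(S, V) Γ(F, U) _ _ (modSecBase f F hUV) :=
  ⟨flat_sections_of_isFlatOverAt f F hUV hU hV,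
    fun h x hx => isFlatOverAt_of_flat_sections f F hUV hU hV h x hx⟩


end Groth.Agent.Lib.helper17.FlatOver1
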