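import Mathlib

/-!
# Formal smoothness of stalk maps from infinitesimal lifting properties
-/

set_option autoImplicit false
set_option linter.style.haveILetI false
universe u
open CategoryTheory CategoryTheory.Limits AlgebraicGeometry TopologicalSpace

namespace Groth.Agent.Lib.helper17.StalkSmooth


lemma isLocalHom_of_surjective_of_sq_zero {B B' : Type u} [CommRing B] [CommRing B'] (φ : B' →+* B)
    (hφ : Function.Surjective φ) (hker : RingHom.ker φ ^ 2 = ⊥) : IsLocalHom φ := by
  constructor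
  intro b hb
  obtain ⟨c, hc⟩ := hb
  obtain ⟨b', hb'⟩ := hφ (c⁻¹ : Bˣ)
  have hmem : b * b' - 1 ∈ RingHom.ker φ := by
    rw [RingHom.mem_ker, map_sub, map_mul, hb', ← hc, map_one]
    simp
  have hnil : IsNilpotent (b * b' - 1) := by
    refine ⟨2, ?_⟩
    have : (b * b' - 1) ^ 2 ∈ RingHom.ker φ ^ 2 := Ideal.pow_mem_pow hmem 2
    rwa [hker] at this
  have hu : IsUnit (b * b') := by
    have := hnil.isUnit_add_one
    simpa using this
  exact isUnit_of_mul_isUnit_left hu

lemma exists_local_hom {X : Scheme.{u}} {R : CommRingCat.{u}} [IsLocalRing R] (γ : Spec R ⟶ X)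
    (x : X) (h : γ (IsLocalRing.closedPoint R) = x) :
    ∃ g : X.presheaf.stalk x ⟶ R, Spec.map g ≫ X.fromSpecStalk x = γ := by
  subst h
  exact ⟨_, Scheme.Spec_stalkClosedPointTo_fromSpecStalk γ⟩

lemma spec_map_fromSpecStalk_injective {X : Scheme.{u}} {R : CommRingCat.{u}} (x : X)
    {a a' : X.presheaf.stalk x ⟶ R}
    (h : Spec.map a ≫ X.fromSpecStalk x = Spec.map a' ≫ X.fromSpecStalk x) : a = a' := by
  have h2 := (cancel_mono (X.fromSpecStalk x)).mp h
  exact Spec.map_injective h2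

/-- If `f` has the infinitesimal lifting property against square-zero surjections of local rings
(at `x`), then the stalk map at `x` is formally smooth. -/
theorem formallySmooth_stalkMap_of_local_lifting {X Y : Scheme.{u}} (f : X ⟶ Y) (x : X)
    (H : ∀ (B B' : Type u) [CommRing B] [CommRing B'] [IsLocalRing B] [IsLocalRing B'] (φ : B' →+* B),
      Function.Surjective φ → RingHom.ker φ ^ 2 = ⊥ →
      ∀ (α : Spec (CommRingCat.of B) ⟶ X) (β : Spec (CommRingCat.of B') ⟶ Y),
        α.base (IsLocalRing.closedPoint B) = x → Spec.map (CommRingCat.ofHom φ) ≫ β = α ≫ f →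
        ∃ γ : Spec (CommRingCat.of B') ⟶ X, Spec.map (CommRingCat.ofHom φ) ≫ γ = α ∧ γ ≫ f = β) :
    (f.stalkMap x).hom.FormallySmooth := by
  algebraize [(f.stalkMap x).hom]
  rw [RingHom.FormallySmooth]
  let f₀ : MvPolynomial (X.presheaf.stalk x) (Y.presheaf.stalk (f x)) →ₐ[Y.presheaf.stalk (f x)]
      X.presheaf.stalk x := MvPolynomial.aeval id
  have hf₀ : Function.Surjective f₀ := fun c => ⟨MvPolynomial.X c, by simp [f₀]⟩
  have hφ : Function.Surjective f₀.kerSquareLift :=
    Ideal.Quotient.lift_surjective_of_surjective _ _ hf₀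
  have hker : RingHom.ker f₀.kerSquareLift.toRingHom ^ 2 = ⊥ := by
    rw [AlgHom.ker_kerSquareLift, Ideal.cotangentIdeal_square]
  haveI : IsLocalHom f₀.kerSquareLift.toRingHom :=
    isLocalHom_of_surjective_of_sq_zero _ hφ hker
  haveI : IsLocalRing (MvPolynomial (X.presheaf.stalk x) (Y.presheaf.stalk (f x)) ⧸
      RingHom.ker f₀.toRingHom ^ 2) := RingHom.domain_isLocalRing f₀.kerSquareLift.toRingHom
  obtain ⟨γ, h1, h2⟩ := H (X.presheaf.stalk x) _ f₀.kerSquareLift.toRingHom hφ hker
    (X.fromSpecStalk x)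
    (Spec.map (CommRingCat.ofHom (algebraMap (Y.presheaf.stalk (f x))
      (MvPolynomial (X.presheaf.stalk x) (Y.presheaf.stalk (f x)) ⧸
      RingHom.ker f₀.toRingHom ^ 2))) ≫ Y.fromSpecStalk (f x))
    Scheme.fromSpecStalk_closedPoint (by
      rw [← Scheme.SpecMap_stalkMap_fromSpecStalk, ← Spec.map_comp_assoc]
      congr 2
      ext r
      exact f₀.kerSquareLift.commutes r)
  have hγ : γ (IsLocalRing.closedPoint (CommRingCat.of (MvPolynomial (X.presheaf.stalk x)
      (Y.presheaf.stalk (f x)) ⧸ RingHom.ker f₀.toRingHom ^ 2))) = x := by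
    have h3 : (Spec.map (CommRingCat.ofHom f₀.kerSquareLift.toRingHom))
        (IsLocalRing.closedPoint (X.presheaf.stalk x)) = IsLocalRing.closedPoint _ :=
      Spec_closedPoint
    rw [← h3, ← Scheme.Hom.comp_apply, h1]
    exact Scheme.fromSpecStalk_closedPoint
  obtain ⟨g, hg⟩ := exists_local_hom γ x hγ
  have hg1 : g ≫ CommRingCat.ofHom f₀.kerSquareLift.toRingHom = 𝟙 _ := by
    apply spec_map_fromSpecStalk_injective x
    rw [Spec.map_comp, Category.assoc, hg, h1, Spec.map_id]
    exact (Category.id_comp _).symm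
  have hg2 : f.stalkMap x ≫ g = CommRingCat.ofHom (algebraMap (Y.presheaf.stalk (f x))
      (MvPolynomial (X.presheaf.stalk x) (Y.presheaf.stalk (f x)) ⧸
      RingHom.ker f₀.toRingHom ^ 2)) := by
    apply spec_map_fromSpecStalk_injective (f x)
    rw [Spec.map_comp, Category.assoc, Scheme.SpecMap_stalkMap_fromSpecStalk, reassoc_of% hg, h2]
  exact Algebra.FormallySmooth.of_split f₀
    { g.hom with commutes' := fun r => congr($(hg2).hom r) }
    (AlgHom.ext fun t => congr($(hg1).hom t))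

/-- The lifting property against affine square-zero thickenings `Spec (A ⧸ I) → Spec A` implies the
lifting property against arbitrary surjections `B' → B` with square-zero kernel. -/
theorem lifting_of_thickening_lifting {X Y : Scheme.{u}} (f : X ⟶ Y)
    (H' : ∀ (A : Type u) [CommRing A] (I : Ideal A), I ^ 2 = ⊥ →
      ∀ (a : Spec (CommRingCat.of (A ⧸ I)) ⟶ X) (b : Spec (CommRingCat.of A) ⟶ Y),
        Spec.map (CommRingCat.ofHom (Ideal.Quotient.mk I)) ≫ b = a ≫ f →
          ∃ l : Spec (CommRingCat.of A) ⟶ X,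
            Spec.map (CommRingCat.ofHom (Ideal.Quotient.mk I)) ≫ l = a ∧ l ≫ f = b)
    (B B' : Type u) [CommRing B] [CommRing B'] (φ : B' →+* B)
    (hφ : Function.Surjective φ) (hker : RingHom.ker φ ^ 2 = ⊥)
    (α : Spec (CommRingCat.of B) ⟶ X) (β : Spec (CommRingCat.of B') ⟶ Y)
    (comm : Spec.map (CommRingCat.ofHom φ) ≫ β = α ≫ f) :
    ∃ γ : Spec (CommRingCat.of B') ⟶ X, Spec.map (CommRingCat.ofHom φ) ≫ γ = α ∧ γ ≫ f = β := by
  let ψ : B' ⧸ RingHom.ker φ ≃+* B := RingHom.quotientKerEquivOfSurjective hφ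
  have h1 : CommRingCat.ofHom φ ≫ CommRingCat.ofHom ψ.symm.toRingHom =
      CommRingCat.ofHom (Ideal.Quotient.mk (RingHom.ker φ)) := by
    ext t
    apply ψ.injective
    simp [ψ]
  have h2 : CommRingCat.ofHom (Ideal.Quotient.mk (RingHom.ker φ)) ≫ CommRingCat.ofHom ψ.toRingHom =
      CommRingCat.ofHom φ := by
    ext t
    simp [ψ]
  obtain ⟨l, hl1, hl2⟩ := H' B' (RingHom.ker φ) hker
    (Spec.map (CommRingCat.ofHom ψ.symm.toRingHom) ≫ α) β (by
      rw [Category.assoc, ← comm, ← Spec.map_comp_assoc, h1])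
  refine ⟨l, ?_, hl2⟩
  rw [← h2, Spec.map_comp, Category.assoc, hl1, ← Spec.map_comp_assoc]
  have h3 : CommRingCat.ofHom ψ.symm.toRingHom ≫ CommRingCat.ofHom ψ.toRingHom = 𝟙 _ := by
    ext t
    simp
  rw [h3, Spec.map_id]
  exact Category.id_comp _

/-- If `f` has the lifting property against affine square-zero thickenings, then every stalk map of
`f` is formally smooth. -/
theorem formallySmooth_stalkMap_of_thickening_lifting {X Y : Scheme.{u}} (f : X ⟶ Y)
    (H' : ∀ (A : Type u) [CommRing A] (I : Ideal A), I ^ 2 = ⊥ →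
      ∀ (a : Spec (CommRingCat.of (A ⧸ I)) ⟶ X) (b : Spec (CommRingCat.of A) ⟶ Y),
        Spec.map (CommRingCat.ofHom (Ideal.Quotient.mk I)) ≫ b = a ≫ f →
          ∃ l : Spec (CommRingCat.of A) ⟶ X,
            Spec.map (CommRingCat.ofHom (Ideal.Quotient.mk I)) ≫ l = a ∧ l ≫ f = b)
    (x : X) : (f.stalkMap x).hom.FormallySmooth :=
  formallySmooth_stalkMap_of_local_lifting f x
    fun B B' _ _ _ _ φ hφ hker α β _ comm =>
      lifting_of_thickening_lifting f H' B B' φ hφ hker α β comm

end Groth.Agent.Lib.helper17.StalkSmooth
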