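import Mathlib
import Groth.Agent.Lib.Helper17.StalkSmooth

/-!
# The local ring of a scheme-theoretic fibre

For `f : X ⟶ Y`, `y : Y` and a point `z` of the fibre `f.fiber y` with image `x` in `X`,
the stalk map `O_{X,x} → O_{X_y,z}` is surjective with kernel `m_{f x} O_{X,x}`.
-/

set_option autoImplicit false
set_option linter.style.haveILetI false
universe u
open CategoryTheory CategoryTheory.Limits AlgebraicGeometry TopologicalSpace IsLocalRing

namespace Groth.Agent.Lib.helper17.FibreStalk

open Groth.Agent.Lib.helper17.StalkSmooth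

/-- abstract pullback version, base point definitionally `f (ι z)`. -/
theorem ker_stalkMap_aux {X Y Z : Scheme.{u}} (f : X ⟶ Y) (ι : Z ⟶ X) (z : Z)
    (π : Z ⟶ Spec (Y.residueField (f (ι z))))
    (h : IsPullback ι π f (Y.fromSpecResidueField (f (ι z)))) :
    RingHom.ker (ι.stalkMap z).hom =
      (maximalIdeal (Y.presheaf.stalk (f (ι z)))).map (f.stalkMap (ι z)).hom := by
  set φ := f.stalkMap (ι z) with hφ
  set ψ := ι.stalkMap z with hψ
  have hfr : Y.fromSpecResidueField (f (ι z)) = Spec.map (Y.residue (f (ι z))) ≫ Y.fromSpecStalk (f (ι z)) := rfl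
  apply le_antisymm
  · -- ker ψ ≤ I
    set I : Ideal (X.presheaf.stalk (ι z)) := (maximalIdeal (Y.presheaf.stalk (f (ι z)))).map φ.hom with hI
    have hIle : I ≤ maximalIdeal (X.presheaf.stalk (ι z)) :=
      ((IsLocalRing.local_hom_TFAE φ.hom).out 0 2 rfl rfl).mp inferInstance
    have hInt : I ≠ ⊤ := ne_top_of_le_ne_top (maximalIdeal.isMaximal _).ne_top hIle
    let R : CommRingCat.{u} := CommRingCat.of (X.presheaf.stalk (ι z) ⧸ I)
    let q : X.presheaf.stalk (ι z) ⟶ R := CommRingCat.ofHom (Ideal.Quotient.mk I)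
    haveI : Nontrivial (X.presheaf.stalk (ι z) ⧸ I) := Ideal.Quotient.nontrivial_iff.mpr hInt
    haveI : IsLocalRing R := IsLocalRing.of_surjective' (Ideal.Quotient.mk I)
      Ideal.Quotient.mk_surjective
    haveI : IsLocalHom q.hom :=
      IsLocalHom.of_surjective _ Ideal.Quotient.mk_surjective
    have hkill : ∀ a ∈ maximalIdeal (Y.presheaf.stalk (f (ι z))), (φ ≫ q).hom a = 0 := by
      intro a ha
      change Ideal.Quotient.mk I (φ.hom a) = 0
      rw [Ideal.Quotient.eq_zero_iff_mem]
      exact Ideal.mem_map_of_mem _ ha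
    let k2 : Y.residueField (f (ι z)) ⟶ R :=
      CommRingCat.ofHom (Ideal.Quotient.lift _ (φ ≫ q).hom hkill)
    have hk2 : Y.residue (f (ι z)) ≫ k2 = φ ≫ q := by
      ext a
      rfl
    let a : Spec R ⟶ X := Spec.map q ≫ X.fromSpecStalk (ι z)
    let b : Spec R ⟶ Spec (Y.residueField (f (ι z))) := Spec.map k2
    have hab : a ≫ f = b ≫ Y.fromSpecResidueField (f (ι z)) := by
      simp only [a, b, Category.assoc, hfr]
      rw [← Scheme.SpecMap_stalkMap_fromSpecStalk, ← Spec.map_comp_assoc, ← Spec.map_comp_assoc,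
        hk2]
    let l : Spec R ⟶ Z := h.lift a b hab
    have hl1 : l ≫ ι = a := h.lift_fst _ _ _
    haveI : IsPreimmersion ι :=
      MorphismProperty.of_isPullback h.flip (inferInstanceAs
        (IsPreimmersion (Y.fromSpecResidueField (f (ι z)))))
    have hlc : l (closedPoint R) = z := by
      apply ι.isEmbedding.injective
      rw [← Scheme.Hom.comp_apply, hl1]
      simp only [a, Scheme.Hom.comp_apply]
      have : (Spec.map q) (closedPoint R) = closedPoint (X.presheaf.stalk (ι z)) := Spec_closedPoint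
      rw [this]
      exact Scheme.fromSpecStalk_closedPoint
    obtain ⟨θ, hθ⟩ := exists_local_hom l z hlc
    have hcomp : ψ ≫ θ = q := by
      apply spec_map_fromSpecStalk_injective (ι z)
      rw [Spec.map_comp, Category.assoc, Scheme.SpecMap_stalkMap_fromSpecStalk, reassoc_of% hθ, hl1]
    intro t ht
    rw [RingHom.mem_ker] at ht
    have h1 : q.hom t = θ.hom (ψ.hom t) := by
      rw [← hcomp]; rfl
    rw [ht, map_zero] at h1
    exact Ideal.Quotient.eq_zero_iff_mem.mp h1
  · -- I ≤ ker ψ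
    obtain ⟨g, hg⟩ : ∃ g : Y.residueField (f (ι z)) ⟶ Z.presheaf.stalk z,
        Spec.map g = Z.fromSpecStalk z ≫ π := ⟨Spec.preimage _, Spec.map_preimage _⟩
    have hcomp : φ ≫ ψ = Y.residue (f (ι z)) ≫ g := by
      apply spec_map_fromSpecStalk_injective (f (ι z))
      rw [Spec.map_comp, Category.assoc, Scheme.SpecMap_stalkMap_fromSpecStalk,
        Scheme.SpecMap_stalkMap_fromSpecStalk_assoc, h.w, Spec.map_comp, hg, Category.assoc,
        Category.assoc, hfr]
    rw [Ideal.map_le_iff_le_comap]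
    intro a ha
    rw [Ideal.mem_comap, RingHom.mem_ker]
    have h1 : ψ.hom (φ.hom a) = g.hom ((Y.residue (f (ι z))).hom a) := by
      change (φ ≫ ψ).hom a = _
      rw [hcomp]; rfl
    rw [h1]
    have : (Y.residue (f (ι z))).hom a = 0 := by
      change IsLocalRing.residue _ a = 0
      rwa [IsLocalRing.residue_eq_zero_iff]
    rw [this, map_zero]

/-- For a pullback of `f` along `Spec κ(y) → Y`: the stalk map of the projection to `X` has kernel
`m_{f x} O_{X,x}`. -/
theorem ker_stalkMap_of_isPullback {X Y Z : Scheme.{u}} (f : X ⟶ Y) (y : Y) (ι : Z ⟶ X)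
    (π : Z ⟶ Spec (Y.residueField y)) (h : IsPullback ι π f (Y.fromSpecResidueField y)) (z : Z) :
    RingHom.ker (ι.stalkMap z).hom =
      (maximalIdeal (Y.presheaf.stalk (f (ι z)))).map (f.stalkMap (ι z)).hom := by
  have hy : f (ι z) = y := by
    have h1 : (ι ≫ f) z = (π ≫ Y.fromSpecResidueField y) z := by rw [h.w]
    rw [Scheme.Hom.comp_apply, Scheme.Hom.comp_apply, Scheme.fromSpecResidueField_apply] at h1
    exact h1
  subst hy
  exact ker_stalkMap_aux f ι z π h

theorem ker_fiberι_stalkMap {X Y : Scheme.{u}} (f : X ⟶ Y) (y : Y) (z : f.fiber y) :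
    RingHom.ker ((f.fiberι y).stalkMap z).hom =
      (maximalIdeal (Y.presheaf.stalk (f (f.fiberι y z)))).map
        (f.stalkMap (f.fiberι y z)).hom :=
  ker_stalkMap_of_isPullback f y (f.fiberι y) (f.fiberToSpecResidueField y)
    (IsPullback.of_hasPullback _ _) z

/-- the fibre ring at a point: `O_{X,x} / m_{f x} O_{X,x}`. -/
abbrev FibRing {X Y : Scheme.{u}} (f : X ⟶ Y) (x : X) : Type u :=
  X.presheaf.stalk x ⧸ (maximalIdeal (Y.presheaf.stalk (f x))).map (f.stalkMap x).hom

/-- The local ring of the fibre at `z` is `O_{X,x} / m_{f x} O_{X,x}`, `x` the image of `z`. -/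
noncomputable def fiberStalkEquiv {X Y : Scheme.{u}} (f : X ⟶ Y) (y : Y) (z : f.fiber y) :
    FibRing f (f.fiberι y z) ≃+* (f.fiber y).presheaf.stalk z :=
  (Ideal.quotEquivOfEq (ker_fiberι_stalkMap f y z).symm).trans
    (RingHom.quotientKerEquivOfSurjective ((f.fiberι y).stalkMap_surjective z))

theorem fibRing_congr {X Y : Scheme.{u}} (f : X ⟶ Y) {x x' : X} (h : x = x') :
    Nonempty (FibRing f x ≃+* FibRing f x') := by
  subst h
  exact ⟨RingEquiv.refl _⟩

/-- The local ring of the fibre through `x` at `x` is `O_{X,x} / m_{f x} O_{X,x}`. -/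
theorem nonempty_asFiber_stalk_equiv {X Y : Scheme.{u}} (f : X ⟶ Y) (x : X) :
    Nonempty (FibRing f x ≃+* (f.fiber (f x)).presheaf.stalk (f.asFiber x)) := by
  obtain ⟨e⟩ := fibRing_congr f (f.fiberι_asFiber x).symm
  exact ⟨e.trans (fiberStalkEquiv f (f x) (f.asFiber x))⟩

end Groth.Agent.Lib.helper17.FibreStalk
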