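import Mathlib
import Groth.Agent.Lib.Helper17.FibreStalk

/-!
# Fibres of a base change

For a pullback square `g' f' f g` and `x' : X'`, the local ring of the fibre of `f'` at `x'` is a flat
local algebra over the local ring of the fibre of `f` at `g' x'`.
-/

set_option autoImplicit false
set_option linter.style.haveILetI false
universe u
open CategoryTheory CategoryTheory.Limits AlgebraicGeometry TopologicalSpace IsLocalRing

namespace Groth.Agent.Lib.helper17.FibreBC

open Groth.Agent.Lib.helper17.FibreStalk

variable {X Y X' Y' : Scheme.{u}} {f : X ⟶ Y} {f' : X' ⟶ Y'} {g' : X' ⟶ X} {g : Y' ⟶ Y}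

theorem flat_SpecMap_residueFieldMap (g : Y' ⟶ Y) (s' : Y') :
    Flat (Spec.map (g.residueFieldMap s')) := by
  rw [HasRingHomProperty.Spec_iff (P := @Flat)]
  algebraize [(g.residueFieldMap s').hom]
  exact (inferInstance : Module.Flat (Y.residueField (g s')) (Y'.residueField s'))

/-- the induced map on fibres. -/
noncomputable def fibreMap (hc : IsPullback g' f' f g) (s' : Y') : f'.fiber s' ⟶ f.fiber (g s') :=
  pullback.map _ _ _ _ g' (Spec.map (g.residueFieldMap s')) g hc.w.symm (by simp)

theorem fibreMap_fiberι (hc : IsPullback g' f' f g) (s' : Y') :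
    fibreMap hc s' ≫ f.fiberι (g s') = f'.fiberι s' ≫ g' := by
  exact pullback.lift_fst _ _ _

instance flat_fibreMap (hc : IsPullback g' f' f g) (s' : Y') : Flat (fibreMap hc s') := by
  have h := isPullback_fiberToSpecResidueField_of_isPullback hc s'
  haveI := flat_SpecMap_residueFieldMap g s'
  exact MorphismProperty.of_isPullback h.flip inferInstance

/-- The local ring of the fibre of `f'` at `x'` is flat and local over that of `f` at `g' x'`. -/
theorem exists_flat_local_hom (hc : IsPullback g' f' f g) (x' : X') :
    ∃ ψ : (f.fiber (f (g' x'))).presheaf.stalk (f.asFiber (g' x')) →+*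
        (f'.fiber (f' x')).presheaf.stalk (f'.asFiber x'), ψ.Flat ∧ IsLocalHom ψ := by
  set s' := f' x' with hs'
  set z' := f'.asFiber x' with hz'
  set φ := fibreMap hc s' with hφ
  have hpt : f.fiberι (g s') (φ z') = g' x' := by
    rw [← Scheme.Hom.comp_apply, fibreMap_fiberι, Scheme.Hom.comp_apply, f'.fiberι_asFiber x']
  -- source equivalences
  obtain ⟨e1⟩ := nonempty_asFiber_stalk_equiv f (g' x')
  obtain ⟨e2⟩ := fibRing_congr f hpt
  let e3 := fiberStalkEquiv f (g s') (φ z')
  let e : (f.fiber (f (g' x'))).presheaf.stalk (f.asFiber (g' x')) ≃+*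
      (f.fiber (g s')).presheaf.stalk (φ z') := (e1.symm.trans e2.symm).trans e3
  refine ⟨(φ.stalkMap z').hom.comp e.toRingHom, ?_, ?_⟩
  · exact RingHom.Flat.comp (RingHom.Flat.of_bijective e.bijective) (Flat.stalkMap φ z')
  · haveI : IsLocalHom e.toRingHom := by
      constructor
      intro a ha
      exact (isUnit_map_iff e a).mp ha
    exact RingHom.isLocalHom_comp _ _

end Groth.Agent.Lib.helper17.FibreBC
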