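import Mathlib
import Groth.Agent.Lib.Helper26.CMPoly2
import Groth.Agent.Lib.Helper26.Depth7

/-!
# Cohen–Macaulayness of `K ⊗[k] L` for field extensions (helper17)

* `cm_of_krullDimLE_zero`: a zero-dimensional Noetherian local ring is Cohen–Macaulay.
* `isCohenMacaulayRing_of_isArtinianRing`: Artinian rings are Cohen–Macaulay rings.
* `isCohenMacaulayRing_of_isLocalization`: localizations of Cohen–Macaulay rings are Cohen–Macaulay.
* `isCohenMacaulayRing_of_flat_of_fibres`: flat with CM fibres over a CM base is CM.
* `isCohenMacaulayRing_of_finite_flat`: finite flat over a CM base is CM.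
* `isCohenMacaulayRing_tensor_of_essFiniteType`: `K ⊗[k] L` is CM when `K/k` is an essentially finite
  type field extension and `L/k` any field extension.
-/

set_option autoImplicit false
set_option linter.style.haveILetI false
universe u

namespace Groth.Agent.Lib.helper17.FieldCM

open LocCoh IsLocalRing TensorProduct

/-- a zero-dimensional Noetherian local ring is Cohen–Macaulay. -/
theorem cm_of_krullDimLE_zero (R : Type u) [CommRing R] [IsNoetherianRing R] [IsLocalRing R]
    [Ring.KrullDimLE 0 R] : IsCohenMacaulayLocalRing R := by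
  refine { supportDim_eq_depth := ?_ }
  have hle : ((depth R R : ℕ∞) : WithBot ℕ∞) ≤ Module.supportDim R R :=
    Groth.Agent.Lib.helper26.Depth.depth_le_supportDim R
  refine le_antisymm ?_ hle
  rw [Module.supportDim_self_eq_ringKrullDim]
  have h0 : ringKrullDim R ≤ 0 := Ring.krullDimLE_iff.mp inferInstance
  refine h0.trans ?_
  exact_mod_cast bot_le

/-- Artinian rings are Cohen–Macaulay rings. -/
theorem isCohenMacaulayRing_of_isArtinianRing (R : Type u) [CommRing R] [IsArtinianRing R] :
    IsCohenMacaulayRing R := by
  refine { isCohenMacaulayLocalRing_localization := ?_ }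
  intro p hp
  haveI : IsArtinianRing (Localization.AtPrime p) := inferInstance
  exact cm_of_krullDimLE_zero _

/-- localizations of Cohen–Macaulay rings are Cohen–Macaulay rings. -/
theorem isCohenMacaulayRing_of_isLocalization {A B : Type u} [CommRing A] [CommRing B]
    [Algebra A B] (M : Submonoid A) [IsLocalization M B] [h : IsCohenMacaulayRing A] :
    IsCohenMacaulayRing B := by
  haveI : IsNoetherianRing B := IsLocalization.isNoetherianRing M B inferInstance
  refine { isCohenMacaulayLocalRing_localization := ?_ }
  intro q hq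
  haveI : IsLocalization.AtPrime (Localization.AtPrime q) (q.comap (algebraMap A B)) :=
    IsLocalization.isLocalization_isLocalization_atPrime_isLocalization M (Localization.AtPrime q) q
  have e : Localization.AtPrime (q.comap (algebraMap A B)) ≃ₐ[A] Localization.AtPrime q :=
    IsLocalization.algEquiv (q.comap (algebraMap A B)).primeCompl _ _
  haveI := h.isCohenMacaulayLocalRing_localization (q.comap (algebraMap A B))
  exact Groth.Agent.S9808.cm_of_ringEquiv e.toRingEquiv

/-- flat with Cohen–Macaulay fibres over a Cohen–Macaulay base is Cohen–Macaulay. -/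
theorem isCohenMacaulayRing_of_flat_of_fibres (R S : Type u) [CommRing R] [CommRing S]
    [Algebra R S] [hR : IsCohenMacaulayRing R] [IsNoetherianRing S] [Module.Flat R S]
    (h : ∀ (p : Ideal R) [p.IsPrime], IsCohenMacaulayRing (p.Fiber S)) :
    IsCohenMacaulayRing S := by
  refine { isCohenMacaulayLocalRing_localization := ?_ }
  intro Q hQ
  let p : Ideal R := Q.under R
  have hp : p.IsPrime := inferInstance
  have hlo : Q.LiesOver p := inferInstance
  rw [Groth.Agent.Lib.Helper24.FlatDepth.cm_atPrime_iff R S p Q]
  refine ⟨hR.isCohenMacaulayLocalRing_localization p, ?_⟩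
  obtain ⟨q, hq, ⟨e⟩⟩ := Groth.Agent.Lib.Helper24.FlatDepth.exists_fibre_prime_equiv R S p Q
  have := (h p).isCohenMacaulayLocalRing_localization q
  exact Groth.Agent.S9808.cm_of_ringEquiv (R := Localization.AtPrime q) e

/-- finite flat over a Cohen–Macaulay base is Cohen–Macaulay. -/
theorem isCohenMacaulayRing_of_finite_flat (R S : Type u) [CommRing R] [CommRing S]
    [Algebra R S] [hR : IsCohenMacaulayRing R] [Module.Finite R S] [Module.Flat R S] :
    IsCohenMacaulayRing S := by
  haveI : IsNoetherianRing S := IsNoetherianRing.of_finite R S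
  refine isCohenMacaulayRing_of_flat_of_fibres R S fun p hp => ?_
  haveI : Module.Finite p.ResidueField (p.Fiber S) := by
    unfold Ideal.Fiber
    infer_instance
  haveI : IsArtinianRing (p.Fiber S) := IsArtinianRing.of_finite p.ResidueField _
  exact isCohenMacaulayRing_of_isArtinianRing _

section Main

open Groth.Agent.Lib.helper26.CMPoly

variable (k K L : Type u) [Field k] [Field K] [Field L] [Algebra k K] [Algebra k L]

/-- `Frac(k[x_i]) ⊗[k] L` is Cohen–Macaulay. -/
theorem isCohenMacaulayRing_fractionRing_mvPolynomial_tensor (ι : Type u) [Finite ι] :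
    IsCohenMacaulayRing (FractionRing (MvPolynomial ι k) ⊗[k] L) := by
  classical
  haveI := Fintype.ofFinite ι
  have h0 : IsCohenMacaulayRing (MvPolynomial ι L) := by
    haveI := isCohenMacaulayRing_of_isArtinianRing L
    haveI := isCohenMacaulayRing_mvPolynomial L (Fintype.card ι)
    exact isCohenMacaulayRing_of_ringEquiv
      (MvPolynomial.renameEquiv L (Fintype.equivFin ι)).symm.toRingEquiv
  have h1 : IsCohenMacaulayRing (MvPolynomial ι k ⊗[k] L) :=
    isCohenMacaulayRing_of_ringEquiv
      (((Algebra.TensorProduct.comm k (MvPolynomial ι k) L).toRingEquiv.trans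
        (MvPolynomial.algebraTensorAlgEquiv k L).toRingEquiv).symm)
  letI : Algebra (MvPolynomial ι k ⊗[k] L)
      (FractionRing (MvPolynomial ι k) ⊗[MvPolynomial ι k] (MvPolynomial ι k ⊗[k] L)) :=
    Algebra.TensorProduct.rightAlgebra
  have h2 : IsCohenMacaulayRing
      (FractionRing (MvPolynomial ι k) ⊗[MvPolynomial ι k] (MvPolynomial ι k ⊗[k] L)) :=
    isCohenMacaulayRing_of_isLocalization
      (Algebra.algebraMapSubmonoid (MvPolynomial ι k ⊗[k] L) (nonZeroDivisors (MvPolynomial ι k)))
  exact isCohenMacaulayRing_of_ringEquiv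
    (Algebra.TensorProduct.cancelBaseChange k (MvPolynomial ι k) (MvPolynomial ι k)
      (FractionRing (MvPolynomial ι k)) L).toRingEquiv

/-- auxiliary: tower step. -/
theorem isCohenMacaulayRing_tensor_of_tower (E : Type u) [Field E] [Algebra k E] [Algebra E K]
    [IsScalarTower k E K] [Module.Finite E K] [hR : IsCohenMacaulayRing (E ⊗[k] L)] :
    IsCohenMacaulayRing (K ⊗[k] L) := by
  have hT : IsCohenMacaulayRing ((E ⊗[k] L) ⊗[E] K) :=
    isCohenMacaulayRing_of_finite_flat (E ⊗[k] L) _
  exact isCohenMacaulayRing_of_ringEquiv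
    ((Algebra.TensorProduct.comm E (E ⊗[k] L) K).toRingEquiv.trans
      (Algebra.TensorProduct.cancelBaseChange k E E K L).toRingEquiv)

/-- `K ⊗[k] L` is Cohen–Macaulay when `K/k` is an essentially finite type extension of fields. -/
theorem isCohenMacaulayRing_tensor_of_essFiniteType [Algebra.EssFiniteType k K] :
    IsCohenMacaulayRing (K ⊗[k] L) := by
  obtain ⟨s, hs⟩ := exists_isTranscendenceBasis k K
  have hfin : s.Finite := Cardinal.lt_aleph0_iff_set_finite.1
    (hs.cardinalMk_eq_trdeg.trans_lt (trdeg_lt_aleph0 k K))
  haveI : Finite s := hfin.to_subtype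
  let E := IntermediateField.adjoin k (Set.range (Subtype.val : s → K))
  haveI : Algebra.IsAlgebraic E K := hs.isAlgebraic_field
  haveI : Algebra.EssFiniteType E K := Algebra.EssFiniteType.of_comp k E K
  haveI : Module.Finite E K := Algebra.finite_of_essFiniteType_of_isAlgebraic
  haveI hR : IsCohenMacaulayRing (E ⊗[k] L) := by
    haveI := isCohenMacaulayRing_fractionRing_mvPolynomial_tensor k L s
    exact isCohenMacaulayRing_of_ringEquiv
      (Algebra.TensorProduct.congr hs.1.aevalEquivField (AlgEquiv.refl (A₁ := L))).toRingEquiv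
  exact isCohenMacaulayRing_tensor_of_tower k K L E

end Main

end Groth.Agent.Lib.helper17.FieldCM
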