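import Mathlib
import Groth.Agent.Lib.Helper17.FibreStalk
import Groth.Agent.Lib.Helper17.FieldCM
import Groth.Agent.Lib.Helper3.StalkBC2

/-!
# Closed fibres of the stalk maps of a base change over fields (helper17)

For a pullback square `g' f' f (Spec.map φ)` with `φ : K ⟶ K'`, and `x' : X'` with image `x = g' x'`,
the closed fibre ring `O_{X',x'} / m_x O_{X',x'}` of `g'` at `x'` is a localization at a prime of
`κ(x) ⊗[K] K'`.
-/

set_option autoImplicit false
set_option linter.style.haveILetI false
universe u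
open CategoryTheory CategoryTheory.Limits AlgebraicGeometry TopologicalSpace IsLocalRing TensorProduct

namespace Groth.Agent.Lib.helper17.FieldBC

open Groth.Agent.Lib.helper17.FibreStalk

/-- The local ring of a scheme isomorphic to `Spec R` is a localization of `R` at a prime. -/
theorem exists_stalk_equiv_localization_of_iso {Z : Scheme.{u}} {R : Type u} [CommRing R]
    (e : Z ≅ Spec (CommRingCat.of R)) (z : Z) :
    ∃ (q : Ideal R) (_ : q.IsPrime), Nonempty (Z.presheaf.stalk z ≃+* Localization.AtPrime q) := by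
  refine ⟨(e.hom z).asIdeal, (e.hom z).isPrime, ⟨?_⟩⟩
  have e2 : (Spec (CommRingCat.of R)).presheaf.stalk (e.hom z) ≃+* Z.presheaf.stalk z :=
    (asIso (e.hom.stalkMap z)).commRingCatIsoToRingEquiv
  have e3 : Localization.AtPrime (e.hom z).asIdeal ≃+*
      (Spec (CommRingCat.of R)).presheaf.stalk (e.hom z) :=
    (IsLocalization.algEquiv (e.hom z).asIdeal.primeCompl (Localization.AtPrime (e.hom z).asIdeal)
      ((Spec.structureSheaf R).presheaf.stalk (e.hom z))).toRingEquiv
  exact e2.symm.trans e3.symm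

variable {X X' : Scheme.{u}} {K K' : CommRingCat.{u}}
  {f : X ⟶ Spec K} {f' : X' ⟶ Spec K'} {g' : X' ⟶ X} {φ : K ⟶ K'}

/-- The fibre of `g'` over `x` is `Spec (κ(x) ⊗[K] K')`. -/
theorem nonempty_fiber_iso_spec (hc : IsPullback g' f' f (Spec.map φ)) (x : X)
    (ψ : K ⟶ X.residueField x) (hψ : X.fromSpecResidueField x ≫ f = Spec.map ψ) :
    letI := ψ.hom.toAlgebra
    letI := φ.hom.toAlgebra
    Nonempty (g'.fiber x ≅ Spec (CommRingCat.of ((X.residueField x) ⊗[K] K'))) := by
  letI := ψ.hom.toAlgebra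
  letI := φ.hom.toAlgebra
  have h1 : IsPullback (g'.fiberι x) (g'.fiberToSpecResidueField x) g'
      (X.fromSpecResidueField x) := IsPullback.of_hasPullback _ _
  have h2 := h1.paste_horiz hc.flip
  rw [hψ] at h2
  have h3 := h2.flip
  exact ⟨h3.isoPullback ≪≫ pullbackSpecIso K (X.residueField x) K'⟩

/-- The closed fibre ring of `g'` at `x'` is a localization of `κ(g' x') ⊗[K] K'` at a prime. -/
theorem exists_fibRing_equiv_localization (hc : IsPullback g' f' f (Spec.map φ)) (x' : X')
    (ψ : K ⟶ X.residueField (g' x'))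
    (hψ : X.fromSpecResidueField (g' x') ≫ f = Spec.map ψ) :
    letI := ψ.hom.toAlgebra
    letI := φ.hom.toAlgebra
    ∃ (q : Ideal ((X.residueField (g' x')) ⊗[K] K')) (_ : q.IsPrime),
      Nonempty (FibRing g' x' ≃+* Localization.AtPrime q) := by
  letI := ψ.hom.toAlgebra
  letI := φ.hom.toAlgebra
  obtain ⟨e⟩ := nonempty_fiber_iso_spec hc (g' x') ψ hψ
  obtain ⟨e1⟩ := nonempty_asFiber_stalk_equiv g' x'
  obtain ⟨q, hq, ⟨e2⟩⟩ := exists_stalk_equiv_localization_of_iso e (g'.asFiber x')
  exact ⟨q, hq, ⟨e1.trans e2⟩⟩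

/-- The local ring of `X'` at `x'` is a localization of `O_{X, g' x'} ⊗[K] K'` at a prime. -/
theorem exists_stalk_equiv_localization (hc : IsPullback g' f' f (Spec.map φ)) (x' : X')
    (θ : K ⟶ X.presheaf.stalk (g' x')) (hθ : X.fromSpecStalk (g' x') ≫ f = Spec.map θ) :
    letI := θ.hom.toAlgebra
    letI := φ.hom.toAlgebra
    ∃ (q : Ideal ((X.presheaf.stalk (g' x')) ⊗[K] K')) (_ : q.IsPrime),
      Nonempty (X'.presheaf.stalk x' ≃+* Localization.AtPrime q) := by
  letI := θ.hom.toAlgebra
  letI := φ.hom.toAlgebra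
  obtain ⟨y, hy, -⟩ :=
    Groth.Agent.Lib.helper3.StalkBC2.exists_point_over_closedPoint g' (g' x') x' rfl
  have e1 := Groth.Agent.Lib.helper3.StalkBC2.stalkEquiv g' (g' x') y
  have h1 : IsPullback (pullback.snd (X.fromSpecStalk (g' x')) g')
      (pullback.fst (X.fromSpecStalk (g' x')) g') g' (X.fromSpecStalk (g' x')) :=
    (IsPullback.of_hasPullback _ _).flip
  have h2 := h1.paste_horiz hc.flip
  rw [hθ] at h2
  have e : pullback (X.fromSpecStalk (g' x')) g' ≅
      Spec (CommRingCat.of ((X.presheaf.stalk (g' x')) ⊗[K] K')) :=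
    h2.flip.isoPullback ≪≫ pullbackSpecIso K (X.presheaf.stalk (g' x')) K'
  obtain ⟨q, hq, ⟨e2⟩⟩ := exists_stalk_equiv_localization_of_iso e y
  have e0 : X'.presheaf.stalk x' ≃+*
      X'.presheaf.stalk ((pullback.snd (X.fromSpecStalk (g' x')) g') y) :=
    (X'.presheaf.stalkCongr (.of_eq hy.symm)).commRingCatIsoToRingEquiv
  exact ⟨q, hq, ⟨(e0.trans e1).trans e2⟩⟩

/-- Noetherianity of the local rings of a base change along an essentially finite type map. -/
theorem isNoetherianRing_stalk (hc : IsPullback g' f' f (Spec.map φ)) (x' : X')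
    (hφ : φ.hom.EssFiniteType) [IsNoetherianRing (X.presheaf.stalk (g' x'))] :
    IsNoetherianRing (X'.presheaf.stalk x') := by
  let θ : K ⟶ X.presheaf.stalk (g' x') := Spec.preimage (X.fromSpecStalk (g' x') ≫ f)
  have hθ : X.fromSpecStalk (g' x') ≫ f = Spec.map θ := (Spec.map_preimage _).symm
  obtain ⟨q, hq, ⟨e⟩⟩ := exists_stalk_equiv_localization hc x' θ hθ
  letI := θ.hom.toAlgebra
  letI := φ.hom.toAlgebra
  haveI : Algebra.EssFiniteType K K' := hφ
  haveI : IsNoetherianRing ((X.presheaf.stalk (g' x')) ⊗[K] K') :=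
    Algebra.EssFiniteType.isNoetherianRing (X.presheaf.stalk (g' x')) _
  haveI : IsNoetherianRing (Localization.AtPrime q) :=
    IsLocalization.isNoetherianRing q.primeCompl _ inferInstance
  exact isNoetherianRing_of_ringEquiv _ e.symm

/-- `K ⊗[k] L` is Cohen–Macaulay for fields, one of them essentially of finite type over `k`. -/
theorem isCohenMacaulayRing_tensor_of_isField (k K L : Type u) [CommRing k] [CommRing K]
    [CommRing L] [Algebra k K] [Algebra k L] (hk : IsField k) (hK : IsField K) (hL : IsField L)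
    (h : Algebra.EssFiniteType k K ∨ Algebra.EssFiniteType k L) :
    LocCoh.IsCohenMacaulayRing (K ⊗[k] L) := by
  letI := hk.toField
  letI := hK.toField
  letI := hL.toField
  rcases h with h | h
  · exact Groth.Agent.Lib.helper17.FieldCM.isCohenMacaulayRing_tensor_of_essFiniteType k K L
  · have := Groth.Agent.Lib.helper17.FieldCM.isCohenMacaulayRing_tensor_of_essFiniteType k L K
    exact Groth.Agent.Lib.helper26.CMPoly.isCohenMacaulayRing_of_ringEquiv
      (Algebra.TensorProduct.comm k L K).toRingEquiv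

/-- The closed fibre ring of `g'` at `x'` is Cohen–Macaulay. -/
theorem cm_fibRing (hc : IsPullback g' f' f (Spec.map φ)) (x' : X') (hK : IsField K)
    (hK' : IsField K') (ψ : K ⟶ X.residueField (g' x'))
    (hψ : X.fromSpecResidueField (g' x') ≫ f = Spec.map ψ)
    (h : ψ.hom.EssFiniteType ∨ φ.hom.EssFiniteType) :
    LocCoh.IsCohenMacaulayLocalRing (FibRing g' x') := by
  obtain ⟨q, hq, ⟨e⟩⟩ := exists_fibRing_equiv_localization hc x' ψ hψ
  letI := ψ.hom.toAlgebra
  letI := φ.hom.toAlgebra
  have hCM := isCohenMacaulayRing_tensor_of_isField K (X.residueField (g' x')) K' hK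
    (Field.toIsField _) hK' h
  haveI := hCM.isCohenMacaulayLocalRing_localization q
  exact Groth.Agent.S9808.cm_of_ringEquiv e.symm

theorem flat_of_isField (hK : IsField K) : φ.hom.Flat := by
  letI := hK.toField
  letI := φ.hom.toAlgebra
  change Module.Flat K K'
  infer_instance

/-- Cohen–Macaulayness of local rings is invariant under base change along a field extension,
one of `κ(x)/K`, `K'/K` being essentially of finite type. -/
theorem cm_stalk_iff (hc : IsPullback g' f' f (Spec.map φ)) (x' : X') (hK : IsField K)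
    (hK' : IsField K') (ψ : K ⟶ X.residueField (g' x'))
    (hψ : X.fromSpecResidueField (g' x') ≫ f = Spec.map ψ)
    (h : ψ.hom.EssFiniteType ∨ φ.hom.EssFiniteType)
    [IsNoetherianRing (X.presheaf.stalk (g' x'))] [IsNoetherianRing (X'.presheaf.stalk x')] :
    LocCoh.IsCohenMacaulayLocalRing (X'.presheaf.stalk x') ↔
      LocCoh.IsCohenMacaulayLocalRing (X.presheaf.stalk (g' x')) := by
  have hflatφ : Flat (Spec.map φ) := by
    rw [HasRingHomProperty.Spec_iff (P := @Flat)]
    exact flat_of_isField hK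
  haveI : Flat g' := MorphismProperty.of_isPullback hc.flip hflatφ
  letI := (g'.stalkMap x').hom.toAlgebra
  haveI : Module.Flat (X.presheaf.stalk (g' x')) (X'.presheaf.stalk x') := Flat.stalkMap g' x'
  haveI : IsLocalHom (algebraMap (X.presheaf.stalk (g' x')) (X'.presheaf.stalk x')) :=
    inferInstanceAs (IsLocalHom (g'.stalkMap x').hom)
  rw [Groth.Agent.Lib.Helper24.FlatDepth.cm_iff_of_flat (X.presheaf.stalk (g' x'))
    (X'.presheaf.stalk x')]
  have hF := cm_fibRing hc x' hK hK' ψ hψ h
  exact ⟨fun h => h.1, fun h => ⟨h, hF⟩⟩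

/-- For `f : X ⟶ Spec K` locally of finite type, `κ(x)` is essentially of finite type over `K`. -/
theorem essFiniteType_of_locallyOfFiniteType {X : Scheme.{u}} {K : CommRingCat.{u}}
    (f : X ⟶ Spec K) [LocallyOfFiniteType f] (x : X) (ψ : K ⟶ X.residueField x)
    (hψ : X.fromSpecResidueField x ≫ f = Spec.map ψ) : ψ.hom.EssFiniteType := by
  have h1 : ψ = ((Scheme.ΓSpecIso K).inv ≫ (Spec K).presheaf.germ ⊤ (f x) trivial) ≫
      f.stalkMap x ≫ X.residue x := by
    apply Spec.map_injective
    rw [← hψ, Spec.map_comp, Spec.map_comp, ← Spec.fromSpecStalk_eq, Category.assoc,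
      Scheme.SpecMap_stalkMap_fromSpecStalk]
    rfl
  rw [h1]
  simp only [CommRingCat.hom_comp]
  refine RingHom.EssFiniteType.comp ?_
    (RingHom.EssFiniteType.comp (LocallyOfFiniteType.stalkMap f x) ?_)
  · let p : PrimeSpectrum K := f x
    have : Algebra.EssFiniteType K ((Spec.structureSheaf K).presheaf.stalk p) :=
      Algebra.EssFiniteType.of_isLocalization _ p.asIdeal.primeCompl
    exact this
  · exact RingHom.FiniteType.essFiniteType
      (RingHom.FiniteType.of_surjective _ (X.residue_surjective x))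

/-- For `g` locally of finite type the residue field extensions are essentially of finite type. -/
theorem essFiniteType_residueFieldMap {Y Y' : Scheme.{u}} (g : Y' ⟶ Y) [LocallyOfFiniteType g]
    (s' : Y') : (g.residueFieldMap s').hom.EssFiniteType :=
  RingHom.EssFiniteType.residueFieldMap (LocallyOfFiniteType.stalkMap g s')

end Groth.Agent.Lib.helper17.FieldBC
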