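import Mathlib

/-!
# Flatness over a base `C` and base change `A → A'` (helper17, LT13)

Rings `C → A → A'`, `M` an `A`-module.
* `flat_tensor_of_flat`: `M` flat over `C`, `A'` flat over `A` ⟹ `A' ⊗[A] M` flat over `C`.
* `flat_of_flat_tensor`: `A'` faithfully flat over `A`, `A' ⊗[A] M` flat over `C` ⟹ `M` flat over `C`.
* `IsBaseChange` versions: `flat_of_isBaseChange`, `flat_of_isBaseChange_of_faithfullyFlat`,
  `flat_iff_of_isBaseChange`.
-/

set_option autoImplicit false
open TensorProduct

namespace Groth.Agent.Lib.helper17.FlatBC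

variable {C A A' M : Type*} [CommRing C] [CommRing A] [CommRing A'] [Algebra C A] [Algebra A A']
  [Algebra C A'] [IsScalarTower C A A'] [AddCommGroup M] [Module C M] [Module A M]
  [IsScalarTower C A M]

/-- the basic square: `(A' ⊗[A] M) ⊗[C] j` corresponds to `A' ⊗[A] (M ⊗[C] j)` under associativity -/
theorem assoc_square {N₁ N₂ : Type*} [AddCommGroup N₁] [AddCommGroup N₂] [Module C N₁]
    [Module C N₂] (j : N₁ →ₗ[C] N₂) (x : (A' ⊗[A] M) ⊗[C] N₁) :
    AlgebraTensorModule.assoc C A A' A' M N₂ (j.lTensor (A' ⊗[A] M) x) =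
      (AlgebraTensorModule.lTensor A M j).lTensor A'
        (AlgebraTensorModule.assoc C A A' A' M N₁ x) := by
  induction x using TensorProduct.induction_on with
  | zero => simp
  | add x y hx hy => simp only [map_add, hx, hy]
  | tmul t n =>
    induction t using TensorProduct.induction_on with
    | zero => simp
    | add x y hx hy => simp only [add_tmul, map_add, hx, hy]
    | tmul a m => simp

theorem lTensor_injective_iff {N₁ N₂ : Type*} [AddCommGroup N₁] [AddCommGroup N₂] [Module C N₁]
    [Module C N₂] (j : N₁ →ₗ[C] N₂) :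
    Function.Injective (j.lTensor (A' ⊗[A] M)) ↔
      Function.Injective ((AlgebraTensorModule.lTensor A M j).lTensor A') := by
  have h : ∀ x, AlgebraTensorModule.assoc C A A' A' M N₂ (j.lTensor (A' ⊗[A] M) x) =
      (AlgebraTensorModule.lTensor A M j).lTensor A'
        (AlgebraTensorModule.assoc C A A' A' M N₁ x) := assoc_square j
  constructor
  · intro hinj y₁ y₂ hy
    obtain ⟨x₁, rfl⟩ := (AlgebraTensorModule.assoc C A A' A' M N₁).surjective y₁
    obtain ⟨x₂, rfl⟩ := (AlgebraTensorModule.assoc C A A' A' M N₁).surjective y₂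
    rw [← h, ← h] at hy
    rw [hinj ((AlgebraTensorModule.assoc C A A' A' M N₂).injective hy)]
  · intro hinj x₁ x₂ hx
    apply (AlgebraTensorModule.assoc C A A' A' M N₁).injective
    apply hinj
    rw [← h, ← h, hx]

variable (C A A' M)

/-- `M` flat over `C`, `A'` flat over `A` ⟹ `A' ⊗[A] M` flat over `C`. -/
theorem flat_tensor_of_flat [Module.Flat C M] [Module.Flat A A'] : Module.Flat C (A' ⊗[A] M) := by
  rw [Module.Flat.iff_lTensor_injective']
  intro I
  rw [lTensor_injective_iff]
  apply Module.Flat.lTensor_preserves_injective_linearMap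
  exact Module.Flat.lTensor_preserves_injective_linearMap (M := M) I.subtype I.injective_subtype

/-- `A'` faithfully flat over `A`, `A' ⊗[A] M` flat over `C` ⟹ `M` flat over `C`. -/
theorem flat_of_flat_tensor [Module.FaithfullyFlat A A'] [Module.Flat C (A' ⊗[A] M)] :
    Module.Flat C M := by
  rw [Module.Flat.iff_lTensor_injective']
  intro I
  have h := (Module.Flat.iff_lTensor_injective' (R := C) (M := A' ⊗[A] M)).mp inferInstance I
  rw [lTensor_injective_iff] at h
  exact (Module.FaithfullyFlat.lTensor_injective_iff_injective A A'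
    (AlgebraTensorModule.lTensor A M I.subtype)).mp h

section IsBaseChange

variable {M' : Type*} [AddCommGroup M'] [Module C M'] [Module A M'] [Module A' M']
  [IsScalarTower A A' M'] [IsScalarTower C A' M'] {φ : M →ₗ[A] M'}

variable {A M}

include A' in
theorem flat_of_isBaseChange (h : IsBaseChange A' φ) [Module.Flat C M] [Module.Flat A A'] :
    Module.Flat C M' := by
  haveI := flat_tensor_of_flat C A A' M
  exact Module.Flat.of_linearEquiv (h.equiv.symm.restrictScalars C)

include A' in
theorem flat_of_isBaseChange_of_faithfullyFlat (h : IsBaseChange A' φ)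
    [Module.FaithfullyFlat A A'] [Module.Flat C M'] : Module.Flat C M := by
  haveI : Module.Flat C (A' ⊗[A] M) := Module.Flat.of_linearEquiv (h.equiv.restrictScalars C)
  exact flat_of_flat_tensor C A A' M

include A' in
theorem flat_iff_of_isBaseChange (h : IsBaseChange A' φ) [Module.FaithfullyFlat A A'] :
    Module.Flat C M ↔ Module.Flat C M' :=
  ⟨fun _ => flat_of_isBaseChange C A' h, fun _ => flat_of_isBaseChange_of_faithfullyFlat C A' h⟩

end IsBaseChange


end Groth.Agent.Lib.helper17.FlatBC
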