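import Mathlib

/-!
# Localization of a base change is a base change of the localization (helper17, LT13)

`exists_isBaseChange_of_localizations`: rings `B → B'`, primes `q ⊂ B'` over `p ⊂ B`, localizations
`Bp`, `B'q`; `ι : M → N` a base change along `B → B'`; `Mp`, `Nq` localizations of `M`, `N`. Then
the induced map `Mp → Nq` is a base change along `Bp → B'q`.
-/

set_option autoImplicit false
set_option linter.style.haveILetI false
open TensorProduct

namespace Groth.Agent.Lib.helper17.LocBC

variable {B B' Bp B'q : Type*} [CommRing B] [CommRing B'] [CommRing Bp] [CommRing B'q]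
  [Algebra B B'] [Algebra B Bp] [Algebra B' B'q] [Algebra Bp B'q] [Algebra B B'q]
  [IsScalarTower B Bp B'q] [IsScalarTower B B' B'q]
  (p : Submonoid B) (q : Submonoid B') [IsLocalization p Bp] [IsLocalization q B'q]
  {M N Mp Nq : Type*} [AddCommGroup M] [AddCommGroup N] [AddCommGroup Mp] [AddCommGroup Nq]
  [Module B M] [Module B N] [Module B' N] [IsScalarTower B B' N]
  [Module B Mp] [Module Bp Mp] [IsScalarTower B Bp Mp]
  [Module B Nq] [Module B' Nq] [Module Bp Nq] [Module B'q Nq]
  [IsScalarTower B B' Nq] [IsScalarTower B Bp Nq] [IsScalarTower B B'q Nq]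
  [IsScalarTower B' B'q Nq] [IsScalarTower Bp B'q Nq]

theorem exists_isBaseChange_of_localizations
    (ι : M →ₗ[B] N) (hι : IsBaseChange B' ι)
    (gM : M →ₗ[B] Mp) [IsLocalizedModule p gM] (gN : N →ₗ[B'] Nq) [IsLocalizedModule q gN] :
    ∃ ψ : Mp →ₗ[Bp] Nq, IsBaseChange B'q ψ ∧ ∀ m, ψ (gM m) = gN (ι m) := by
  have h1 : IsBaseChange Bp gM := (isLocalizedModule_iff_isBaseChange p Bp gM).mp inferInstance
  have h2 : IsBaseChange B'q gN := (isLocalizedModule_iff_isBaseChange q B'q gN).mp inferInstance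
  have h3 : IsBaseChange B'q ((gN.restrictScalars B).comp ι) := hι.comp h2
  let ψ : Mp →ₗ[Bp] Nq := h1.lift ((gN.restrictScalars B).comp ι)
  have hψ : (ψ.restrictScalars B).comp gM = (gN.restrictScalars B).comp ι := h1.lift_comp _
  refine ⟨ψ, ?_, fun m => h1.lift_eq _ m⟩
  apply IsBaseChange.of_comp h1
  rw [show ((ψ : Mp →ₗ[B] Nq)) = ψ.restrictScalars B from rfl, hψ]
  exact h3

section pattern

variable {R R' Rp R'q : Type*} [CommRing R] [CommRing R'] [CommRing Rp] [CommRing R'q]
  [Algebra R R'] [Algebra R Rp] [Algebra R' R'q] [Algebra Rp R'q] [Algebra R R'q]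
  [IsScalarTower R Rp R'q] [IsScalarTower R R' R'q]
  (pR : Submonoid R) (qR : Submonoid R') [IsLocalization pR Rp] [IsLocalization qR R'q]
  {P P' : Type*} [AddCommGroup P] [AddCommGroup P']
  [Module R P] [Module Rp P] [IsScalarTower R Rp P]
  [Module R P'] [Module R' P'] [Module Rp P'] [Module R'q P']
  [IsScalarTower R R' P'] [IsScalarTower R Rp P'] [IsScalarTower R R'q P']
  [IsScalarTower R' R'q P'] [IsScalarTower Rp R'q P']

include pR in
/-- If `P → P'` is a base change along `Rp → R'q` (localizations of `R → R'`), then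
`R' ⊗[R] P → P'` is a localization at `qR`. -/
theorem exists_isLocalizedModule_tensor (φ : P →ₗ[Rp] P') (hφ : IsBaseChange R'q φ) :
    ∃ h : R' ⊗[R] P →ₗ[R'] P', IsLocalizedModule qR h ∧ ∀ x : P, h (1 ⊗ₜ x) = φ x := by
  have h0 : IsBaseChange Rp (LinearMap.id : P →ₗ[R] P) := by
    have : IsLocalizedModule pR (LinearMap.id : P →ₗ[R] P) := isLocalizedModule_id pR P Rp
    exact (isLocalizedModule_iff_isBaseChange pR Rp _).mp this
  have h1 : IsBaseChange R'q ((φ.restrictScalars R).comp (LinearMap.id : P →ₗ[R] P)) :=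
    h0.comp hφ
  have hmk : IsBaseChange R' (TensorProduct.mk R R' P 1) := TensorProduct.isBaseChange R P R'
  let h : R' ⊗[R] P →ₗ[R'] P' := hmk.lift (φ.restrictScalars R)
  have hcomp : (h.restrictScalars R).comp (TensorProduct.mk R R' P 1) = φ.restrictScalars R :=
    hmk.lift_comp _
  refine ⟨h, ?_, fun x => hmk.lift_eq _ x⟩
  rw [isLocalizedModule_iff_isBaseChange qR R'q]
  apply IsBaseChange.of_comp hmk
  rw [show ((h : R' ⊗[R] P →ₗ[R] P')) = h.restrictScalars R from rfl, hcomp]
  simpa using h1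

end pattern


end Groth.Agent.Lib.helper17.LocBC
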