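import Mathlib
import Groth.Agent.Lib.Helper17.LocBC
import Groth.Agent.Lib.Helper17.FlatBC
import Groth.Agent.Lib.Helper17.FlatOver1

/-!
# Flatness, pushouts of rings and localization (helper17, LT13)

Abstract algebra behind "flatness at a point is stable under base change" (S1391/S1392).
* `flat_localization_of_isPushout`: `B' = A' ⊗[A] B`, `M_q → M'_{q'}` a base change along
  `B_q → B'_{q'}`; `M_q` flat over `A` ⟹ `M'_{q'}` flat over `A'`.
* `flat_localization_ring_of_isPushout`: `A'_{p'}` flat over `A` ⟹ `B'_{q'}` flat over `B_q`.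
-/

set_option autoImplicit false
set_option linter.style.haveILetI false
open TensorProduct

namespace Groth.Agent.Lib.helper17.FlatBC2

open Groth.Agent.Lib.helper17.LocBC Groth.Agent.Lib.helper17.FlatOver1

section S1391

variable {A A' B B' Bq B'q : Type*} [CommRing A] [CommRing A'] [CommRing B] [CommRing B']
  [CommRing Bq] [CommRing B'q]
  [Algebra A A'] [Algebra A B] [Algebra A' B'] [Algebra B B'] [Algebra A B']
  [IsScalarTower A B B'] [IsScalarTower A A' B'] [Algebra.IsPushout A A' B B']
  [Algebra B Bq] [Algebra B' B'q] [Algebra Bq B'q] [Algebra B B'q]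
  [IsScalarTower B Bq B'q] [IsScalarTower B B' B'q]
  (p : Submonoid B) (q : Submonoid B') [IsLocalization p Bq] [IsLocalization q B'q]
  {Mq M'q : Type*} [AddCommGroup Mq] [AddCommGroup M'q]
  [Module B Mq] [Module Bq Mq] [IsScalarTower B Bq Mq] [Module A Mq] [IsScalarTower A B Mq]
  [Module B M'q] [Module B' M'q] [Module Bq M'q] [Module B'q M'q]
  [IsScalarTower B B' M'q] [IsScalarTower B Bq M'q] [IsScalarTower B B'q M'q]
  [IsScalarTower B' B'q M'q] [IsScalarTower Bq B'q M'q]
  [Module A' M'q] [IsScalarTower A' B' M'q]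

include p q in
theorem flat_localization_of_isPushout (ψ : Mq →ₗ[Bq] M'q) (hψ : IsBaseChange B'q ψ)
    [Module.Flat A Mq] : Module.Flat A' M'q := by
  obtain ⟨h, hloc, -⟩ := exists_isLocalizedModule_tensor (R := B) (R' := B') p q ψ hψ
  haveI : Module.Flat A' (B' ⊗[B] Mq) :=
    Module.Flat.of_linearEquiv (Algebra.IsPushout.cancelBaseChange A A' B B' Mq)
  exact flat_of_isLocalizedModule_over (A := A') (B := B') q h

end S1391

section S1392

variable {A A' B B' A'p Bq B'q : Type*} [CommRing A] [CommRing A'] [CommRing B] [CommRing B']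
  [CommRing A'p] [CommRing Bq] [CommRing B'q]
  [Algebra A A'] [Algebra A B] [Algebra A' B'] [Algebra B B'] [Algebra A B']
  [IsScalarTower A B B'] [IsScalarTower A A' B'] [Algebra.IsPushout A B A' B']
  [Algebra A' A'p] [Algebra A A'p] [IsScalarTower A A' A'p]
  [Algebra B' B'q] [Algebra A'p B'q] [Algebra A' B'q]
  [IsScalarTower A' A'p B'q] [IsScalarTower A' B' B'q]
  [Algebra B Bq] [Algebra Bq B'q] [Algebra B B'q]
  [IsScalarTower B Bq B'q] [IsScalarTower B B' B'q]
  (p' : Submonoid A') (p : Submonoid B) (q : Submonoid B')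
  [IsLocalization p' A'p] [IsLocalization p Bq] [IsLocalization q B'q]

include p' p q in
/-- `B' = B ⊗[A] A'`; if the localization `A'_{p'}` is flat over `A`, then `B'_{q'}` is flat over
`B_q` (for compatible localizations). -/
theorem flat_localization_ring_of_isPushout [Module.Flat A A'p] : Module.Flat Bq B'q := by
  obtain ⟨h, hloc, -⟩ := exists_isLocalizedModule_tensor (R := A') (R' := B') (Rp := A'p)
    (R'q := B'q) p' q (Algebra.linearMap A'p B'q) (IsBaseChange.linearMap A'p B'q)
  haveI : Module.Flat B (B' ⊗[A'] A'p) :=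
    Module.Flat.of_linearEquiv (Algebra.IsPushout.cancelBaseChange A B A' B' A'p)
  haveI : Module.Flat B B'q := flat_of_isLocalizedModule_over (A := B) (B := B') q h
  exact (Module.flat_iff_of_isLocalization Bq p B'q).mpr inferInstance

end S1392


end Groth.Agent.Lib.helper17.FlatBC2
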