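import Groth.Prelude.Def_FlatMod2
import Mathlib
import Groth.Agent.Lib.Helper17.FlatOver1
import Groth.Agent.Lib.Helper17.LocBC
import Groth.Agent.Lib.Helper16.QCohPullback

/-!
# The stalk of a pullback of a quasi-coherent module is a base change (helper17, LT13)

For `h : X ⟶ Y`, `G` quasi-coherent on `Y`, `x : X`:
`exists_isBaseChange_stalk_pullback`: there is an `O_{Y,h x}`-linear map
`ψ : G_{h x} → (h^* G)_x` which is a base change along `O_{Y,h x} → O_{X,x}`
(i.e. `(h^*G)_x ≅ O_{X,x} ⊗ G_{h x}`).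
-/

set_option autoImplicit false
set_option linter.style.haveILetI false
universe u
open CategoryTheory AlgebraicGeometry TopologicalSpace Opposite TensorProduct

namespace Groth.Agent.Lib.helper17.StalkPullback

open Scheme.Modules Groth.Agent.Lib.helper16.CohStalk Groth.Agent.Lib.helper17.FlatOver1
  Groth.Agent.Lib.helper16.QCohPullback

variable {X S : Scheme.{u}} (f : X ⟶ S) (F : X.Modules)

/-- scalar tower `O_{S,f x} → O_{X,x}` on the stalk `F_x` -/
theorem isScalarTower_moduleStalkOver (x : X) :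
    @IsScalarTower (S.presheaf.stalk (f.base x)) (X.presheaf.stalk x) (F.presheaf.stalk x)
      (f.stalkMap x).hom.toAlgebra.toSMul _ (FlatMod.moduleStalkOver f F x).toSMul := by
  letI := (f.stalkMap x).hom.toAlgebra
  letI := FlatMod.moduleStalkOver f F x
  exact ⟨fun a b m => by
    change ((f.stalkMap x).hom a * b) • m = (f.stalkMap x).hom a • (b • m)
    rw [mul_smul]⟩

/-- scalar tower `Γ(S,V) → O_{S,f x}` on the stalk `F_x` -/
theorem isScalarTower_modStalkBase_stalkOver {V : S.Opens} (x : X) (hx : f.base x ∈ V) :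
    @IsScalarTower Γ(S, V) (S.presheaf.stalk (f.base x)) (F.presheaf.stalk x)
      (TopCat.Presheaf.algebra_section_stalk S.presheaf (⟨f.base x, hx⟩ : V)).toSMul
      (FlatMod.moduleStalkOver f F x).toSMul (modStalkBase f F x hx).toSMul := by
  letI := FlatMod.moduleStalkOver f F x
  letI := TopCat.Presheaf.algebra_section_stalk S.presheaf (⟨f.base x, hx⟩ : V)
  letI := modStalkBase f F x hx
  exact ⟨fun a b m => by
    change (f.stalkMap x).hom ((S.presheaf.germ V (f.base x) hx).hom a * b) • m =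
      (f.stalkMap x).hom ((S.presheaf.germ V (f.base x) hx).hom a) • ((f.stalkMap x).hom b • m)
    rw [map_mul, mul_smul]⟩

/-- **The stalk of the pullback of a quasi-coherent module is the base change of the stalk.** -/
theorem exists_isBaseChange_stalk_pullback {X Y : Scheme.{u}} (h : X ⟶ Y) (G : Y.Modules)
    [G.IsQuasicoherent] (x : X) :
    letI := (h.stalkMap x).hom.toAlgebra
    letI := FlatMod.moduleStalkOver h ((Scheme.Modules.pullback h).obj G) x
    haveI := isScalarTower_moduleStalkOver h ((Scheme.Modules.pullback h).obj G) x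
    ∃ ψ : G.presheaf.stalk (h.base x) →ₗ[Y.presheaf.stalk (h.base x)]
        ((Scheme.Modules.pullback h).obj G).presheaf.stalk x,
      IsBaseChange (X.presheaf.stalk x) ψ := by
  obtain ⟨_, ⟨V, hV : IsAffineOpen V, rfl⟩, hy, -⟩ :=
    Y.isBasis_affineOpens.exists_subset_of_mem_open (Set.mem_univ (h.base x)) isOpen_univ
  obtain ⟨_, ⟨U, hU : IsAffineOpen U, rfl⟩, hx, hUV⟩ :=
    X.isBasis_affineOpens.exists_subset_of_mem_open (show x ∈ (h ⁻¹ᵁ V : Set X) from hy)
      (h ⁻¹ᵁ V).2
  have hUV' : U ≤ h ⁻¹ᵁ V := hUV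
  set P := (Scheme.Modules.pullback h).obj G with hP
  haveI : P.IsQuasicoherent := isQuasicoherent_pullback h G
  -- algebras
  letI algBB' : Algebra Γ(Y, V) Γ(X, U) := (h.appLE V U hUV').hom.toAlgebra
  letI algBBp : Algebra Γ(Y, V) (Y.presheaf.stalk (h.base x)) :=
    TopCat.Presheaf.algebra_section_stalk Y.presheaf (⟨h.base x, hy⟩ : V)
  letI algB'B'q : Algebra Γ(X, U) (X.presheaf.stalk x) :=
    TopCat.Presheaf.algebra_section_stalk X.presheaf (⟨x, hx⟩ : U)
  letI algBpB'q : Algebra (Y.presheaf.stalk (h.base x)) (X.presheaf.stalk x) :=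
    (h.stalkMap x).hom.toAlgebra
  letI algBB'q : Algebra Γ(Y, V) (X.presheaf.stalk x) :=
    ((h.stalkMap x).hom.comp (Y.presheaf.germ V (h.base x) hy).hom).toAlgebra
  haveI : IsScalarTower Γ(Y, V) (Y.presheaf.stalk (h.base x)) (X.presheaf.stalk x) :=
    IsScalarTower.of_algebraMap_eq (fun _ => rfl)
  haveI : IsScalarTower Γ(Y, V) Γ(X, U) (X.presheaf.stalk x) :=
    IsScalarTower.of_algebraMap_eq (fun a => (germ_appLE_apply h hUV' x hx a).symm)
  haveI : IsLocalization.AtPrime (Y.presheaf.stalk (h.base x))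
      (hV.primeIdealOf ⟨h.base x, hy⟩).asIdeal := hV.isLocalization_stalk ⟨_, hy⟩
  haveI : IsLocalization.AtPrime (X.presheaf.stalk x) (hU.primeIdealOf ⟨x, hx⟩).asIdeal :=
    hU.isLocalization_stalk ⟨x, hx⟩
  -- modules
  letI mBN : Module Γ(Y, V) Γ(P, U) := modSecBase h P hUV'
  haveI : IsScalarTower Γ(Y, V) Γ(X, U) Γ(P, U) := isScalarTower_sections h P hUV'
  letI mBMp : Module Γ(Y, V) (G.presheaf.stalk (h.base x)) := modStalk G (h.base x) hy
  haveI : IsScalarTower Γ(Y, V) (Y.presheaf.stalk (h.base x)) (G.presheaf.stalk (h.base x)) :=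
    isScalarTower_stalk G (h.base x) hy
  letI mB'Nq : Module Γ(X, U) (P.presheaf.stalk x) := modStalk P x hx
  letI mBpNq : Module (Y.presheaf.stalk (h.base x)) (P.presheaf.stalk x) :=
    FlatMod.moduleStalkOver h P x
  letI mBNq : Module Γ(Y, V) (P.presheaf.stalk x) := modStalkBase h P x hy
  haveI : IsScalarTower Γ(Y, V) Γ(X, U) (P.presheaf.stalk x) :=
    isScalarTower_stalk_base h P hUV' x hx
  haveI : IsScalarTower Γ(Y, V) (Y.presheaf.stalk (h.base x)) (P.presheaf.stalk x) :=
    isScalarTower_modStalkBase_stalkOver h P x hy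
  haveI : IsScalarTower Γ(X, U) (X.presheaf.stalk x) (P.presheaf.stalk x) :=
    isScalarTower_stalk P x hx
  haveI : IsScalarTower (Y.presheaf.stalk (h.base x)) (X.presheaf.stalk x) (P.presheaf.stalk x) :=
    isScalarTower_moduleStalkOver h P x
  haveI : IsScalarTower Γ(Y, V) (X.presheaf.stalk x) (P.presheaf.stalk x) :=
    ⟨fun a b m => by
      change (((h.stalkMap x).hom.comp (Y.presheaf.germ V (h.base x) hy).hom) a * b) • m =
        ((h.stalkMap x).hom.comp (Y.presheaf.germ V (h.base x) hy).hom) a • (b • m)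
      rw [mul_smul]⟩
  -- the base change on sections
  let e : Γ(P, U) ≃ₗ[Γ(X, U)] Γ(X, U) ⊗[Γ(Y, V)] Γ(G, V) := pullbackSectionsEquiv h G hV hU hUV'
  let ι : Γ(G, V) →ₗ[Γ(Y, V)] Γ(P, U) :=
    (e.symm.restrictScalars Γ(Y, V)).toLinearMap ∘ₗ (TensorProduct.mk Γ(Y, V) Γ(X, U) Γ(G, V) 1)
  have hι : IsBaseChange Γ(X, U) ι := by
    refine IsBaseChange.of_equiv e.symm (fun m => ?_)
    simp only [ι, LinearMap.coe_comp, LinearEquiv.coe_coe, Function.comp_apply,
      LinearEquiv.restrictScalars_apply, TensorProduct.mk_apply]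
  haveI := isLocalizedModule_stalk G hV (h.base x) hy
  haveI := isLocalizedModule_stalk P hU x hx
  obtain ⟨ψ, hψ, -⟩ := Groth.Agent.Lib.helper17.LocBC.exists_isBaseChange_of_localizations
    (Bp := Y.presheaf.stalk (h.base x)) (B'q := X.presheaf.stalk x)
    (hV.primeIdealOf ⟨h.base x, hy⟩).asIdeal.primeCompl (hU.primeIdealOf ⟨x, hx⟩).asIdeal.primeCompl
    ι hι (germLin G (h.base x) hy) (germLin P x hx)
  exact ⟨ψ, hψ⟩


end Groth.Agent.Lib.helper17.StalkPullback
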