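import Groth.Prelude.Def_FlatMod2
import Mathlib
import Groth.Agent.Lib.Helper17.StalkPullback
import Groth.Agent.Lib.Helper17.FlatBC
import Groth.Agent.Lib.Helper17.FlatBC2

/-!
# Relative flatness toolkit VI (helper17, LT13): base change

For a cartesian square `X' = X ×_S S'` (`g' : X' ⟶ X`, `f' : X' ⟶ S'`), `F` qcoh on `X`, `x' : X'`:
* `isFlatOverAt_baseChange` (S1391): `F` flat over `S` at `g' x'` ⟹ `g'^*F` flat over `S'` at `x'`.
* `isFlatOverAt_of_baseChange` (S1392): converse if `g` is flat at `f' x'`.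
-/

set_option autoImplicit false
set_option linter.style.haveILetI false
universe u
open CategoryTheory AlgebraicGeometry TopologicalSpace Opposite TensorProduct

namespace Groth.Agent.Lib.helper17.FlatOver6

open Scheme.Modules Groth.Agent.Lib.helper16.CohStalk Groth.Agent.Lib.helper17.FlatOver1
  Groth.Agent.Lib.helper17.StalkPullback Groth.Agent.Lib.helper17.FlatBC
  Groth.Agent.Lib.helper17.FlatBC2

variable {X S X' S' : Scheme.{u}} {f : X ⟶ S} {f' : X' ⟶ S'} {g' : X' ⟶ X} {g : S' ⟶ S}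

/-- affine charts adapted to a point of a fibre product -/
theorem exists_affine_charts (hc : IsPullback g' f' f g) (x' : X') :
    ∃ (US : S.Opens) (UT : S'.Opens) (UX : X.Opens) (UY : X'.Opens)
      (hUST : UT ≤ g ⁻¹ᵁ US) (hUSX : UX ≤ f ⁻¹ᵁ US) (hUYX : UY ≤ g' ⁻¹ᵁ UX)
      (hUYT : UY ≤ f' ⁻¹ᵁ UT),
      IsAffineOpen US ∧ IsAffineOpen UT ∧ IsAffineOpen UX ∧ IsAffineOpen UY ∧ x' ∈ UY ∧
      IsPushout (f.appLE US UX hUSX) (g.appLE US UT hUST) (g'.appLE UX UY hUYX)
        (f'.appLE UT UY hUYT) := by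
  have hw : g.base (f'.base x') = f.base (g'.base x') := by
    have := congrArg (fun φ => φ.base x') hc.w
    simpa using this.symm
  obtain ⟨_, ⟨US, hUS : IsAffineOpen US, rfl⟩, hs, -⟩ :=
    S.isBasis_affineOpens.exists_subset_of_mem_open (Set.mem_univ (f.base (g'.base x')))
      isOpen_univ
  obtain ⟨_, ⟨UT, hUT : IsAffineOpen UT, rfl⟩, hs', hUST⟩ :=
    S'.isBasis_affineOpens.exists_subset_of_mem_open
      (show f'.base x' ∈ (g ⁻¹ᵁ US : Set S') from by
        change g.base (f'.base x') ∈ US; rw [hw]; exact hs) (g ⁻¹ᵁ US).2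
  obtain ⟨_, ⟨UX, hUX : IsAffineOpen UX, rfl⟩, hx, hUSX⟩ :=
    X.isBasis_affineOpens.exists_subset_of_mem_open
      (show g'.base x' ∈ (f ⁻¹ᵁ US : Set X) from hs) (f ⁻¹ᵁ US).2
  have hUST' : UT ≤ g ⁻¹ᵁ US := hUST
  have hUSX' : UX ≤ f ⁻¹ᵁ US := hUSX
  refine ⟨US, UT, UX, g' ⁻¹ᵁ UX ⊓ f' ⁻¹ᵁ UT, hUST', hUSX', inf_le_left, inf_le_right, hUS, hUT, hUX,
    ?_, ⟨hx, hs'⟩, ?_⟩
  · haveI : IsAffine (US : Scheme) := hUS
    haveI : IsAffine (UT : Scheme) := hUT
    haveI : IsAffine (UX : Scheme) := hUX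
    exact .of_isIso (Scheme.Hom.isPullback_resLE hc hUST' hUSX' rfl).isoPullback.hom
  · haveI := isIso_pushoutSection_of_isAffineOpen hc hUST' hUSX' rfl hUS hUT hUX
    exact (isIso_pushoutSection_iff hc hUST' hUSX' rfl).mp inferInstance

set_option maxHeartbeats 1600000 in
/-- the two base change statements for flatness at a point, proved together -/
theorem isFlatOverAt_baseChange_both (hc : IsPullback g' f' f g) (F : X.Modules)
    [F.IsQuasicoherent] (x' : X') :
    (FlatMod.IsFlatOverAt f F (g'.base x') →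
      FlatMod.IsFlatOverAt f' ((Scheme.Modules.pullback g').obj F) x') ∧
    ((g.stalkMap (f'.base x')).hom.Flat →
      FlatMod.IsFlatOverAt f' ((Scheme.Modules.pullback g').obj F) x' →
      FlatMod.IsFlatOverAt f F (g'.base x')) := by
  obtain ⟨US, UT, UX, UY, hUST, hUSX, hUYX, hUYT, hUS, hUT, hUX, hUY, hx', hpo⟩ :=
    exists_affine_charts hc x'
  set P := (Scheme.Modules.pullback g').obj F with hP
  haveI : P.IsQuasicoherent :=
    Groth.Agent.Lib.helper16.QCohPullback.isQuasicoherent_pullback g' F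
  have hx : g'.base x' ∈ UX := hUYX hx'
  have hs' : f'.base x' ∈ UT := hUYT hx'
  have hs : f.base (g'.base x') ∈ US := hUSX hx
  have hgs : g.base (f'.base x') ∈ US := hUST hs'
  -- section rings
  letI algAB : Algebra Γ(S, US) Γ(X, UX) := (f.appLE US UX hUSX).hom.toAlgebra
  letI algAA' : Algebra Γ(S, US) Γ(S', UT) := (g.appLE US UT hUST).hom.toAlgebra
  letI algBB' : Algebra Γ(X, UX) Γ(X', UY) := (g'.appLE UX UY hUYX).hom.toAlgebra
  letI algA'B' : Algebra Γ(S', UT) Γ(X', UY) := (f'.appLE UT UY hUYT).hom.toAlgebra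
  letI algAB' : Algebra Γ(S, US) Γ(X', UY) :=
    ((g'.appLE UX UY hUYX).hom.comp (f.appLE US UX hUSX).hom).toAlgebra
  haveI : IsScalarTower Γ(S, US) Γ(X, UX) Γ(X', UY) :=
    IsScalarTower.of_algebraMap_eq (fun _ => rfl)
  have hsq : ∀ a : Γ(S, US), (g'.appLE UX UY hUYX).hom ((f.appLE US UX hUSX).hom a) =
      (f'.appLE UT UY hUYT).hom ((g.appLE US UT hUST).hom a) := fun a =>
    congrArg (fun φ => φ.hom a) hpo.w
  haveI : IsScalarTower Γ(S, US) Γ(S', UT) Γ(X', UY) :=
    IsScalarTower.of_algebraMap_eq (fun a => hsq a)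
  haveI hpush : Algebra.IsPushout Γ(S, US) Γ(X, UX) Γ(S', UT) Γ(X', UY) :=
    CommRingCat.isPushout_iff_isPushout.mp hpo
  haveI hpush' : Algebra.IsPushout Γ(S, US) Γ(S', UT) Γ(X, UX) Γ(X', UY) := hpush.symm
  -- local rings
  letI algBBq : Algebra Γ(X, UX) (X.presheaf.stalk (g'.base x')) :=
    TopCat.Presheaf.algebra_section_stalk X.presheaf (⟨g'.base x', hx⟩ : UX)
  letI algB'B'q : Algebra Γ(X', UY) (X'.presheaf.stalk x') :=
    TopCat.Presheaf.algebra_section_stalk X'.presheaf (⟨x', hx'⟩ : UY)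
  letI algBqB'q : Algebra (X.presheaf.stalk (g'.base x')) (X'.presheaf.stalk x') :=
    (g'.stalkMap x').hom.toAlgebra
  letI algBB'q : Algebra Γ(X, UX) (X'.presheaf.stalk x') :=
    ((g'.stalkMap x').hom.comp (X.presheaf.germ UX (g'.base x') hx).hom).toAlgebra
  haveI : IsScalarTower Γ(X, UX) (X.presheaf.stalk (g'.base x')) (X'.presheaf.stalk x') :=
    IsScalarTower.of_algebraMap_eq (fun _ => rfl)
  haveI : IsScalarTower Γ(X, UX) Γ(X', UY) (X'.presheaf.stalk x') :=
    IsScalarTower.of_algebraMap_eq (fun a => (germ_appLE_apply g' hUYX x' hx' a).symm)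
  haveI : IsLocalization.AtPrime (X.presheaf.stalk (g'.base x'))
      (hUX.primeIdealOf ⟨g'.base x', hx⟩).asIdeal := hUX.isLocalization_stalk ⟨_, hx⟩
  haveI : IsLocalization.AtPrime (X'.presheaf.stalk x') (hUY.primeIdealOf ⟨x', hx'⟩).asIdeal :=
    hUY.isLocalization_stalk ⟨x', hx'⟩
  -- modules: `F_x`
  letI mBMq : Module Γ(X, UX) (F.presheaf.stalk (g'.base x')) := modStalk F (g'.base x') hx
  haveI : IsScalarTower Γ(X, UX) (X.presheaf.stalk (g'.base x')) (F.presheaf.stalk (g'.base x')) :=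
    isScalarTower_stalk F (g'.base x') hx
  letI mAMq : Module Γ(S, US) (F.presheaf.stalk (g'.base x')) := modStalkBase f F (g'.base x') hs
  haveI : IsScalarTower Γ(S, US) Γ(X, UX) (F.presheaf.stalk (g'.base x')) :=
    isScalarTower_stalk_base f F hUSX (g'.base x') hx
  -- modules: `P_{x'}`
  letI mB'M'q : Module Γ(X', UY) (P.presheaf.stalk x') := modStalk P x' hx'
  letI mBqM'q : Module (X.presheaf.stalk (g'.base x')) (P.presheaf.stalk x') :=
    FlatMod.moduleStalkOver g' P x'
  letI mBM'q : Module Γ(X, UX) (P.presheaf.stalk x') := modStalkBase g' P x' hx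
  haveI : IsScalarTower Γ(X, UX) Γ(X', UY) (P.presheaf.stalk x') :=
    isScalarTower_stalk_base g' P hUYX x' hx'
  haveI : IsScalarTower Γ(X, UX) (X.presheaf.stalk (g'.base x')) (P.presheaf.stalk x') :=
    isScalarTower_modStalkBase_stalkOver g' P x' hx
  haveI : IsScalarTower Γ(X', UY) (X'.presheaf.stalk x') (P.presheaf.stalk x') :=
    isScalarTower_stalk P x' hx'
  haveI : IsScalarTower (X.presheaf.stalk (g'.base x')) (X'.presheaf.stalk x')
      (P.presheaf.stalk x') := isScalarTower_moduleStalkOver g' P x'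
  haveI : IsScalarTower Γ(X, UX) (X'.presheaf.stalk x') (P.presheaf.stalk x') :=
    ⟨fun a b m => by
      change (((g'.stalkMap x').hom.comp (X.presheaf.germ UX (g'.base x') hx).hom) a * b) • m =
        ((g'.stalkMap x').hom.comp (X.presheaf.germ UX (g'.base x') hx).hom) a • (b • m)
      rw [mul_smul]⟩
  letI mA'M'q : Module Γ(S', UT) (P.presheaf.stalk x') := modStalkBase f' P x' hs'
  haveI : IsScalarTower Γ(S', UT) Γ(X', UY) (P.presheaf.stalk x') :=
    isScalarTower_stalk_base f' P hUYT x' hx'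
  obtain ⟨ψ, hψ⟩ := exists_isBaseChange_stalk_pullback g' F x'
  constructor
  · intro h
    haveI : Module.Flat Γ(S, US) (F.presheaf.stalk (g'.base x')) :=
      (isFlatOverAt_iff_flat_stalk_sections f F hUS (g'.base x') hs).mp h
    refine (isFlatOverAt_iff_flat_stalk_sections f' P hUT x' hs').mpr ?_
    exact flat_localization_of_isPushout (A := Γ(S, US)) (A' := Γ(S', UT)) (B := Γ(X, UX))
      (B' := Γ(X', UY)) (hUX.primeIdealOf ⟨g'.base x', hx⟩).asIdeal.primeCompl
      (hUY.primeIdealOf ⟨x', hx'⟩).asIdeal.primeCompl ψ hψ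
  · intro hg h
    -- the local ring of `S'` at `s'` and of `S` at `g s'`
    letI algA'A'p : Algebra Γ(S', UT) (S'.presheaf.stalk (f'.base x')) :=
      TopCat.Presheaf.algebra_section_stalk S'.presheaf (⟨f'.base x', hs'⟩ : UT)
    letI algAA'p : Algebra Γ(S, US) (S'.presheaf.stalk (f'.base x')) :=
      ((S'.presheaf.germ UT (f'.base x') hs').hom.comp (g.appLE US UT hUST).hom).toAlgebra
    haveI : IsScalarTower Γ(S, US) Γ(S', UT) (S'.presheaf.stalk (f'.base x')) :=
      IsScalarTower.of_algebraMap_eq (fun _ => rfl)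
    letI algAAp : Algebra Γ(S, US) (S.presheaf.stalk (g.base (f'.base x'))) :=
      TopCat.Presheaf.algebra_section_stalk S.presheaf (⟨g.base (f'.base x'), hgs⟩ : US)
    letI algApA'p : Algebra (S.presheaf.stalk (g.base (f'.base x')))
        (S'.presheaf.stalk (f'.base x')) := (g.stalkMap (f'.base x')).hom.toAlgebra
    haveI : IsScalarTower Γ(S, US) (S.presheaf.stalk (g.base (f'.base x')))
        (S'.presheaf.stalk (f'.base x')) :=
      IsScalarTower.of_algebraMap_eq (fun a => germ_appLE_apply g hUST (f'.base x') hs' a)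
    haveI : IsLocalization.AtPrime (S.presheaf.stalk (g.base (f'.base x')))
        (hUS.primeIdealOf ⟨g.base (f'.base x'), hgs⟩).asIdeal := hUS.isLocalization_stalk ⟨_, hgs⟩
    haveI : IsLocalization.AtPrime (S'.presheaf.stalk (f'.base x'))
        (hUT.primeIdealOf ⟨f'.base x', hs'⟩).asIdeal := hUT.isLocalization_stalk ⟨_, hs'⟩
    haveI : Module.Flat Γ(S, US) (S.presheaf.stalk (g.base (f'.base x'))) :=
      IsLocalization.flat _ (hUS.primeIdealOf ⟨g.base (f'.base x'), hgs⟩).asIdeal.primeCompl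
    haveI : Module.Flat (S.presheaf.stalk (g.base (f'.base x'))) (S'.presheaf.stalk (f'.base x')) :=
      hg
    haveI : Module.Flat Γ(S, US) (S'.presheaf.stalk (f'.base x')) :=
      Module.Flat.trans Γ(S, US) (S.presheaf.stalk (g.base (f'.base x'))) _
    -- `O_{S',s'} → O_{X',x'}`
    letI algA'pB'q : Algebra (S'.presheaf.stalk (f'.base x')) (X'.presheaf.stalk x') :=
      (f'.stalkMap x').hom.toAlgebra
    letI algA'B'q : Algebra Γ(S', UT) (X'.presheaf.stalk x') :=
      ((f'.stalkMap x').hom.comp (S'.presheaf.germ UT (f'.base x') hs').hom).toAlgebra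
    haveI : IsScalarTower Γ(S', UT) (S'.presheaf.stalk (f'.base x')) (X'.presheaf.stalk x') :=
      IsScalarTower.of_algebraMap_eq (fun _ => rfl)
    haveI : IsScalarTower Γ(S', UT) Γ(X', UY) (X'.presheaf.stalk x') :=
      IsScalarTower.of_algebraMap_eq (fun a => (germ_appLE_apply f' hUYT x' hx' a).symm)
    haveI hBqflat : Module.Flat (X.presheaf.stalk (g'.base x')) (X'.presheaf.stalk x') :=
      flat_localization_ring_of_isPushout (A := Γ(S, US)) (A' := Γ(S', UT)) (B := Γ(X, UX))
        (B' := Γ(X', UY)) (A'p := S'.presheaf.stalk (f'.base x'))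
        (hUT.primeIdealOf ⟨f'.base x', hs'⟩).asIdeal.primeCompl
        (hUX.primeIdealOf ⟨g'.base x', hx⟩).asIdeal.primeCompl
        (hUY.primeIdealOf ⟨x', hx'⟩).asIdeal.primeCompl
    haveI : IsLocalHom (algebraMap (X.presheaf.stalk (g'.base x')) (X'.presheaf.stalk x')) :=
      inferInstanceAs (IsLocalHom (g'.stalkMap x').hom)
    haveI : Module.FaithfullyFlat (X.presheaf.stalk (g'.base x')) (X'.presheaf.stalk x') :=
      Module.FaithfullyFlat.of_flat_of_isLocalHom
    -- `A = Γ(S,US)` as base ring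
    letI algABq : Algebra Γ(S, US) (X.presheaf.stalk (g'.base x')) :=
      ((X.presheaf.germ UX (g'.base x') hx).hom.comp (f.appLE US UX hUSX).hom).toAlgebra
    letI algAB'q : Algebra Γ(S, US) (X'.presheaf.stalk x') :=
      ((g'.stalkMap x').hom.comp (algebraMap Γ(S, US) (X.presheaf.stalk (g'.base x')))).toAlgebra
    haveI : IsScalarTower Γ(S, US) (X.presheaf.stalk (g'.base x')) (X'.presheaf.stalk x') :=
      IsScalarTower.of_algebraMap_eq (fun _ => rfl)
    haveI : IsScalarTower Γ(S, US) (X.presheaf.stalk (g'.base x'))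
        (F.presheaf.stalk (g'.base x')) :=
      ⟨fun a b m => by
        change ((X.presheaf.germ UX (g'.base x') hx).hom ((f.appLE US UX hUSX).hom a) * b) • m =
          (f.stalkMap (g'.base x')).hom ((S.presheaf.germ US (f.base (g'.base x')) hs).hom a) •
            (b • m)
        rw [mul_smul, germ_appLE_apply f hUSX (g'.base x') hx a]⟩
    letI mAM'q : Module Γ(S, US) (P.presheaf.stalk x') :=
      Module.compHom _ (algebraMap Γ(S, US) (X'.presheaf.stalk x'))
    haveI : IsScalarTower Γ(S, US) (X'.presheaf.stalk x') (P.presheaf.stalk x') :=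
      ⟨fun a b m => by
        change (algebraMap Γ(S, US) (X'.presheaf.stalk x') a * b) • m =
          algebraMap Γ(S, US) (X'.presheaf.stalk x') a • (b • m)
        rw [mul_smul]⟩
    letI mA'pM'q : Module (S'.presheaf.stalk (f'.base x')) (P.presheaf.stalk x') :=
      FlatMod.moduleStalkOver f' P x'
    have hkey : ∀ a : Γ(S, US), (f'.stalkMap x').hom
        ((S'.presheaf.germ UT (f'.base x') hs').hom ((g.appLE US UT hUST).hom a)) =
        (g'.stalkMap x').hom
          ((X.presheaf.germ UX (g'.base x') hx).hom ((f.appLE US UX hUSX).hom a)) := by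
      intro a
      rw [← germ_appLE_apply f' hUYT x' hx', ← germ_appLE_apply g' hUYX x' hx', hsq]
    haveI : IsScalarTower Γ(S, US) (S'.presheaf.stalk (f'.base x')) (P.presheaf.stalk x') :=
      ⟨fun a c m => by
        change (f'.stalkMap x').hom ((S'.presheaf.germ UT (f'.base x') hs').hom
            ((g.appLE US UT hUST).hom a) * c) • m =
          (g'.stalkMap x').hom ((X.presheaf.germ UX (g'.base x') hx).hom
            ((f.appLE US UX hUSX).hom a)) • ((f'.stalkMap x').hom c • m)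
        rw [map_mul, mul_smul, hkey]⟩
    haveI : Module.Flat (S'.presheaf.stalk (f'.base x')) (P.presheaf.stalk x') := h
    haveI : Module.Flat Γ(S, US) (P.presheaf.stalk x') :=
      Module.Flat.trans Γ(S, US) (S'.presheaf.stalk (f'.base x')) _
    refine (isFlatOverAt_iff_flat_stalk_sections f F hUS (g'.base x') hs).mpr ?_
    exact flat_of_isBaseChange_of_faithfullyFlat Γ(S, US) (X'.presheaf.stalk x') hψ


end Groth.Agent.Lib.helper17.FlatOver6
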