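import Groth.Prelude.Def_FlatMod2
import Mathlib
import Groth.Agent.Lib.Helper17.FlatOver6

/-!
# Flatness of the stalk map of a base change

In a pullback square `g' f' f g`, if `g` is flat at `f' x'` then `g'` is flat at `x'`.
-/

set_option autoImplicit false
set_option linter.style.haveILetI false
universe u
open CategoryTheory AlgebraicGeometry TopologicalSpace Opposite TensorProduct

namespace Groth.Agent.Lib.helper17.FlatStalkBC

open Groth.Agent.Lib.helper17.FlatOver1 Groth.Agent.Lib.helper17.FlatOver6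
  Groth.Agent.Lib.helper17.FlatBC2

variable {X S X' S' : Scheme.{u}} {f : X ⟶ S} {f' : X' ⟶ S'} {g' : X' ⟶ X} {g : S' ⟶ S}

set_option maxHeartbeats 1600000 in
theorem flat_stalkMap_of_isPullback (hc : IsPullback g' f' f g) (x' : X')
    (hg : (g.stalkMap (f'.base x')).hom.Flat) : (g'.stalkMap x').hom.Flat := by
  obtain ⟨US, UT, UX, UY, hUST, hUSX, hUYX, hUYT, hUS, hUT, hUX, hUY, hx', hpo⟩ :=
    exists_affine_charts hc x'
  have hx : g'.base x' ∈ UX := hUYX hx'
  have hs' : f'.base x' ∈ UT := hUYT hx'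
  have hs : f.base (g'.base x') ∈ US := hUSX hx
  have hgs : g.base (f'.base x') ∈ US := hUST hs'
  -- section rings
  letI algAB : Algebra Γ(S, US) Γ(X, UX) := (f.appLE US UX hUSX).hom.toAlgebra
  letI algAA' : Algebra Γ(S, US) Γ(S', UT) := (g.appLE US UT hUST).hom.toAlgebra
  letI algBB' : Algebra Γ(X, UX) Γ(X', UY) := (g'.appLE UX UY hUYX).hom.toAlgebra
  letI algA'B' : Algebra Γ(S', UT) Γ(X', UY) := (f'.appLE UT UY hUYT).hom.toAlgebra
  letI algAB' : Algebra Γ(S, US) Γ(X', UY) :=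
    ((g'.appLE UX UY hUYX).hom.comp (f.appLE US UX hUSX).hom).toAlgebra
  haveI : IsScalarTower Γ(S, US) Γ(X, UX) Γ(X', UY) :=
    IsScalarTower.of_algebraMap_eq (fun _ => rfl)
  have hsq : ∀ a : Γ(S, US), (g'.appLE UX UY hUYX).hom ((f.appLE US UX hUSX).hom a) =
      (f'.appLE UT UY hUYT).hom ((g.appLE US UT hUST).hom a) := fun a =>
    congrArg (fun φ => φ.hom a) hpo.w
  haveI : IsScalarTower Γ(S, US) Γ(S', UT) Γ(X', UY) :=
    IsScalarTower.of_algebraMap_eq (fun a => hsq a)
  haveI hpush : Algebra.IsPushout Γ(S, US) Γ(X, UX) Γ(S', UT) Γ(X', UY) :=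
    CommRingCat.isPushout_iff_isPushout.mp hpo
  -- local rings
  letI algBBq : Algebra Γ(X, UX) (X.presheaf.stalk (g'.base x')) :=
    TopCat.Presheaf.algebra_section_stalk X.presheaf (⟨g'.base x', hx⟩ : UX)
  letI algB'B'q : Algebra Γ(X', UY) (X'.presheaf.stalk x') :=
    TopCat.Presheaf.algebra_section_stalk X'.presheaf (⟨x', hx'⟩ : UY)
  letI algBqB'q : Algebra (X.presheaf.stalk (g'.base x')) (X'.presheaf.stalk x') :=
    (g'.stalkMap x').hom.toAlgebra
  letI algBB'q : Algebra Γ(X, UX) (X'.presheaf.stalk x') :=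
    ((g'.stalkMap x').hom.comp (X.presheaf.germ UX (g'.base x') hx).hom).toAlgebra
  haveI : IsScalarTower Γ(X, UX) (X.presheaf.stalk (g'.base x')) (X'.presheaf.stalk x') :=
    IsScalarTower.of_algebraMap_eq (fun _ => rfl)
  haveI : IsScalarTower Γ(X, UX) Γ(X', UY) (X'.presheaf.stalk x') :=
    IsScalarTower.of_algebraMap_eq (fun a => (germ_appLE_apply g' hUYX x' hx' a).symm)
  haveI : IsLocalization.AtPrime (X.presheaf.stalk (g'.base x'))
      (hUX.primeIdealOf ⟨g'.base x', hx⟩).asIdeal := hUX.isLocalization_stalk ⟨_, hx⟩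
  haveI : IsLocalization.AtPrime (X'.presheaf.stalk x') (hUY.primeIdealOf ⟨x', hx'⟩).asIdeal :=
    hUY.isLocalization_stalk ⟨x', hx'⟩
  -- the local ring of `S'` at `s'` and of `S` at `g s'`
  letI algA'A'p : Algebra Γ(S', UT) (S'.presheaf.stalk (f'.base x')) :=
    TopCat.Presheaf.algebra_section_stalk S'.presheaf (⟨f'.base x', hs'⟩ : UT)
  letI algAA'p : Algebra Γ(S, US) (S'.presheaf.stalk (f'.base x')) :=
    ((S'.presheaf.germ UT (f'.base x') hs').hom.comp (g.appLE US UT hUST).hom).toAlgebra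
  haveI : IsScalarTower Γ(S, US) Γ(S', UT) (S'.presheaf.stalk (f'.base x')) :=
    IsScalarTower.of_algebraMap_eq (fun _ => rfl)
  letI algAAp : Algebra Γ(S, US) (S.presheaf.stalk (g.base (f'.base x'))) :=
    TopCat.Presheaf.algebra_section_stalk S.presheaf (⟨g.base (f'.base x'), hgs⟩ : US)
  letI algApA'p : Algebra (S.presheaf.stalk (g.base (f'.base x')))
      (S'.presheaf.stalk (f'.base x')) := (g.stalkMap (f'.base x')).hom.toAlgebra
  haveI : IsScalarTower Γ(S, US) (S.presheaf.stalk (g.base (f'.base x')))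
      (S'.presheaf.stalk (f'.base x')) :=
    IsScalarTower.of_algebraMap_eq (fun a => germ_appLE_apply g hUST (f'.base x') hs' a)
  haveI : IsLocalization.AtPrime (S.presheaf.stalk (g.base (f'.base x')))
      (hUS.primeIdealOf ⟨g.base (f'.base x'), hgs⟩).asIdeal := hUS.isLocalization_stalk ⟨_, hgs⟩
  haveI : IsLocalization.AtPrime (S'.presheaf.stalk (f'.base x'))
      (hUT.primeIdealOf ⟨f'.base x', hs'⟩).asIdeal := hUT.isLocalization_stalk ⟨_, hs'⟩
  haveI : Module.Flat Γ(S, US) (S.presheaf.stalk (g.base (f'.base x'))) :=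
    IsLocalization.flat _ (hUS.primeIdealOf ⟨g.base (f'.base x'), hgs⟩).asIdeal.primeCompl
  haveI : Module.Flat (S.presheaf.stalk (g.base (f'.base x'))) (S'.presheaf.stalk (f'.base x')) :=
    hg
  haveI : Module.Flat Γ(S, US) (S'.presheaf.stalk (f'.base x')) :=
    Module.Flat.trans Γ(S, US) (S.presheaf.stalk (g.base (f'.base x'))) _
  -- `O_{S',s'} → O_{X',x'}`
  letI algA'pB'q : Algebra (S'.presheaf.stalk (f'.base x')) (X'.presheaf.stalk x') :=
    (f'.stalkMap x').hom.toAlgebra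
  letI algA'B'q : Algebra Γ(S', UT) (X'.presheaf.stalk x') :=
    ((f'.stalkMap x').hom.comp (S'.presheaf.germ UT (f'.base x') hs').hom).toAlgebra
  haveI : IsScalarTower Γ(S', UT) (S'.presheaf.stalk (f'.base x')) (X'.presheaf.stalk x') :=
    IsScalarTower.of_algebraMap_eq (fun _ => rfl)
  haveI : IsScalarTower Γ(S', UT) Γ(X', UY) (X'.presheaf.stalk x') :=
    IsScalarTower.of_algebraMap_eq (fun a => (germ_appLE_apply f' hUYT x' hx' a).symm)
  exact flat_localization_ring_of_isPushout (A := Γ(S, US)) (A' := Γ(S', UT)) (B := Γ(X, UX))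
      (B' := Γ(X', UY)) (A'p := S'.presheaf.stalk (f'.base x'))
      (hUT.primeIdealOf ⟨f'.base x', hs'⟩).asIdeal.primeCompl
      (hUX.primeIdealOf ⟨g'.base x', hx⟩).asIdeal.primeCompl
      (hUY.primeIdealOf ⟨x', hx'⟩).asIdeal.primeCompl

end Groth.Agent.Lib.helper17.FlatStalkBC
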