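import Mathlib
import Groth.Prelude.Def_MoreMor
import Groth.Agent.Lib.Helper17.FibreBC
import Groth.Agent.Lib.Helper17.FieldBC
import Groth.Agent.Lib.Helper17.FlatStalkBC

/-!
# Ascent of the Cohen–Macaulay property of a morphism under base change (helper17)

For a pullback square `g' f' f g` and `x' : X'`: if `f` is Cohen–Macaulay at `g' x'`, the fibre of
`f` through `g' x'` is locally Noetherian and one of the residue field extensions
`κ(f' x') / κ(g (f' x'))`, `κ(z) / κ(g (f' x'))` (`z` the point of the fibre) is essentially of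
finite type, then `f'` is Cohen–Macaulay at `x'`.
-/

set_option autoImplicit false
set_option linter.style.haveILetI false
universe u
open CategoryTheory CategoryTheory.Limits AlgebraicGeometry TopologicalSpace IsLocalRing

namespace Groth.Agent.Lib.helper17.CMBaseChange

open Groth.Agent.Lib.helper17.FibreStalk Groth.Agent.Lib.helper17.FibreBC
  Groth.Agent.Lib.helper17.FieldBC

variable {X Y X' Y' : Scheme.{u}} {f : X ⟶ Y} {f' : X' ⟶ Y'} {g' : X' ⟶ X} {g : Y' ⟶ Y}

/-- the local ring of the fibre of `f` through `g' x'` at `g' x'`, in two guises. -/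
theorem nonempty_stalk_equiv_fibreMap (hc : IsPullback g' f' f g) (x' : X') :
    Nonempty ((f.fiber (f (g' x'))).presheaf.stalk (f.asFiber (g' x')) ≃+*
      (f.fiber (g (f' x'))).presheaf.stalk (fibreMap hc (f' x') (f'.asFiber x'))) := by
  have hpt : f.fiberι (g (f' x')) (fibreMap hc (f' x') (f'.asFiber x')) = g' x' := by
    rw [← Scheme.Hom.comp_apply, fibreMap_fiberι, Scheme.Hom.comp_apply, f'.fiberι_asFiber x']
  obtain ⟨e1⟩ := nonempty_asFiber_stalk_equiv f (g' x')
  obtain ⟨e2⟩ := fibRing_congr f hpt
  let e3 := fiberStalkEquiv f (g (f' x')) (fibreMap hc (f' x') (f'.asFiber x'))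
  exact ⟨(e1.symm.trans e2.symm).trans e3⟩

/-- the pullback square of fibres. -/
theorem isPullback_fibreMap (hc : IsPullback g' f' f g) (s' : Y') :
    IsPullback (fibreMap hc s') (f'.fiberToSpecResidueField s')
      (f.fiberToSpecResidueField (g s')) (Spec.map (g.residueFieldMap s')) :=
  isPullback_fiberToSpecResidueField_of_isPullback hc s'

/-- Ascent of `IsCMAt` along a base change. -/
theorem isCMAt_of_isPullback (hc : IsPullback g' f' f g) (x' : X')
    [IsLocallyNoetherian (f.fiber (g (f' x')))]
    [IsNoetherianRing ((f'.fiber (f' x')).presheaf.stalk (f'.asFiber x'))]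
    (ψ : Y.residueField (g (f' x')) ⟶
      (f.fiber (g (f' x'))).residueField (fibreMap hc (f' x') (f'.asFiber x')))
    (hψ : (f.fiber (g (f' x'))).fromSpecResidueField (fibreMap hc (f' x') (f'.asFiber x')) ≫
      f.fiberToSpecResidueField (g (f' x')) = Spec.map ψ)
    (hess : ψ.hom.EssFiniteType ∨ (g.residueFieldMap (f' x')).hom.EssFiniteType)
    (h : MoreMor.IsCMAt f (g' x')) : MoreMor.IsCMAt f' x' := by
  refine ⟨Groth.Agent.Lib.helper17.FlatStalkBC.flat_stalkMap_of_isPullback hc.flip x' h.1, ?_⟩
  have hF := isPullback_fibreMap hc (f' x')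
  obtain ⟨e⟩ := nonempty_stalk_equiv_fibreMap hc x'
  haveI : IsNoetherianRing ((f.fiber (g (f' x'))).presheaf.stalk
      (fibreMap hc (f' x') (f'.asFiber x'))) := inferInstance
  rw [cm_stalk_iff hF (f'.asFiber x') (Field.toIsField _) (Field.toIsField _) ψ hψ hess]
  haveI := h.2
  exact Groth.Agent.S9808.cm_of_ringEquiv e

end Groth.Agent.Lib.helper17.CMBaseChange
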