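import Mathlib
import Groth.Prelude.Def_CAlg
import Groth.Agent.Lib.Helper17.FlatBC
import Groth.Agent.Lib.Helper24.FlatDepth4
import Groth.Agent.Lib.Helper24.FlatQuot
import Groth.Agent.S9808

/-!
# Cohen–Macaulay closed fibres in towers of local homomorphisms `A → B → C`
-/

set_option autoImplicit false
set_option linter.style.haveILetI false
set_option linter.unusedSectionVars false
universe u
open IsLocalRing TensorProduct

namespace Groth.Agent.Lib.helper17.CMComp

/-- flatness descends along a faithfully flat ring map on the target side. -/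
theorem flat_of_comp_of_faithfullyFlat (A B C : Type*) [CommRing A] [CommRing B] [CommRing C]
    [Algebra A B] [Algebra B C] [Algebra A C] [IsScalarTower A B C] [Module.FaithfullyFlat B C]
    [Module.Flat A C] : Module.Flat A B := by
  haveI : Module.Flat A (C ⊗[B] B) :=
    Module.Flat.of_linearEquiv ((TensorProduct.rid B C).restrictScalars A)
  exact Groth.Agent.Lib.helper17.FlatBC.flat_of_flat_tensor A B C B

/-- dimension inequality for local homomorphisms of Noetherian local rings. -/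
theorem ringKrullDim_le_add' (R S : Type u) [CommRing R] [CommRing S] [IsLocalRing R]
    [IsLocalRing S] [IsNoetherianRing R] [IsNoetherianRing S] [Algebra R S]
    [IsLocalHom (algebraMap R S)] :
    ringKrullDim S ≤ ringKrullDim R +
      ringKrullDim (S ⧸ (maximalIdeal R).map (algebraMap R S)) := by
  letI := Groth.Agent.Lib.Helper24.FlatDimFormula.isLocalRing_quotient R S
  have hlies : (maximalIdeal S).LiesOver (maximalIdeal R) :=
    ⟨(IsLocalRing.maximalIdeal_comap (algebraMap R S)).symm⟩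
  have h := Ideal.height_le_height_add_of_liesOver (maximalIdeal R) (maximalIdeal S)
  rw [← Groth.Agent.Lib.Helper24.FlatDimFormula.maximalIdeal_quotient R S] at h
  rw [← IsLocalRing.maximalIdeal_height_eq_ringKrullDim,
    ← IsLocalRing.maximalIdeal_height_eq_ringKrullDim,
    ← IsLocalRing.maximalIdeal_height_eq_ringKrullDim, ← WithBot.coe_add]
  exact_mod_cast h

section

variable (A B C : Type u) [CommRing A] [CommRing B] [CommRing C]
  [Algebra A B] [Algebra B C] [Algebra A C] [IsScalarTower A B C]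
  [IsLocalRing A] [IsLocalRing B] [IsLocalRing C]
  [IsLocalHom (algebraMap A B)] [IsLocalHom (algebraMap B C)]

/-- the ideal `m_A B` -/
def IB : Ideal B := (maximalIdeal A).map (algebraMap A B)

theorem IB_ne_top : IB A B ≠ ⊤ :=
  ne_top_of_le_ne_top (maximalIdeal.isMaximal B).ne_top
    (((IsLocalRing.local_hom_TFAE (algebraMap A B)).out 0 2 rfl rfl).mp inferInstance)

theorem map_IB : (IB A B).map (algebraMap B C) = (maximalIdeal A).map (algebraMap A C) := by
  rw [IB, Ideal.map_map, ← IsScalarTower.algebraMap_eq]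

instance : Nontrivial (B ⧸ IB A B) := Ideal.Quotient.nontrivial_iff.mpr (IB_ne_top A B)

instance : IsLocalRing (B ⧸ IB A B) :=
  IsLocalRing.of_surjective' (Ideal.Quotient.mk _) Ideal.Quotient.mk_surjective

theorem map_IB_ne_top : (IB A B).map (algebraMap B C) ≠ ⊤ :=
  Groth.Agent.Lib.Helper24.FlatQuot.map_ne_top B C (IB A B) (IB_ne_top A B)

instance : Nontrivial (C ⧸ (IB A B).map (algebraMap B C)) :=
  Ideal.Quotient.nontrivial_iff.mpr (map_IB_ne_top A B C)

instance : IsLocalRing (C ⧸ (IB A B).map (algebraMap B C)) :=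
  IsLocalRing.of_surjective' (Ideal.Quotient.mk _) Ideal.Quotient.mk_surjective

theorem maximalIdeal_quot : maximalIdeal (B ⧸ IB A B) =
    (maximalIdeal B).map (Ideal.Quotient.mk (IB A B)) := by
  symm
  apply IsLocalRing.eq_maximalIdeal
  refine Ideal.IsMaximal.map_of_surjective_of_ker_le Ideal.Quotient.mk_surjective ?_
  rw [Ideal.mk_ker]
  exact IsLocalRing.le_maximalIdeal (IB_ne_top A B)

/-- `(C/m_A C)/(m_{B/m_A B}) ≅ C/m_B C`. -/
noncomputable def e2 : ((C ⧸ (IB A B).map (algebraMap B C)) ⧸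
      (maximalIdeal (B ⧸ IB A B)).map
        (algebraMap (B ⧸ IB A B) (C ⧸ (IB A B).map (algebraMap B C)))) ≃+*
      (C ⧸ (maximalIdeal B).map (algebraMap B C)) :=
  have hmap : (maximalIdeal (B ⧸ IB A B)).map
        (algebraMap (B ⧸ IB A B) (C ⧸ (IB A B).map (algebraMap B C))) =
      ((maximalIdeal B).map (algebraMap B C)).map
        (Ideal.Quotient.mk ((IB A B).map (algebraMap B C))) := by
    rw [maximalIdeal_quot, Ideal.map_map, Ideal.map_map]
    rfl
  have hle : (IB A B).map (algebraMap B C) ≤ (maximalIdeal B).map (algebraMap B C) :=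
    Ideal.map_mono (IsLocalRing.le_maximalIdeal (IB_ne_top A B))
  (Ideal.quotEquivOfEq hmap).trans (DoubleQuot.quotQuotEquivQuotOfLE hle)

/-- `C/m_A C` written with `IB`. -/
noncomputable def e1 : (C ⧸ (IB A B).map (algebraMap B C)) ≃+*
    (C ⧸ (maximalIdeal A).map (algebraMap A C)) :=
  Ideal.quotEquivOfEq (map_IB A B C)

variable [Module.Flat B C]

/-- If `B/m_A B` and `C/m_B C` are CM and `C/m_A C` is Noetherian then `C/m_A C` is CM. -/
theorem cm_fibre_comp
    (hB : LocCoh.IsCohenMacaulayLocalRing (B ⧸ (maximalIdeal A).map (algebraMap A B)))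
    (hC : LocCoh.IsCohenMacaulayLocalRing (C ⧸ (maximalIdeal B).map (algebraMap B C)))
    (hN : IsNoetherianRing (C ⧸ (maximalIdeal A).map (algebraMap A C))) :
    LocCoh.IsCohenMacaulayLocalRing (C ⧸ (maximalIdeal A).map (algebraMap A C)) := by
  haveI : IsNoetherianRing (C ⧸ (IB A B).map (algebraMap B C)) :=
    isNoetherianRing_of_ringEquiv _ (e1 A B C).symm
  haveI : IsNoetherianRing (B ⧸ IB A B) := by haveI := hB; exact inferInstanceAs (IsNoetherianRing (B ⧸ (maximalIdeal A).map (algebraMap A B)))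
  haveI := Groth.Agent.Lib.Helper24.FlatQuot.flat_quotient B C (IB A B)
  haveI := Groth.Agent.Lib.Helper24.FlatQuot.isLocalHom_quotient B C (IB A B) (IB_ne_top A B)
  have h1 : LocCoh.IsCohenMacaulayLocalRing ((C ⧸ (IB A B).map (algebraMap B C)) ⧸
      (maximalIdeal (B ⧸ IB A B)).map
        (algebraMap (B ⧸ IB A B) (C ⧸ (IB A B).map (algebraMap B C)))) :=
    Groth.Agent.S9808.cm_of_ringEquiv (e2 A B C).symm
  have h2 := (Groth.Agent.Lib.Helper24.FlatDepth.cm_iff_of_flat (B ⧸ IB A B)
    (C ⧸ (IB A B).map (algebraMap B C))).mpr ⟨hB, h1⟩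
  exact Groth.Agent.S9808.cm_of_ringEquiv (e1 A B C)

/-- If `C/m_A C` is CM and `B/m_A B` is Noetherian, then `B/m_A B` and `C/m_B C` are CM. -/
theorem cm_fibre_of_comp
    (hAC : LocCoh.IsCohenMacaulayLocalRing (C ⧸ (maximalIdeal A).map (algebraMap A C)))
    (hN : IsNoetherianRing (B ⧸ (maximalIdeal A).map (algebraMap A B))) :
    LocCoh.IsCohenMacaulayLocalRing (B ⧸ (maximalIdeal A).map (algebraMap A B)) ∧
      LocCoh.IsCohenMacaulayLocalRing (C ⧸ (maximalIdeal B).map (algebraMap B C)) := by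
  haveI h0 : LocCoh.IsCohenMacaulayLocalRing (C ⧸ (IB A B).map (algebraMap B C)) :=
    Groth.Agent.S9808.cm_of_ringEquiv (e1 A B C).symm
  haveI : IsNoetherianRing (C ⧸ (IB A B).map (algebraMap B C)) := inferInstance
  haveI : IsNoetherianRing (B ⧸ IB A B) := hN
  haveI := Groth.Agent.Lib.Helper24.FlatQuot.flat_quotient B C (IB A B)
  haveI := Groth.Agent.Lib.Helper24.FlatQuot.isLocalHom_quotient B C (IB A B) (IB_ne_top A B)
  obtain ⟨h1, h2⟩ := (Groth.Agent.Lib.Helper24.FlatDepth.cm_iff_of_flat (B ⧸ IB A B)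
    (C ⧸ (IB A B).map (algebraMap B C))).mp h0
  exact ⟨h1, Groth.Agent.S9808.cm_of_ringEquiv (e2 A B C)⟩

/-- for `B → C` flat local: `dim B/m_A B ≤ dim C/m_A C`. -/
theorem dim_fibre_le_of_flat
    (hNB : IsNoetherianRing (B ⧸ (maximalIdeal A).map (algebraMap A B)))
    (hNC : IsNoetherianRing (C ⧸ (maximalIdeal A).map (algebraMap A C))) :
    ringKrullDim (B ⧸ (maximalIdeal A).map (algebraMap A B)) ≤
      ringKrullDim (C ⧸ (maximalIdeal A).map (algebraMap A C)) := by
  haveI : IsNoetherianRing (C ⧸ (IB A B).map (algebraMap B C)) :=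
    isNoetherianRing_of_ringEquiv _ (e1 A B C).symm
  haveI : IsNoetherianRing (B ⧸ IB A B) := hNB
  haveI := Groth.Agent.Lib.Helper24.FlatQuot.flat_quotient B C (IB A B)
  haveI := Groth.Agent.Lib.Helper24.FlatQuot.isLocalHom_quotient B C (IB A B) (IB_ne_top A B)
  have h := Groth.Agent.Lib.Helper24.FlatDimFormula.ringKrullDim_eq_add_of_flat (B ⧸ IB A B)
    (C ⧸ (IB A B).map (algebraMap B C))
  rw [← ringKrullDim_eq_of_ringEquiv (e1 A B C), h]
  haveI := Groth.Agent.Lib.Helper24.FlatDimFormula.isLocalRing_quotient (B ⧸ IB A B)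
    (C ⧸ (IB A B).map (algebraMap B C))
  exact le_add_of_nonneg_right ringKrullDim_nonneg_of_nontrivial

end

section NoFlat

variable (A B C : Type u) [CommRing A] [CommRing B] [CommRing C]
  [Algebra A B] [Algebra B C] [Algebra A C] [IsScalarTower A B C]
  [IsLocalRing A] [IsLocalRing B] [IsLocalRing C]
  [IsLocalHom (algebraMap A B)] [IsLocalHom (algebraMap B C)]

/-- without flatness: `dim C/m_A C ≤ dim B/m_A B + dim C/m_B C`. -/
theorem dim_fibre_le_add
    (hNB : IsNoetherianRing (B ⧸ (maximalIdeal A).map (algebraMap A B)))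
    (hNC : IsNoetherianRing (C ⧸ (maximalIdeal A).map (algebraMap A C))) :
    ringKrullDim (C ⧸ (maximalIdeal A).map (algebraMap A C)) ≤
      ringKrullDim (B ⧸ (maximalIdeal A).map (algebraMap A B)) +
        ringKrullDim (C ⧸ (maximalIdeal B).map (algebraMap B C)) := by
  haveI : IsNoetherianRing (C ⧸ (IB A B).map (algebraMap B C)) :=
    isNoetherianRing_of_ringEquiv _ (e1 A B C).symm
  haveI : IsNoetherianRing (B ⧸ IB A B) := hNB
  haveI := Groth.Agent.Lib.Helper24.FlatQuot.isLocalHom_quotient B C (IB A B) (IB_ne_top A B)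
  have h := ringKrullDim_le_add' (B ⧸ IB A B) (C ⧸ (IB A B).map (algebraMap B C))
  rw [← ringKrullDim_eq_of_ringEquiv (e1 A B C), ← ringKrullDim_eq_of_ringEquiv (e2 A B C)]
  exact h

end NoFlat

section BC

variable (B B' : Type u) [CommRing B] [CommRing B'] [Algebra B B'] [IsLocalRing B] [IsLocalRing B']
  [IsLocalHom (algebraMap B B')]

/-- `B → B'` local, `I ⊆ B`, `I' ⊆ B'` proper with `I B' ⊆ I'`. If `B'/m_B B'` has dimension `≤ 0`
then `dim B'/I' ≤ dim B/I`. -/
theorem dim_quot_le_of_fibre_dim_zero (I : Ideal B) (I' : Ideal B') (hI : I ≠ ⊤) (hI' : I' ≠ ⊤)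
    (hle : I.map (algebraMap B B') ≤ I') [IsNoetherianRing (B ⧸ I)] [IsNoetherianRing (B' ⧸ I')]
    (h0 : ringKrullDim (B' ⧸ (maximalIdeal B).map (algebraMap B B')) ≤ 0) :
    ringKrullDim (B' ⧸ I') ≤ ringKrullDim (B ⧸ I) := by
  letI : Algebra (B ⧸ I) (B' ⧸ I') :=
    (Ideal.quotientMap I' (algebraMap B B') (Ideal.map_le_iff_le_comap.mp hle)).toAlgebra
  have halg : ∀ b : B, algebraMap (B ⧸ I) (B' ⧸ I') (Ideal.Quotient.mk I b) =
      Ideal.Quotient.mk I' (algebraMap B B' b) := fun b => rfl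
  haveI : Nontrivial (B ⧸ I) := Ideal.Quotient.nontrivial_iff.mpr hI
  haveI : Nontrivial (B' ⧸ I') := Ideal.Quotient.nontrivial_iff.mpr hI'
  haveI : IsLocalRing (B ⧸ I) := .of_surjective' _ Ideal.Quotient.mk_surjective
  haveI : IsLocalRing (B' ⧸ I') := .of_surjective' _ Ideal.Quotient.mk_surjective
  haveI hq' : IsLocalHom (Ideal.Quotient.mk I') :=
    IsLocalHom.of_surjective _ Ideal.Quotient.mk_surjective
  haveI hq : IsLocalHom (Ideal.Quotient.mk I) :=
    IsLocalHom.of_surjective _ Ideal.Quotient.mk_surjective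
  haveI : IsLocalHom (algebraMap (B ⧸ I) (B' ⧸ I')) := by
    constructor
    intro a ha
    obtain ⟨b, rfl⟩ := Ideal.Quotient.mk_surjective a
    rw [halg] at ha
    have h1 : IsUnit (algebraMap B B' b) := isUnit_of_map_unit (Ideal.Quotient.mk I') _ ha
    exact (isUnit_of_map_unit (algebraMap B B') b h1).map _
  have h := ringKrullDim_le_add' (B ⧸ I) (B' ⧸ I')
  set J : Ideal (B' ⧸ I') := (maximalIdeal (B ⧸ I)).map (algebraMap (B ⧸ I) (B' ⧸ I')) with hJ
  have hkill : ∀ t ∈ (maximalIdeal B).map (algebraMap B B'),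
      ((Ideal.Quotient.mk J).comp (Ideal.Quotient.mk I')) t = 0 := by
    intro t ht
    rw [RingHom.comp_apply, Ideal.Quotient.eq_zero_iff_mem]
    have : (maximalIdeal B).map (algebraMap B B') ≤ J.comap (Ideal.Quotient.mk I') := by
      rw [Ideal.map_le_iff_le_comap]
      intro b hb
      rw [Ideal.mem_comap, Ideal.mem_comap, ← halg]
      refine Ideal.mem_map_of_mem _ ?_
      rw [IsLocalRing.mem_maximalIdeal, mem_nonunits_iff] at hb ⊢
      intro hu
      exact hb (isUnit_of_map_unit (Ideal.Quotient.mk I) b hu)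
    exact this ht
  have hsurj : Function.Surjective (Ideal.Quotient.lift _ _ hkill) :=
    Ideal.Quotient.lift_surjective_of_surjective _ _
      (Ideal.Quotient.mk_surjective.comp Ideal.Quotient.mk_surjective)
  have h1 : ringKrullDim ((B' ⧸ I') ⧸ J) ≤ 0 :=
    (ringKrullDim_le_of_surjective _ hsurj).trans h0
  calc ringKrullDim (B' ⧸ I') ≤ ringKrullDim (B ⧸ I) + ringKrullDim ((B' ⧸ I') ⧸ J) := h
    _ ≤ ringKrullDim (B ⧸ I) + 0 := add_le_add_right h1 _
    _ = ringKrullDim (B ⧸ I) := add_zero _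

end BC

end Groth.Agent.Lib.helper17.CMComp
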