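import Mathlib
import Groth.Agent.Lib.Helper17.CMBaseChange
import Groth.Agent.Lib.Helper17.CMComp

/-!
# Descent of flatness / Cohen–Macaulayness of a morphism along a flat base change (helper17)
-/

set_option autoImplicit false
set_option linter.style.haveILetI false
universe u
open CategoryTheory CategoryTheory.Limits AlgebraicGeometry TopologicalSpace IsLocalRing

namespace Groth.Agent.Lib.helper17.CMBaseChange

variable {X Y X' Y' : Scheme.{u}} {f : X ⟶ Y} {f' : X' ⟶ Y'} {g' : X' ⟶ X} {g : Y' ⟶ Y}

/-- descent of flatness at a point along a flat base change. -/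
theorem flat_stalkMap_descent (hc : IsPullback g' f' f g) (x' : X')
    (hg : (g.stalkMap (f' x')).hom.Flat) (hg' : (g'.stalkMap x').hom.Flat)
    (h' : (f'.stalkMap x').hom.Flat) : (f.stalkMap (g' x')).hom.Flat := by
  have h1 : ((f' ≫ g).stalkMap x').hom.Flat := by
    rw [Scheme.Hom.stalkMap_comp]
    exact RingHom.Flat.comp hg h'
  have h2 : ((g' ≫ f).stalkMap x').hom.Flat := by
    rw [Scheme.Hom.stalkMap_congr_hom _ _ hc.w x']
    refine RingHom.Flat.comp (RingHom.Flat.of_bijective ?_) h1
    exact (ConcreteCategory.bijective_of_isIso _)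
  rw [Scheme.Hom.stalkMap_comp] at h2
  letI : Algebra (Y.presheaf.stalk (f (g' x'))) (X.presheaf.stalk (g' x')) :=
    (f.stalkMap (g' x')).hom.toAlgebra
  letI : Algebra (X.presheaf.stalk (g' x')) (X'.presheaf.stalk x') :=
    (g'.stalkMap x').hom.toAlgebra
  letI : Algebra (Y.presheaf.stalk (f (g' x'))) (X'.presheaf.stalk x') :=
    ((g'.stalkMap x').hom.comp (f.stalkMap (g' x')).hom).toAlgebra
  haveI : IsScalarTower (Y.presheaf.stalk (f (g' x'))) (X.presheaf.stalk (g' x'))
      (X'.presheaf.stalk x') := IsScalarTower.of_algebraMap_eq (fun _ => rfl)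
  haveI : Module.Flat (X.presheaf.stalk (g' x')) (X'.presheaf.stalk x') := hg'
  haveI : IsLocalHom (algebraMap (X.presheaf.stalk (g' x')) (X'.presheaf.stalk x')) :=
    inferInstanceAs (IsLocalHom (g'.stalkMap x').hom)
  haveI : Module.FaithfullyFlat (X.presheaf.stalk (g' x')) (X'.presheaf.stalk x') :=
    Module.FaithfullyFlat.of_flat_of_isLocalHom
  haveI : Module.Flat (Y.presheaf.stalk (f (g' x'))) (X'.presheaf.stalk x') := h2
  exact Groth.Agent.Lib.helper17.CMComp.flat_of_comp_of_faithfullyFlat
    (Y.presheaf.stalk (f (g' x'))) (X.presheaf.stalk (g' x')) (X'.presheaf.stalk x')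

end Groth.Agent.Lib.helper17.CMBaseChange
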