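import Mathlib
import Groth.Agent.Lib.Helper7.ModSES

/-!
# helper17: vanishing of `Ext^i(-, M)` on finite modules from vanishing on `A ⧸ p` / on the residue field
-/

set_option autoImplicit false
universe u

open CategoryTheory Abelian

namespace Groth.Agent.Lib.helper17.ExtPrime

variable {A : Type u} [CommRing A]

/-- `Ext` out of a zero module vanishes. -/
theorem subsingleton_ext_of_subsingleton (L : Type u) [AddCommGroup L] [Module A L] [Subsingleton L]
    (M : ModuleCat.{u} A) (i : ℕ) : Subsingleton (Ext (ModuleCat.of A L) M i) := by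
  refine ⟨fun a b => ?_⟩
  have h0 : ∀ e : Ext (ModuleCat.of A L) M i, e = 0 := by
    intro e
    have hid : 𝟙 (ModuleCat.of A L) = 0 := by
      ext x
      exact Subsingleton.elim _ _
    rw [← Ext.mk₀_id_comp e, hid, Ext.mk₀_zero, Ext.zero_comp]
  rw [h0 a, h0 b]

/-- `Ext` only depends on the isomorphism class of the first argument. -/
theorem subsingleton_ext_of_iso {X Y : ModuleCat.{u} A} (e : X ≅ Y) (M : ModuleCat.{u} A) (i : ℕ)
    (h : Subsingleton (Ext Y M i)) : Subsingleton (Ext X M i) := by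
  refine ⟨fun a b => ?_⟩
  have h0 : ∀ a : Ext X M i, a = 0 := by
    intro a
    have h1 : (Ext.mk₀ e.hom).comp ((Ext.mk₀ e.inv).comp a (zero_add i)) (zero_add i) = a := by
      rw [← Ext.comp_assoc_of_second_deg_zero, Ext.mk₀_comp_mk₀, e.hom_inv_id, Ext.mk₀_id_comp]
    rw [← h1, Subsingleton.elim ((Ext.mk₀ e.inv).comp a (zero_add i)) 0, Ext.comp_zero]
  rw [h0 a, h0 b]

/-- middle term of a short exact sequence. -/
theorem subsingleton_ext_of_shortExact {S : ShortComplex (ModuleCat.{u} A)} (hS : S.ShortExact)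
    (M : ModuleCat.{u} A) (i : ℕ) (h₁ : Subsingleton (Ext S.X₁ M i))
    (h₃ : Subsingleton (Ext S.X₃ M i)) : Subsingleton (Ext S.X₂ M i) := by
  refine ⟨fun a b => ?_⟩
  have h0 : ∀ a : Ext S.X₂ M i, a = 0 := by
    intro a
    obtain ⟨x, hx⟩ := Ext.contravariant_sequence_exact₂ hS M a (Subsingleton.elim _ _)
    rw [← hx, Subsingleton.elim x 0, Ext.comp_zero]
  rw [h0 a, h0 b]

variable [IsNoetherianRing A]

/-- vanishing of `Ext^i(-, M)` on finite modules killed by `J` follows from vanishing on `A ⧸ q`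
for the primes `q ⊇ J`. -/
theorem subsingleton_ext_of_primes (M : ModuleCat.{u} A) (i : ℕ) (J : Ideal A)
    (h : ∀ q : Ideal A, q.IsPrime → J ≤ q → Subsingleton (Ext (ModuleCat.of A (A ⧸ q)) M i))
    (L : Type u) [AddCommGroup L] [Module A L] [hfin : Module.Finite A L]
    (hL : J ≤ Module.annihilator A L) :
    Subsingleton (Ext (ModuleCat.of A L) M i) := by
  revert hL
  induction hfin using IsNoetherianRing.induction_on_isQuotientEquivQuotientPrime A with
  | subsingleton N =>
    intro _
    exact subsingleton_ext_of_subsingleton N M i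
  | quotient N p f =>
    intro hL
    have hJ : J ≤ p.1 := by
      have : Module.annihilator A N = p.1 := by
        rw [f.annihilator_eq, Ideal.annihilator_quotient]
      rwa [this] at hL
    exact subsingleton_ext_of_iso f.toModuleIso M i (h p.1 p.2 hJ)
  | exact N₁ N₂ N₃ f g hf hg hfg h₁ h₃ =>
    intro hL
    have hL₁ : J ≤ Module.annihilator A N₁ := by
      intro a ha
      rw [Module.mem_annihilator]
      intro n
      apply hf
      rw [map_smul, map_zero]
      exact Module.mem_annihilator.mp (hL ha) (f n)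
    have hL₃ : J ≤ Module.annihilator A N₃ := by
      intro a ha
      rw [Module.mem_annihilator]
      intro n
      obtain ⟨n', rfl⟩ := hg n
      rw [← map_smul, Module.mem_annihilator.mp (hL ha) n', map_zero]
    have hS := Groth.Agent.Lib.helper7.ModSES.mkSES_shortExact f g hfg hf hg
    exact subsingleton_ext_of_shortExact hS M i (h₁ hL₁) (h₃ hL₃)

/-- vanishing of `Ext^i(-, M)` on all finite modules follows from vanishing on all `A ⧸ q`. -/
theorem subsingleton_ext_of_primes' (M : ModuleCat.{u} A) (i : ℕ)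
    (h : ∀ q : Ideal A, q.IsPrime → Subsingleton (Ext (ModuleCat.of A (A ⧸ q)) M i))
    (L : Type u) [AddCommGroup L] [Module A L] [Module.Finite A L] :
    Subsingleton (Ext (ModuleCat.of A L) M i) :=
  subsingleton_ext_of_primes M i ⊥ (fun q hq _ => h q hq) L bot_le

end Groth.Agent.Lib.helper17.ExtPrime

namespace Groth.Agent.Lib.helper17.ExtPrime

variable {A : Type u} [CommRing A]

open IsLocalRing

/-- multiplication by `x` on `A ⧸ p`. -/
noncomputable def smulMap (p : Ideal A) (x : A) : (A ⧸ p) →ₗ[A] (A ⧸ p) :=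
  LinearMap.lsmul A (A ⧸ p) x

/-- the projection `A ⧸ p → A ⧸ (p ⊔ (x))`. -/
noncomputable def projMap (p : Ideal A) (x : A) : (A ⧸ p) →ₗ[A] (A ⧸ (p ⊔ Ideal.span {x})) :=
  Submodule.liftQ p (Submodule.mkQ (p ⊔ Ideal.span {x})) (by
    intro a ha
    rw [LinearMap.mem_ker, Submodule.mkQ_apply, Submodule.Quotient.mk_eq_zero]
    exact (le_sup_left : p ≤ p ⊔ Ideal.span {x}) ha)

theorem projMap_mk (p : Ideal A) (x : A) (a : A) :
    projMap p x (Submodule.Quotient.mk a) = Submodule.Quotient.mk a := rfl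

theorem smulMap_mk (p : Ideal A) (x : A) (a : A) :
    smulMap p x (Submodule.Quotient.mk a) = Submodule.Quotient.mk (x * a) := rfl

theorem smulMap_injective (p : Ideal A) [hp : p.IsPrime] (x : A) (hx : x ∉ p) :
    Function.Injective (smulMap p x) := by
  rw [injective_iff_map_eq_zero]
  intro y hy
  obtain ⟨a, rfl⟩ := Submodule.Quotient.mk_surjective _ y
  rw [smulMap_mk, Submodule.Quotient.mk_eq_zero] at hy
  rw [Submodule.Quotient.mk_eq_zero]
  exact (hp.mem_or_mem hy).resolve_left hx

theorem projMap_surjective (p : Ideal A) (x : A) : Function.Surjective (projMap p x) := by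
  intro y
  obtain ⟨a, rfl⟩ := Submodule.Quotient.mk_surjective _ y
  exact ⟨Submodule.Quotient.mk a, projMap_mk p x a⟩

theorem smul_proj_exact (p : Ideal A) (x : A) : Function.Exact (smulMap p x) (projMap p x) := by
  intro y
  obtain ⟨a, rfl⟩ := Submodule.Quotient.mk_surjective _ y
  rw [projMap_mk, Submodule.Quotient.mk_eq_zero]
  constructor
  · intro ha
    rw [Submodule.mem_sup] at ha
    obtain ⟨b, hb, c, hc, rfl⟩ := ha
    obtain ⟨c', rfl⟩ := Ideal.mem_span_singleton'.mp hc
    refine ⟨Submodule.Quotient.mk c', ?_⟩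
    rw [smulMap_mk, eq_comm, ← sub_eq_zero, ← Submodule.Quotient.mk_sub,
      Submodule.Quotient.mk_eq_zero]
    have : b + c' * x - x * c' = b := by ring
    rw [this]; exact hb
  · rintro ⟨z, hz⟩
    obtain ⟨c, rfl⟩ := Submodule.Quotient.mk_surjective _ z
    rw [smulMap_mk] at hz
    have h1 : x * c - a ∈ p := by
      rw [← Submodule.Quotient.mk_eq_zero, Submodule.Quotient.mk_sub, hz, sub_self]
    have h2 : x * c ∈ p ⊔ Ideal.span {x} :=
      Ideal.mem_sup_right (Ideal.mul_mem_right _ _ (Ideal.mem_span_singleton_self _))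
    have : a = x * c - (x * c - a) := by ring
    rw [this]
    exact (p ⊔ Ideal.span {x}).sub_mem h2 ((le_sup_left : p ≤ p ⊔ Ideal.span {x}) h1)

/-- the short complex `A ⧸ p --x--> A ⧸ p → A ⧸ (p ⊔ (x))`. -/
noncomputable def smulSES (p : Ideal A) (x : A) : ShortComplex (ModuleCat.{u} A) :=
  Groth.Agent.Lib.helper7.ModSES.mkSES (smulMap p x) (projMap p x) (smul_proj_exact p x)

theorem smulSES_shortExact (p : Ideal A) [p.IsPrime] (x : A) (hx : x ∉ p) :
    (smulSES p x).ShortExact :=
  Groth.Agent.Lib.helper7.ModSES.mkSES_shortExact _ _ (smul_proj_exact p x)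
    (smulMap_injective p x hx) (projMap_surjective p x)

theorem smulSES_f_comp (p : Ideal A) (x : A) (M : ModuleCat.{u} A) (i : ℕ)
    (e : Ext (ModuleCat.of A (A ⧸ p)) M i) :
    (Ext.mk₀ (smulSES p x).f).comp e (zero_add i) = x • e := by
  show (Ext.mk₀ (ModuleCat.ofHom (smulMap p x))).comp e (zero_add i) = x • e
  have hfx : ModuleCat.ofHom (smulMap p x) = x • 𝟙 (ModuleCat.of A (A ⧸ p)) := by
    ext y
    rfl
  rw [hfx, Ext.mk₀_smul, Ext.smul_comp, Ext.mk₀_id_comp]

variable [IsNoetherianRing A]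

/-- the basic step of Bass' lemma: for `x ∈ m \ p`, `Ext^{i+1}(A ⧸ (p ⊔ (x)), M) = 0` implies
`Ext^i(A ⧸ p, M) = 0` (`M` finite). -/
theorem subsingleton_ext_quotient_prime_step [IsLocalRing A] (M : ModuleCat.{u} A)
    [Module.Finite A M] (p : Ideal A) [p.IsPrime] (x : A) (hxm : x ∈ maximalIdeal A) (hxp : x ∉ p)
    (i : ℕ)
    (hq : Subsingleton (Ext (ModuleCat.of A (A ⧸ (p ⊔ Ideal.span {x}))) M (1 + i))) :
    Subsingleton (Ext (ModuleCat.of A (A ⧸ p)) M i) := by
  have hS := smulSES_shortExact p x hxp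
  have hsurj : ∀ e : Ext (ModuleCat.of A (A ⧸ p)) M i,
      ∃ e' : Ext (ModuleCat.of A (A ⧸ p)) M i, x • e' = e := by
    intro e
    have : Subsingleton (Ext (smulSES p x).X₃ M (1 + i)) := hq
    obtain ⟨e', he'⟩ := Ext.contravariant_sequence_exact₁ hS M (show Ext (smulSES p x).X₁ M i from e)
      (rfl : 1 + i = 1 + i) (Subsingleton.elim _ _)
    exact ⟨e', (smulSES_f_comp p x M i e').symm.trans he'⟩
  have : Module.Finite A (Ext (ModuleCat.of A (A ⧸ p)) M i) := ModuleCat.finite_ext A _ _ i
  have htop : (⊤ : Submodule A (Ext (ModuleCat.of A (A ⧸ p)) M i)) = ⊥ := by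
    refine Submodule.eq_bot_of_le_smul_of_le_jacobson_bot (Ideal.span {x}) ⊤
      Module.Finite.fg_top ?_ ?_
    · intro e _
      obtain ⟨e', rfl⟩ := hsurj e
      exact Submodule.smul_mem_smul (Ideal.mem_span_singleton_self x) Submodule.mem_top
    · rw [Ideal.span_le, Set.singleton_subset_iff]
      exact (IsLocalRing.maximalIdeal_le_jacobson ⊥) hxm
  exact ⟨fun a b => by
    have ha : a ∈ (⊥ : Submodule A _) := htop ▸ Submodule.mem_top
    have hb : b ∈ (⊥ : Submodule A _) := htop ▸ Submodule.mem_top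
    rw [(Submodule.mem_bot A).mp ha, (Submodule.mem_bot A).mp hb]⟩

/-- **Bass' lemma**: over a Noetherian local ring, if `Ext^i(k, M) = 0` for all `i ≥ N` (`M` finite),
then `Ext^i(A ⧸ p, M) = 0` for all primes `p` and all `i ≥ N`. -/
theorem subsingleton_ext_quotient_prime [IsLocalRing A] (M : ModuleCat.{u} A) [Module.Finite A M]
    (N : ℕ)
    (h : ∀ i : ℕ, N ≤ i → Subsingleton (Ext (ModuleCat.of A (ResidueField A)) M i)) :
    ∀ p : Ideal A, p.IsPrime → ∀ i : ℕ, N ≤ i → Subsingleton (Ext (ModuleCat.of A (A ⧸ p)) M i) := by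
  intro p
  induction p using IsNoetherian.induction with
  | hgt p ih =>
    intro hp i hi
    by_cases hpm : p = maximalIdeal A
    · subst hpm
      exact h i hi
    · -- pick `x ∈ m \ p`
      have hlt : p < maximalIdeal A := lt_of_le_of_ne (le_maximalIdeal hp.ne_top) hpm
      obtain ⟨x, hxm, hxp⟩ := Set.exists_of_ssubset hlt
      have hS := smulSES_shortExact p x hxp
      -- vanishing for the quotient
      have hq : ∀ j : ℕ, N ≤ j →
          Subsingleton (Ext (ModuleCat.of A (A ⧸ (p ⊔ Ideal.span {x}))) M j) := by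
        intro j hj
        refine subsingleton_ext_of_primes M j (p ⊔ Ideal.span {x}) (fun q hq hle => ?_)
          (A ⧸ (p ⊔ Ideal.span {x})) (by rw [Ideal.annihilator_quotient])
        have hpq : p < q := by
          refine lt_of_le_of_ne (le_trans le_sup_left hle) ?_
          rintro rfl
          exact hxp (hle (Ideal.mem_sup_right (Ideal.mem_span_singleton_self x)))
        exact ih q hpq hq j hj
      -- multiplication by `x` is surjective on `Ext^i(A ⧸ p, M)`
      have hsurj : ∀ e : Ext (ModuleCat.of A (A ⧸ p)) M i,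
          ∃ e' : Ext (ModuleCat.of A (A ⧸ p)) M i, x • e' = e := by
        intro e
        have : Subsingleton (Ext (smulSES p x).X₃ M (1 + i)) := hq (1 + i) (by omega)
        obtain ⟨e', he'⟩ := Ext.contravariant_sequence_exact₁ hS M (show Ext (smulSES p x).X₁ M i from e)
          (rfl : 1 + i = 1 + i) (Subsingleton.elim _ _)
        exact ⟨e', (smulSES_f_comp p x M i e').symm.trans he'⟩
      -- Nakayama
      have : Module.Finite A (Ext (ModuleCat.of A (A ⧸ p)) M i) := ModuleCat.finite_ext A _ _ i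
      have htop : (⊤ : Submodule A (Ext (ModuleCat.of A (A ⧸ p)) M i)) = ⊥ := by
        refine Submodule.eq_bot_of_le_smul_of_le_jacobson_bot (Ideal.span {x}) ⊤
          Module.Finite.fg_top ?_ ?_
        · intro e _
          obtain ⟨e', rfl⟩ := hsurj e
          exact Submodule.smul_mem_smul (Ideal.mem_span_singleton_self x) Submodule.mem_top
        · rw [Ideal.span_le, Set.singleton_subset_iff]
          exact (IsLocalRing.maximalIdeal_le_jacobson ⊥) hxm
      exact ⟨fun a b => by
        have ha : a ∈ (⊥ : Submodule A _) := htop ▸ Submodule.mem_top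
        have hb : b ∈ (⊥ : Submodule A _) := htop ▸ Submodule.mem_top
        rw [(Submodule.mem_bot A).mp ha, (Submodule.mem_bot A).mp hb]⟩

/-- if `Ext^i(k, M) = 0` for all `i ≥ N` (`M` finite over Noetherian local `A`) then
`Ext^i(L, M) = 0` for every finite `L` and all `i ≥ N`. -/
theorem subsingleton_ext_of_residueField [IsLocalRing A] (M : ModuleCat.{u} A) [Module.Finite A M]
    (N : ℕ)
    (h : ∀ i : ℕ, N ≤ i → Subsingleton (Ext (ModuleCat.of A (ResidueField A)) M i))
    (L : Type u) [AddCommGroup L] [Module A L] [Module.Finite A L] (i : ℕ) (hi : N ≤ i) :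
    Subsingleton (Ext (ModuleCat.of A L) M i) :=
  subsingleton_ext_of_primes' M i
    (fun q hq => subsingleton_ext_quotient_prime M N h q hq i hi) L

end Groth.Agent.Lib.helper17.ExtPrime
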