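import Mathlib
import Groth.Agent.Lib.Helper7.ModSES

/-!
# helper17: Rees' change of rings for `Ext` into the ring, vanishing form

For `x` a nonzerodivisor of `A`, `B = A ⧸ (x)` and a finite `B`-module `N`:
`Ext^{i+1}_A(N, A) = 0 ↔ Ext^i_B(N, B) = 0` (`i ≥ 1`), via dimension shifting and the natural
bijection `Hom_B(N, B) ≃ Ext^1_A(N, A)`.
-/

set_option autoImplicit false
universe u

open CategoryTheory Abelian

namespace Groth.Agent.Lib.helper17.ReesCoR

variable {A : Type u} [CommRing A] (x : A)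

/-- restriction of scalars along `A → A ⧸ (x)`. -/
noncomputable abbrev R : ModuleCat.{u} (A ⧸ Ideal.span {x}) ⥤ ModuleCat.{u} A :=
  ModuleCat.restrictScalars (Ideal.Quotient.mk (Ideal.span {x}))

theorem smul_R (N : ModuleCat.{u} (A ⧸ Ideal.span {x})) (a : A) (n : (R x).obj N) :
    a • n = (Ideal.Quotient.mk (Ideal.span {x}) a • (show N from n) : N) := rfl

/-- `x` kills every restricted module. -/
theorem smul_id_R (N : ModuleCat.{u} (A ⧸ Ideal.span {x})) : x • 𝟙 ((R x).obj N) = 0 := by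
  ext n
  show x • n = 0
  rw [smul_R]
  have : Ideal.Quotient.mk (Ideal.span {x}) x = 0 :=
    Ideal.Quotient.eq_zero_iff_mem.mpr (Ideal.mem_span_singleton_self x)
  rw [this, zero_smul]
  rfl

/-- no nonzero maps from a restricted module to `A`. -/
theorem hom_R_eq_zero (hx : IsSMulRegular A x) (N : ModuleCat.{u} (A ⧸ Ideal.span {x}))
    (χ : (R x).obj N ⟶ ModuleCat.of A A) : χ = 0 := by
  ext n
  apply hx
  show x • χ.hom n = x • (0 : A)
  rw [← map_smul]
  have : x • n = 0 := congrArg (fun f => f.hom n) (smul_id_R x N)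
  rw [this, map_zero, smul_zero]

/-- restriction of scalars along a quotient map is full. -/
theorem exists_map_eq {N N' : ModuleCat.{u} (A ⧸ Ideal.span {x})}
    (ψ : (R x).obj N ⟶ (R x).obj N') : ∃ φ : N ⟶ N', (R x).map φ = ψ := by
  refine ⟨ModuleCat.ofHom
    { toFun := fun n => ψ.hom n
      map_add' := fun a b => map_add ψ.hom a b
      map_smul' := fun b n => ?_ }, ?_⟩
  · obtain ⟨a, rfl⟩ := Ideal.Quotient.mk_surjective b
    exact map_smul ψ.hom a (show ↑((R x).obj N) from n)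
  · ext n
    rfl

theorem map_injective {N N' : ModuleCat.{u} (A ⧸ Ideal.span {x})} (φ φ' : N ⟶ N')
    (h : (R x).map φ = (R x).map φ') : φ = φ' :=
  (R x).map_injective h


/-- the quotient map `A → R(B)` as an `A`-linear map. -/
noncomputable def quotMap : A →ₗ[A] ((R x).obj (ModuleCat.of (A ⧸ Ideal.span {x}) (A ⧸ Ideal.span {x}))) where
  toFun a := (Ideal.Quotient.mk (Ideal.span {x}) a : A ⧸ Ideal.span {x})
  map_add' a b := map_add (Ideal.Quotient.mk (Ideal.span {x})) a b
  map_smul' a b := by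
    show Ideal.Quotient.mk (Ideal.span {x}) (a * b) = _
    rw [map_mul]
    rfl

theorem quotMap_apply (a : A) :
    (quotMap x a : A ⧸ Ideal.span {x}) = Ideal.Quotient.mk (Ideal.span {x}) a := rfl

theorem quotMap_surjective : Function.Surjective (quotMap x) := by
  intro b
  obtain ⟨a, rfl⟩ := Ideal.Quotient.mk_surjective (show A ⧸ Ideal.span {x} from b)
  exact ⟨a, rfl⟩

theorem smul_quotMap_exact : Function.Exact (LinearMap.lsmul A A x) (quotMap x) := by
  intro a
  constructor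
  · intro h
    have h' : Ideal.Quotient.mk (Ideal.span {x}) a = 0 := h
    rw [Ideal.Quotient.eq_zero_iff_mem, Ideal.mem_span_singleton'] at h'
    obtain ⟨c, rfl⟩ := h'
    exact ⟨c, by simp [mul_comm]⟩
  · rintro ⟨c, rfl⟩
    show Ideal.Quotient.mk (Ideal.span {x}) (x • c) = 0
    rw [Ideal.Quotient.eq_zero_iff_mem, smul_eq_mul]
    exact Ideal.mul_mem_right _ _ (Ideal.mem_span_singleton_self x)

/-- the short complex `A --x--> A → R(B)`. -/
noncomputable def Sx : ShortComplex (ModuleCat.{u} A) :=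
  Groth.Agent.Lib.helper7.ModSES.mkSES (LinearMap.lsmul A A x) (quotMap x) (smul_quotMap_exact x)

theorem Sx_shortExact (hx : IsSMulRegular A x) : (Sx x).ShortExact :=
  Groth.Agent.Lib.helper7.ModSES.mkSES_shortExact _ _ (smul_quotMap_exact x)
    (fun a b h => hx h) (quotMap_surjective x)

/-- multiplication by `x` on `A`, as a morphism. -/
noncomputable def xHom : ModuleCat.of A A ⟶ ModuleCat.of A A := x • 𝟙 (ModuleCat.of A A)

/-- the quotient map `A → R(B)`, as a morphism. -/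
noncomputable def qHom : ModuleCat.of A A ⟶
    (R x).obj (ModuleCat.of (A ⧸ Ideal.span {x}) (A ⧸ Ideal.span {x})) :=
  ModuleCat.ofHom (quotMap x)

theorem Sx_f : (Sx x).f = xHom x := by
  show ModuleCat.ofHom (LinearMap.lsmul A A x) = _
  ext
  simp [xHom]

/-- the class of `0 → A → A → B → 0` in `Ext^1_A(B, A)`. -/
noncomputable def extCl (hx : IsSMulRegular A x) :
    Ext ((R x).obj (ModuleCat.of (A ⧸ Ideal.span {x}) (A ⧸ Ideal.span {x}))) (ModuleCat.of A A) 1 :=
  (Sx_shortExact x hx).extClass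

theorem cov_exact₃ (hx : IsSMulRegular A x) {X : ModuleCat.{u} A} {n₀ : ℕ}
    (ψ : Ext X ((R x).obj (ModuleCat.of (A ⧸ Ideal.span {x}) (A ⧸ Ideal.span {x}))) n₀)
    {n₁ : ℕ} (hn : n₀ + 1 = n₁) (h : ψ.comp (extCl x hx) hn = 0) :
    ∃ χ : Ext X (ModuleCat.of A A) n₀, χ.comp (Ext.mk₀ (qHom x)) (add_zero n₀) = ψ :=
  Ext.covariant_sequence_exact₃ X (Sx_shortExact x hx) ψ hn h

theorem cov_exact₁ (hx : IsSMulRegular A x) {X : ModuleCat.{u} A} {n₁ : ℕ}
    (e : Ext X (ModuleCat.of A A) n₁) (h : e.comp (Ext.mk₀ (xHom x)) (add_zero n₁) = 0)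
    {n₀ : ℕ} (hn : n₀ + 1 = n₁) :
    ∃ ψ : Ext X ((R x).obj (ModuleCat.of (A ⧸ Ideal.span {x}) (A ⧸ Ideal.span {x}))) n₀,
      ψ.comp (extCl x hx) hn = e := by
  refine Ext.covariant_sequence_exact₁ X (Sx_shortExact x hx) e ?_ hn
  rw [Sx_f]
  exact h

/-- the canonical map `Hom_B(N, B) → Ext^1_A(N, A)`. -/
noncomputable def Φ (hx : IsSMulRegular A x) (N : ModuleCat.{u} (A ⧸ Ideal.span {x}))
    (φ : N ⟶ ModuleCat.of (A ⧸ Ideal.span {x}) (A ⧸ Ideal.span {x})) :
    Ext ((R x).obj N) (ModuleCat.of A A) 1 :=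
  (Ext.mk₀ ((R x).map φ)).comp (extCl x hx) (zero_add 1)

theorem Φ_injective (hx : IsSMulRegular A x) (N : ModuleCat.{u} (A ⧸ Ideal.span {x})) :
    Function.Injective (Φ x hx N) := by
  intro φ φ' h
  have hsub : (Ext.mk₀ ((R x).map (φ - φ'))).comp (extCl x hx) (zero_add 1) = 0 := by
    rw [sub_eq_add_neg, Functor.map_add, Functor.map_neg, Ext.mk₀_add, Ext.mk₀_neg, Ext.add_comp,
      Ext.neg_comp, ← sub_eq_add_neg]
    exact sub_eq_zero.mpr h
  obtain ⟨χ, hχ⟩ := cov_exact₃ x hx _ (zero_add 1) hsub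
  obtain ⟨χ', rfl⟩ := (Ext.mk₀_bijective _ _).2 χ
  have h0 : χ' = 0 := hom_R_eq_zero x hx N χ'
  rw [h0, Ext.mk₀_zero, Ext.zero_comp] at hχ
  have h1 : (R x).map (φ - φ') = 0 := (Ext.mk₀_bijective _ _).1 (by rw [← hχ, Ext.mk₀_zero])
  have h2 : φ - φ' = 0 := map_injective x _ _ (by rw [h1, Functor.map_zero])
  exact sub_eq_zero.mp h2

theorem Φ_surjective (hx : IsSMulRegular A x) (N : ModuleCat.{u} (A ⧸ Ideal.span {x})) :
    Function.Surjective (Φ x hx N) := by
  intro e
  have h0 : e.comp (Ext.mk₀ (xHom x)) (add_zero 1) = 0 := by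
    unfold xHom
    rw [Ext.mk₀_smul, Ext.comp_smul, Ext.comp_mk₀_id]
    have : x • e = (Ext.mk₀ (x • 𝟙 ((R x).obj N))).comp e (zero_add 1) := by
      rw [Ext.mk₀_smul, Ext.smul_comp, Ext.mk₀_id_comp]
    rw [this, smul_id_R, Ext.mk₀_zero, Ext.zero_comp]
  obtain ⟨ψ, hψ⟩ := cov_exact₁ x hx e h0 (zero_add 1)
  obtain ⟨ψ', rfl⟩ := (Ext.mk₀_bijective _ _).2 ψ
  obtain ⟨φ, rfl⟩ := exists_map_eq x ψ'
  exact ⟨φ, hψ⟩

/-- naturality of `Φ`. -/
theorem Φ_comp (hx : IsSMulRegular A x) {N N' : ModuleCat.{u} (A ⧸ Ideal.span {x})} (u : N' ⟶ N)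
    (φ : N ⟶ ModuleCat.of (A ⧸ Ideal.span {x}) (A ⧸ Ideal.span {x})) :
    Φ x hx N' (u ≫ φ) = (Ext.mk₀ ((R x).map u)).comp (Φ x hx N φ) (zero_add 1) := by
  unfold Φ
  rw [Functor.map_comp, ← Ext.mk₀_comp_mk₀, Ext.comp_assoc_of_second_deg_zero]


section pd

/-- the reduction map `A^n → R(B^n)`. -/
noncomputable def redMap (n : ℕ) : (Fin n → A) →ₗ[A]
    ((R x).obj (ModuleCat.of (A ⧸ Ideal.span {x}) (Fin n → A ⧸ Ideal.span {x}))) where
  toFun v := (fun i => Ideal.Quotient.mk (Ideal.span {x}) (v i) : Fin n → A ⧸ Ideal.span {x})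
  map_add' v w := by
    funext i
    exact map_add (Ideal.Quotient.mk (Ideal.span {x})) (v i) (w i)
  map_smul' a v := by
    funext i
    show Ideal.Quotient.mk (Ideal.span {x}) (a * v i) = _
    rw [map_mul]
    rfl

theorem redMap_apply (n : ℕ) (v : Fin n → A) (i : Fin n) :
    (show Fin n → A ⧸ Ideal.span {x} from redMap x n v) i =
      Ideal.Quotient.mk (Ideal.span {x}) (v i) := rfl

theorem redMap_surjective (n : ℕ) : Function.Surjective (redMap x n) := by
  intro w
  have hw : ∀ i, ∃ a : A, Ideal.Quotient.mk (Ideal.span {x}) a =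
      (show Fin n → A ⧸ Ideal.span {x} from w) i := fun i => Ideal.Quotient.mk_surjective _
  choose v hv using hw
  exact ⟨v, funext hv⟩

theorem smul_redMap_exact (n : ℕ) :
    Function.Exact (LinearMap.lsmul A (Fin n → A) x) (redMap x n) := by
  intro v
  constructor
  · intro h
    have h' : ∀ i, ∃ c : A, c * x = v i := by
      intro i
      have hi : Ideal.Quotient.mk (Ideal.span {x}) (v i) = 0 :=
        congrFun (show (show Fin n → A ⧸ Ideal.span {x} from redMap x n v) = 0 from h) i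
      rwa [Ideal.Quotient.eq_zero_iff_mem, Ideal.mem_span_singleton'] at hi
    choose w hw using h'
    refine ⟨w, ?_⟩
    funext i
    simp [← hw i, mul_comm]
  · rintro ⟨w, rfl⟩
    show (show Fin n → A ⧸ Ideal.span {x} from redMap x n (x • w)) = 0
    funext i
    show Ideal.Quotient.mk (Ideal.span {x}) (x * w i) = 0
    rw [Ideal.Quotient.eq_zero_iff_mem]
    exact Ideal.mul_mem_right _ _ (Ideal.mem_span_singleton_self x)

theorem hasProjectiveDimensionLT_R_free (hx : IsSMulRegular A x) (n : ℕ) :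
    HasProjectiveDimensionLT
      ((R x).obj (ModuleCat.of (A ⧸ Ideal.span {x}) (Fin n → A ⧸ Ideal.span {x}))) 2 := by
  have hinj : Function.Injective (LinearMap.lsmul A (Fin n → A) x) := by
    intro v w h
    funext i
    exact hx (congrFun h i)
  have hS := Groth.Agent.Lib.helper7.ModSES.mkSES_shortExact _ _ (smul_redMap_exact x n) hinj
    (redMap_surjective x n)
  have hP : Projective (ModuleCat.of A (Fin n → A)) :=
    ModuleCat.projective_of_free (Pi.basisFun A (Fin n))
  have h1 : HasProjectiveDimensionLT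
      (Groth.Agent.Lib.helper7.ModSES.mkSES _ _ (smul_redMap_exact x n)).X₁ 1 := by
    change HasProjectiveDimensionLT (ModuleCat.of A (Fin n → A)) 1
    infer_instance
  have h2 : HasProjectiveDimensionLT
      (Groth.Agent.Lib.helper7.ModSES.mkSES _ _ (smul_redMap_exact x n)).X₂ (1 + 1) := by
    change HasProjectiveDimensionLT (ModuleCat.of A (Fin n → A)) (1 + 1)
    infer_instance
  exact hS.hasProjectiveDimensionLT_X₃ 1 h1 h2

end pd


/-- `B` as a module over itself. -/
abbrev BBx : ModuleCat.{u} (A ⧸ Ideal.span {x}) :=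
  ModuleCat.of (A ⧸ Ideal.span {x}) (A ⧸ Ideal.span {x})

variable (A) in
/-- `A` as a module over itself. -/
abbrev AAx : ModuleCat.{u} A := ModuleCat.of A A

section shifting

variable (hx : IsSMulRegular A x) {S : ShortComplex (ModuleCat.{u} (A ⧸ Ideal.span {x}))}
  (hS : S.ShortExact)

local notation "BB" => BBx x
local notation "AA" => AAx A

theorem eq_zero_of_subsingleton {C : Type*} [Category C] [Abelian C] [HasExt C] {X Y : C} {n : ℕ}
    (h : Subsingleton (Ext X Y n)) (e : Ext X Y n) : e = 0 := Subsingleton.elim _ _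

theorem extClass_comp_mk₀_f_comp {C : Type*} [Category C] [Abelian C] [HasExt C]
    {T : ShortComplex C} (hT : T.ShortExact) {Y : C} {n : ℕ} (α : Ext T.X₂ Y n) {m : ℕ}
    (hm : 1 + n = m) :
    hT.extClass.comp ((Ext.mk₀ T.f).comp α (zero_add n)) hm = 0 := by
  rw [← Ext.comp_assoc_of_second_deg_zero, hT.extClass_comp, Ext.zero_comp]

include hS in
theorem step_down (hP : Projective S.X₂) (hpd : HasProjectiveDimensionLT ((R x).obj S.X₂) 2)
    (i : ℕ) (hi : 1 ≤ i)
    (ih : Subsingleton (Ext ((R x).obj S.X₁) AA (i + 1)) → Subsingleton (Ext S.X₁ BB i))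
    (h3 : Subsingleton (Ext ((R x).obj S.X₃) AA (i + 2))) :
    Subsingleton (Ext S.X₃ BB (i + 1)) := by
  have hSA : (S.map (R x)).ShortExact := hS.map_of_exact (R x)
  -- (1)
  have h1 : Subsingleton (Ext ((R x).obj S.X₁) AA (i + 1)) := by
    refine ⟨fun a b => ?_⟩
    have h0 : ∀ e : Ext ((R x).obj S.X₁) AA (i + 1), e = 0 := by
      intro e
      obtain ⟨e₂, he₂⟩ := Ext.contravariant_sequence_exact₁ hSA AA e
        (show 1 + (i + 1) = i + 2 by omega) (Subsingleton.elim (h := h3) _ _)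
      haveI : HasProjectiveDimensionLT (S.map (R x)).X₂ 2 := hpd
      have : e₂ = 0 := e₂.eq_zero_of_hasProjectiveDimensionLT 2 (by omega)
      rw [← he₂, this, Ext.comp_zero]
      rfl
    rw [h0 a, h0 b]
  have h2 := ih h1
  refine ⟨fun a b => ?_⟩
  have h0 : ∀ e : Ext S.X₃ BB (i + 1), e = 0 := by
    intro e
    have hz : (Ext.mk₀ S.g).comp e (zero_add (i + 1)) = 0 := Ext.eq_zero_of_projective _
    obtain ⟨e₁, he₁⟩ := Ext.contravariant_sequence_exact₃ hS BB e hz
      (show 1 + i = i + 1 by omega)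
    rw [← he₁, Subsingleton.elim (h := h2) e₁ 0, Ext.comp_zero]
  rw [h0 a, h0 b]

include hS hx in
theorem base_down (hP : Projective S.X₂)
    (h3 : Subsingleton (Ext ((R x).obj S.X₃) AA 2)) :
    Subsingleton (Ext S.X₃ BB 1) := by
  have hSA : (S.map (R x)).ShortExact := hS.map_of_exact (R x)
  refine ⟨fun a b => ?_⟩
  have h0 : ∀ e : Ext S.X₃ BB 1, e = 0 := by
    intro e
    have hz : (Ext.mk₀ S.g).comp e (zero_add 1) = 0 := Ext.eq_zero_of_projective _
    obtain ⟨e₁, he₁⟩ := Ext.contravariant_sequence_exact₃ hS BB e hz (show 1 + 0 = 1 by omega)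
    obtain ⟨κ, rfl⟩ := (Ext.mk₀_bijective _ _).2 e₁
    obtain ⟨e', he'⟩ := Ext.contravariant_sequence_exact₁ hSA AA (Φ x hx S.X₁ κ)
      (show 1 + 1 = 2 by omega) (Subsingleton.elim (h := h3) _ _)
    obtain ⟨lam, rfl⟩ := Φ_surjective x hx S.X₂ e'
    have hκ : κ = S.f ≫ lam := by
      apply Φ_injective x hx S.X₁
      rw [Φ_comp]
      exact he'.symm
    rw [← he₁, hκ, ← Ext.mk₀_comp_mk₀, ← Ext.comp_assoc_of_second_deg_zero,
      ShortComplex.ShortExact.extClass_comp, Ext.zero_comp]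
  rw [h0 a, h0 b]

include hS in
theorem step_up (hP : Projective S.X₂) (hpd : HasProjectiveDimensionLT ((R x).obj S.X₂) 2)
    (i : ℕ) (hi : 1 ≤ i)
    (ih : Subsingleton (Ext S.X₁ BB i) → Subsingleton (Ext ((R x).obj S.X₁) AA (i + 1)))
    (h3 : Subsingleton (Ext S.X₃ BB (i + 1))) :
    Subsingleton (Ext ((R x).obj S.X₃) AA (i + 2)) := by
  have hSA : (S.map (R x)).ShortExact := hS.map_of_exact (R x)
  have h1 : Subsingleton (Ext S.X₁ BB i) := by
    refine ⟨fun a b => ?_⟩
    have h0 : ∀ e : Ext S.X₁ BB i, e = 0 := by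
      intro e
      obtain ⟨e₂, he₂⟩ := Ext.contravariant_sequence_exact₁ hS BB e
        (show 1 + i = i + 1 by omega) (Subsingleton.elim (h := h3) _ _)
      obtain ⟨j, rfl⟩ : ∃ j, i = j + 1 := ⟨i - 1, by omega⟩
      have : e₂ = 0 := Ext.eq_zero_of_projective _
      rw [← he₂, this, Ext.comp_zero]
    rw [h0 a, h0 b]
  have h2 := ih h1
  refine ⟨fun a b => ?_⟩
  have h0 : ∀ e : Ext ((R x).obj S.X₃) AA (i + 2), e = 0 := by
    intro e
    have hz : (Ext.mk₀ (S.map (R x)).g).comp e (zero_add (i + 2)) = 0 :=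
      Ext.eq_zero_of_hasProjectiveDimensionLT (X := (R x).obj S.X₂) _ 2 (by omega)
    obtain ⟨e₁, he₁⟩ := Ext.contravariant_sequence_exact₃ hSA AA e hz
      (show 1 + (i + 1) = i + 2 by omega)
    have he0 : e₁ = 0 := Subsingleton.elim (h := h2) _ _
    rw [← he₁, he0, Ext.comp_zero]
    rfl
  rw [h0 a, h0 b]

include hS hx in
theorem base_up (hP : Projective S.X₂) (hpd : HasProjectiveDimensionLT ((R x).obj S.X₂) 2)
    (h3 : Subsingleton (Ext S.X₃ BB 1)) :
    Subsingleton (Ext ((R x).obj S.X₃) AA 2) := by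
  have hSA : (S.map (R x)).ShortExact := hS.map_of_exact (R x)
  refine ⟨fun a b => ?_⟩
  have h0 : ∀ e : Ext ((R x).obj S.X₃) AA 2, e = 0 := by
    intro e
    have hz : (Ext.mk₀ (S.map (R x)).g).comp e (zero_add 2) = 0 :=
      Ext.eq_zero_of_hasProjectiveDimensionLT (X := (R x).obj S.X₂) _ 2 (by omega)
    obtain ⟨e₁, he₁⟩ := Ext.contravariant_sequence_exact₃ hSA AA e hz (show 1 + 1 = 2 by omega)
    obtain ⟨κ, hκ⟩ := Φ_surjective x hx S.X₁ e₁
    -- extend κ to X₂
    obtain ⟨lam', hlam'⟩ := Ext.contravariant_sequence_exact₁ hS BB (Ext.mk₀ κ)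
      (show 1 + 0 = 1 by omega) (Subsingleton.elim (h := h3) _ _)
    obtain ⟨lam, rfl⟩ := (Ext.mk₀_bijective _ _).2 lam'
    rw [Ext.mk₀_comp_mk₀] at hlam'
    have hκ' : κ = S.f ≫ lam := ((Ext.mk₀_bijective _ _).1 hlam').symm
    have he₁' : e₁ = (Ext.mk₀ (S.map (R x)).f).comp (Φ x hx S.X₂ lam) (zero_add 1) := by
      rw [← hκ, hκ', Φ_comp]
      rfl
    rw [← he₁, he₁']
    exact extClass_comp_mk₀_f_comp hSA _ _
  rw [h0 a, h0 b]

end shifting


section main

variable [IsNoetherianRing A] (hx : IsSMulRegular A x)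

include hx in
/-- **Rees, downwards**: `Ext^{i+1}_A(N, A) = 0 → Ext^i_B(N, B) = 0` for finite `B`-modules `N`,
`i ≥ 1`. -/
theorem down (i : ℕ) (hi : 1 ≤ i) :
    ∀ (N : Type u) [AddCommGroup N] [Module (A ⧸ Ideal.span {x}) N]
      [Module.Finite (A ⧸ Ideal.span {x}) N],
      Subsingleton (Ext ((R x).obj (ModuleCat.of (A ⧸ Ideal.span {x}) N)) (AAx A) (i + 1)) →
        Subsingleton (Ext (ModuleCat.of (A ⧸ Ideal.span {x}) N) (BBx x) i) := by
  induction i, hi using Nat.le_induction with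
  | base =>
    intro N _ _ _ h3
    obtain ⟨n, f, hf⟩ := Module.Finite.exists_fin' (A ⧸ Ideal.span {x}) N
    have hS := LinearMap.shortExact_shortComplexKer hf
    have hP : Projective f.shortComplexKer.X₂ := by
      change Projective (ModuleCat.of (A ⧸ Ideal.span {x}) (Fin n → A ⧸ Ideal.span {x}))
      exact ModuleCat.projective_of_free (Pi.basisFun (A ⧸ Ideal.span {x}) (Fin n))
    exact base_down x hx hS hP h3
  | succ i hi ih =>
    intro N _ _ _ h3
    obtain ⟨n, f, hf⟩ := Module.Finite.exists_fin' (A ⧸ Ideal.span {x}) N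
    have hS := LinearMap.shortExact_shortComplexKer hf
    have hP : Projective f.shortComplexKer.X₂ := by
      change Projective (ModuleCat.of (A ⧸ Ideal.span {x}) (Fin n → A ⧸ Ideal.span {x}))
      exact ModuleCat.projective_of_free (Pi.basisFun (A ⧸ Ideal.span {x}) (Fin n))
    have hpd : HasProjectiveDimensionLT ((R x).obj f.shortComplexKer.X₂) 2 :=
      hasProjectiveDimensionLT_R_free x hx n
    haveI : IsNoetherian (A ⧸ Ideal.span {x}) (Fin n → A ⧸ Ideal.span {x}) := inferInstance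
    haveI : Module.Finite (A ⧸ Ideal.span {x}) (LinearMap.ker f) :=
      Module.Finite.of_injective (LinearMap.ker f).subtype (LinearMap.ker f).injective_subtype
    exact step_down x hS hP hpd i hi (ih (LinearMap.ker f)) h3

include hx in
/-- **Rees, upwards**: `Ext^i_B(N, B) = 0 → Ext^{i+1}_A(N, A) = 0` for finite `B`-modules `N`,
`i ≥ 1`. -/
theorem up (i : ℕ) (hi : 1 ≤ i) :
    ∀ (N : Type u) [AddCommGroup N] [Module (A ⧸ Ideal.span {x}) N]
      [Module.Finite (A ⧸ Ideal.span {x}) N],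
      Subsingleton (Ext (ModuleCat.of (A ⧸ Ideal.span {x}) N) (BBx x) i) →
        Subsingleton (Ext ((R x).obj (ModuleCat.of (A ⧸ Ideal.span {x}) N)) (AAx A) (i + 1)) := by
  induction i, hi using Nat.le_induction with
  | base =>
    intro N _ _ _ h3
    obtain ⟨n, f, hf⟩ := Module.Finite.exists_fin' (A ⧸ Ideal.span {x}) N
    have hS := LinearMap.shortExact_shortComplexKer hf
    have hP : Projective f.shortComplexKer.X₂ := by
      change Projective (ModuleCat.of (A ⧸ Ideal.span {x}) (Fin n → A ⧸ Ideal.span {x}))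
      exact ModuleCat.projective_of_free (Pi.basisFun (A ⧸ Ideal.span {x}) (Fin n))
    have hpd : HasProjectiveDimensionLT ((R x).obj f.shortComplexKer.X₂) 2 :=
      hasProjectiveDimensionLT_R_free x hx n
    exact base_up x hx hS hP hpd h3
  | succ i hi ih =>
    intro N _ _ _ h3
    obtain ⟨n, f, hf⟩ := Module.Finite.exists_fin' (A ⧸ Ideal.span {x}) N
    have hS := LinearMap.shortExact_shortComplexKer hf
    have hP : Projective f.shortComplexKer.X₂ := by
      change Projective (ModuleCat.of (A ⧸ Ideal.span {x}) (Fin n → A ⧸ Ideal.span {x}))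
      exact ModuleCat.projective_of_free (Pi.basisFun (A ⧸ Ideal.span {x}) (Fin n))
    have hpd : HasProjectiveDimensionLT ((R x).obj f.shortComplexKer.X₂) 2 :=
      hasProjectiveDimensionLT_R_free x hx n
    haveI : IsNoetherian (A ⧸ Ideal.span {x}) (Fin n → A ⧸ Ideal.span {x}) := inferInstance
    haveI : Module.Finite (A ⧸ Ideal.span {x}) (LinearMap.ker f) :=
      Module.Finite.of_injective (LinearMap.ker f).subtype (LinearMap.ker f).injective_subtype
    exact step_up x hS hP hpd i hi (ih (LinearMap.ker f)) h3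

end main

end Groth.Agent.Lib.helper17.ReesCoR
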