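import Mathlib
import Groth.Agent.Lib.Helper17.ReesCoR
import Groth.Agent.Lib.Helper17.ExtPrime
import Groth.Agent.Lib.Helper26.GlobalDim

/-!
# helper17: injective dimension of `A` versus `A ⧸ (f)` for a regular element `f` of a Noetherian
local ring
-/

set_option autoImplicit false
universe u

open CategoryTheory Abelian IsLocalRing

namespace Groth.Agent.Lib.helper17.GorQuot

open Groth.Agent.Lib.helper17.ReesCoR

variable {A : Type u} [CommRing A] [IsLocalRing A] (f : A)

theorem isLocalRing_quot (hf : f ∈ maximalIdeal A) : IsLocalRing (A ⧸ Ideal.span {f}) := by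
  have hne : Ideal.span {f} ≠ ⊤ := by
    intro h
    have : (1 : A) ∈ maximalIdeal A := by
      have h1 : (1 : A) ∈ Ideal.span {f} := h ▸ Submodule.mem_top
      exact (Ideal.span_le.mpr (Set.singleton_subset_iff.mpr hf)) h1
    exact (Ideal.ne_top_iff_one _).mp (IsLocalRing.maximalIdeal.isMaximal A).ne_top this
  haveI := Ideal.Quotient.nontrivial_iff.mpr hne
  exact IsLocalRing.of_surjective' (Ideal.Quotient.mk (Ideal.span {f})) Ideal.Quotient.mk_surjective

theorem mk_mem_maximalIdeal_iff (hf : f ∈ maximalIdeal A) [IsLocalRing (A ⧸ Ideal.span {f})]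
    (a : A) : Ideal.Quotient.mk (Ideal.span {f}) a ∈ maximalIdeal (A ⧸ Ideal.span {f}) ↔
      a ∈ maximalIdeal A := by
  rw [mem_maximalIdeal, mem_maximalIdeal, mem_nonunits_iff, mem_nonunits_iff, not_iff_not]
  constructor
  · intro h
    by_contra hna
    have ha : a ∈ maximalIdeal A := hna
    obtain ⟨b, hb⟩ := h.exists_right_inv
    obtain ⟨b, rfl⟩ := Ideal.Quotient.mk_surjective b
    rw [← map_mul, ← map_one (Ideal.Quotient.mk (Ideal.span {f})), Ideal.Quotient.eq] at hb
    have h1 : a * b - 1 ∈ maximalIdeal A :=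
      (Ideal.span_le.mpr (Set.singleton_subset_iff.mpr hf)) hb
    have h2 : a * b ∈ maximalIdeal A := Ideal.mul_mem_right _ _ ha
    have h3 : (1 : A) ∈ maximalIdeal A := by
      have := (maximalIdeal A).sub_mem h2 h1
      simpa using this
    exact (Ideal.ne_top_iff_one _).mp (IsLocalRing.maximalIdeal.isMaximal A).ne_top h3
  · intro h
    exact h.map _

/-- the residue field of `A ⧸ (f)`, restricted to `A`, is the residue field of `A`. -/
noncomputable def resLin [IsLocalRing (A ⧸ Ideal.span {f})] : A →ₗ[A]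
    ((R f).obj (ModuleCat.of (A ⧸ Ideal.span {f}) (ResidueField (A ⧸ Ideal.span {f})))) where
  toFun a := (residue (A ⧸ Ideal.span {f}) (Ideal.Quotient.mk (Ideal.span {f}) a) :
    ResidueField (A ⧸ Ideal.span {f}))
  map_add' a b := by
    show residue _ (Ideal.Quotient.mk _ (a + b)) = residue _ _ + residue _ _
    rw [map_add, map_add]
    rfl
  map_smul' a b := by
    show residue _ (Ideal.Quotient.mk _ (a * b)) = _
    rw [map_mul, map_mul]
    rfl

theorem resLin_surjective [IsLocalRing (A ⧸ Ideal.span {f})] :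
    Function.Surjective (resLin f) := by
  intro y
  obtain ⟨b, rfl⟩ := residue_surjective
    (show ResidueField (A ⧸ Ideal.span {f}) from y)
  obtain ⟨a, rfl⟩ := Ideal.Quotient.mk_surjective b
  exact ⟨a, rfl⟩

theorem ker_resLin (hf : f ∈ maximalIdeal A) [IsLocalRing (A ⧸ Ideal.span {f})] :
    LinearMap.ker (resLin f) = (maximalIdeal A : Submodule A A) := by
  ext a
  rw [LinearMap.mem_ker]
  show residue _ (Ideal.Quotient.mk _ a) = 0 ↔ a ∈ maximalIdeal A
  rw [residue_eq_zero_iff, mk_mem_maximalIdeal_iff f hf]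

/-- `R(k_B) ≅ k_A`. -/
noncomputable def resIso (hf : f ∈ maximalIdeal A) [IsLocalRing (A ⧸ Ideal.span {f})] :
    ModuleCat.of A (ResidueField A) ≅
      (R f).obj (ModuleCat.of (A ⧸ Ideal.span {f}) (ResidueField (A ⧸ Ideal.span {f}))) :=
  ((Submodule.quotEquivOfEq _ _ (ker_resLin f hf).symm).trans
    ((resLin f).quotKerEquivOfSurjective (resLin_surjective f))).toModuleIso

variable [IsNoetherianRing A]

/-- `injdim_{A/f}(A/f) ≤ injdim_A(A) - 1`. -/
theorem injdim_quot (hreg : IsSMulRegular A f) (r : ℕ)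
    (h : HasInjectiveDimensionLT (ModuleCat.of A A) (r + 2)) :
    HasInjectiveDimensionLT (ModuleCat.of (A ⧸ Ideal.span {f}) (A ⧸ Ideal.span {f})) (r + 1) := by
  refine Groth.Agent.Lib.helper26.GlobalDim.hasInjectiveDimensionLT_of_ext_quotient r _ (fun J => ?_)
  refine down f hreg (r + 1) (by omega) ((A ⧸ Ideal.span {f}) ⧸ J) ?_
  exact HasInjectiveDimensionLT.subsingleton _ (r + 2) (r + 1 + 1) (by omega) _

/-- `injdim_A(A) ≤ injdim_{A/f}(A/f) + 1`. -/
theorem injdim_of_quot (hf : f ∈ maximalIdeal A) (hreg : IsSMulRegular A f)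
    [IsLocalRing (A ⧸ Ideal.span {f})] (r : ℕ)
    (h : HasInjectiveDimensionLT (ModuleCat.of (A ⧸ Ideal.span {f}) (A ⧸ Ideal.span {f})) (r + 1)) :
    HasInjectiveDimensionLT (ModuleCat.of A A) (r + 2) := by
  have hk : ∀ j : ℕ, r + 2 ≤ j →
      Subsingleton (Ext (ModuleCat.of A (ResidueField A)) (ModuleCat.of A A) j) := by
    intro j hj
    obtain ⟨i, rfl⟩ : ∃ i, j = i + 1 := ⟨j - 1, by omega⟩
    have h1 : Subsingleton (Ext (ModuleCat.of (A ⧸ Ideal.span {f})
        (ResidueField (A ⧸ Ideal.span {f}))) (BBx f) i) :=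
      HasInjectiveDimensionLT.subsingleton _ (r + 1) i (by omega) _
    have h2 := up f hreg i (by omega) (ResidueField (A ⧸ Ideal.span {f})) h1
    exact Groth.Agent.Lib.helper17.ExtPrime.subsingleton_ext_of_iso (resIso f hf) _ _ h2
  refine Groth.Agent.Lib.helper26.GlobalDim.hasInjectiveDimensionLT_of_ext_quotient (r + 1) _
    (fun I => ?_)
  exact Groth.Agent.Lib.helper17.ExtPrime.subsingleton_ext_of_residueField (ModuleCat.of A A)
    (r + 2) hk (A ⧸ I) (r + 1 + 1) (by omega)

end Groth.Agent.Lib.helper17.GorQuot
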