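import Mathlib
import Groth.Prelude.Def_RegImm
import Groth.Agent.Lib.Helper17.GorQuot
import Groth.Agent.Lib.Helper17.FieldCM
import Groth.Agent.Lib.Helper24.HypersurfaceCM
import Groth.Agent.Lib.Helper26.CMRegSeq
import Groth.Agent.Lib.Helper26.CMPoly2
import Groth.Agent.Lib.Helper26.CMCat3
import Groth.Agent.S9808

/-!
# helper17: complete intersections over a field (dimension definition) are Cohen–Macaulay

* `cm_quot_ofList`: `A` CM local, `rs` weakly regular in the maximal ideal ⇒ `A/(rs)` CM local.
* `isCohenMacaulayRing_mvPolynomial_quotient`: `k[x_1..x_n]/(r_1..r_c)` of dimension `≤ n - c`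
  (and nonzero) is a CM ring.
* `isCohenMacaulayRing_of_isGlobalCI`, `isCohenMacaulayRing_of_isLCIOver`.
-/

set_option autoImplicit false
set_option linter.style.haveILetI false
universe u
open IsLocalRing RingTheory.Sequence

namespace Groth.Agent.Lib.helper17.LciCM

theorem cm_quot_ofList_aux : ∀ (n : ℕ) (A : Type u) [CommRing A]
    [LocCoh.IsCohenMacaulayLocalRing A] (rs : List A), rs.length = n →
    (∀ r ∈ rs, r ∈ maximalIdeal A) → IsWeaklyRegular A rs →
    LocCoh.IsCohenMacaulayLocalRing (A ⧸ Ideal.ofList rs) := by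
  intro n
  induction n with
  | zero =>
    intro A _ _ rs hlen _ _
    obtain rfl := List.length_eq_zero_iff.mp hlen
    have h0 : Ideal.ofList ([] : List A) = ⊥ := Ideal.ofList_nil
    exact Groth.Agent.S9808.cm_of_ringEquiv
      ((Ideal.quotEquivOfEq h0).trans (RingEquiv.quotientBot A)).symm
  | succ n ih =>
    intro A _ hA rs hlen hmem hreg
    obtain ⟨r, rs, rfl⟩ := List.exists_cons_of_length_eq_add_one hlen
    have hr : r ∈ maximalIdeal A := hmem r List.mem_cons_self
    rw [isWeaklyRegular_cons_iff] at hreg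
    obtain ⟨hr1, hr2⟩ := hreg
    let e : QuotSMulTop r A ≃ₗ[A] (A ⧸ Ideal.span {r}) :=
      Submodule.quotEquivOfEq _ _ (by
        rw [← Submodule.ideal_span_singleton_smul, smul_eq_mul, Ideal.mul_top])
    have hr3 : IsWeaklyRegular (A ⧸ Ideal.span {r}) rs := (e.isWeaklyRegular_congr rs).mp hr2
    have hr4 : IsWeaklyRegular (A ⧸ Ideal.span {r})
        (rs.map (algebraMap A (A ⧸ Ideal.span {r}))) :=
      (isWeaklyRegular_map_algebraMap_iff (A ⧸ Ideal.span {r}) (A ⧸ Ideal.span {r}) rs).mpr hr3
    haveI hA' : LocCoh.IsCohenMacaulayLocalRing (A ⧸ Ideal.span {r}) :=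
      Groth.Agent.Lib.Helper24.HypersurfaceCM.cm_quotient_regular A r hr hr1
    have hmem' : ∀ y ∈ rs.map (algebraMap A (A ⧸ Ideal.span {r})),
        y ∈ maximalIdeal (A ⧸ Ideal.span {r}) := by
      intro y hy
      obtain ⟨a, ha, rfl⟩ := List.mem_map.mp hy
      exact (Groth.Agent.Lib.helper17.GorQuot.mk_mem_maximalIdeal_iff r hr a).mpr
        (hmem a (List.mem_cons_of_mem _ ha))
    have h1 := ih (A ⧸ Ideal.span {r}) (rs.map (algebraMap A (A ⧸ Ideal.span {r})))
      (by rw [List.length_map]; simpa using hlen) hmem' hr4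
    have hmap : Ideal.ofList (rs.map (algebraMap A (A ⧸ Ideal.span {r}))) =
        (Ideal.ofList rs).map (Ideal.Quotient.mk (Ideal.span {r})) := by
      rw [Ideal.map_ofList]; rfl
    have hcons : Ideal.span {r} ⊔ Ideal.ofList rs = Ideal.ofList (r :: rs) :=
      (Ideal.ofList_cons r rs).symm
    exact Groth.Agent.S9808.cm_of_ringEquiv
      ((Ideal.quotEquivOfEq hcons.symm).trans
        ((DoubleQuot.quotQuotEquivQuotSup (Ideal.span {r}) (Ideal.ofList rs)).symm.trans
          (Ideal.quotEquivOfEq hmap.symm))).symm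

/-- Quotient of a CM local ring by a weakly regular sequence in the maximal ideal. -/
theorem cm_quot_ofList (A : Type u) [CommRing A] [LocCoh.IsCohenMacaulayLocalRing A]
    (rs : List A) (hmem : ∀ r ∈ rs, r ∈ maximalIdeal A) (hreg : IsWeaklyRegular A rs) :
    LocCoh.IsCohenMacaulayLocalRing (A ⧸ Ideal.ofList rs) :=
  cm_quot_ofList_aux rs.length A rs rfl hmem hreg

/-- `R/I` is a CM ring as soon as `R_Q/I R_Q` is CM local for all primes `Q ⊇ I`. -/
theorem isCohenMacaulayRing_quotient_of_local (R : Type u) [CommRing R] [IsNoetherianRing R]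
    (I : Ideal R)
    (h : ∀ (Q : Ideal R) [Q.IsPrime], I ≤ Q → LocCoh.IsCohenMacaulayLocalRing
      (Localization.AtPrime Q ⧸ I.map (algebraMap R (Localization.AtPrime Q)))) :
    LocCoh.IsCohenMacaulayRing (R ⧸ I) := by
  refine { isCohenMacaulayLocalRing_localization := ?_ }
  intro 𝔮 h𝔮
  set Q : Ideal R := 𝔮.comap (Ideal.Quotient.mk I) with hQ
  haveI : Q.IsPrime := Ideal.comap_isPrime _ _
  have hIQ : I ≤ Q := by
    intro x hx
    rw [hQ, Ideal.mem_comap, Ideal.Quotient.eq_zero_iff_mem.mpr hx]
    exact 𝔮.zero_mem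
  haveI h7 := h Q hIQ
  have hsub : Algebra.algebraMapSubmonoid (R ⧸ I) Q.primeCompl = 𝔮.primeCompl := by
    ext y
    constructor
    · rintro ⟨x, hx, rfl⟩
      exact hx
    · intro hy
      obtain ⟨x, rfl⟩ := Ideal.Quotient.mk_surjective y
      exact ⟨x, hy, rfl⟩
  haveI : IsLocalization 𝔮.primeCompl
      (Localization.AtPrime Q ⧸ I.map (algebraMap R (Localization.AtPrime Q))) := by
    rw [← hsub]; infer_instance
  let e : Localization.AtPrime 𝔮 ≃ₐ[R ⧸ I]
      (Localization.AtPrime Q ⧸ I.map (algebraMap R (Localization.AtPrime Q))) :=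
    IsLocalization.algEquiv 𝔮.primeCompl _ _
  exact Groth.Agent.S9808.cm_of_ringEquiv e.toRingEquiv.symm

section Poly

variable (k : Type u) [Field k] (n : ℕ)

theorem heq_mvPolynomial : ∀ p ∈ minimalPrimes (MvPolynomial (Fin n) k),
    ringKrullDim (MvPolynomial (Fin n) k ⧸ p) = n := by
  intro p hp
  rw [IsDomain.minimalPrimes_eq_singleton_bot] at hp
  obtain rfl : p = ⊥ := hp
  rw [ringKrullDim_eq_of_ringEquiv (RingEquiv.quotientBot _),
    MvPolynomial.ringKrullDim_of_isNoetherianRing, ringKrullDim_eq_zero_of_field]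
  simp

/-- `k[x_1..x_n]/(f)` with `|f| ≤ n`, `(f) ≠ ⊤` and `dim ≤ n - |f|` is a Cohen–Macaulay ring. -/
theorem isCohenMacaulayRing_mvPolynomial_quotient (f : List (MvPolynomial (Fin n) k))
    (hlen : f.length ≤ n) (hne : Ideal.ofList f ≠ ⊤)
    (hle : ringKrullDim (MvPolynomial (Fin n) k ⧸ Ideal.ofList f) ≤
      ((n - f.length : ℕ) : WithBot ℕ∞)) :
    LocCoh.IsCohenMacaulayRing (MvPolynomial (Fin n) k ⧸ Ideal.ofList f) := by
  haveI := Groth.Agent.Lib.helper26.CMCat.isCohenMacaulayRing_field k
  haveI hP : LocCoh.IsCohenMacaulayRing (MvPolynomial (Fin n) k) :=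
    Groth.Agent.Lib.helper26.CMPoly.isCohenMacaulayRing_mvPolynomial k n
  have h := (Groth.Agent.Lib.helper26.DimFormula.cm_equidim_regular k (MvPolynomial (Fin n) k) n
    (heq_mvPolynomial k n) f hlen hne hle).2
  apply isCohenMacaulayRing_quotient_of_local
  intro Q _ hIQ
  have hreg := h Q hIQ
  haveI := hP.isCohenMacaulayLocalRing_localization Q
  have hmem : ∀ r ∈ f.map (algebraMap (MvPolynomial (Fin n) k) (Localization.AtPrime Q)),
      r ∈ maximalIdeal (Localization.AtPrime Q) := by
    intro r hr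
    obtain ⟨a, ha, rfl⟩ := List.mem_map.mp hr
    rw [← Localization.AtPrime.map_eq_maximalIdeal]
    exact Ideal.mem_map_of_mem _ (hIQ (Ideal.subset_span ha))
  haveI h5 := cm_quot_ofList (Localization.AtPrime Q) _ hmem hreg.toIsWeaklyRegular
  have h6 : Ideal.ofList (f.map (algebraMap (MvPolynomial (Fin n) k) (Localization.AtPrime Q))) =
      (Ideal.ofList f).map (algebraMap (MvPolynomial (Fin n) k) (Localization.AtPrime Q)) :=
    (Ideal.map_ofList _ _).symm
  exact Groth.Agent.S9808.cm_of_ringEquiv (R := Localization.AtPrime Q ⧸ Ideal.ofList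
      (f.map (algebraMap (MvPolynomial (Fin n) k) (Localization.AtPrime Q))))
      (Ideal.quotEquivOfEq h6)

end Poly

section Synt

variable (k S : Type u) [Field k] [CommRing S] [Algebra k S]

/-- A global complete intersection over a field is a Cohen–Macaulay ring. -/
theorem isCohenMacaulayRing_of_isGlobalCI (h : Synt.IsGlobalCI k S) :
    LocCoh.IsCohenMacaulayRing S := by
  by_cases hS : Subsingleton S
  · haveI : IsNoetherianRing S := inferInstance
    refine { isCohenMacaulayLocalRing_localization := ?_ }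
    intro p hp
    exact absurd (Subsingleton.elim _ _) hp.ne_top
  rcases h with hS' | ⟨n, c, hcn, φ, r, hφ, hker, hdim⟩
  · exact absurd hS' hS
  have hof : Ideal.ofList (List.ofFn r) = Ideal.span (Set.range r) := by
    change Ideal.span {x | x ∈ List.ofFn r} = _
    congr 1
    ext x
    exact List.mem_ofFn' r x
  let e : (MvPolynomial (Fin n) k ⧸ Ideal.ofList (List.ofFn r)) ≃+* S :=
    (Ideal.quotEquivOfEq (hof.trans hker.symm)).trans
      (RingHom.quotientKerEquivOfSurjective (f := φ.toRingHom) hφ)
  have hlen : (List.ofFn r).length = c := List.length_ofFn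
  have hne : Ideal.ofList (List.ofFn r) ≠ ⊤ := by
    intro htop
    apply hS
    haveI : Subsingleton (MvPolynomial (Fin n) k ⧸ Ideal.ofList (List.ofFn r)) :=
      Ideal.Quotient.subsingleton_iff.mpr htop
    exact e.symm.injective.subsingleton
  have hle : ringKrullDim (MvPolynomial (Fin n) k ⧸ Ideal.ofList (List.ofFn r)) ≤
      ((n - (List.ofFn r).length : ℕ) : WithBot ℕ∞) := by
    rw [ringKrullDim_eq_of_ringEquiv e, hdim, hlen]
  haveI := isCohenMacaulayRing_mvPolynomial_quotient k n (List.ofFn r) (hlen.symm ▸ hcn) hne hle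
  exact Groth.Agent.Lib.helper26.CMPoly.isCohenMacaulayRing_of_ringEquiv e

/-- A local complete intersection over a field is a Cohen–Macaulay ring. -/
theorem isCohenMacaulayRing_of_isLCIOver (h : Synt.IsLCIOver k S) :
    LocCoh.IsCohenMacaulayRing S := by
  obtain ⟨hft, hloc⟩ := h
  haveI : IsNoetherianRing S := Algebra.FiniteType.isNoetherianRing k S
  refine { isCohenMacaulayLocalRing_localization := ?_ }
  intro p hp
  obtain ⟨g, hg, hT⟩ := hloc ⟨p, hp⟩
  have hCM := isCohenMacaulayRing_of_isGlobalCI k (Localization.Away g) hT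
  have hdisj : Disjoint (Submonoid.powers g : Set S) (p : Set S) := by
    rw [Set.disjoint_left]
    rintro x ⟨m, rfl⟩ hx
    exact hg (hp.mem_of_pow_mem m hx)
  have hp' : (p.map (algebraMap S (Localization.Away g))).IsPrime :=
    IsLocalization.isPrime_of_isPrime_disjoint (Submonoid.powers g) _ p hp hdisj
  have hcomap : (p.map (algebraMap S (Localization.Away g))).comap
      (algebraMap S (Localization.Away g)) = p :=
    IsLocalization.under_map_of_isPrime_disjoint (Submonoid.powers g) _ hp hdisj
  have h1 : IsLocalization.AtPrime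
      (Localization.AtPrime (p.map (algebraMap S (Localization.Away g))))
      ((p.map (algebraMap S (Localization.Away g))).comap
        (algebraMap S (Localization.Away g))) :=
    IsLocalization.isLocalization_isLocalization_atPrime_isLocalization (Submonoid.powers g)
      (Localization.AtPrime (p.map (algebraMap S (Localization.Away g))))
      (p.map (algebraMap S (Localization.Away g)))
  haveI h2 : IsLocalization.AtPrime
      (Localization.AtPrime (p.map (algebraMap S (Localization.Away g)))) p := by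
    convert h1
    exact hcomap.symm
  let e : Localization.AtPrime p ≃ₐ[S]
      Localization.AtPrime (p.map (algebraMap S (Localization.Away g))) :=
    IsLocalization.algEquiv p.primeCompl _ _
  haveI := hCM.isCohenMacaulayLocalRing_localization (p.map (algebraMap S (Localization.Away g)))
  exact Groth.Agent.S9808.cm_of_ringEquiv e.toRingEquiv.symm

end Synt

end Groth.Agent.Lib.helper17.LciCM
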