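import Mathlib
import Groth.Prelude.Def_RegImm
import Groth.Agent.Lib.Helper17.LciCM
import Groth.Agent.Lib.Helper26.AffEquidim

/-!
# Complete intersections over a field, part 4 (helper17): dimension and presentation tools

* `dim_quot_add_length_le` : `dim A/(rs) + |rs| ≤ dim A` for a weakly regular sequence.
* `le_dim_mvPolynomial_quot` : `m - d ≤ dim k[x_1..x_m]/(r_1..r_d)` for a proper ideal.
* `ker_comp_mk` : kernel of `P' → B → B/(Φ r')`.
* `exists_presentation_away` : `k[x_1..x_n]_g` is presented by `n+1` variables and one relation.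
* `isGlobalCI_of_algEquiv`.
-/

set_option autoImplicit false
set_option linter.style.haveILetI false

namespace Groth.Agent.Lib.helper17.CIField

universe u

open IsLocalRing RingTheory.Sequence

theorem dim_quot_add_length_le : ∀ (n : ℕ) (A : Type u) [CommRing A] (rs : List A),
    rs.length = n → IsWeaklyRegular A rs →
    ringKrullDim (A ⧸ Ideal.ofList rs) + (n : WithBot ℕ∞) ≤ ringKrullDim A := by
  intro n
  induction n with
  | zero =>
    intro A _ rs hlen _
    obtain rfl := List.length_eq_zero_iff.mp hlen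
    have h0 : Ideal.ofList ([] : List A) = ⊥ := Ideal.ofList_nil
    rw [ringKrullDim_eq_of_ringEquiv ((Ideal.quotEquivOfEq h0).trans (RingEquiv.quotientBot A))]
    simp
  | succ n ih =>
    intro A _ rs hlen hreg
    obtain ⟨r, rs, rfl⟩ := List.exists_cons_of_length_eq_add_one hlen
    rw [isWeaklyRegular_cons_iff] at hreg
    obtain ⟨hr1, hr2⟩ := hreg
    let e : QuotSMulTop r A ≃ₗ[A] (A ⧸ Ideal.span {r}) :=
      Submodule.quotEquivOfEq _ _ (by
        rw [← Submodule.ideal_span_singleton_smul, smul_eq_mul, Ideal.mul_top])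
    have hr3 : IsWeaklyRegular (A ⧸ Ideal.span {r}) rs := (e.isWeaklyRegular_congr rs).mp hr2
    have hr4 : IsWeaklyRegular (A ⧸ Ideal.span {r})
        (rs.map (algebraMap A (A ⧸ Ideal.span {r}))) :=
      (isWeaklyRegular_map_algebraMap_iff (A ⧸ Ideal.span {r}) (A ⧸ Ideal.span {r}) rs).mpr hr3
    have h1 := ih (A ⧸ Ideal.span {r}) (rs.map (algebraMap A (A ⧸ Ideal.span {r})))
      (by rw [List.length_map]; simpa using hlen) hr4
    have hmap : Ideal.ofList (rs.map (algebraMap A (A ⧸ Ideal.span {r}))) =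
        (Ideal.ofList rs).map (Ideal.Quotient.mk (Ideal.span {r})) := by
      rw [Ideal.map_ofList]; rfl
    have hcons : Ideal.span {r} ⊔ Ideal.ofList rs = Ideal.ofList (r :: rs) :=
      (Ideal.ofList_cons r rs).symm
    have e2 : (A ⧸ Ideal.ofList (r :: rs)) ≃+*
        ((A ⧸ Ideal.span {r}) ⧸ Ideal.ofList (rs.map (algebraMap A (A ⧸ Ideal.span {r})))) :=
      (Ideal.quotEquivOfEq hcons.symm).trans
        ((DoubleQuot.quotQuotEquivQuotSup (Ideal.span {r}) (Ideal.ofList rs)).symm.trans
          (Ideal.quotEquivOfEq hmap.symm))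
    have hnzd : r ∈ nonZeroDivisors A := by
      rw [mem_nonZeroDivisors_iff_right]
      intro x hx
      apply hr1
      simpa [mul_comm] using hx
    have h2 := ringKrullDim_quotient_succ_le_of_nonZeroDivisor hnzd
    rw [ringKrullDim_eq_of_ringEquiv e2]
    calc _ = ringKrullDim ((A ⧸ Ideal.span {r}) ⧸
            Ideal.ofList (rs.map (algebraMap A (A ⧸ Ideal.span {r})))) + (n : WithBot ℕ∞) + 1 := by
          push_cast; rw [add_assoc]
      _ ≤ ringKrullDim (A ⧸ Ideal.span {r}) + 1 := by gcongr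
      _ ≤ ringKrullDim A := h2

section Poly

variable (k : Type u) [Field k]

theorem le_dim_mvPolynomial_quot (m d : ℕ) (r : Fin d → MvPolynomial (Fin m) k)
    (hne : Ideal.span (Set.range r) ≠ ⊤) :
    ((m - d : ℕ) : WithBot ℕ∞) ≤ ringKrullDim (MvPolynomial (Fin m) k ⧸ Ideal.span (Set.range r)) := by
  classical
  obtain ⟨𝔭, h𝔭⟩ := Ideal.nonempty_minimalPrimes hne
  haveI : 𝔭.IsPrime := h𝔭.1.1
  have hht : 𝔭.height ≤ d := by
    have h1 := Ideal.height_le_card_of_mem_minimalPrimes_span (Set.finite_range r) h𝔭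
    refine h1.trans ?_
    have h2 : (Set.range r).ncard ≤ d := by
      have := Set.ncard_image_le (f := r) (s := Set.univ) Set.finite_univ
      rw [Set.image_univ] at this
      simpa using this
    exact_mod_cast h2
  have ha := Groth.Agent.Lib.helper26.DimFormula.height_add_dim_quotient_of_equidim k
    (MvPolynomial (Fin m) k) m (Groth.Agent.Lib.helper17.LciCM.heq_mvPolynomial k m) 𝔭
  have hsurj : ringKrullDim (MvPolynomial (Fin m) k ⧸ 𝔭) ≤
      ringKrullDim (MvPolynomial (Fin m) k ⧸ Ideal.span (Set.range r)) :=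
    ringKrullDim_le_of_surjective (Ideal.Quotient.factor h𝔭.1.2)
      (Ideal.Quotient.factor_surjective h𝔭.1.2)
  refine le_trans ?_ hsurj
  obtain ⟨h, hh⟩ := ENat.ne_top_iff_exists.mp (Ideal.height_ne_top_of_isPrime (I := 𝔭))
  rw [← hh] at ha hht
  have hht' : h ≤ d := by exact_mod_cast hht
  cases hE : ringKrullDim (MvPolynomial (Fin m) k ⧸ 𝔭) with
  | bot => rw [hE] at ha; simp at ha
  | coe e =>
    rw [hE] at ha
    cases e with
    | top => exact le_top
    | coe e =>
      have : h + e = m := by exact_mod_cast ha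
      have h5 : m - d ≤ e := by omega
      change ((m - d : ℕ) : WithBot ℕ∞) ≤ (((e : ℕ) : ℕ∞) : WithBot ℕ∞)
      rw [show (((e : ℕ) : ℕ∞) : WithBot ℕ∞) = ((e : ℕ) : WithBot ℕ∞) from rfl]
      exact Nat.cast_le.mpr h5

end Poly

section Pres

variable (k : Type u) [Field k]

theorem range_append {α : Type*} {a b : ℕ} (r : Fin a → α) (r' : Fin b → α) :
    Set.range (Fin.append r r') = Set.range r ∪ Set.range r' := by
  ext x
  constructor
  · rintro ⟨i, rfl⟩
    induction i using Fin.addCases with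
    | left i => rw [Fin.append_left]; exact Or.inl ⟨i, rfl⟩
    | right i => rw [Fin.append_right]; exact Or.inr ⟨i, rfl⟩
  · rintro (⟨i, rfl⟩ | ⟨i, rfl⟩)
    · exact ⟨Fin.castAdd b i, Fin.append_left _ _ _⟩
    · exact ⟨Fin.natAdd a i, Fin.append_right _ _ _⟩

theorem ker_comp_mk {P' B : Type u} [CommRing P'] [CommRing B] [Algebra k P'] [Algebra k B]
    (Φ : P' →ₐ[k] B) (hΦ : Function.Surjective Φ) {a b : ℕ} (r : Fin a → P')
    (hker : RingHom.ker Φ.toRingHom = Ideal.span (Set.range r)) (r' : Fin b → P') :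
    RingHom.ker ((Ideal.Quotient.mkₐ k (Ideal.span (Set.range (Φ ∘ r')))).comp Φ).toRingHom =
      Ideal.span (Set.range (Fin.append r r')) := by
  have h1 : RingHom.ker ((Ideal.Quotient.mkₐ k (Ideal.span (Set.range (Φ ∘ r')))).comp Φ).toRingHom =
      (Ideal.span (Set.range (Φ ∘ r'))).comap Φ.toRingHom := by
    ext x
    rw [RingHom.mem_ker, Ideal.mem_comap]
    change Ideal.Quotient.mk _ (Φ x) = 0 ↔ _
    rw [Ideal.Quotient.eq_zero_iff_mem]
    rfl
  have h2 : Ideal.span (Set.range (Φ ∘ r')) = (Ideal.span (Set.range r')).map Φ.toRingHom := by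
    rw [Ideal.map_span, Set.range_comp]
    rfl
  rw [h1, h2, Ideal.comap_map_of_surjective Φ.toRingHom hΦ, ← RingHom.ker_eq_comap_bot, hker,
    range_append, Ideal.span_union, sup_comm]

/-- the presentation of a polynomial ring with no relations -/
noncomputable def presPoly (n : ℕ) :
    Algebra.Presentation k (MvPolynomial (Fin n) k) (Fin n) PEmpty.{1} :=
  { Algebra.Generators.mvPolynomial k (Fin n) with
    relation := PEmpty.elim
    span_range_relation_eq_ker := by
      rw [Algebra.Generators.ker_mvPolynomial]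
      simp }

theorem exists_of_presentation {B : Type u} [CommRing B] [Algebra k B] {ι σ : Type}
    (pres : Algebra.Presentation k B ι σ) :
    Function.Surjective (MvPolynomial.aeval (R := k) pres.val) ∧
      RingHom.ker (MvPolynomial.aeval (R := k) pres.val).toRingHom =
        Ideal.span (Set.range pres.relation) := by
  refine ⟨pres.aeval_val_surjective, ?_⟩
  rw [pres.span_range_relation_eq_ker, Algebra.Generators.ker_eq_ker_aeval_val]
  rfl

theorem exists_presentation_away (n : ℕ) (g : MvPolynomial (Fin n) k) (B : Type u) [CommRing B]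
    [Algebra (MvPolynomial (Fin n) k) B] [Algebra k B] [IsScalarTower k (MvPolynomial (Fin n) k) B]
    [IsLocalization.Away g B] :
    ∃ (Φ : MvPolynomial (Fin (n + 1)) k →ₐ[k] B) (r : Fin 1 → MvPolynomial (Fin (n + 1)) k),
      Function.Surjective Φ ∧ RingHom.ker Φ.toRingHom = Ideal.span (Set.range r) := by
  let e1 : Fin (n + 1) ≃ Unit ⊕ Fin n :=
    ((finCongr (Nat.add_comm n 1)).trans finSumFinEquiv.symm).trans
      (Equiv.sumCongr (Equiv.equivPUnit (Fin 1)) (Equiv.refl _))
  let e2 : Fin 1 ≃ Unit ⊕ PEmpty.{1} :=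
    (Equiv.equivPUnit (Fin 1)).trans (Equiv.sumEmpty Unit PEmpty.{1}).symm
  let pres : Algebra.Presentation k B (Fin (n + 1)) (Fin 1) :=
    ((Algebra.Presentation.localizationAway B g).comp (presPoly k n)).reindex e1 e2
  obtain ⟨h1, h2⟩ := exists_of_presentation k pres
  exact ⟨MvPolynomial.aeval pres.val, pres.relation, h1, h2⟩

end Pres

end Groth.Agent.Lib.helper17.CIField
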