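import Mathlib
import Groth.Prelude.Def_CAlg
import Groth.Agent.Lib.Helper17.FibreStalk
import Groth.Agent.Lib.Helper24.FlatDepth5

/-!
# Dimension and depth of local rings of `X` versus the base and the fibre
-/

set_option autoImplicit false
set_option linter.style.haveILetI false
universe u
open CategoryTheory CategoryTheory.Limits AlgebraicGeometry TopologicalSpace IsLocalRing

namespace Groth.Agent.Lib.helper17.FibreDim

open Groth.Agent.Lib.helper17.FibreStalk

/-- dimension inequality for local homomorphisms of Noetherian local rings. -/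
theorem ringKrullDim_le_add (R S : Type u) [CommRing R] [CommRing S] [IsLocalRing R]
    [IsLocalRing S] [IsNoetherianRing R] [IsNoetherianRing S] [Algebra R S]
    [IsLocalHom (algebraMap R S)] :
    ringKrullDim S ≤ ringKrullDim R +
      ringKrullDim (S ⧸ (maximalIdeal R).map (algebraMap R S)) := by
  letI := Groth.Agent.Lib.Helper24.FlatDimFormula.isLocalRing_quotient R S
  have hlies : (maximalIdeal S).LiesOver (maximalIdeal R) :=
    ⟨(IsLocalRing.maximalIdeal_comap (algebraMap R S)).symm⟩
  have h := Ideal.height_le_height_add_of_liesOver (maximalIdeal R) (maximalIdeal S)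
  rw [← Groth.Agent.Lib.Helper24.FlatDimFormula.maximalIdeal_quotient R S] at h
  rw [← IsLocalRing.maximalIdeal_height_eq_ringKrullDim,
    ← IsLocalRing.maximalIdeal_height_eq_ringKrullDim,
    ← IsLocalRing.maximalIdeal_height_eq_ringKrullDim, ← WithBot.coe_add]
  exact_mod_cast h

variable {X S : Scheme.{u}} (f : X ⟶ S) (x : X)

/-- the fibre ring `O_{X,x}/m O_{X,x}` is local. -/
instance : IsLocalRing (FibRing f x) := by
  have hle : (maximalIdeal (S.presheaf.stalk (f x))).map (f.stalkMap x).hom ≤
      maximalIdeal (X.presheaf.stalk x) :=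
    ((IsLocalRing.local_hom_TFAE (f.stalkMap x).hom).out 0 2 rfl rfl).mp inferInstance
  haveI : Nontrivial (FibRing f x) := Ideal.Quotient.nontrivial_iff.mpr
    (ne_top_of_le_ne_top (maximalIdeal.isMaximal _).ne_top hle)
  exact IsLocalRing.of_surjective' (Ideal.Quotient.mk _) Ideal.Quotient.mk_surjective

theorem dim_fibRing : ringKrullDim (FibRing f x) =
    ringKrullDim ((f.fiber (f x)).presheaf.stalk (f.asFiber x)) := by
  obtain ⟨e⟩ := nonempty_asFiber_stalk_equiv f x
  exact ringKrullDim_eq_of_ringEquiv e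

theorem isNoetherianRing_fiberStalk [IsNoetherianRing (X.presheaf.stalk x)] :
    IsNoetherianRing ((f.fiber (f x)).presheaf.stalk (f.asFiber x)) := by
  obtain ⟨e⟩ := nonempty_asFiber_stalk_equiv f x
  exact isNoetherianRing_of_ringEquiv _ e

theorem depth_fibRing [IsNoetherianRing (X.presheaf.stalk x)] :
    LocCoh.depth (FibRing f x) (FibRing f x) =
    LocCoh.depth ((f.fiber (f x)).presheaf.stalk (f.asFiber x))
      ((f.fiber (f x)).presheaf.stalk (f.asFiber x)) := by
  obtain ⟨e⟩ := nonempty_asFiber_stalk_equiv f x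
  haveI := isNoetherianRing_fiberStalk f x
  exact Groth.Agent.Lib.Helper24.FlatDepth.depth_eq_of_ringEquiv e.symm

/-- `dim O_{X,x} ≤ dim O_{S,f x} + dim O_{X_{f x},x}`. -/
theorem dim_stalk_le [IsNoetherianRing (X.presheaf.stalk x)]
    [IsNoetherianRing (S.presheaf.stalk (f x))] :
    ringKrullDim (X.presheaf.stalk x) ≤ ringKrullDim (S.presheaf.stalk (f x)) +
      ringKrullDim ((f.fiber (f x)).presheaf.stalk (f.asFiber x)) := by
  rw [← dim_fibRing]
  algebraize [(f.stalkMap x).hom]
  haveI : IsLocalHom (algebraMap (S.presheaf.stalk (f x)) (X.presheaf.stalk x)) :=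
    inferInstanceAs (IsLocalHom (f.stalkMap x).hom)
  exact ringKrullDim_le_add (S.presheaf.stalk (f x)) (X.presheaf.stalk x)

/-- for a flat stalk map: `dim O_{X,x} = dim O_{S,f x} + dim O_{X_{f x},x}`. -/
theorem dim_stalk_eq [IsNoetherianRing (X.presheaf.stalk x)]
    [IsNoetherianRing (S.presheaf.stalk (f x))] (hfl : (f.stalkMap x).hom.Flat) :
    ringKrullDim (X.presheaf.stalk x) = ringKrullDim (S.presheaf.stalk (f x)) +
      ringKrullDim ((f.fiber (f x)).presheaf.stalk (f.asFiber x)) := by
  rw [← dim_fibRing]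
  algebraize [(f.stalkMap x).hom]
  haveI : IsLocalHom (algebraMap (S.presheaf.stalk (f x)) (X.presheaf.stalk x)) :=
    inferInstanceAs (IsLocalHom (f.stalkMap x).hom)
  exact Groth.Agent.Lib.Helper24.FlatDimFormula.ringKrullDim_eq_add_of_flat
    (S.presheaf.stalk (f x)) (X.presheaf.stalk x)

/-- for a flat stalk map: `depth O_{X,x} = depth O_{S,f x} + depth O_{X_{f x},x}`. -/
theorem depth_stalk_eq [IsNoetherianRing (X.presheaf.stalk x)]
    [IsNoetherianRing (S.presheaf.stalk (f x))] (hfl : (f.stalkMap x).hom.Flat) :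
    LocCoh.depth (X.presheaf.stalk x) (X.presheaf.stalk x) =
      LocCoh.depth (S.presheaf.stalk (f x)) (S.presheaf.stalk (f x)) +
      LocCoh.depth ((f.fiber (f x)).presheaf.stalk (f.asFiber x))
        ((f.fiber (f x)).presheaf.stalk (f.asFiber x)) := by
  rw [← depth_fibRing]
  algebraize [(f.stalkMap x).hom]
  haveI : IsLocalHom (algebraMap (S.presheaf.stalk (f x)) (X.presheaf.stalk x)) :=
    inferInstanceAs (IsLocalHom (f.stalkMap x).hom)
  exact Groth.Agent.Lib.Helper24.FlatDepth.depth_eq_add_of_flat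
    (S.presheaf.stalk (f x)) (X.presheaf.stalk x)

end Groth.Agent.Lib.helper17.FibreDim
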