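import Mathlib
import Groth.Prelude.Def_AlgSpMor5
import Groth.Agent.Lib.Helper5.AlgSpFibreProduct
import Groth.Agent.Lib.Helper11.AlgSpBasic

/-!
# helper17: étale charts for a base change square of algebraic spaces

`exists_bc_charts`: for a pullback square `X' = X ×_Y Y'` of algebraic spaces and a point `x'` of
`|X'|` there are chart diagrams `(a, b, h)` of `f`, `(a', b', h')` of `f'`, `(b', b, k)` of `g`,
`(a', a, p)` of `g'`, with `U' = U ×_V V'` as schemes, a point `u'` over `x'`, and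
`h_U ⟶ X ×_Y h_V` representable étale.  (Adapted from helper1's `exists_flat_chart`.)
-/

set_option autoImplicit false
universe u
open CategoryTheory CategoryTheory.Limits AlgebraicGeometry
open AlgSp

namespace Groth.Agent.Lib.helper17.ChartBC

variable {S : Scheme.{u}}

theorem exists_bc_charts {X Y Y' X' : Sp S} (hX : IsAlgSpace X) (hY : IsAlgSpace Y)
    (hY' : IsAlgSpace Y') {f : X ⟶ Y} {g : Y' ⟶ Y} {g' : X' ⟶ X} {f' : X' ⟶ Y'}
    (sq : IsPullback g' f' f g) (x' : Points X') :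
    ∃ (U V U' V' : Over S) (a : (yon S).obj U ⟶ X) (b : (yon S).obj V ⟶ Y)
      (a' : (yon S).obj U' ⟶ X') (b' : (yon S).obj V' ⟶ Y')
      (h : U ⟶ V) (h' : U' ⟶ V') (p : U' ⟶ U) (k : V' ⟶ V) (u' : ↥U'.left),
      RepWith @Etale a ∧ RepWith @Etale b ∧ RepWith @Etale a' ∧ RepWith @Etale b' ∧
      a ≫ f = (yon S).map h ≫ b ∧ a' ≫ f' = (yon S).map h' ≫ b' ∧
      a' ≫ g' = (yon S).map p ≫ a ∧ b' ≫ g = (yon S).map k ≫ b ∧
      IsPullback p h' h k ∧ Points.ofPt a' u' = x' ∧
      ∀ hc : a ≫ f = (yon S).map h ≫ b,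
        RepWith @Etale (pullback.lift a ((yon S).map h) hc : (yon S).obj U ⟶ pullback f b) := by
  obtain ⟨V, b, hbe, hbs⟩ := hY.atlas
  -- `X_V = X ×_Y V`
  have sqF : IsPullback (pullback.fst f b) (pullback.snd f b) f b := IsPullback.of_hasPullback _ _
  have hFV : IsAlgSpace (pullback f b) :=
    Groth.Agent.Lib.helper5.isAlgSpace_of_isPullback hY.diag hX (IsAlgSpace.yon_obj V) sqF
  obtain ⟨U, q, hqe, hqs⟩ := hFV.atlas
  obtain ⟨h, hh⟩ := (yon S).map_surjective (q ≫ pullback.snd f b)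
  have hfe : RepWith @Etale (pullback.fst f b) :=
    (RepWith (S := S) @Etale).of_isPullback sqF.flip hbe
  have hae : RepWith @Etale (q ≫ pullback.fst f b) :=
    (RepWith (S := S) @Etale).comp_mem _ _ hqe hfe
  have haf : (q ≫ pullback.fst f b) ≫ f = (yon S).map h ≫ b := by
    rw [Category.assoc, sqF.w, hh, Category.assoc]
  -- `Y'_V = Y' ×_Y V`
  have sqG : IsPullback (pullback.fst g b) (pullback.snd g b) g b := IsPullback.of_hasPullback _ _
  have hGV : IsAlgSpace (pullback g b) :=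
    Groth.Agent.Lib.helper5.isAlgSpace_of_isPullback hY.diag hY' (IsAlgSpace.yon_obj V) sqG
  obtain ⟨V', β0, hβ0e, hβ0s⟩ := hGV.atlas
  obtain ⟨k, hk⟩ := (yon S).map_surjective (β0 ≫ pullback.snd g b)
  have hge : RepWith @Etale (pullback.fst g b) :=
    (RepWith (S := S) @Etale).of_isPullback sqG.flip hbe
  have hgs : RepWith @Surjective (pullback.fst g b) :=
    (RepWith (S := S) @Surjective).of_isPullback sqG.flip hbs
  have hβe : RepWith @Etale (β0 ≫ pullback.fst g b) :=
    (RepWith (S := S) @Etale).comp_mem _ _ hβ0e hge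
  have hβs : RepWith @Surjective (β0 ≫ pullback.fst g b) :=
    (RepWith (S := S) @Surjective).comp_mem _ _ hβ0s hgs
  have hβg : (β0 ≫ pullback.fst g b) ≫ g = (yon S).map k ≫ b := by
    rw [Category.assoc, sqG.w, hk, Category.assoc]
  -- `E₁ = X' ×_{Y'} V'`
  have sqE1 : IsPullback (pullback.fst f' (β0 ≫ pullback.fst g b))
      (pullback.snd f' (β0 ≫ pullback.fst g b)) f' (β0 ≫ pullback.fst g b) :=
    IsPullback.of_hasPullback _ _
  have he1e : RepWith @Etale (pullback.fst f' (β0 ≫ pullback.fst g b)) :=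
    (RepWith (S := S) @Etale).of_isPullback sqE1.flip hβe
  have he1s : RepWith @Surjective (pullback.fst f' (β0 ≫ pullback.fst g b)) :=
    (RepWith (S := S) @Surjective).of_isPullback sqE1.flip hβs
  have big1 := sqE1.paste_horiz sq
  rw [hβg] at big1
  have hl1 : (pullback.fst f' (β0 ≫ pullback.fst g b) ≫ g') ≫ f =
      (pullback.snd f' (β0 ≫ pullback.fst g b) ≫ (yon S).map k) ≫ b := by
    rw [big1.w, Category.assoc]
  have sqE1' : IsPullback (sqF.lift _ _ hl1) (pullback.snd f' (β0 ≫ pullback.fst g b))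
      (pullback.snd f b) ((yon S).map k) := by
    refine IsPullback.of_right ?_ (sqF.lift_snd _ _ _) sqF
    rw [sqF.lift_fst]
    exact big1
  -- `U' = U ×_V V'`
  have sqU0 := IsPullback.of_hasPullback h k
  have sqU := sqU0.map (yon S)
  have hc1 : ((yon S).map (pullback.fst h k) ≫ q) ≫ pullback.snd f b =
      (yon S).map (pullback.snd h k) ≫ (yon S).map k := by
    rw [Category.assoc, ← hh]
    exact sqU.w
  have sqC1 : IsPullback ((yon S).map (pullback.fst h k)) (sqE1'.lift _ _ hc1) q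
      (sqF.lift _ _ hl1) := by
    refine IsPullback.of_bot ?_ (sqE1'.lift_fst _ _ _).symm sqE1'
    rw [sqE1'.lift_snd, ← hh]
    exact sqU
  have hc1e : RepWith @Etale (sqE1'.lift _ _ hc1) :=
    (RepWith (S := S) @Etale).of_isPullback sqC1 hqe
  have hc1s : RepWith @Surjective (sqE1'.lift _ _ hc1) :=
    (RepWith (S := S) @Surjective).of_isPullback sqC1 hqs
  have hce : RepWith @Etale (sqE1'.lift _ _ hc1 ≫ pullback.fst f' (β0 ≫ pullback.fst g b)) :=
    (RepWith (S := S) @Etale).comp_mem _ _ hc1e he1e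
  have hcs : RepWith @Surjective
      (sqE1'.lift _ _ hc1 ≫ pullback.fst f' (β0 ≫ pullback.fst g b)) :=
    (RepWith (S := S) @Surjective).comp_mem _ _ hc1s he1s
  obtain ⟨u', hu'⟩ := Groth.Agent.Lib.helper11.surjective_ofPt _ hcs x'
  refine ⟨U, V, pullback h k, V', q ≫ pullback.fst f b, b,
    sqE1'.lift _ _ hc1 ≫ pullback.fst f' (β0 ≫ pullback.fst g b), β0 ≫ pullback.fst g b,
    h, pullback.snd h k, pullback.fst h k, k, u', hae, hbe, hce, hβe, haf, ?_, ?_, hβg, sqU0, hu',
    ?_⟩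
  · rw [Category.assoc, sqE1.w, ← Category.assoc, sqE1'.lift_snd]
  · have e1 : sqF.lift _ _ hl1 ≫ pullback.fst f b =
        pullback.fst f' (β0 ≫ pullback.fst g b) ≫ g' := sqF.lift_fst _ _ hl1
    have e2 := sqC1.w
    rw [Category.assoc]
    calc _ = sqE1'.lift _ _ hc1 ≫ (sqF.lift _ _ hl1 ≫ pullback.fst f b) :=
          congrArg (sqE1'.lift _ _ hc1 ≫ ·) e1.symm
      _ = (sqE1'.lift _ _ hc1 ≫ sqF.lift _ _ hl1) ≫ pullback.fst f b :=
          (Category.assoc _ _ _).symm
      _ = ((yon S).map (pullback.fst h k) ≫ q) ≫ pullback.fst f b :=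
          congrArg (· ≫ pullback.fst f b) e2.symm
      _ = _ := Category.assoc _ _ _
  · intro hc
    have : pullback.lift (q ≫ pullback.fst f b) ((yon S).map h) hc = q := by
      apply pullback.hom_ext
      · rw [pullback.lift_fst]
      · rw [pullback.lift_snd, hh]
    rw [this]
    exact hqe

end Groth.Agent.Lib.helper17.ChartBC
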