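import Mathlib
import Groth.Prelude.Def_AlgSpMor5
import Groth.Agent.Lib.Helper5.AlgSpChartInd

/-!
# helper17: `AlgSp.LocPAt Q f x` can be checked on ONE chart diagram

for `Q` étale local on the source and on the target (pointed form).
-/

set_option autoImplicit false
universe u
open CategoryTheory CategoryTheory.Limits AlgebraicGeometry Opposite
open AlgSp

namespace Groth.Agent.Lib.helper17.LocPAtChart

variable {S : Scheme.{u}}

/-- Two chart diagrams of `f` through the same point are dominated by a common one. -/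
theorem exists_common_diagram {X Y : Sp S} (f : X ⟶ Y) {U V U' V' : Over S}
    (a : (yon S).obj U ⟶ X) (b : (yon S).obj V ⟶ Y) (h : U ⟶ V) (u : ↥U.left)
    (ha : RepWith @Etale a) (hb : RepWith @Etale b) (hc : a ≫ f = (yon S).map h ≫ b)
    (a' : (yon S).obj U' ⟶ X) (b' : (yon S).obj V' ⟶ Y) (h' : U' ⟶ V') (u' : ↥U'.left)
    (ha' : RepWith @Etale a') (hb' : RepWith @Etale b') (hc' : a' ≫ f = (yon S).map h' ≫ b')
    (huu' : Points.ofPt a u = Points.ofPt a' u') :
    ∃ (W T : Over S) (g : W ⟶ U) (g' : W ⟶ U') (k : T ⟶ V) (k' : T ⟶ V') (m : W ⟶ T) (w : ↥W.left),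
      Etale g.left ∧ Etale g'.left ∧ Etale k.left ∧ Etale k'.left ∧
        g.left w = u ∧ g'.left w = u' ∧ m ≫ k = g ≫ h ∧ m ≫ k' = g' ≫ h' := by
  obtain ⟨W, g, g', w, hg, hg', hgg', hw, hw'⟩ :=
    Groth.Agent.Lib.helper5.ChartInd.exists_common_chart a ha a' ha' u u' huu'
  obtain ⟨T, k, kfst, sqT⟩ := hb'.1 b
  have hk : Etale k.left := hb'.2 b kfst k sqT
  obtain ⟨k', rfl⟩ := (yon S).map_surjective kfst
  have hk' : Etale k'.left := hb.2 b' _ k' sqT.flip
  have hcompat : (yon S).map (g' ≫ h') ≫ b' = (yon S).map (g ≫ h) ≫ b := by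
    rw [Functor.map_comp, Functor.map_comp, Category.assoc, Category.assoc, ← hc', ← hc,
      ← Category.assoc, ← Category.assoc, hgg']
  obtain ⟨m', hm1, hm2⟩ : ∃ m' : (yon S).obj W ⟶ (yon S).obj T,
      m' ≫ (yon S).map k' = (yon S).map (g' ≫ h') ∧ m' ≫ (yon S).map k = (yon S).map (g ≫ h) :=
    ⟨sqT.lift _ _ hcompat, sqT.lift_fst _ _ hcompat, sqT.lift_snd _ _ hcompat⟩
  obtain ⟨m, rfl⟩ := (yon S).map_surjective m'
  refine ⟨W, T, g, g', k, k', m, w, hg, hg', hk, hk', hw, hw', ?_, ?_⟩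
  · apply (yon S).map_injective
    rw [Functor.map_comp, hm2]
  · apply (yon S).map_injective
    rw [Functor.map_comp, hm1]

/-- `LocPAt Q f x` from ONE chart diagram, for `Q` étale local on source and target. -/
theorem locPAt_of_chart {Q : ∀ {U V : Scheme.{u}}, (U ⟶ V) → ↥U → Prop}
    (hS : ∀ {W U V : Scheme.{u}} (g : W ⟶ U) [Etale g] (h : U ⟶ V) (w : ↥W),
      Q (g ≫ h) w ↔ Q h (g w))
    (hT : ∀ {W T V : Scheme.{u}} (m : W ⟶ T) (k : T ⟶ V) [Etale k] (w : ↥W),
      Q (m ≫ k) w ↔ Q m w)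
    {X Y : Sp S} (f : X ⟶ Y) (x : Points X) {U V : Over S}
    (a : (yon S).obj U ⟶ X) (b : (yon S).obj V ⟶ Y) (h : U ⟶ V) (u : ↥U.left)
    (ha : RepWith @Etale a) (hb : RepWith @Etale b) (hc : a ≫ f = (yon S).map h ≫ b)
    (hu : Points.ofPt a u = x) (hQ : Q h.left u) : LocPAt Q f x := by
  intro U' V' a' b' h' u' ha' hb' hc' hu'
  obtain ⟨W, T, g, g', k, k', m, w, hg, hg', hk, hk', hw, hw', e1, e2⟩ :=
    exists_common_diagram f a b h u ha hb hc a' b' h' u' ha' hb' hc' (hu.trans hu'.symm)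
  have e1' : m.left ≫ k.left = g.left ≫ h.left := by
    rw [← Over.comp_left, ← Over.comp_left, e1]
  have e2' : m.left ≫ k'.left = g'.left ≫ h'.left := by
    rw [← Over.comp_left, ← Over.comp_left, e2]
  rw [← hw', ← hS g'.left h'.left w, ← e2', hT m.left k'.left w, ← hT m.left k.left w, e1',
    hS g.left h.left w, hw]
  exact hQ

end Groth.Agent.Lib.helper17.LocPAtChart
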