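import Mathlib
import Groth.Prelude.Def_CAlg

/-!
# helper17: the Gorenstein property of local rings is invariant under ring isomorphisms

Main results: `hasInjectiveDimensionLT_map` (an exact functor preserving injective objects does not
raise injective dimension), `isGorensteinLocalRing_of_ringEquiv`.
-/

set_option autoImplicit false
set_option linter.style.haveILetI false
universe u v w

open CategoryTheory Limits

namespace Groth.Agent.Lib.helper17.GorIso

/-- An exact functor preserving injective objects does not raise the injective dimension. -/
theorem hasInjectiveDimensionLT_map {C : Type u} {D : Type v} [Category.{w} C] [Abelian C]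
    [Category.{w} D] [Abelian D] [EnoughInjectives C] (G : C ⥤ D) [G.Additive]
    [PreservesFiniteLimits G] [PreservesFiniteColimits G] [G.PreservesInjectiveObjects] (n : ℕ) :
    ∀ (X : C), HasInjectiveDimensionLT X n → HasInjectiveDimensionLT (G.obj X) n := by
  induction n with
  | zero =>
    intro X hX
    rw [hasInjectiveDimensionLT_zero_iff_isZero] at hX ⊢
    exact G.map_isZero hX
  | succ n ih =>
    intro X hX
    rcases n with _ | n
    · haveI : Injective X := injective_iff_hasInjectiveDimensionLT_one.mpr hX
      haveI : Injective (G.obj X) := G.injective_obj X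
      exact injective_iff_hasInjectiveDimensionLT_one.mp inferInstance
    · have ei : EnoughInjectives C := inferInstance
      rcases ei.1 X with ⟨I, inj, f, monof⟩
      let T := ShortComplex.mk f (cokernel.π f) (cokernel.condition f)
      have T_exact : T.ShortExact := { exact := ShortComplex.exact_cokernel f }
      have TS_exact : (T.map G).ShortExact := T_exact.map_of_exact G
      have h3 : HasInjectiveDimensionLT T.X₃ (n + 1) :=
        (T_exact.hasInjectiveDimensionLT_X₃_iff n inj).mpr hX
      haveI : Injective (T.map G).X₂ := G.injective_obj _
      exact (TS_exact.hasInjectiveDimensionLT_X₃_iff n inferInstance).mp (ih T.X₃ h3)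

/-- Finite self-injective dimension transfers along ring isomorphisms. -/
theorem hasInjectiveDimensionLT_of_ringEquiv {R S : Type u} [CommRing R] [CommRing S]
    (e : R ≃+* S) (n : ℕ) (h : HasInjectiveDimensionLT (ModuleCat.of S S) n) :
    HasInjectiveDimensionLT (ModuleCat.of R R) n := by
  let E : ModuleCat.{u} S ≌ ModuleCat.{u} R := ModuleCat.restrictScalarsEquivalenceOfRingEquiv e
  haveI : E.functor.PreservesInjectiveObjects :=
    Functor.preservesInjectiveObjects_of_adjunction_of_preservesMonomorphisms E.symm.toAdjunction
  have h1 : HasInjectiveDimensionLT ((ModuleCat.restrictScalars e.toRingHom).obj (ModuleCat.of S S)) n :=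
    hasInjectiveDimensionLT_map E.functor n _ h
  exact hasInjectiveDimensionLT_of_iso (ModuleCat.restrictScalarsIsoOfEquiv e) n

/-- The Gorenstein property of local rings is invariant under ring isomorphisms. -/
theorem isGorensteinLocalRing_of_ringEquiv {R S : Type u} [CommRing R] [CommRing S]
    (e : R ≃+* S) (h : LocCoh.IsGorensteinLocalRing S) : LocCoh.IsGorensteinLocalRing R := by
  haveI : IsNoetherianRing S := h.toIsNoetherian
  haveI : IsLocalRing S := h.toIsLocalRing
  haveI : IsNoetherianRing R := isNoetherianRing_of_ringEquiv S e.symm
  haveI : IsLocalRing R := e.symm.isLocalRing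
  obtain ⟨n, hn⟩ := h.exists_hasInjectiveDimensionLT
  exact { exists_hasInjectiveDimensionLT := ⟨n, hasInjectiveDimensionLT_of_ringEquiv e n hn⟩ }

theorem isGorensteinLocalRing_iff_of_ringEquiv {R S : Type u} [CommRing R] [CommRing S]
    (e : R ≃+* S) : LocCoh.IsGorensteinLocalRing R ↔ LocCoh.IsGorensteinLocalRing S :=
  ⟨isGorensteinLocalRing_of_ringEquiv e.symm, isGorensteinLocalRing_of_ringEquiv e⟩

end Groth.Agent.Lib.helper17.GorIso
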