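import Mathlib
import Groth.Agent.Lib.Helper17.GorQuot

/-!
# helper17: a Noetherian local ring of finite self-injective dimension is Cohen–Macaulay, with
injective dimension equal to its Krull dimension
-/

set_option autoImplicit false
universe u

open CategoryTheory Abelian IsLocalRing

namespace Groth.Agent.Lib.helper17.GorCM

open Groth.Agent.Lib.helper17.ExtPrime Groth.Agent.Lib.helper17.GorQuot

variable {A : Type u} [CommRing A] [IsLocalRing A] [IsNoetherianRing A]

/-- depth zero: the residue field embeds into `A`. -/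
theorem exists_injective_of_no_regular (h : ¬ ∃ x ∈ maximalIdeal A, IsSMulRegular A x) :
    ∃ φ : ResidueField A →ₗ[A] A, Function.Injective φ := by
  have hns : ¬ Subsingleton (ResidueField A →ₗ[A] A) := by
    intro hs
    obtain ⟨r, hr, hreg⟩ := IsSMulRegular.subsingleton_linearMap_iff.mp hs
    refine h ⟨r, ?_, hreg⟩
    have : Module.annihilator A (ResidueField A) = maximalIdeal A := Ideal.annihilator_quotient
    rwa [this] at hr
  rw [not_subsingleton_iff_nontrivial] at hns
  obtain ⟨φ, hφ⟩ := exists_ne (0 : ResidueField A →ₗ[A] A)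
  haveI : IsSimpleModule A (ResidueField A) :=
    isSimpleModule_iff_quot_maximal.mpr ⟨maximalIdeal A, inferInstance, ⟨LinearEquiv.refl _ _⟩⟩
  exact ⟨φ, (LinearMap.injective_or_eq_zero φ).resolve_right hφ⟩

/-- depth zero and finite injective dimension imply self-injective. -/
theorem injective_of_no_regular (hfin : ∃ n, HasInjectiveDimensionLT (ModuleCat.of A A) n)
    (h : ¬ ∃ x ∈ maximalIdeal A, IsSMulRegular A x) :
    HasInjectiveDimensionLT (ModuleCat.of A A) 1 := by
  classical
  have hex : ∃ n, HasInjectiveDimensionLT (ModuleCat.of A A) (n + 1) := by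
    obtain ⟨n, hn⟩ := hfin
    exact ⟨n, hasInjectiveDimensionLT_of_ge _ n (n + 1) (by omega)⟩
  obtain ⟨φ, hφ⟩ := exists_injective_of_no_regular h
  have hmin := fun m => Nat.find_min hex (m := m)
  have hspec := Nat.find_spec hex
  rcases Nat.eq_zero_or_pos (Nat.find hex) with h0 | hpos
  · rw [h0] at hspec
    exact hspec
  · exfalso
    obtain ⟨s, hs⟩ : ∃ s, Nat.find hex = s + 1 := ⟨Nat.find hex - 1, by omega⟩
    rw [hs] at hspec
    refine hmin s (by omega) ?_
    -- the short exact sequence `0 → k → A → C → 0`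
    have hS := Groth.Agent.Lib.helper7.ModSES.mkSES_shortExact φ (LinearMap.range φ).mkQ
      (LinearMap.exact_map_mkQ_range φ) hφ (Submodule.mkQ_surjective _)
    have hk : ∀ j : ℕ, s + 1 ≤ j →
        Subsingleton (Ext (ModuleCat.of A (ResidueField A)) (ModuleCat.of A A) j) := by
      intro j hj
      rcases Nat.eq_or_lt_of_le hj with rfl | hlt
      · refine ⟨fun a b => ?_⟩
        have h0 : ∀ e : Ext (ModuleCat.of A (ResidueField A)) (ModuleCat.of A A) (s + 1),
            e = 0 := by
          intro e
          obtain ⟨e₂, he₂⟩ := Ext.contravariant_sequence_exact₁ hS (ModuleCat.of A A) e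
            (show 1 + (s + 1) = s + 1 + 1 by omega)
            (Ext.eq_zero_of_hasInjectiveDimensionLT _ (s + 1 + 1) le_rfl)
          have hP : Projective (Groth.Agent.Lib.helper7.ModSES.mkSES φ (LinearMap.range φ).mkQ
              (LinearMap.exact_map_mkQ_range φ)).X₂ := by
            change Projective (ModuleCat.of A A)
            exact ModuleCat.projective_of_free (Module.Basis.singleton Unit A)
          have : e₂ = 0 := Ext.eq_zero_of_projective _
          rw [← he₂, this, Ext.comp_zero]
          rfl
        rw [h0 a, h0 b]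
      · exact HasInjectiveDimensionLT.subsingleton _ (s + 1 + 1) j (by omega) _
    refine Groth.Agent.Lib.helper26.GlobalDim.hasInjectiveDimensionLT_of_ext_quotient s _
      (fun I => ?_)
    exact subsingleton_ext_of_residueField (ModuleCat.of A A) (s + 1) hk (A ⧸ I) (s + 1) le_rfl

/-- a self-injective Noetherian local ring has dimension zero. -/
theorem ringKrullDim_eq_zero_of_injective
    (h : HasInjectiveDimensionLT (ModuleCat.of A A) 1) : ringKrullDim A = 0 := by
  have hmin : ∀ p ∈ minimalPrimes A, p = maximalIdeal A := by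
    intro p hp
    haveI hpp : p.IsPrime := hp.1.1
    by_contra hne
    have hlt : p < maximalIdeal A := lt_of_le_of_ne (le_maximalIdeal hpp.ne_top) hne
    obtain ⟨x, hxm, hxp⟩ := Set.exists_of_ssubset hlt
    have h0 : Subsingleton (Ext (ModuleCat.of A (A ⧸ p)) (ModuleCat.of A A) 0) :=
      subsingleton_ext_quotient_prime_step (ModuleCat.of A A) p x hxm hxp 0
        (HasInjectiveDimensionLT.subsingleton _ 1 (1 + 0) (by omega) _)
    have hass : p ∈ associatedPrimes A A := by
      apply Module.associatedPrimes.minimalPrimes_annihilator_subset_associatedPrimes A A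
      have : Module.annihilator A A = ⊥ := Module.annihilator_eq_bot.mpr inferInstance
      rw [this]
      exact hp
    obtain ⟨_, f, hf⟩ := (isAssociatedPrime_iff_exists_injective_linearMap p A).mp hass
    have hf0 : ModuleCat.ofHom f = 0 :=
      (Ext.mk₀_bijective _ _).1 (Subsingleton.elim (h := h0) _ _)
    have hfz : f = 0 := by
      have := congrArg ModuleCat.Hom.hom hf0
      simpa using this
    have hsub : Subsingleton (A ⧸ p) := by
      refine ⟨fun a b => hf ?_⟩
      rw [hfz]; rfl
    have : Nontrivial (A ⧸ p) := Ideal.Quotient.nontrivial_iff.mpr hpp.ne_top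
    exact not_subsingleton (A ⧸ p) hsub
  have hle : Ring.KrullDimLE 0 A := by
    rw [Ring.krullDimLE_zero_iff_forall_minimalPrimes_isMaximal]
    intro p hp
    rw [hmin p hp]
    infer_instance
  exact le_antisymm (Ring.krullDimLE_iff.mp hle) ringKrullDim_nonneg_of_nontrivial

/-- a ring with a regular element in the maximal ideal is not self-injective. -/
theorem not_injective_of_regular (x : A) (hxm : x ∈ maximalIdeal A) (hreg : IsSMulRegular A x) :
    ¬ HasInjectiveDimensionLT (ModuleCat.of A A) 1 := by
  intro h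
  haveI : Injective (ModuleCat.of A A) := injective_iff_hasInjectiveDimensionLT_one.mpr h
  let f : ModuleCat.of A A ⟶ ModuleCat.of A A := ModuleCat.ofHom (LinearMap.lsmul A A x)
  haveI : Mono f := (ModuleCat.mono_iff_injective _).2 (fun a b hab => hreg hab)
  have hfac := Injective.comp_factorThru (𝟙 (ModuleCat.of A A)) f
  have h1 := congrArg (fun g => g.hom (1 : A)) hfac
  simp only [f, ModuleCat.hom_comp, ModuleCat.hom_ofHom, LinearMap.comp_apply,
    LinearMap.lsmul_apply, ModuleCat.hom_id, LinearMap.id_apply] at h1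
  have h2 : x * (Injective.factorThru (𝟙 (ModuleCat.of A A)) f).hom (1 : A) = 1 := by
    have : (Injective.factorThru (𝟙 (ModuleCat.of A A)) f).hom (x • (1 : A)) = 1 := h1
    rwa [map_smul, smul_eq_mul] at this
  exact (mem_maximalIdeal x).mp hxm (IsUnit.of_mul_eq_one _ h2)


theorem withBot_enat_add_one_cancel (a : WithBot ℕ∞) (e : ℕ)
    (h : a + 1 = ((e + 1 : ℕ) : WithBot ℕ∞)) : a = e := by
  induction a with
  | bot =>
    exfalso
    rw [WithBot.bot_add] at h
    exact WithBot.bot_ne_coe (a := ((e + 1 : ℕ) : ℕ∞)) h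
  | coe b =>
    induction b with
    | top =>
      exfalso
      have : ((⊤ : ℕ∞) : WithBot ℕ∞) + 1 = ((⊤ : ℕ∞) : WithBot ℕ∞) := by
        rw [← WithBot.coe_one, ← WithBot.coe_add]; simp
      rw [this] at h
      have h' : ((⊤ : ℕ∞) : WithBot ℕ∞) = (((e + 1 : ℕ) : ℕ∞) : WithBot ℕ∞) := h
      rw [WithBot.coe_inj] at h'
      exact ENat.top_ne_natCast _ h'
    | coe m =>
      have h' : (((m + 1 : ℕ) : ℕ∞) : WithBot ℕ∞) = (((e + 1 : ℕ) : ℕ∞) : WithBot ℕ∞) := by
        refine Eq.trans ?_ h
        push_cast; rfl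
      rw [WithBot.coe_inj, Nat.cast_inj] at h'
      have : m = e := by omega
      rw [this]; rfl

theorem withBot_enat_add_one_ne_zero (a : WithBot ℕ∞) (ha : 0 ≤ a) :
    a + 1 ≠ ((0 : ℕ) : WithBot ℕ∞) := by
  intro h
  induction a with
  | bot => simp at ha
  | coe b =>
    have h' : ((b + 1 : ℕ∞) : WithBot ℕ∞) = ((0 : ℕ∞) : WithBot ℕ∞) := by
      rw [WithBot.coe_add, WithBot.coe_one, h]; rfl
    rw [WithBot.coe_inj] at h'
    simp at h'

open Pointwise in
/-- lifting a weakly regular sequence from `A ⧸ (x)` to `A`. -/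
theorem exists_isWeaklyRegular_cons (x : A) (hxm : x ∈ maximalIdeal A) (hreg : IsSMulRegular A x)
    [IsLocalRing (A ⧸ Ideal.span {x})]
    (rs' : List (A ⧸ Ideal.span {x}))
    (hrs' : RingTheory.Sequence.IsWeaklyRegular (A ⧸ Ideal.span {x}) rs')
    (hmem : ∀ r ∈ rs', r ∈ maximalIdeal (A ⧸ Ideal.span {x})) :
    ∃ rs : List A, RingTheory.Sequence.IsWeaklyRegular A rs ∧ (∀ r ∈ rs, r ∈ maximalIdeal A) ∧
      rs.length = rs'.length + 1 := by
  obtain ⟨l, hl⟩ := List.map_surjective_iff.mpr
    (Ideal.Quotient.mk_surjective (I := Ideal.span {x})) rs'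
  refine ⟨x :: l, ?_, ?_, ?_⟩
  · rw [RingTheory.Sequence.isWeaklyRegular_cons_iff]
    refine ⟨hreg, ?_⟩
    have h1 : RingTheory.Sequence.IsWeaklyRegular (A ⧸ Ideal.span {x})
        (l.map (algebraMap A (A ⧸ Ideal.span {x}))) := by
      rw [Ideal.Quotient.algebraMap_eq, hl]
      exact hrs'
    have h2 : RingTheory.Sequence.IsWeaklyRegular (A ⧸ Ideal.span {x}) l :=
      (RingTheory.Sequence.isWeaklyRegular_map_algebraMap_iff (A ⧸ Ideal.span {x})
        (A ⧸ Ideal.span {x}) l).mp h1
    have heq : (x • (⊤ : Submodule A A)) = (Ideal.span {x} : Submodule A A) := by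
      simp [← Submodule.ideal_span_singleton_smul]
    exact ((Submodule.quotEquivOfEq _ _ heq).isWeaklyRegular_congr l).mpr h2
  · intro r hr
    rcases List.mem_cons.mp hr with rfl | hr
    · exact hxm
    · have : Ideal.Quotient.mk (Ideal.span {x}) r ∈ rs' := by
        rw [← hl]; exact List.mem_map_of_mem hr
      exact (mk_mem_maximalIdeal_iff x hxm r).mp (hmem _ this)
  · rw [List.length_cons, ← hl, List.length_map]

/-- **Main theorem**: a Noetherian local ring of finite self-injective dimension and dimension `d`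
has a regular sequence of length `d`, and injective dimension exactly `d`. -/
theorem main (d : ℕ) : ∀ (A : Type u) [CommRing A] [IsLocalRing A] [IsNoetherianRing A],
    ringKrullDim A = d → (∃ n, HasInjectiveDimensionLT (ModuleCat.of A A) n) →
    (∃ rs : List A, RingTheory.Sequence.IsWeaklyRegular A rs ∧
      (∀ r ∈ rs, r ∈ maximalIdeal A) ∧ rs.length = d) ∧
    HasInjectiveDimensionLT (ModuleCat.of A A) (d + 1) ∧
    ∀ n, HasInjectiveDimensionLT (ModuleCat.of A A) n → d < n := by
  induction d with
  | zero =>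
    intro A _ _ _ hdim hfin
    by_cases hreg : ∃ x ∈ maximalIdeal A, IsSMulRegular A x
    · exfalso
      obtain ⟨x, hxm, hx⟩ := hreg
      have h1 := ringKrullDim_quotient_span_singleton_succ_eq_ringKrullDim hx hxm
      haveI := isLocalRing_quot x hxm
      have h2 : (0 : WithBot ℕ∞) ≤ ringKrullDim (A ⧸ Ideal.span {x}) :=
        ringKrullDim_nonneg_of_nontrivial
      rw [hdim] at h1
      exact withBot_enat_add_one_ne_zero _ h2 h1
    · have hinj := injective_of_no_regular hfin hreg
      refine ⟨⟨[], RingTheory.Sequence.IsWeaklyRegular.nil A A, by simp, rfl⟩, hinj, ?_⟩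
      intro n hn
      rcases Nat.eq_zero_or_pos n with rfl | hpos
      · exfalso
        have hz := isZero_of_hasInjectiveDimensionLT_zero (ModuleCat.of A A)
        rw [ModuleCat.isZero_iff_subsingleton] at hz
        exact not_subsingleton A hz
      · exact hpos
  | succ e ih =>
    intro A _ _ _ hdim hfin
    by_cases hreg : ∃ x ∈ maximalIdeal A, IsSMulRegular A x
    · obtain ⟨x, hxm, hx⟩ := hreg
      haveI := isLocalRing_quot x hxm
      have h1 := ringKrullDim_quotient_span_singleton_succ_eq_ringKrullDim hx hxm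
      have hdimB : ringKrullDim (A ⧸ Ideal.span {x}) = e := by
        rw [hdim] at h1
        exact withBot_enat_add_one_cancel _ e h1
      have hfinB : ∃ n, HasInjectiveDimensionLT
          (ModuleCat.of (A ⧸ Ideal.span {x}) (A ⧸ Ideal.span {x})) n := by
        obtain ⟨n, hn⟩ := hfin
        exact ⟨n + 1, injdim_quot x hx n (hasInjectiveDimensionLT_of_ge _ n (n + 2) (by omega))⟩
      obtain ⟨⟨rs', hrs', hmem', hlen'⟩, hB, hlow⟩ := ih (A ⧸ Ideal.span {x}) hdimB hfinB
      refine ⟨?_, injdim_of_quot x hxm hx e hB, ?_⟩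
      · obtain ⟨rs, h1, h2, h3⟩ := exists_isWeaklyRegular_cons x hxm hx rs' hrs' hmem'
        exact ⟨rs, h1, h2, by rw [h3, hlen']⟩
      · intro n hn
        rcases Nat.lt_or_ge n 2 with hlt | hge
        · exfalso
          exact not_injective_of_regular x hxm hx (hasInjectiveDimensionLT_of_ge _ n 1 (by omega))
        · obtain ⟨r, rfl⟩ : ∃ r, n = r + 2 := ⟨n - 2, by omega⟩
          have := hlow (r + 1) (injdim_quot x hx r hn)
          omega
    · exfalso
      have hinj := injective_of_no_regular hfin hreg
      have h0 := ringKrullDim_eq_zero_of_injective hinj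
      rw [hdim] at h0
      exact absurd h0 (by norm_cast)

end Groth.Agent.Lib.helper17.GorCM
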