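import Mathlib
import Groth.Agent.Lib.Helper17.GorCM
import Groth.Agent.Lib.Helper19.MatlisLen

/-!
# helper17: Artinian local rings: Gorenstein iff the socle is simple

For a local ring `R` we put `typ R := length_R Hom_R(k, R)` (the dimension of the socle).
* `length_hom_le`: `length Hom(M, E) ≤ length Hom(k, E) * length M` for `M` of finite length.
* `injective_of_typ_le_one`: an Artinian local ring with `typ R ≤ 1` is self-injective (Baer + a
  length count).
* `typ_eq_one_of_injective`: a self-injective Artinian local ring has `typ R = 1`.
* `isGorensteinLocalRing_iff_typ`: an Artinian local ring is Gorenstein iff `typ R = 1`.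
-/

set_option autoImplicit false
set_option linter.style.haveILetI false
universe u

open CategoryTheory IsLocalRing

namespace Groth.Agent.Lib.helper17.ArtGor

section defs
variable (R : Type u) [CommRing R] [IsLocalRing R]

/-- The type of a local ring: the length of `Hom(k, R)`. -/
noncomputable def typ : ℕ∞ := Module.length R (ResidueField R →ₗ[R] R)

end defs

section general
variable {R : Type u} [CommRing R] [IsLocalRing R] (E : Type u) [AddCommGroup E] [Module R E]

theorem length_hom_simple (S : Type u) [AddCommGroup S] [Module R S] [IsSimpleModule R S] :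
    Module.length R (S →ₗ[R] E) = Module.length R (ResidueField R →ₗ[R] E) := by
  obtain ⟨I, hI, ⟨e⟩⟩ := isSimpleModule_iff_quot_maximal.mp (inferInstance : IsSimpleModule R S)
  have hI' : I = maximalIdeal R := IsLocalRing.eq_maximalIdeal hI
  subst hI'
  exact (LinearEquiv.congrLeft E R e).length_eq

variable {M : Type u} [AddCommGroup M] [Module R M]

omit [IsLocalRing R] in
theorem lcomp_mkQ_injective (N : Submodule R M) :
    Function.Injective (LinearMap.lcomp R E N.mkQ) := by
  intro φ ψ h
  ext x
  have := LinearMap.congr_fun h x
  simpa using this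

omit [IsLocalRing R] in
theorem lcomp_exact (N : Submodule R M) :
    Function.Exact (LinearMap.lcomp R E N.mkQ) (LinearMap.lcomp R E N.subtype) := by
  intro φ
  constructor
  · intro h
    have hle : N ≤ LinearMap.ker φ := by
      intro x hx
      have := LinearMap.congr_fun h ⟨x, hx⟩
      simpa using this
    exact ⟨N.liftQ φ hle, by ext x; simp⟩
  · rintro ⟨ψ, rfl⟩
    ext x
    have : (Submodule.Quotient.mk (x : M) : M ⧸ N) = 0 :=
      (Submodule.Quotient.mk_eq_zero N).mpr x.2
    simp [this]

omit [IsLocalRing R] in
/-- `length Hom(M,E) = length Hom(M/N,E) + length (image of Hom(M,E) → Hom(N,E))`. -/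
theorem length_hom_eq_add_range (N : Submodule R M) :
    Module.length R (M →ₗ[R] E) = Module.length R ((M ⧸ N) →ₗ[R] E) +
      Module.length R (LinearMap.range (LinearMap.lcomp R E N.subtype)) := by
  refine Module.length_eq_add_of_exact (LinearMap.lcomp R E N.mkQ)
    (LinearMap.lcomp R E N.subtype).rangeRestrict (lcomp_mkQ_injective E N)
    (LinearMap.surjective_rangeRestrict _) ?_
  intro φ
  rw [← lcomp_exact E N φ]
  constructor
  · intro h
    have := congrArg Subtype.val h
    simpa using this
  · intro h
    apply Subtype.ext
    simpa using h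

omit [IsLocalRing R] in
theorem length_hom_le_add (N : Submodule R M) :
    Module.length R (M →ₗ[R] E) ≤
      Module.length R ((M ⧸ N) →ₗ[R] E) + Module.length R (N →ₗ[R] E) := by
  rw [length_hom_eq_add_range E N]
  gcongr
  exact Module.length_le_of_injective (LinearMap.range (LinearMap.lcomp R E N.subtype)).subtype
    (Submodule.subtype_injective _)

omit [IsLocalRing R] in
theorem length_eq_add_one (N : Submodule R M) [IsSimpleModule R (M ⧸ N)] :
    Module.length R M = Module.length R N + 1 := by
  rw [Module.length_eq_add_of_exact N.subtype N.mkQ N.injective_subtype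
    (Submodule.mkQ_surjective N) (LinearMap.exact_subtype_mkQ N), Module.length_eq_one R (M ⧸ N)]

/-- `length Hom(M,E) ≤ length Hom(k,E) * length M` for `M` of finite length. -/
theorem length_hom_le (M : Type u) [AddCommGroup M] [Module R M] (hM : IsFiniteLength R M) :
    Module.length R (M →ₗ[R] E) ≤
      Module.length R (ResidueField R →ₗ[R] E) * Module.length R M := by
  induction hM with
  | of_subsingleton =>
    rw [Module.length_eq_zero]
    exact bot_le
  | @of_simple_quotient M _ _ N _ hN ih =>
    refine (length_hom_le_add E N).trans ?_
    rw [length_eq_add_one N, length_hom_simple E (M ⧸ N), mul_add, mul_one, add_comm]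
    gcongr

/-- `length Hom(M,E) = length Hom(k,E) * length M` for `M` of finite length and `E` injective. -/
theorem length_hom_eq [Module.Injective R E] (M : Type u) [AddCommGroup M] [Module R M]
    (hM : IsFiniteLength R M) :
    Module.length R (M →ₗ[R] E) =
      Module.length R (ResidueField R →ₗ[R] E) * Module.length R M := by
  induction hM with
  | @of_subsingleton M _ _ _ =>
    rw [Module.length_eq_zero (R := R) (M := M →ₗ[R] E), Module.length_eq_zero (R := R) (M := M),
      mul_zero]
  | @of_simple_quotient M _ _ N _ hN ih =>
    rw [Groth.Agent.Lib.helper19.MatlisLen.length_hom_eq_add N, ih, length_eq_add_one N,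
      length_hom_simple E (M ⧸ N), mul_add, mul_one, add_comm]

end general

section artinian
variable (R : Type u) [CommRing R] [IsLocalRing R] [IsArtinianRing R]

theorem enat_aux1 {a b c : ℕ∞} (hb : b ≠ ⊤) (h : a + b ≤ b + c) : a ≤ c := by
  rw [add_comm b c] at h
  exact (ENat.add_le_add_iff_right hb).mp h

theorem enat_aux2 {a c q : ℕ∞} (ha : a ≠ ⊤) (h1 : a ≤ c) (h2 : c + q ≤ a) : q = 0 := by
  obtain ⟨n, rfl⟩ := ENat.ne_top_iff_exists.mp ha
  cases c with
  | top => simp at h2
  | coe m =>
    cases q with
    | top => simp at h2
    | coe k =>
      have h1' : n ≤ m := by exact_mod_cast h1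
      have h2' : m + k ≤ n := by exact_mod_cast h2
      have : k = 0 := by omega
      simp [this]

/-- An Artinian local ring with socle of length at most one is self-injective. -/
theorem injective_of_typ_le_one (h : typ R ≤ 1) : Module.Injective R R := by
  apply Module.Baer.injective
  intro I g
  set res : (R →ₗ[R] R) →ₗ[R] (I →ₗ[R] R) := LinearMap.lcomp R R I.subtype with hres
  have hI : IsFiniteLength R I := by
    rw [isFiniteLength_iff_isNoetherian_isArtinian]; exact ⟨inferInstance, inferInstance⟩
  have hQ : IsFiniteLength R (R ⧸ I) := by
    rw [isFiniteLength_iff_isNoetherian_isArtinian]; exact ⟨inferInstance, inferInstance⟩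
  have hIle : Module.length R (I →ₗ[R] R) ≤ Module.length R I := by
    refine (length_hom_le R I hI).trans ?_
    calc Module.length R (ResidueField R →ₗ[R] R) * Module.length R I
        ≤ 1 * Module.length R I := by gcongr; exact h
      _ = Module.length R I := one_mul _
  have hQle : Module.length R ((R ⧸ I) →ₗ[R] R) ≤ Module.length R (R ⧸ I) := by
    refine (length_hom_le R (R ⧸ I) hQ).trans ?_
    calc Module.length R (ResidueField R →ₗ[R] R) * Module.length R (R ⧸ I)
        ≤ 1 * Module.length R (R ⧸ I) := by gcongr; exact h
      _ = Module.length R (R ⧸ I) := one_mul _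
  have hR : Module.length R (R →ₗ[R] R) = Module.length R I + Module.length R (R ⧸ I) := by
    rw [(LinearMap.ringLmapEquivSelf R R R).length_eq]
    exact Module.length_eq_add_of_exact I.subtype I.mkQ I.injective_subtype
      (Submodule.mkQ_surjective I) (LinearMap.exact_subtype_mkQ I)
  have h1 := length_hom_eq_add_range R I
  rw [hR] at h1
  have hIne : Module.length R I ≠ ⊤ := Module.length_ne_top_iff.mpr hI
  have hQne : Module.length R (R ⧸ I) ≠ ⊤ := Module.length_ne_top_iff.mpr hQ
  -- `length I ≤ length (range res)`
  have h2 : Module.length R I ≤ Module.length R (LinearMap.range res) := by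
    refine enat_aux1 hQne ?_
    rw [h1]
    gcongr
  -- the quotient of `Hom(I,R)` by the range has length zero
  have h3 : Module.length R (I →ₗ[R] R) = Module.length R (LinearMap.range res) +
      Module.length R ((I →ₗ[R] R) ⧸ LinearMap.range res) :=
    Module.length_eq_add_of_exact (LinearMap.range res).subtype (LinearMap.range res).mkQ
      (Submodule.subtype_injective _) (Submodule.mkQ_surjective _)
      (LinearMap.exact_subtype_mkQ (LinearMap.range res))
  have h4 : Module.length R ((I →ₗ[R] R) ⧸ LinearMap.range res) = 0 := by
    refine enat_aux2 hIne h2 ?_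
    rw [← h3]; exact hIle
  rw [Module.length_eq_zero_iff, Submodule.Quotient.subsingleton_iff] at h4
  obtain ⟨g', hg'⟩ := LinearMap.range_eq_top.mp h4 g
  refine ⟨g', fun x hx => ?_⟩
  rw [← hg']
  rfl

/-- A self-injective Artinian local ring has simple socle. -/
theorem typ_eq_one_of_injective [Module.Injective R R] : typ R = 1 := by
  have hR : IsFiniteLength R R := by
    rw [isFiniteLength_iff_isNoetherian_isArtinian]; exact ⟨inferInstance, inferInstance⟩
  have h1 := length_hom_eq R R hR
  rw [(LinearMap.ringLmapEquivSelf R R R).length_eq] at h1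
  have hne : Module.length R R ≠ ⊤ := Module.length_ne_top_iff.mpr hR
  have hpos : 0 < Module.length R R := Module.length_pos
  unfold typ
  obtain ⟨n, hn⟩ := ENat.ne_top_iff_exists.mp hne
  rw [← hn] at h1 hpos
  cases ht : Module.length R (ResidueField R →ₗ[R] R) with
  | top =>
    rw [ht, ENat.top_mul (by exact_mod_cast hpos.ne')] at h1
    simp at h1
  | coe m =>
    rw [ht] at h1
    have h1' : n = m * n := by exact_mod_cast h1
    have hpos' : 0 < n := by exact_mod_cast hpos
    have : m = 1 := by
      have : 1 * n = m * n := by rw [one_mul]; exact h1'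
      exact (Nat.eq_of_mul_eq_mul_right hpos' this).symm
    rw [this]; rfl

theorem not_exists_regular : ¬ ∃ x ∈ maximalIdeal R, IsSMulRegular R x := by
  rintro ⟨x, hx, hreg⟩
  obtain ⟨n, hn0⟩ := IsArtinianRing.isNilpotent_jacobson_bot (R := R)
  rw [IsLocalRing.jacobson_eq_maximalIdeal (⊥ : Ideal R) bot_ne_top] at hn0
  have hn : x ^ n = 0 := by
    have := Ideal.pow_mem_pow hx n
    rw [hn0] at this
    simpa using this
  have h2 : IsSMulRegular R (x ^ n) := hreg.pow n
  rw [hn] at h2
  have : (1 : R) = 0 := h2 (by simp)
  exact one_ne_zero this

/-- An Artinian local ring is Gorenstein iff its socle is simple. -/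
theorem isGorensteinLocalRing_iff_typ :
    LocCoh.IsGorensteinLocalRing R ↔ typ R = 1 := by
  constructor
  · intro hG
    have h1 := Groth.Agent.Lib.helper17.GorCM.injective_of_no_regular
      hG.exists_hasInjectiveDimensionLT (not_exists_regular R)
    haveI : Injective (ModuleCat.of R R) := injective_iff_hasInjectiveDimensionLT_one.mpr h1
    haveI : Module.Injective R R := Module.injective_module_of_injective_object R R
    exact typ_eq_one_of_injective R
  · intro h
    haveI : Module.Injective R R := injective_of_typ_le_one R h.le
    haveI : Injective (ModuleCat.of R R) := Module.injective_object_of_injective_module R R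
    exact { exists_hasInjectiveDimensionLT :=
      ⟨1, injective_iff_hasInjectiveDimensionLT_one.mp inferInstance⟩ }

end artinian

end Groth.Agent.Lib.helper17.ArtGor
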