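import Mathlib
import Groth.Agent.Lib.Helper17.ArtGor

/-!
# helper17: the type formula `r(B) = r(A) r(B/m_A B)` for flat local homomorphisms

* `socM R R' M`: the socle `{x | m_R x = 0}` of `M` as an `R'`-submodule; `homEquivSoc`:
  `Hom_R(k, M) ≃ socM R R' M`.
* `socEquivTensor`: for `A → B` flat with `A` Noetherian, `{b | m_A b = 0} ≃ B ⊗ Hom_A(k_A, A)`.
* `typ_eq_mul`: `typ B = typ A * typ (B/m_A B)` for a flat local homomorphism (`A` Noetherian).
* `gor_iff_of_artinian`: for `A`, `B`, `B/m_A B` Artinian local, `B` is Gorenstein iff `A` and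
  `B/m_A B` are.
-/

set_option autoImplicit false
set_option linter.style.haveILetI false
set_option linter.unusedVariables false
set_option linter.unusedSectionVars false
universe u

open IsLocalRing TensorProduct

namespace Groth.Agent.Lib.helper17.SocleFlat

section bridge
variable (R : Type u) [CommRing R] [IsLocalRing R] (R' : Type u) [CommRing R']
  (M : Type u) [AddCommGroup M] [Module R M] [Module R' M] [SMulCommClass R R' M]

/-- The socle: elements killed by the maximal ideal of `R`, as an `R'`-submodule. -/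
def socM : Submodule R' M where
  carrier := {x | ∀ a ∈ maximalIdeal R, a • x = 0}
  add_mem' := fun {x y} hx hy a ha => by rw [smul_add, hx a ha, hy a ha, add_zero]
  zero_mem' := fun a _ => smul_zero a
  smul_mem' := fun c x hx a ha => by rw [smul_comm, hx a ha, smul_zero]

variable {R R' M} in
theorem mem_socM {x : M} : x ∈ socM R R' M ↔ ∀ a ∈ maximalIdeal R, a • x = 0 := Iff.rfl

theorem smul_one_residue (a : R) : a • (1 : ResidueField R) = residue R a := by
  rw [Algebra.smul_def, mul_one]; rfl

/-- `Hom_R(k, M)` is the socle of `M`. -/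
noncomputable def homEquivSoc : (ResidueField R →ₗ[R] M) ≃ₗ[R'] socM R R' M where
  toFun ψ := ⟨ψ 1, fun a ha => by
    rw [← map_smul, smul_one_residue, (residue_eq_zero_iff a).mpr ha, map_zero]⟩
  map_add' ψ χ := rfl
  map_smul' c ψ := rfl
  invFun x := Submodule.liftQ (maximalIdeal R) (LinearMap.toSpanSingleton R M x.1) (by
    intro a ha
    rw [LinearMap.mem_ker, LinearMap.toSpanSingleton_apply]
    exact x.2 a ha)
  left_inv ψ := by
    apply LinearMap.ext
    intro z
    obtain ⟨r, rfl⟩ := Ideal.Quotient.mk_surjective z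
    change r • ψ 1 = ψ _
    rw [← map_smul, smul_one_residue]
    rfl
  right_inv x := by
    apply Subtype.ext
    change (1 : R) • x.1 = x.1
    rw [one_smul]

end bridge

section sub
variable (B : Type u) [CommRing B] [IsLocalRing B] (M : Type u) [AddCommGroup M] [Module B M]

variable {B M} in
theorem apply_mem_socM (χ : ResidueField B →ₗ[B] M) (x : ResidueField B) :
    χ x ∈ socM B B M := by
  intro b hb
  rw [← map_smul]
  obtain ⟨r, rfl⟩ := residue_surjective x
  have : b • residue B r = 0 := by
    rw [Algebra.smul_def]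
    change residue B b * residue B r = 0
    rw [(residue_eq_zero_iff b).mpr hb, zero_mul]
  rw [this, map_zero]

/-- Maps from the residue field land in any submodule containing the socle. -/
noncomputable def homSubEquiv (S : Submodule B M) (hS : socM B B M ≤ S) :
    (ResidueField B →ₗ[B] S) ≃ₗ[B] (ResidueField B →ₗ[B] M) where
  toFun ψ := S.subtype.comp ψ
  map_add' ψ χ := rfl
  map_smul' c ψ := rfl
  invFun χ := LinearMap.codRestrict S χ (fun x => hS (apply_mem_socM χ x))
  left_inv ψ := by
    apply LinearMap.ext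
    intro x
    apply Subtype.ext
    rfl
  right_inv χ := by
    apply LinearMap.ext
    intro x
    rfl

/-- `Hom(k, N^r) = Hom(k, N)^r`. -/
noncomputable def homPiEquiv (K N : Type u) [AddCommGroup K] [Module B K] [AddCommGroup N]
    [Module B N] (ι : Type) :
    (K →ₗ[B] (ι → N)) ≃ₗ[B] (ι → (K →ₗ[B] N)) where
  toFun ψ i := (LinearMap.proj i).comp ψ
  map_add' ψ χ := rfl
  map_smul' c ψ := rfl
  invFun f := LinearMap.pi f
  left_inv ψ := rfl
  right_inv f := rfl

end sub

section vs
variable (A : Type u) [CommRing A] [IsLocalRing A]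

/-- A finite module killed by the maximal ideal is a finite product of copies of the residue
field. -/
theorem exists_equiv_pi (V : Type u) [AddCommGroup V] [Module A V] [Module.Finite A V]
    (hV : ∀ a ∈ maximalIdeal A, ∀ v : V, a • v = 0) :
    ∃ r : ℕ, Nonempty (V ≃ₗ[A] (Fin r → ResidueField A)) := by
  have htors : Module.IsTorsionBySet A V (maximalIdeal A) := by
    intro v a
    exact hV a.1 a.2 v
  letI : Module (A ⧸ maximalIdeal A) V := htors.module
  haveI : IsScalarTower A (A ⧸ maximalIdeal A) V := htors.isScalarTower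
  letI : Field (A ⧸ maximalIdeal A) := Ideal.Quotient.field _
  haveI : Module.Finite (A ⧸ maximalIdeal A) V := Module.Finite.of_restrictScalars_finite A _ _
  let b := Module.finBasis (A ⧸ maximalIdeal A) V
  exact ⟨_, ⟨(b.equivFun).restrictScalars A⟩⟩

end vs

section flat
variable (A B : Type u) [CommRing A] [CommRing B] [IsLocalRing A] [IsLocalRing B]
  [IsNoetherianRing A] [Algebra A B] [IsLocalHom (algebraMap A B)] [Module.Flat A B]

instance : Module.FinitePresentation A (ResidueField A) :=
  Module.finitePresentation_of_finite A (ResidueField A)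

/-- `{b | m_A b = 0} ≅ B ⊗ Hom_A(k_A, A)` by flatness. -/
noncomputable def socEquivTensor :
    socM A B B ≃ₗ[B] B ⊗[A] (ResidueField A →ₗ[A] A) :=
  (homEquivSoc A B B).symm ≪≫ₗ (LinearMap.liftBaseChangeEquiv B) ≪≫ₗ
    (LinearEquiv.congrRight (AlgebraTensorModule.rid A B B).symm) ≪≫ₗ
    (Module.FinitePresentation.isBaseChange_map A (ResidueField A) A B).equiv.symm

theorem isSimpleModule_residueField : IsSimpleModule A (ResidueField A) :=
  isSimpleModule_iff_quot_maximal.mpr ⟨maximalIdeal A, inferInstance, ⟨LinearEquiv.refl A _⟩⟩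

theorem exists_soc_equiv_pi : ∃ r : ℕ, ArtGor.typ A = r ∧
    Nonempty (socM A B B ≃ₗ[B] (Fin r → B ⧸ (maximalIdeal A).map (algebraMap A B))) := by
  obtain ⟨r, ⟨e⟩⟩ := exists_equiv_pi A (ResidueField A →ₗ[A] A) (by
    intro a ha ψ
    apply LinearMap.ext
    intro x
    rw [LinearMap.smul_apply, ← map_smul]
    obtain ⟨y, rfl⟩ := residue_surjective x
    have : a • residue A y = 0 := by
      rw [Algebra.smul_def]
      change residue A a * residue A y = 0
      rw [(residue_eq_zero_iff a).mpr ha, zero_mul]
    rw [this, map_zero, LinearMap.zero_apply])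
  refine ⟨r, ?_, ⟨?_⟩⟩
  · unfold ArtGor.typ
    haveI := isSimpleModule_residueField A
    rw [e.length_eq, Module.length_pi, Module.length_eq_one]
    simp
  · exact socEquivTensor A B ≪≫ₗ (e.baseChange A B) ≪≫ₗ
      (TensorProduct.piRight A B B (fun _ : Fin r => ResidueField A)) ≪≫ₗ
      (LinearEquiv.piCongrRight (fun _ =>
        (Algebra.TensorProduct.quotIdealMapEquivTensorQuot B (maximalIdeal A)).symm.toLinearEquiv))

omit [IsNoetherianRing A] [Module.Flat A B] in
theorem socM_le : socM B B B ≤ socM A B B := by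
  intro x hx a ha
  rw [Algebra.smul_def]
  exact hx _ (_root_.map_nonunit (algebraMap A B) a ha)

theorem exists_typ_eq : ∃ r : ℕ, ArtGor.typ A = r ∧ ArtGor.typ B =
    r * Module.length B (ResidueField B →ₗ[B] (B ⧸ (maximalIdeal A).map (algebraMap A B))) := by
  obtain ⟨r, hr, ⟨e⟩⟩ := exists_soc_equiv_pi A B
  refine ⟨r, hr, ?_⟩
  unfold ArtGor.typ
  rw [← (homSubEquiv B B (socM A B B) (socM_le A B)).length_eq,
    (LinearEquiv.congrRight e).length_eq, (homPiEquiv B _ _ (Fin r)).length_eq, Module.length_pi]
  simp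

end flat

section quot
variable (B : Type u) [CommRing B] [IsLocalRing B] (J : Ideal B) [IsLocalRing (B ⧸ J)]
  (N : Type u) [AddCommGroup N] [Module B N] [Module (B ⧸ J) N] [IsScalarTower B (B ⧸ J) N]

theorem mk_mem_maximalIdeal_iff (b : B) :
    Ideal.Quotient.mk J b ∈ maximalIdeal (B ⧸ J) ↔ b ∈ maximalIdeal B := by
  haveI : IsLocalHom (Ideal.Quotient.mk J) :=
    IsLocalHom.of_surjective _ Ideal.Quotient.mk_surjective
  rw [mem_maximalIdeal, mem_maximalIdeal, map_mem_nonunits_iff]

theorem mem_socM_quot_iff (x : N) : x ∈ socM (B ⧸ J) (B ⧸ J) N ↔ x ∈ socM B B N := by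
  constructor
  · intro hx b hb
    rw [← algebraMap_smul (B ⧸ J) b x]
    exact hx _ ((mk_mem_maximalIdeal_iff B J b).mpr hb)
  · intro hx c hc
    obtain ⟨b, rfl⟩ := Ideal.Quotient.mk_surjective c
    have := hx b ((mk_mem_maximalIdeal_iff B J b).mp hc)
    rwa [← algebraMap_smul (B ⧸ J) b x] at this

/-- The socle over `B/J` and over `B` of a `B/J`-module agree. -/
noncomputable def socQuotEquiv : socM (B ⧸ J) (B ⧸ J) N ≃ₗ[B] socM B B N where
  toFun x := ⟨x.1, (mem_socM_quot_iff B J N x.1).mp x.2⟩
  map_add' x y := rfl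
  map_smul' c x := rfl
  invFun x := ⟨x.1, (mem_socM_quot_iff B J N x.1).mpr x.2⟩
  left_inv x := rfl
  right_inv x := rfl

theorem length_hom_residue_quot :
    Module.length B (ResidueField B →ₗ[B] N) =
      Module.length (B ⧸ J) (ResidueField (B ⧸ J) →ₗ[B ⧸ J] N) := by
  rw [(homEquivSoc B B N).length_eq, (homEquivSoc (B ⧸ J) (B ⧸ J) N).length_eq,
    ← (socQuotEquiv B J N).length_eq]
  exact Module.length_eq_of_surjective Ideal.Quotient.mk_surjective

end quot

section main
variable (A B : Type u) [CommRing A] [CommRing B] [IsLocalRing A] [IsLocalRing B]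
  [IsNoetherianRing A] [Algebra A B] [IsLocalHom (algebraMap A B)] [Module.Flat A B]
  [IsLocalRing (B ⧸ (maximalIdeal A).map (algebraMap A B))]

/-- The type formula for a flat local homomorphism: `r(B) = r(A) r(B/m_A B)`. -/
theorem typ_eq_mul : ArtGor.typ B =
    ArtGor.typ A * ArtGor.typ (B ⧸ (maximalIdeal A).map (algebraMap A B)) := by
  obtain ⟨r, hr, h⟩ := exists_typ_eq A B
  rw [h, hr, length_hom_residue_quot B ((maximalIdeal A).map (algebraMap A B))
    (B ⧸ (maximalIdeal A).map (algebraMap A B))]
  rfl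

theorem enat_mul_eq_one_iff {a b : ℕ∞} : a * b = 1 ↔ a = 1 ∧ b = 1 := by
  constructor
  · intro h
    cases a with
    | top =>
      exfalso
      rcases eq_or_ne b 0 with rfl | hb
      · simp at h
      · rw [ENat.top_mul hb] at h; simp at h
    | coe m =>
      cases b with
      | top =>
        exfalso
        rcases eq_or_ne (m : ℕ∞) 0 with hm | hm
        · rw [hm] at h; simp at h
        · rw [ENat.mul_top hm] at h; simp at h
      | coe n =>
        have h' : m * n = 1 := by exact_mod_cast h
        obtain ⟨h1, h2⟩ : m = 1 ∧ n = 1 := by simpa using h'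
        subst h1 h2
        exact ⟨rfl, rfl⟩
  · rintro ⟨rfl, rfl⟩
    simp

/-- Artinian case of the Gorenstein ascent/descent along flat local homomorphisms. -/
theorem gor_iff_of_artinian [IsArtinianRing A] [IsArtinianRing B]
    [IsArtinianRing (B ⧸ (maximalIdeal A).map (algebraMap A B))] :
    LocCoh.IsGorensteinLocalRing B ↔ LocCoh.IsGorensteinLocalRing A ∧
      LocCoh.IsGorensteinLocalRing (B ⧸ (maximalIdeal A).map (algebraMap A B)) := by
  rw [ArtGor.isGorensteinLocalRing_iff_typ, ArtGor.isGorensteinLocalRing_iff_typ,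
    ArtGor.isGorensteinLocalRing_iff_typ, typ_eq_mul A B, enat_mul_eq_one_iff]

end main

end Groth.Agent.Lib.helper17.SocleFlat
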