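import Mathlib
import Groth.Agent.Lib.Helper17.SocleFlat
import Groth.Agent.Lib.Helper17.GorIso
import Groth.Agent.Lib.Helper24.FlatQuot
import Groth.Agent.Lib.Helper24.FlatDepth4
import Groth.Agent.Lib.Helper19.Depth

/-!
# helper17: Gorenstein ascent and descent along flat local homomorphisms

`gor_iff_of_flat`: for a flat local homomorphism `A → B` of Noetherian local rings, `B` is Gorenstein
iff `A` and the closed fibre `B/m_A B` are.  Proof: induction on `dim B`, killing regular elements
of `A` (`step_a`) and lifts of regular elements of the closed fibre (`step_b`, Stacks 00ME via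
helper24), down to the Artinian case (`SocleFlat.gor_iff_of_artinian`).
Also: `gor_quot_iff` (`A` Gorenstein iff `A/(f)` Gorenstein, `f` regular).
-/

set_option autoImplicit false
set_option linter.style.haveILetI false
set_option linter.unusedVariables false
set_option linter.unusedSectionVars false
universe u

open IsLocalRing TensorProduct CategoryTheory

namespace Groth.Agent.Lib.helper17.GorFlat

open Groth.Agent.Lib.helper17.GorIso Groth.Agent.Lib.helper17.GorQuot
open Groth.Agent.Lib.Helper24.FlatQuot Groth.Agent.Lib.Helper24.FlatDimFormula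

/-- `A` is Gorenstein iff `A/(f)` is, for `f` a regular element of the maximal ideal. -/
theorem gor_quot_iff (A : Type u) [CommRing A] [IsLocalRing A] [IsNoetherianRing A] (f : A)
    (hf : f ∈ maximalIdeal A) (hreg : IsSMulRegular A f) :
    LocCoh.IsGorensteinLocalRing A ↔ LocCoh.IsGorensteinLocalRing (A ⧸ Ideal.span {f}) := by
  classical
  haveI hloc : IsLocalRing (A ⧸ Ideal.span {f}) := isLocalRing_quot f hf
  constructor
  · intro h
    obtain ⟨n, hn⟩ := h.exists_hasInjectiveDimensionLT
    have hn' : HasInjectiveDimensionLT (ModuleCat.of A A) (n + 2) :=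
      hasInjectiveDimensionLT_of_ge _ n (n + 2) (by omega)
    exact ⟨⟨n + 1, injdim_quot f hreg n hn'⟩⟩
  · intro h
    obtain ⟨n, hn⟩ := h.exists_hasInjectiveDimensionLT
    have hn' : HasInjectiveDimensionLT
        (ModuleCat.of (A ⧸ Ideal.span {f}) (A ⧸ Ideal.span {f})) (n + 1) :=
      hasInjectiveDimensionLT_of_ge _ n (n + 1) (by omega)
    exact ⟨⟨n + 2, injdim_of_quot f hf hreg n hn'⟩⟩

theorem exists_natCast_eq (B : Type u) [CommRing B] [IsLocalRing B] [IsNoetherianRing B] :
    ∃ d : ℕ, ringKrullDim B = d := by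
  have h1 : ringKrullDim B ≠ ⊤ := ringKrullDim_ne_top
  have h2 : ringKrullDim B ≠ ⊥ := ringKrullDim_ne_bot
  obtain ⟨b, hb⟩ := WithBot.ne_bot_iff_exists.mp h2
  have h3 : b ≠ ⊤ := by
    rintro rfl
    exact h1 hb.symm
  obtain ⟨m, hm⟩ := ENat.ne_top_iff_exists.mp h3
  exact ⟨m, by rw [← hb, ← hm]; rfl⟩

section
variable (A B : Type u) [CommRing A] [CommRing B] [IsLocalRing A] [IsLocalRing B]
  [IsNoetherianRing A] [IsNoetherianRing B] [Algebra A B] [IsLocalHom (algebraMap A B)]
  [Module.Flat A B]

theorem isSMulRegular_map (x : A) (hx : IsSMulRegular A x) : IsSMulRegular B (algebraMap A B x) := by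
  have h1 : RingTheory.Sequence.IsWeaklyRegular A [x] := by
    rw [RingTheory.Sequence.isWeaklyRegular_cons_iff]
    exact ⟨hx, RingTheory.Sequence.IsWeaklyRegular.nil _ _⟩
  have h2 := h1.of_flat (S := B)
  rw [List.map_cons, List.map_nil, RingTheory.Sequence.isWeaklyRegular_cons_iff] at h2
  exact h2.1

/-- the closed fibre of `A/I → B/IB` is the closed fibre of `A → B`. -/
noncomputable def fibreQuotEquiv (I : Ideal A) (hI : I ≠ ⊤) :
    letI : Nontrivial (A ⧸ I) := Ideal.Quotient.nontrivial_iff.mpr hI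
    letI : IsLocalRing (A ⧸ I) := .of_surjective' _ Ideal.Quotient.mk_surjective
    ((B ⧸ I.map (algebraMap A B)) ⧸
      (maximalIdeal (A ⧸ I)).map (algebraMap (A ⧸ I) (B ⧸ I.map (algebraMap A B)))) ≃+*
    (B ⧸ (maximalIdeal A).map (algebraMap A B)) := by
  letI : Nontrivial (A ⧸ I) := Ideal.Quotient.nontrivial_iff.mpr hI
  letI : IsLocalRing (A ⧸ I) := .of_surjective' _ Ideal.Quotient.mk_surjective
  have hm : maximalIdeal (A ⧸ I) = (maximalIdeal A).map (Ideal.Quotient.mk I) := by
    symm
    apply IsLocalRing.eq_maximalIdeal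
    refine Ideal.IsMaximal.map_of_surjective_of_ker_le Ideal.Quotient.mk_surjective ?_
    rw [Ideal.mk_ker]
    exact IsLocalRing.le_maximalIdeal hI
  have hmap : (maximalIdeal (A ⧸ I)).map (algebraMap (A ⧸ I) (B ⧸ I.map (algebraMap A B))) =
      ((maximalIdeal A).map (algebraMap A B)).map (Ideal.Quotient.mk (I.map (algebraMap A B))) := by
    rw [hm, Ideal.map_map, Ideal.map_map]
    rfl
  have hle : I.map (algebraMap A B) ≤ (maximalIdeal A).map (algebraMap A B) :=
    Ideal.map_mono (IsLocalRing.le_maximalIdeal hI)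
  exact (Ideal.quotEquivOfEq hmap).trans (DoubleQuot.quotQuotEquivQuotOfLE hle)

theorem span_ne_top (x : A) (hxm : x ∈ maximalIdeal A) : Ideal.span {x} ≠ ⊤ := by
  rw [Ne, Ideal.span_singleton_eq_top]
  exact hxm

/-- Step (a): quotient by a regular element of the base. -/
theorem step_a (x : A) (hxm : x ∈ maximalIdeal A) (hx : IsSMulRegular A x)
    (ih : letI : IsLocalRing (A ⧸ Ideal.span {x}) := isLocalRing_quot x hxm
      LocCoh.IsGorensteinLocalRing (B ⧸ (Ideal.span {x}).map (algebraMap A B)) ↔
        LocCoh.IsGorensteinLocalRing (A ⧸ Ideal.span {x}) ∧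
        LocCoh.IsGorensteinLocalRing ((B ⧸ (Ideal.span {x}).map (algebraMap A B)) ⧸
          (maximalIdeal (A ⧸ Ideal.span {x})).map
            (algebraMap (A ⧸ Ideal.span {x}) (B ⧸ (Ideal.span {x}).map (algebraMap A B))))) :
    LocCoh.IsGorensteinLocalRing B ↔ LocCoh.IsGorensteinLocalRing A ∧
      LocCoh.IsGorensteinLocalRing (B ⧸ (maximalIdeal A).map (algebraMap A B)) := by
  have hI := span_ne_top A x hxm
  have e1 : Ideal.span {algebraMap A B x} = (Ideal.span {x}).map (algebraMap A B) := by
    rw [Ideal.map_span, Set.image_singleton]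
  rw [gor_quot_iff B (algebraMap A B x) (_root_.map_nonunit (algebraMap A B) x hxm)
    (isSMulRegular_map A B x hx), isGorensteinLocalRing_iff_of_ringEquiv (Ideal.quotEquivOfEq e1),
    ih, ← gor_quot_iff A x hxm hx,
    isGorensteinLocalRing_iff_of_ringEquiv (fibreQuotEquiv A B _ hI)]

theorem dim_step_a (x : A) (hxm : x ∈ maximalIdeal A) (hx : IsSMulRegular A x) :
    ringKrullDim (B ⧸ (Ideal.span {x}).map (algebraMap A B)) + 1 = ringKrullDim B := by
  have e1 : Ideal.span {algebraMap A B x} = (Ideal.span {x}).map (algebraMap A B) := by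
    rw [Ideal.map_span, Set.image_singleton]
  rw [← ringKrullDim_eq_of_ringEquiv (Ideal.quotEquivOfEq e1)]
  exact ringKrullDim_quotient_span_singleton_succ_eq_ringKrullDim (isSMulRegular_map A B x hx)
    (_root_.map_nonunit (algebraMap A B) x hxm)

open Pointwise in
/-- Step (b), algebra: a lift `y` of a regular element of the closed fibre is regular on `B`, and
`B/(y)` is flat over `A`. -/
theorem regular_flat_of_fibre_regular (y : B)
    (hy : IsSMulRegular (B ⧸ (maximalIdeal A).map (algebraMap A B))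
      (Ideal.Quotient.mk ((maximalIdeal A).map (algebraMap A B)) y)) :
    IsSMulRegular B y ∧ Module.Flat A (B ⧸ Ideal.span {y}) := by
  have hy1 : IsSMulRegular (B ⧸ (maximalIdeal A).map (algebraMap A B)) y := by
    intro a b hab
    exact hy hab
  have hy2 : IsSMulRegular (B ⊗[A] (A ⧸ maximalIdeal A)) y :=
    ((Algebra.TensorProduct.quotIdealMapEquivTensorQuot B
      (maximalIdeal A)).toLinearEquiv.isSMulRegular_congr y).mp hy1
  constructor
  · have h3 := Groth.Agent.Lib.Helper24.FlatDepth.isSMulRegular_tensor A B B y hy2 A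
    exact ((AlgebraTensorModule.rid A B B).isSMulRegular_congr y).mp h3
  · have h4 := Groth.Agent.Lib.Helper24.FlatDepth.flat_quotSMulTop A B B y hy2
    have heq : (y • (⊤ : Submodule B B)) = (Ideal.span {y} : Submodule B B) := by
      simp [← Submodule.ideal_span_singleton_smul]
    exact Module.Flat.of_linearEquiv
      ((Submodule.quotEquivOfEq _ _ heq).restrictScalars A).symm

theorem isLocalHom_quot_span (y : B) (hym : y ∈ maximalIdeal B) :
    IsLocalHom (algebraMap A (B ⧸ Ideal.span {y})) := by
  haveI : IsLocalRing (B ⧸ Ideal.span {y}) := isLocalRing_quot y hym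
  haveI : IsLocalHom (Ideal.Quotient.mk (Ideal.span {y})) :=
    IsLocalHom.of_surjective _ Ideal.Quotient.mk_surjective
  have : algebraMap A (B ⧸ Ideal.span {y}) =
      (Ideal.Quotient.mk (Ideal.span {y})).comp (algebraMap A B) := rfl
  rw [this]
  exact RingHom.isLocalHom_comp _ _

/-- the closed fibre of `A → B/(y)` is the quotient of the closed fibre of `A → B` by `y`. -/
noncomputable def fibreQuotEquiv' (y : B) :
    ((B ⧸ Ideal.span {y}) ⧸ (maximalIdeal A).map (algebraMap A (B ⧸ Ideal.span {y}))) ≃+*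
    ((B ⧸ (maximalIdeal A).map (algebraMap A B)) ⧸
      Ideal.span {Ideal.Quotient.mk ((maximalIdeal A).map (algebraMap A B)) y}) := by
  have h1 : (maximalIdeal A).map (algebraMap A (B ⧸ Ideal.span {y})) =
      ((maximalIdeal A).map (algebraMap A B)).map (Ideal.Quotient.mk (Ideal.span {y})) := by
    rw [Ideal.map_map]
    rfl
  have h2 : (Ideal.span {y}).map (Ideal.Quotient.mk ((maximalIdeal A).map (algebraMap A B))) =
      Ideal.span {Ideal.Quotient.mk ((maximalIdeal A).map (algebraMap A B)) y} := by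
    rw [Ideal.map_span, Set.image_singleton]
  exact (Ideal.quotEquivOfEq h1).trans
    ((DoubleQuot.quotQuotEquivComm _ _).trans (Ideal.quotEquivOfEq h2))

/-- Step (b): quotient by a lift of a regular element of the closed fibre. -/
theorem step_b (y : B) (hym : y ∈ maximalIdeal B)
    (hy : IsSMulRegular (B ⧸ (maximalIdeal A).map (algebraMap A B))
      (Ideal.Quotient.mk ((maximalIdeal A).map (algebraMap A B)) y))
    (ih : LocCoh.IsGorensteinLocalRing (B ⧸ Ideal.span {y}) ↔
        LocCoh.IsGorensteinLocalRing A ∧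
        LocCoh.IsGorensteinLocalRing ((B ⧸ Ideal.span {y}) ⧸
          (maximalIdeal A).map (algebraMap A (B ⧸ Ideal.span {y})))) :
    LocCoh.IsGorensteinLocalRing B ↔ LocCoh.IsGorensteinLocalRing A ∧
      LocCoh.IsGorensteinLocalRing (B ⧸ (maximalIdeal A).map (algebraMap A B)) := by
  haveI := isLocalRing_quotient A B
  have hyB := (regular_flat_of_fibre_regular A B y hy).1
  have hmem : Ideal.Quotient.mk ((maximalIdeal A).map (algebraMap A B)) y ∈
      maximalIdeal (B ⧸ (maximalIdeal A).map (algebraMap A B)) :=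
    (SocleFlat.mk_mem_maximalIdeal_iff B _ y).mpr hym
  rw [gor_quot_iff B y hym hyB, ih,
    isGorensteinLocalRing_iff_of_ringEquiv (fibreQuotEquiv' A B y),
    ← gor_quot_iff (B ⧸ (maximalIdeal A).map (algebraMap A B)) _ hmem hy]

theorem isArtinianRing_of_dim_zero (R : Type u) [CommRing R] [IsNoetherianRing R]
    (h : ringKrullDim R = ((0 : ℕ) : WithBot ℕ∞)) : IsArtinianRing R := by
  rw [isArtinianRing_iff_krullDimLE_zero, Ring.krullDimLE_iff, h]

/-- The core case: no regular elements in the base and in the closed fibre. -/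
theorem core (h1 : ¬ ∃ x ∈ maximalIdeal A, IsSMulRegular A x)
    (h2 : ¬ ∃ y ∈ maximalIdeal B, IsSMulRegular (B ⧸ (maximalIdeal A).map (algebraMap A B))
      (Ideal.Quotient.mk ((maximalIdeal A).map (algebraMap A B)) y)) :
    LocCoh.IsGorensteinLocalRing B ↔ LocCoh.IsGorensteinLocalRing A ∧
      LocCoh.IsGorensteinLocalRing (B ⧸ (maximalIdeal A).map (algebraMap A B)) := by
  haveI := isLocalRing_quotient A B
  have h2' : ¬ ∃ z ∈ maximalIdeal (B ⧸ (maximalIdeal A).map (algebraMap A B)),
      IsSMulRegular (B ⧸ (maximalIdeal A).map (algebraMap A B)) z := by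
    rintro ⟨z, hz, hreg⟩
    obtain ⟨y, rfl⟩ := Ideal.Quotient.mk_surjective z
    exact h2 ⟨y, (SocleFlat.mk_mem_maximalIdeal_iff B _ y).mp hz, hreg⟩
  have hdim := ringKrullDim_eq_add_of_flat A B
  obtain ⟨dA, hdA⟩ := exists_natCast_eq A
  obtain ⟨dB, hdB⟩ := exists_natCast_eq B
  obtain ⟨dF, hdF⟩ := exists_natCast_eq (B ⧸ (maximalIdeal A).map (algebraMap A B))
  have hadd : dB = dA + dF := by
    rw [hdA, hdB, hdF] at hdim
    exact_mod_cast hdim
  have key : dA = 0 → dF = 0 → (LocCoh.IsGorensteinLocalRing B ↔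
      LocCoh.IsGorensteinLocalRing A ∧
      LocCoh.IsGorensteinLocalRing (B ⧸ (maximalIdeal A).map (algebraMap A B))) := by
    intro hA0 hF0
    have hB0 : dB = 0 := by omega
    subst hA0 hF0 hB0
    haveI := isArtinianRing_of_dim_zero A hdA
    haveI := isArtinianRing_of_dim_zero B hdB
    haveI := isArtinianRing_of_dim_zero _ hdF
    exact SocleFlat.gor_iff_of_artinian A B
  constructor
  · intro hB
    have hdepth := Groth.Agent.Lib.Helper24.FlatDepth.depth_eq_add_of_flat A B
    have hA0' : LocCoh.depth A A = 0 :=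
      Groth.Agent.Lib.helper19.Depth.idealDepth_eq_zero (maximalIdeal A)
        (Ideal.IsPrime.ne_top inferInstance) (fun r hr hreg => h1 ⟨r, hr, hreg⟩)
    have hF0' : LocCoh.depth (B ⧸ (maximalIdeal A).map (algebraMap A B))
        (B ⧸ (maximalIdeal A).map (algebraMap A B)) = 0 :=
      Groth.Agent.Lib.helper19.Depth.idealDepth_eq_zero (maximalIdeal _)
        (Ideal.IsPrime.ne_top inferInstance) (fun r hr hreg => h2' ⟨r, hr, hreg⟩)
    have hB0' : LocCoh.depth B B = 0 := by rw [hdepth, hA0', hF0', add_zero]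
    have hnoB : ¬ ∃ b ∈ maximalIdeal B, IsSMulRegular B b := by
      rintro ⟨b, hb, hreg⟩
      have h := Groth.Agent.Lib.helper19.Depth.one_le_idealDepth (maximalIdeal B) b hb hreg
      have h' : (1 : ℕ∞) ≤ LocCoh.depth B B := h
      rw [hB0'] at h'
      simp at h'
    have hinj := Groth.Agent.Lib.helper17.GorCM.injective_of_no_regular
      hB.exists_hasInjectiveDimensionLT hnoB
    have hBdim := Groth.Agent.Lib.helper17.GorCM.ringKrullDim_eq_zero_of_injective hinj
    have hB0 : dB = 0 := by
      rw [hdB] at hBdim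
      exact_mod_cast hBdim
    exact (key (by omega) (by omega)).mp hB
  · rintro ⟨hA, hF⟩
    have hinjA := Groth.Agent.Lib.helper17.GorCM.injective_of_no_regular
      hA.exists_hasInjectiveDimensionLT h1
    have hAdim := Groth.Agent.Lib.helper17.GorCM.ringKrullDim_eq_zero_of_injective hinjA
    have hA0 : dA = 0 := by
      rw [hdA] at hAdim
      exact_mod_cast hAdim
    have hinjF := Groth.Agent.Lib.helper17.GorCM.injective_of_no_regular
      hF.exists_hasInjectiveDimensionLT h2'
    have hFdim := Groth.Agent.Lib.helper17.GorCM.ringKrullDim_eq_zero_of_injective hinjF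
    have hF0 : dF = 0 := by
      rw [hdF] at hFdim
      exact_mod_cast hFdim
    exact (key hA0 hF0).mpr ⟨hA, hF⟩

end

theorem lt_of_dim_succ {X Y : Type u} [CommRing X] [CommRing Y] {e d : ℕ}
    (h : ringKrullDim X + 1 = ringKrullDim Y) (hX : ringKrullDim X = e) (hY : ringKrullDim Y = d) :
    e < d := by
  rw [hX, hY] at h
  have : e + 1 = d := by exact_mod_cast h
  omega

/-- **Gorenstein ascent and descent along flat local homomorphisms**, by induction on `dim B`. -/
theorem main (d : ℕ) : ∀ (A B : Type u) [CommRing A] [CommRing B] [IsLocalRing A] [IsLocalRing B]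
    [IsNoetherianRing A] [IsNoetherianRing B] [Algebra A B] [IsLocalHom (algebraMap A B)]
    [Module.Flat A B], ringKrullDim B = d →
    (LocCoh.IsGorensteinLocalRing B ↔ LocCoh.IsGorensteinLocalRing A ∧
      LocCoh.IsGorensteinLocalRing (B ⧸ (maximalIdeal A).map (algebraMap A B))) := by
  induction d using Nat.strong_induction_on with
  | _ d ih =>
  intro A B _ _ _ _ _ _ _ _ _ hdim
  haveI := isLocalRing_quotient A B
  by_cases h1 : ∃ x ∈ maximalIdeal A, IsSMulRegular A x
  · obtain ⟨x, hxm, hx⟩ := h1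
    have hI := span_ne_top A x hxm
    haveI : IsLocalRing (A ⧸ Ideal.span {x}) := isLocalRing_quot x hxm
    haveI : Nontrivial (B ⧸ (Ideal.span {x}).map (algebraMap A B)) :=
      Ideal.Quotient.nontrivial_iff.mpr (map_ne_top A B _ hI)
    haveI : IsLocalRing (B ⧸ (Ideal.span {x}).map (algebraMap A B)) :=
      .of_surjective' _ Ideal.Quotient.mk_surjective
    haveI := flat_quotient A B (Ideal.span {x})
    haveI := isLocalHom_quotient A B (Ideal.span {x}) hI
    obtain ⟨e, he⟩ := exists_natCast_eq (B ⧸ (Ideal.span {x}).map (algebraMap A B))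
    have hlt : e < d := lt_of_dim_succ (dim_step_a A B x hxm hx) he hdim
    exact step_a A B x hxm hx
      (ih e hlt (A ⧸ Ideal.span {x}) (B ⧸ (Ideal.span {x}).map (algebraMap A B)) he)
  by_cases h2 : ∃ y ∈ maximalIdeal B,
      IsSMulRegular (B ⧸ (maximalIdeal A).map (algebraMap A B))
        (Ideal.Quotient.mk ((maximalIdeal A).map (algebraMap A B)) y)
  · obtain ⟨y, hym, hy⟩ := h2
    obtain ⟨hyB, hflat⟩ := regular_flat_of_fibre_regular A B y hy
    haveI : IsLocalRing (B ⧸ Ideal.span {y}) := isLocalRing_quot y hym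
    haveI := isLocalHom_quot_span A B y hym
    obtain ⟨e, he⟩ := exists_natCast_eq (B ⧸ Ideal.span {y})
    have hlt : e < d := lt_of_dim_succ
      (ringKrullDim_quotient_span_singleton_succ_eq_ringKrullDim hyB hym) he hdim
    exact step_b A B y hym hy (ih e hlt A (B ⧸ Ideal.span {y}) he)
  · exact core A B h1 h2

/-- For a flat local homomorphism `A → B` of Noetherian local rings, `B` is Gorenstein iff `A` and
the closed fibre `B/m_A B` are. -/
theorem gor_iff_of_flat (A B : Type u) [CommRing A] [CommRing B] [IsLocalRing A] [IsLocalRing B]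
    [IsNoetherianRing A] [IsNoetherianRing B] [Algebra A B] [IsLocalHom (algebraMap A B)]
    [Module.Flat A B] :
    LocCoh.IsGorensteinLocalRing B ↔ LocCoh.IsGorensteinLocalRing A ∧
      LocCoh.IsGorensteinLocalRing (B ⧸ (maximalIdeal A).map (algebraMap A B)) := by
  obtain ⟨d, hd⟩ := exists_natCast_eq B
  exact main d A B hd

end Groth.Agent.Lib.helper17.GorFlat
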