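import Mathlib
import Groth.Agent.Lib.Helper17.GorFlat

/-!
# helper17: local rings with principal maximal ideal are Gorenstein; principal ideal rings are
Gorenstein rings

* `gor_of_principal_maximalIdeal`: a Noetherian local ring whose maximal ideal is principal is
  Gorenstein.
* `isGorensteinRing_of_isPrincipalIdealRing`: a (not necessarily integral) principal ideal ring is a
  Gorenstein ring.
-/

set_option autoImplicit false
set_option linter.style.haveILetI false
set_option linter.unusedVariables false
set_option linter.unusedSectionVars false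
universe u

open IsLocalRing CategoryTheory

namespace Groth.Agent.Lib.helper17.PrincGor

open Groth.Agent.Lib.helper17.ArtGor Groth.Agent.Lib.helper17.SocleFlat

/-- An Artinian local ring with socle of length at most one is Gorenstein. -/
theorem gor_of_typ_le_one (R : Type u) [CommRing R] [IsLocalRing R] [IsArtinianRing R]
    (h : typ R ≤ 1) : LocCoh.IsGorensteinLocalRing R := by
  haveI : Module.Injective R R := injective_of_typ_le_one R h
  haveI : Injective (ModuleCat.of R R) := Module.injective_object_of_injective_module R R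
  exact { exists_hasInjectiveDimensionLT :=
    ⟨1, injective_iff_hasInjectiveDimensionLT_one.mp inferInstance⟩ }

section
variable (R : Type u) [CommRing R] [IsLocalRing R] [IsNoetherianRing R] (π : R)
  (hπ : maximalIdeal R = Ideal.span {π})

include hπ

theorem pow_maximalIdeal (j : ℕ) : maximalIdeal R ^ j = Ideal.span {π ^ j} := by
  rw [hπ, Ideal.span_singleton_pow]

/-- every nonzero element is a unit times a power of `π`. -/
theorem exists_eq_unit_mul_pow (x : R) (hx : x ≠ 0) :
    ∃ (i : ℕ) (a : R), IsUnit a ∧ x = a * π ^ i := by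
  classical
  have hex : ∃ j, x ∉ maximalIdeal R ^ j := by
    by_contra hcon
    push Not at hcon
    have h1 : x ∈ ⨅ j, maximalIdeal R ^ j := by
      rw [Ideal.mem_iInf]; exact hcon
    rw [Ideal.iInf_pow_eq_bot_of_isLocalRing _ (Ideal.IsPrime.ne_top inferInstance)] at h1
    exact hx h1
  have hspec := Nat.find_spec hex
  have hmin := fun m => Nat.find_min hex (m := m)
  rcases Nat.eq_zero_or_pos (Nat.find hex) with h0 | hpos
  · exfalso
    rw [h0, pow_zero] at hspec
    exact hspec (by rw [Ideal.one_eq_top]; exact Submodule.mem_top)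
  · obtain ⟨i, hi⟩ : ∃ i, Nat.find hex = i + 1 := ⟨Nat.find hex - 1, by omega⟩
    have hmem : x ∈ maximalIdeal R ^ i := by
      by_contra hcon
      exact hmin i (by omega) hcon
    rw [pow_maximalIdeal R π hπ, Ideal.mem_span_singleton'] at hmem
    obtain ⟨a, ha⟩ := hmem
    refine ⟨i, a, ?_, ha.symm⟩
    by_contra hnu
    have ham : a ∈ maximalIdeal R := hnu
    rw [hπ, Ideal.mem_span_singleton'] at ham
    obtain ⟨b, hb⟩ := ham
    apply hspec
    rw [hi, pow_maximalIdeal R π hπ, Ideal.mem_span_singleton']
    refine ⟨b, ?_⟩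
    rw [← ha, ← hb, pow_succ]
    ring

theorem isSMulRegular_or_isNilpotent : IsSMulRegular R π ∨ IsNilpotent π := by
  by_cases hnil : IsNilpotent π
  · exact Or.inr hnil
  · left
    refine IsSMulRegular.of_right_eq_zero_of_smul ?_
    intro x hx
    by_contra hx0
    obtain ⟨i, a, ha, rfl⟩ := exists_eq_unit_mul_pow R π hπ x hx0
    apply hnil
    refine ⟨i + 1, ?_⟩
    have h1 : a * π ^ (i + 1) = 0 := by
      rw [pow_succ, ← mul_assoc]
      rw [smul_eq_mul] at hx
      rw [mul_comm]; exact hx
    exact (ha.mul_right_eq_zero).mp h1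

theorem pi_mem : π ∈ maximalIdeal R := by
  rw [hπ]; exact Ideal.mem_span_singleton_self π

/-- the Artinian case. -/
theorem gor_of_nilpotent (hnil : IsNilpotent π) : LocCoh.IsGorensteinLocalRing R := by
  classical
  haveI : IsArtinianRing R := by
    rw [isArtinianRing_iff_isNilpotent_maximalIdeal R]
    obtain ⟨n, hn⟩ := hnil
    have h0 : maximalIdeal R ^ n = ⊥ := by
      rw [pow_maximalIdeal R π hπ, hn, Ideal.span_singleton_eq_bot]
    exact ⟨n, h0⟩
  apply gor_of_typ_le_one
  unfold typ
  rw [(homEquivSoc R R R).length_eq]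
  have hspec := Nat.find_spec hnil
  have hmin := fun m => Nat.find_min hnil (m := m)
  have hpos : 0 < Nat.find hnil := by
    rcases Nat.eq_zero_or_pos (Nat.find hnil) with h0 | hpos
    · exfalso
      rw [h0, pow_zero] at hspec
      exact one_ne_zero hspec
    · exact hpos
  obtain ⟨n, hn⟩ : ∃ n, Nat.find hnil = n + 1 := ⟨Nat.find hnil - 1, by omega⟩
  rw [hn] at hspec
  -- the map `k → R`, `1 ↦ π^n`
  have hle : maximalIdeal R ≤ LinearMap.ker (LinearMap.toSpanSingleton R R (π ^ n)) := by
    intro a ha
    rw [hπ, Ideal.mem_span_singleton'] at ha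
    obtain ⟨b, rfl⟩ := ha
    rw [LinearMap.mem_ker, LinearMap.toSpanSingleton_apply, smul_eq_mul, mul_assoc, ← pow_succ',
      hspec, mul_zero]
  let f : (R ⧸ maximalIdeal R) →ₗ[R] R :=
    Submodule.liftQ (maximalIdeal R) (LinearMap.toSpanSingleton R R (π ^ n)) hle
  have hf : LinearMap.range f = Ideal.span {π ^ n} := by
    rw [Submodule.range_liftQ, LinearMap.range_toSpanSingleton]
  have hsoc : socM R R R ≤ LinearMap.range f := by
    intro x hx
    rw [hf]
    by_cases hx0 : x = 0
    · rw [hx0]; exact zero_mem _
    obtain ⟨i, a, ha, rfl⟩ := exists_eq_unit_mul_pow R π hπ x hx0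
    have h1 : π • (a * π ^ i) = 0 := hx π (pi_mem R π hπ)
    have h2 : π ^ (i + 1) = 0 := by
      rw [smul_eq_mul] at h1
      have : a * π ^ (i + 1) = 0 := by rw [pow_succ, ← mul_assoc, mul_comm]; exact h1
      exact (ha.mul_right_eq_zero).mp this
    have h3 : n ≤ i := by
      by_contra hlt
      exact hmin (i + 1) (by omega) h2
    obtain ⟨d, rfl⟩ : ∃ d, i = n + d := ⟨i - n, by omega⟩
    rw [Ideal.mem_span_singleton']
    exact ⟨a * π ^ d, by ring⟩
  haveI := isSimpleModule_residueField R
  calc Module.length R (socM R R R)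
      ≤ Module.length R (LinearMap.range f) :=
        Module.length_le_of_injective (Submodule.inclusion hsoc) (Submodule.inclusion_injective hsoc)
    _ ≤ Module.length R (R ⧸ maximalIdeal R) :=
        Module.length_le_of_surjective f.rangeRestrict (LinearMap.surjective_rangeRestrict f)
    _ = 1 := Module.length_eq_one R (ResidueField R)

end

/-- A Noetherian local ring with principal maximal ideal is Gorenstein. -/
theorem gor_of_principal_maximalIdeal (R : Type u) [CommRing R] [IsLocalRing R]
    [IsNoetherianRing R] (π : R) (hπ : maximalIdeal R = Ideal.span {π}) :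
    LocCoh.IsGorensteinLocalRing R := by
  rcases isSMulRegular_or_isNilpotent R π hπ with hreg | hnil
  · rw [Groth.Agent.Lib.helper17.GorFlat.gor_quot_iff R π (pi_mem R π hπ) hreg]
    haveI : IsLocalRing (R ⧸ Ideal.span {π}) :=
      Groth.Agent.Lib.helper17.GorQuot.isLocalRing_quot π (pi_mem R π hπ)
    have hfield : IsField (R ⧸ Ideal.span {π}) := by
      rw [← Ideal.Quotient.maximal_ideal_iff_isField_quotient, ← hπ]
      infer_instance
    have hbot : maximalIdeal (R ⧸ Ideal.span {π}) = Ideal.span {0} := by
      rw [IsLocalRing.isField_iff_maximalIdeal_eq.mp hfield]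
      simp
    exact gor_of_nilpotent _ 0 hbot IsNilpotent.zero
  · exact gor_of_nilpotent R π hπ hnil

/-- A principal ideal ring is a Gorenstein ring. -/
theorem isGorensteinRing_of_isPrincipalIdealRing (T : Type u) [CommRing T]
    [IsPrincipalIdealRing T] : LocCoh.IsGorensteinRing T := by
  haveI : IsNoetherianRing T := inferInstance
  refine { isGorensteinLocalRing_localization := ?_ }
  intro q hq
  obtain ⟨t, ht⟩ := (IsPrincipalIdealRing.principal q).principal
  haveI : IsNoetherianRing (Localization.AtPrime q) :=
    IsLocalization.isNoetherianRing q.primeCompl _ inferInstance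
  refine gor_of_principal_maximalIdeal _ (algebraMap T (Localization.AtPrime q) t) ?_
  rw [← Localization.AtPrime.map_eq_maximalIdeal]
  have hq' : q = Ideal.span {t} := ht
  have h1 : Ideal.map (algebraMap T (Localization.AtPrime q)) (Ideal.span {t}) =
      Ideal.span {algebraMap T (Localization.AtPrime q) t} := by
    rw [Ideal.map_span, Set.image_singleton]
  exact (congrArg (Ideal.map (algebraMap T (Localization.AtPrime q))) hq').trans h1

end Groth.Agent.Lib.helper17.PrincGor
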