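import Mathlib
import Groth.Agent.Lib.Helper17.PrincGor
import Groth.Agent.Lib.Helper24.FlatDepth5

/-!
# helper17: Gorenstein rings: isomorphisms, localizations, flat maps with Gorenstein fibres,
monogenic flat algebras, polynomial rings

* `isGorensteinRing_of_ringEquiv`, `isGorensteinRing_of_isLocalization`.
* `gor_atPrime_iff`: for `R → S` flat, `Q` over `p`: `S_Q` Gorenstein iff `R_p` and `S_Q/pS_Q` are.
* `isGorensteinRing_of_flat_of_fibres`: flat with Gorenstein fibres over a Gorenstein base.
* `isGorensteinRing_of_flat_of_adjoin_eq_top`: a flat algebra generated by one element over a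
  Gorenstein ring is Gorenstein.
* `isGorensteinRing_polynomial`, `isGorensteinRing_mvPolynomial_fin`.
-/

set_option autoImplicit false
set_option linter.style.haveILetI false
set_option linter.unusedVariables false
set_option linter.unusedSectionVars false
universe u

open IsLocalRing TensorProduct LocCoh

namespace Groth.Agent.Lib.helper17.GorRing

open Groth.Agent.Lib.helper17.GorIso Groth.Agent.Lib.Helper24.FlatDepth

/-- Gorenstein rings are invariant under ring isomorphisms. -/
theorem isGorensteinRing_of_ringEquiv {R S : Type u} [CommRing R] [CommRing S] (e : R ≃+* S)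
    [h : IsGorensteinRing R] : IsGorensteinRing S := by
  haveI : IsNoetherianRing S := isNoetherianRing_of_ringEquiv R e
  refine { isGorensteinLocalRing_localization := ?_ }
  intro q hq
  let p : Ideal R := q.comap e.toRingHom
  haveI : p.IsPrime := Ideal.comap_isPrime _ _
  have hpq : p.primeCompl.map e.toRingHom.toMonoidHom = q.primeCompl := by
    ext x
    constructor
    · rintro ⟨y, hy, rfl⟩
      exact hy
    · intro hx
      refine ⟨e.symm x, ?_, by simp⟩
      change e.symm x ∉ p
      rw [Ideal.mem_comap]
      simpa using hx
  have e' : Localization.AtPrime p ≃+* Localization.AtPrime q :=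
    IsLocalization.ringEquivOfRingEquiv (Localization.AtPrime p) (Localization.AtPrime q) e hpq
  haveI := h.isGorensteinLocalRing_localization p
  exact isGorensteinLocalRing_of_ringEquiv e'.symm inferInstance

/-- Localizations of Gorenstein rings are Gorenstein rings. -/
theorem isGorensteinRing_of_isLocalization {A B : Type u} [CommRing A] [CommRing B]
    [Algebra A B] (M : Submonoid A) [IsLocalization M B] [h : IsGorensteinRing A] :
    IsGorensteinRing B := by
  haveI : IsNoetherianRing B := IsLocalization.isNoetherianRing M B inferInstance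
  refine { isGorensteinLocalRing_localization := ?_ }
  intro q hq
  haveI : IsLocalization.AtPrime (Localization.AtPrime q) (q.comap (algebraMap A B)) :=
    IsLocalization.isLocalization_isLocalization_atPrime_isLocalization M (Localization.AtPrime q) q
  have e : Localization.AtPrime (q.comap (algebraMap A B)) ≃ₐ[A] Localization.AtPrime q :=
    IsLocalization.algEquiv (q.comap (algebraMap A B)).primeCompl _ _
  haveI := h.isGorensteinLocalRing_localization (q.comap (algebraMap A B))
  exact isGorensteinLocalRing_of_ringEquiv e.symm.toRingEquiv inferInstance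

section Fibre

variable (R S : Type u) [CommRing R] [CommRing S] [Algebra R S]
  (p : Ideal R) [p.IsPrime] (Q : Ideal S) [Q.IsPrime] [Q.LiesOver p]
  [IsNoetherianRing R] [IsNoetherianRing S] [Module.Flat R S]

/-- Gorenstein at `Q` iff at `p` and at the corresponding prime of the fibre. -/
theorem gor_atPrime_iff :
    IsGorensteinLocalRing (Localization.AtPrime Q) ↔
      IsGorensteinLocalRing (Localization.AtPrime p) ∧
        IsGorensteinLocalRing (FibLoc R S p Q) := by
  letI := Localization.AtPrime.algebraOfLiesOver p Q
  haveI hloc : IsLocalHom (algebraMap (Localization.AtPrime p) (Localization.AtPrime Q)) :=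
    Localization.isLocalHom_localRingHom _ Q (algebraMap R S) Ideal.LiesOver.over
  haveI hflat : Module.Flat (Localization.AtPrime p) (Localization.AtPrime Q) := inferInstance
  have hI : (maximalIdeal (Localization.AtPrime p)).map
      (algebraMap (Localization.AtPrime p) (Localization.AtPrime Q)) =
      (p.map (algebraMap R S)).map (algebraMap S (Localization.AtPrime Q)) := by
    rw [← Localization.AtPrime.map_eq_maximalIdeal, Ideal.map_map, Ideal.map_map,
      ← IsScalarTower.algebraMap_eq, ← IsScalarTower.algebraMap_eq]
  let e : (Localization.AtPrime Q ⧸ (maximalIdeal (Localization.AtPrime p)).map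
      (algebraMap (Localization.AtPrime p) (Localization.AtPrime Q))) ≃+* FibLoc R S p Q :=
    Ideal.quotEquivOfEq hI
  rw [Groth.Agent.Lib.helper17.GorFlat.gor_iff_of_flat (Localization.AtPrime p)
    (Localization.AtPrime Q), isGorensteinLocalRing_iff_of_ringEquiv e]

end Fibre

/-- flat with Gorenstein fibres over a Gorenstein base is Gorenstein. -/
theorem isGorensteinRing_of_flat_of_fibres (R S : Type u) [CommRing R] [CommRing S]
    [Algebra R S] [hR : IsGorensteinRing R] [IsNoetherianRing S] [Module.Flat R S]
    (h : ∀ (p : Ideal R) [p.IsPrime], IsGorensteinRing (p.Fiber S)) :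
    IsGorensteinRing S := by
  refine { isGorensteinLocalRing_localization := ?_ }
  intro Q hQ
  let p : Ideal R := Q.under R
  have hp : p.IsPrime := inferInstance
  have hlo : Q.LiesOver p := inferInstance
  rw [gor_atPrime_iff R S p Q]
  refine ⟨hR.isGorensteinLocalRing_localization p, ?_⟩
  obtain ⟨q, hq, ⟨e⟩⟩ := Groth.Agent.Lib.Helper24.FlatDepth.exists_fibre_prime_equiv R S p Q
  have := (h p).isGorensteinLocalRing_localization q
  exact isGorensteinLocalRing_of_ringEquiv e.symm this

section monogenic

variable (R S : Type u) [CommRing R] [CommRing S] [Algebra R S]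

/-- base change of a monogenic algebra to a field is a quotient of a polynomial ring. -/
theorem aeval_one_tmul_surjective (κ : Type u) [CommRing κ] [Algebra R κ] (β : S)
    (hβ : Algebra.adjoin R {β} = ⊤) :
    Function.Surjective (Polynomial.aeval (R := κ) ((1 : κ) ⊗ₜ[R] β)) := by
  set φ := Polynomial.aeval (R := κ) ((1 : κ) ⊗ₜ[R] β) with hφ
  have h1 : ∀ s : S, (1 : κ) ⊗ₜ[R] s ∈ φ.range := by
    intro s
    have hs : s ∈ Algebra.adjoin R {β} := by rw [hβ]; exact Algebra.mem_top
    induction hs using Algebra.adjoin_induction with
    | mem x hx =>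
      rw [Set.mem_singleton_iff.mp hx]
      exact (AlgHom.mem_range φ).mpr ⟨Polynomial.X, Polynomial.aeval_X _⟩
    | algebraMap r =>
      refine (AlgHom.mem_range φ).mpr ⟨Polynomial.C (algebraMap R κ r), ?_⟩
      have e1 : (algebraMap R κ r) ⊗ₜ[R] (1 : S) = (1 : κ) ⊗ₜ[R] (algebraMap R S r) := by
        rw [Algebra.algebraMap_eq_smul_one r, Algebra.algebraMap_eq_smul_one (A := S) r,
          TensorProduct.smul_tmul]
      rw [hφ, Polynomial.aeval_C, Algebra.TensorProduct.algebraMap_apply]
      exact e1
    | add a b _ _ ha hb =>
      rw [TensorProduct.tmul_add]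
      exact φ.range.add_mem ha hb
    | mul a b _ _ ha hb =>
      have : (1 : κ) ⊗ₜ[R] (a * b) = ((1 : κ) ⊗ₜ[R] a) * ((1 : κ) ⊗ₜ[R] b) := by
        rw [Algebra.TensorProduct.tmul_mul_tmul, one_mul]
      rw [this]
      exact φ.range.mul_mem ha hb
  intro z
  change z ∈ φ.range
  induction z using TensorProduct.induction_on with
  | zero => exact φ.range.zero_mem
  | tmul c s =>
    have : c ⊗ₜ[R] s = c • ((1 : κ) ⊗ₜ[R] s) := by
      rw [TensorProduct.smul_tmul', smul_eq_mul, mul_one]
    rw [this]
    exact φ.range.smul_mem (h1 s) c
  | add a b ha hb => exact φ.range.add_mem ha hb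

variable [hR : IsGorensteinRing R] [Module.Flat R S]

/-- A flat algebra generated by one element over a Gorenstein ring is a Gorenstein ring. -/
theorem isGorensteinRing_of_flat_of_adjoin_eq_top (β : S) (hβ : Algebra.adjoin R {β} = ⊤) :
    IsGorensteinRing S := by
  haveI : Algebra.FiniteType R S := ⟨⟨{β}, by simpa using hβ⟩⟩
  haveI : IsNoetherianRing S := Algebra.FiniteType.isNoetherianRing R S
  refine isGorensteinRing_of_flat_of_fibres R S fun p hp => ?_
  haveI : IsPrincipalIdealRing (p.Fiber S) :=
    IsPrincipalIdealRing.of_surjective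
      (Polynomial.aeval (R := p.ResidueField) ((1 : p.ResidueField) ⊗ₜ[R] β)).toRingHom
      (aeval_one_tmul_surjective R S p.ResidueField β hβ)
  exact Groth.Agent.Lib.helper17.PrincGor.isGorensteinRing_of_isPrincipalIdealRing _

end monogenic

/-- polynomial rings over Gorenstein rings are Gorenstein. -/
theorem isGorensteinRing_polynomial (R : Type u) [CommRing R] [IsGorensteinRing R] :
    IsGorensteinRing (Polynomial R) :=
  isGorensteinRing_of_flat_of_adjoin_eq_top R (Polynomial R) Polynomial.X Polynomial.adjoin_X

theorem isGorensteinRing_mvPolynomial_fin (R : Type u) [CommRing R] [IsGorensteinRing R] (n : ℕ) :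
    IsGorensteinRing (MvPolynomial (Fin n) R) := by
  induction n with
  | zero =>
    exact isGorensteinRing_of_ringEquiv (MvPolynomial.isEmptyAlgEquiv R (Fin 0)).symm.toRingEquiv
  | succ n ih =>
    haveI := ih
    haveI := isGorensteinRing_polynomial (MvPolynomial (Fin n) R)
    exact isGorensteinRing_of_ringEquiv (MvPolynomial.finSuccEquiv R n).symm.toRingEquiv

theorem isGorensteinRing_mvPolynomial (R : Type u) [CommRing R] [IsGorensteinRing R]
    (ι : Type u) [Finite ι] : IsGorensteinRing (MvPolynomial ι R) := by
  classical
  haveI := Fintype.ofFinite ι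
  haveI := isGorensteinRing_mvPolynomial_fin R (Fintype.card ι)
  exact isGorensteinRing_of_ringEquiv
    (MvPolynomial.renameEquiv R (Fintype.equivFin ι)).symm.toRingEquiv

/-- a field is a Gorenstein ring. -/
theorem isGorensteinRing_of_field (L : Type u) [Field L] : IsGorensteinRing L :=
  Groth.Agent.Lib.helper17.PrincGor.isGorensteinRing_of_isPrincipalIdealRing L

end Groth.Agent.Lib.helper17.GorRing
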