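import Mathlib
import Groth.Prelude.Def_EGA41

/-!
Universal property of a `p`-basis (`EGA41.IsPBasis`): if `(x_α)` is a `p`-basis of `B` over `A` and
`R = A[B^p]`, then for every commutative `R`-algebra `E` and every family `z_α ∈ E` with
`z_α ^ p = (x_α ^ p) • 1`, there is a unique `R`-algebra map `B → E` with `x_α ↦ z_α`.
-/

set_option autoImplicit false
universe u v

namespace Groth.Agent.Lib.helper17.PBasis

open EGA41

/-- `b ^ p` as an element of `A[B^p]`. -/
def ppow (p : ℕ) (A : Type u) {B : Type u} [CommRing A] [CommRing B] [Algebra A B] (b : B) :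
    pPowerSubalgebra p A B :=
  ⟨b ^ p, Algebra.subset_adjoin ⟨b, rfl⟩⟩

@[simp] theorem coe_ppow (p : ℕ) (A : Type u) {B : Type u} [CommRing A] [CommRing B] [Algebra A B]
    (b : B) : ((ppow p A b : pPowerSubalgebra p A B) : B) = b ^ p := rfl

theorem prod_pow_split (p : ℕ) {M : Type*} [CommMonoid M] {ι : Type*} (y : ι → M) (a : ι →₀ ℕ) :
    a.prod (fun i n => y i ^ n) =
      (a.mapRange (· / p) (Nat.zero_div p)).prod (fun i n => (y i ^ p) ^ n) *
      (a.mapRange (· % p) (Nat.zero_mod p)).prod (fun i n => y i ^ n) := by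
  rw [Finsupp.prod_of_support_subset _ Finsupp.support_mapRange _ (by simp),
      Finsupp.prod_of_support_subset _ Finsupp.support_mapRange _ (by simp), Finsupp.prod,
      ← Finset.prod_mul_distrib]
  refine Finset.prod_congr rfl fun i _ => ?_
  simp only [Finsupp.mapRange_apply]
  rw [← pow_mul, ← pow_add, Nat.div_add_mod]

/-- Additivity of the `p`-th power when `p = 0` in the ring. -/
theorem add_pow_of_natCast_eq_zero {E : Type*} [CommRing E] (p : ℕ) (hp : p.Prime)
    (hpE : (p : E) = 0) (a b : E) : (a + b) ^ p = a ^ p + b ^ p := by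
  rw [add_pow_prime_eq hp, hpE]; ring

/-- `p`-th power map as a ring hom when `p = 0` in `R`. -/
noncomputable def frobHom (R : Type*) [CommRing R] (p : ℕ) (hp : p.Prime) (hpR : (p : R) = 0) :
    R →+* R where
  toFun x := x ^ p
  map_one' := one_pow p
  map_mul' x y := mul_pow x y p
  map_zero' := zero_pow hp.ne_zero
  map_add' x y := add_pow_of_natCast_eq_zero p hp hpR x y

@[simp] theorem frobHom_apply (R : Type*) [CommRing R] (p : ℕ) (hp : p.Prime) (hpR : (p : R) = 0)
    (x : R) : frobHom R p hp hpR x = x ^ p := rfl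

section

variable {p : ℕ} {A B : Type u} [CommRing A] [CommRing B] [Algebra A B]
variable {ι : Type u} {x : ι → B}

/-- The basis of reduced monomials. -/
noncomputable def basis (hx : IsPBasis p A x) :
    Module.Basis {e : ι →₀ ℕ // ∀ i, e i < p} (pPowerSubalgebra p A B) B :=
  Module.Basis.mk hx.1 hx.2.ge

theorem basis_apply (hx : IsPBasis p A x) (e : {e : ι →₀ ℕ // ∀ i, e i < p}) :
    basis hx e = e.1.prod fun i n => x i ^ n := by
  simp [basis, pMonomial]

theorem existsUnique_algHom [hp : Fact p.Prime] (hx : IsPBasis p A x)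
    {E : Type v} [CommRing E] [Algebra (pPowerSubalgebra p A B) E] (z : ι → E)
    (hz : ∀ i, z i ^ p = algebraMap (pPowerSubalgebra p A B) E (ppow p A (x i))) :
    ∃! w : B →ₐ[pPowerSubalgebra p A B] E, ∀ i, w (x i) = z i := by
  classical
  have hp0 : 0 < p := hp.out.pos
  set 𝔟 := basis hx with h𝔟
  -- the linear map
  obtain ⟨w₀, hw₀⟩ : ∃ w₀ : B →ₗ[pPowerSubalgebra p A B] E,
      ∀ e : {e : ι →₀ ℕ // ∀ i, e i < p}, w₀ (𝔟 e) = e.1.prod fun i n => z i ^ n :=
    ⟨𝔟.constr (pPowerSubalgebra p A B) (fun e => e.1.prod fun i n => z i ^ n),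
      fun e => by simp⟩
  have hgen : ∀ a : ι →₀ ℕ, w₀ (a.prod fun i n => x i ^ n) = a.prod fun i n => z i ^ n := by
    intro a
    rw [prod_pow_split p x a, prod_pow_split p z a]
    have hr : ∀ i, (a.mapRange (· % p) (Nat.zero_mod p)) i < p := fun i => by
      simpa using Nat.mod_lt _ hp0
    have h1 : ((a.mapRange (· / p) (Nat.zero_div p)).prod (fun i n => (x i ^ p) ^ n))
        = algebraMap (pPowerSubalgebra p A B) B
            ((a.mapRange (· / p) (Nat.zero_div p)).prod (fun i n => (ppow p A (x i)) ^ n)) := by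
      rw [map_finsuppProd]
      rfl
    have h2 : ((a.mapRange (· % p) (Nat.zero_mod p)).prod (fun i n => x i ^ n))
        = 𝔟 ⟨a.mapRange (· % p) (Nat.zero_mod p), hr⟩ := by
      rw [h𝔟, basis_apply]
    rw [h1, h2, ← Algebra.smul_def, map_smul, hw₀, Algebra.smul_def, map_finsuppProd]
    congr 1
    refine Finsupp.prod_congr fun i _ => ?_
    rw [map_pow, hz]
  have hmul : ∀ b b' : B, w₀ (b * b') = w₀ b * w₀ b' := by
    intro b b'
    have : (LinearMap.mul (pPowerSubalgebra p A B) B).compr₂ w₀
        = (LinearMap.mul (pPowerSubalgebra p A B) E).compl₁₂ w₀ w₀ := by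
      refine 𝔟.ext fun e => 𝔟.ext fun e' => ?_
      simp only [LinearMap.compr₂_apply, LinearMap.mul_apply', LinearMap.compl₁₂_apply]
      rw [hw₀, hw₀, h𝔟, basis_apply, basis_apply, ← Finsupp.prod_add_index' (by simp)
        (fun i n m => pow_add _ _ _), hgen, Finsupp.prod_add_index' (by simp)
        (fun i n m => pow_add _ _ _)]
    exact LinearMap.congr_fun (LinearMap.congr_fun this b) b'
  have hone : w₀ 1 = 1 := by
    have := hgen 0
    simpa using this
  refine ⟨AlgHom.ofLinearMap w₀ hone hmul, fun i => ?_, fun w' hw' => ?_⟩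
  · have := hgen (Finsupp.single i 1)
    simpa using this
  · apply AlgHom.toLinearMap_injective
    refine 𝔟.ext fun e => ?_
    simp only [AlgHom.toLinearMap_apply, AlgHom.ofLinearMap_apply]
    rw [hw₀, h𝔟, basis_apply, map_finsuppProd]
    refine Finsupp.prod_congr fun i _ => ?_
    rw [map_pow, hw']

local notation "tsze" => TrivSqZeroExt

open TrivSqZeroExt in
/-- Derivations out of `B`: an additive derivation `δ` of `R = A[B^p]` into a `B`-module `L`
killing the `x_α ^ p` extends uniquely to `B` with prescribed values on the `x_α`. -/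
theorem existsUnique_derivation [hp : Fact p.Prime] [CharP B p] (hx : IsPBasis p A x)
    (L : Type u) [AddCommGroup L] [Module B L]
    (δ : pPowerSubalgebra p A B → L)
    (hδ_add : ∀ r s, δ (r + s) = δ r + δ s)
    (hδ_mul : ∀ r s, δ (r * s) = (r : B) • δ s + (s : B) • δ r)
    (hδx : ∀ i, δ (ppow p A (x i)) = 0) (y : ι → L) :
    ∃! D : Derivation ℤ B L, (∀ r : pPowerSubalgebra p A B, D (r : B) = δ r) ∧
      ∀ i, D (x i) = y i := by
  classical
  letI : Module Bᵐᵒᵖ L := Module.compHom L ((RingHom.id B).fromOpposite (fun a b => mul_comm a b))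
  haveI : IsCentralScalar B L := ⟨fun r m => rfl⟩
  have hδ_one : δ 1 = 0 := by
    have := hδ_mul 1 1
    simpa using this
  have hδ_zero : δ 0 = 0 := by
    have := hδ_add 0 0
    simpa using this
  -- ψ : R → B ⊕ L
  let ψ : pPowerSubalgebra p A B →+* tsze B L :=
    { toFun := fun r => inl (r : B) + inr (δ r)
      map_one' := by
        rw [hδ_one]; ext <;> simp
      map_mul' := by
        intro r s
        rw [hδ_mul]
        ext
        · simp
        · simp [add_comm]
      map_zero' := by
        rw [hδ_zero]; ext <;> simp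
      map_add' := by
        intro r s
        rw [hδ_add]
        ext
        · simp
        · simp }
  have hψ : ∀ r, ψ r = inl (r : B) + inr (δ r) := fun r => rfl
  letI : Algebra (pPowerSubalgebra p A B) (tsze B L) := ψ.toAlgebra
  have halg : ∀ r, algebraMap (pPowerSubalgebra p A B) (tsze B L) r = inl (r : B) + inr (δ r) :=
    fun r => rfl
  have hpL : ∀ l : L, (p : ℕ) • l = 0 := by
    intro l
    rw [← Nat.cast_smul_eq_nsmul B, CharP.cast_eq_zero, zero_smul]
  have hz : ∀ i, (inl (x i) + inr (y i) : tsze B L) ^ p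
      = algebraMap (pPowerSubalgebra p A B) (tsze B L) (ppow p A (x i)) := by
    intro i
    rw [halg, hδx]
    ext
    · simp
    · simp [hpL]
  obtain ⟨w, hw, hwuniq⟩ := existsUnique_algHom hx (fun i => (inl (x i) + inr (y i) : tsze B L)) hz
  -- fst ∘ w = id
  let fstA : tsze B L →ₐ[pPowerSubalgebra p A B] B :=
    { toRingHom := (TrivSqZeroExt.fstHom B B L).toRingHom
      commutes' := by
        intro r
        show fst (algebraMap (pPowerSubalgebra p A B) (tsze B L) r) = (r : B)
        rw [halg]; simp }
  have hfstA : ∀ t, fstA t = fst t := fun t => rfl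
  have hfst : ∀ b, fst (w b) = b := by
    have hxx : ∀ i, x i ^ p = algebraMap (pPowerSubalgebra p A B) B (ppow p A (x i)) := fun i => rfl
    obtain ⟨w₁, -, hw₁⟩ := existsUnique_algHom hx x hxx
    have h1 : fstA.comp w = w₁ := hw₁ _ (fun i => by
      rw [AlgHom.comp_apply, hw, hfstA]; simp)
    have h2 : AlgHom.id _ B = w₁ := hw₁ _ (fun i => rfl)
    intro b
    have := AlgHom.congr_fun (h1.trans h2.symm) b
    simpa [hfstA] using this
  -- the derivation
  have hleib : ∀ a b : B, snd (w (a * b)) = a • snd (w b) + b • snd (w a) := by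
    intro a b
    rw [map_mul, snd_mul, hfst, hfst, op_smul_eq_smul]
  let D : Derivation ℤ B L := Derivation.mk'
    ((sndHom B L).toAddMonoidHom.comp w.toRingHom.toAddMonoidHom).toIntLinearMap hleib
  have hD : ∀ b, D b = snd (w b) := fun b => rfl
  refine ⟨D, ⟨fun r => ?_, fun i => ?_⟩, ?_⟩
  · rw [hD]
    have : w (r : B) = algebraMap (pPowerSubalgebra p A B) (tsze B L) r := w.commutes r
    rw [this, halg]; simp
  · rw [hD, hw]; simp
  · rintro D' ⟨hD'r, hD'x⟩
    let w' : B →ₐ[pPowerSubalgebra p A B] tsze B L :=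
      { toFun := fun b => inl b + inr (D' b)
        map_one' := by
          rw [Derivation.map_one_eq_zero]; ext <;> simp
        map_mul' := by
          intro a b
          rw [Derivation.leibniz]
          ext
          · simp
          · simp [add_comm]
        map_zero' := by
          rw [map_zero]; ext <;> simp
        map_add' := by
          intro a b
          rw [map_add]
          ext
          · simp
          · simp
        commutes' := by
          intro r
          rw [halg]
          show inl ((r : B)) + inr (D' (r : B)) = _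
          rw [hD'r] }
    have hw' : ∀ b, w' b = inl b + inr (D' b) := fun b => rfl
    have := hwuniq w' (fun i => by rw [hw', hD'x])
    ext b
    rw [hD, ← this, hw']
    simp

/-- An `A`-derivation of a characteristic `p` algebra kills `A[B^p]`. -/
theorem derivation_eq_zero_of_mem [hp : Fact p.Prime] [CharP B p]
    {L : Type*} [AddCommGroup L] [Module B L] [Module A L] [IsScalarTower A B L]
    (D : Derivation A B L) (r : pPowerSubalgebra p A B) : D (r : B) = 0 := by
  obtain ⟨r, hr⟩ := r
  show D r = 0
  induction hr using Algebra.adjoin_induction with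
  | mem b hb =>
    obtain ⟨c, rfl⟩ := hb
    show D (c ^ p) = 0
    rw [Derivation.leibniz_pow, ← Nat.cast_smul_eq_nsmul B, CharP.cast_eq_zero, zero_smul]
  | algebraMap a => exact D.map_algebraMap a
  | add a b _ _ ha hb => rw [map_add, ha, hb, add_zero]
  | mul a b _ _ ha hb => rw [Derivation.leibniz, ha, hb, smul_zero, smul_zero, add_zero]

/-- `A`-derivations out of an algebra with a `p`-basis are freely determined by the values on
the `p`-basis. -/
theorem existsUnique_derivation_base [hp : Fact p.Prime] [CharP B p] (hx : IsPBasis p A x)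
    (L : Type u) [AddCommGroup L] [Module B L] [Module A L] [IsScalarTower A B L] (y : ι → L) :
    ∃! D : Derivation A B L, ∀ i, D (x i) = y i := by
  obtain ⟨D₀, ⟨hD₀r, hD₀x⟩, hD₀u⟩ := existsUnique_derivation hx L (fun _ => 0)
    (fun _ _ => by simp) (fun _ _ => by simp) (fun _ => rfl) y
  have hsmul : ∀ (a : A) (b : B), D₀ (a • b) = a • D₀ b := by
    intro a b
    rw [Algebra.smul_def, Derivation.leibniz]
    have : D₀ (algebraMap A B a) = 0 :=
      hD₀r ⟨algebraMap A B a, Subalgebra.algebraMap_mem _ a⟩
    rw [this, smul_zero, add_zero, algebraMap_smul]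
  let D : Derivation A B L :=
    { toFun := D₀
      map_add' := map_add D₀
      map_smul' := hsmul
      map_one_eq_zero' := D₀.map_one_eq_zero
      leibniz' := D₀.leibniz }
  refine ⟨D, hD₀x, fun D' hD' => ?_⟩
  have h1 := hD₀u (D'.restrictScalars ℤ) ⟨fun r => derivation_eq_zero_of_mem D' r, hD'⟩
  ext b
  exact congrArg (fun E : Derivation ℤ B L => E b) h1

/-- The differentials of a `p`-basis form a basis of `Ω[B⁄A]`. -/
theorem exists_basis_kaehler [hp : Fact p.Prime] [CharP B p] (hx : IsPBasis p A x) :
    ∃ b : Module.Basis ι B (Ω[B⁄A]), ∀ i, b i = KaehlerDifferential.D A B (x i) := by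
  classical
  obtain ⟨D₁, hD₁, -⟩ := existsUnique_derivation_base hx (ι →₀ B) (fun i => Finsupp.single i 1)
  obtain ⟨D₂, -, huniq⟩ := existsUnique_derivation_base hx (Ω[B⁄A])
    (fun i => KaehlerDifferential.D A B (x i))
  let f : Ω[B⁄A] →ₗ[B] (ι →₀ B) := D₁.liftKaehlerDifferential
  let g : (ι →₀ B) →ₗ[B] Ω[B⁄A] :=
    Finsupp.linearCombination B (fun i => KaehlerDifferential.D A B (x i))
  have hg : ∀ i, g (Finsupp.single i 1) = KaehlerDifferential.D A B (x i) := by
    intro i; simp [g]
  have hfg : f.comp g = LinearMap.id := by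
    refine Finsupp.lhom_ext' fun i => LinearMap.ext_ring ?_
    simp only [LinearMap.coe_comp, Function.comp_apply, Finsupp.lsingle_apply, LinearMap.id_comp]
    rw [hg]
    simp [f, hD₁]
  have hgf : g.comp f = LinearMap.id := by
    apply Derivation.liftKaehlerDifferential_unique
    have h1 := huniq ((g.comp f).compDer (KaehlerDifferential.D A B)) (fun i => by
      show g (f (KaehlerDifferential.D A B (x i))) = _
      simp [f, hD₁, hg])
    have h2 := huniq ((LinearMap.id : Ω[B⁄A] →ₗ[B] Ω[B⁄A]).compDer (KaehlerDifferential.D A B))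
      (fun i => rfl)
    rw [h1, h2]
  refine ⟨Module.Basis.ofRepr (LinearEquiv.ofLinearMap f g hfg hgf), fun i => ?_⟩
  simp [hg]

end

end Groth.Agent.Lib.helper17.PBasis
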