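import Mathlib
import Groth.Agent.Lib.Helper17.PBasis

/-!
Lifting ring homomorphisms out of a field of characteristic `p` along a surjection `π : E → Q`
whose kernel consists of elements with vanishing `p`-th power, by Zorn's lemma on "graph subrings"
of `K × E` (partial lifts defined on subfields containing `K^p`).
-/

set_option autoImplicit false
universe u v w

namespace Groth.Agent.Lib.helper17.FieldLift

open Polynomial

section

variable (p : ℕ) {K : Type u} [Field K] {E : Type v} [CommRing E] {Q : Type w} [CommRing Q]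
  (π : E →+* Q) (f : K →+* Q)

/-- A subring of `K × E` which is the graph of a partial lift of `f` along `π`, defined on a
subring of `K` containing all `p`-th powers (with the forced values there). -/
def Good (G : Subring (K × E)) : Prop :=
  (∀ x e, π e = f x → (x ^ p, e ^ p) ∈ G) ∧ (∀ z ∈ G, π z.2 = f z.1) ∧
    (∀ z ∈ G, z.1 = 0 → z.2 = 0)

variable {p π f}

theorem Good.inj {G : Subring (K × E)} (hG : Good p π f G) :
    ∀ z ∈ G, ∀ w ∈ G, z.1 = w.1 → z = w := by
  intro z hz w hw h
  have h1 : z - w ∈ G := G.sub_mem hz hw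
  have h2 := hG.2.2 _ h1 (by simp [h])
  ext
  · exact h
  · exact sub_eq_zero.mp (by simpa using h2)

/-- The minimal good subring: the graph of the canonical lift on `K^p`. -/
theorem exists_good_bot [CharP K p] (hp : p.Prime) (hpE : (p : E) = 0)
    (hker : ∀ n, π n = 0 → n ^ p = 0) :
    ∃ G₀ : Subring (K × E), Good p π f G₀ ∧ ∀ G, Good p π f G → G₀ ≤ G := by
  have hpKE : ((p : ℕ) : K × E) = 0 := by
    ext
    · simp
    · simpa using hpE
  set Fr : K × E →+* K × E := PBasis.frobHom (K × E) p hp hpKE with hFr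
  have hFr_apply : ∀ z, Fr z = z ^ p := fun z => rfl
  set P : Subring (K × E) :=
    RingHom.eqLocus (π.comp (RingHom.snd K E)) (f.comp (RingHom.fst K E)) with hP
  have hP_mem : ∀ z : K × E, z ∈ P ↔ π z.2 = f z.1 := fun z => Iff.rfl
  refine ⟨P.map Fr, ⟨?_, ?_, ?_⟩, ?_⟩
  · intro x e he
    exact ⟨(x, e), (hP_mem _).mpr he, rfl⟩
  · rintro _ ⟨w, hw, rfl⟩
    rw [hFr_apply]
    exact (hP_mem _).mp (P.pow_mem hw p)
  · rintro _ ⟨w, hw, rfl⟩ h0
    rw [hFr_apply] at h0 ⊢
    have hw1 : w.1 = 0 := by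
      have : w.1 ^ p = 0 := by simpa using h0
      exact pow_eq_zero_iff hp.ne_zero |>.mp this
    have hw2 : π w.2 = 0 := by
      have := (hP_mem w).mp hw
      rw [hw1, map_zero] at this
      exact this
    simpa using hker _ hw2
  · rintro G hG _ ⟨w, hw, rfl⟩
    have := hG.1 w.1 w.2 ((hP_mem w).mp hw)
    rw [hFr_apply]
    exact this

/-- The extension step. -/
theorem Good.ext_step [CharP K p] (hp : p.Prime) (hπ : Function.Surjective π)
    {G : Subring (K × E)} (hG : Good p π f G) (x : K) (hx : ∀ e, (x, e) ∉ G) (e : E)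
    (he : π e = f x) :
    ∃ G' : Subring (K × E), G ≤ G' ∧ (x, e) ∈ G' ∧ Good p π f G' := by
  classical
  haveI : Fact p.Prime := ⟨hp⟩
  obtain ⟨hpow, hGP, hG2⟩ := hG
  have hinj := Good.inj (p := p) (π := π) (f := f) ⟨hpow, hGP, hG2⟩
  let L : Subfield K :=
    { carrier := {y | ∃ e, (y, e) ∈ G}
      mul_mem' := by
        rintro a b ⟨ea, ha⟩ ⟨eb, hb⟩
        exact ⟨ea * eb, G.mul_mem ha hb⟩
      one_mem' := ⟨1, G.one_mem⟩
      add_mem' := by
        rintro a b ⟨ea, ha⟩ ⟨eb, hb⟩
        exact ⟨ea + eb, G.add_mem ha hb⟩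
      zero_mem' := ⟨0, G.zero_mem⟩
      neg_mem' := by
        rintro a ⟨ea, ha⟩
        exact ⟨-ea, G.neg_mem ha⟩
      inv_mem' := by
        rintro a ⟨ea, ha⟩
        by_cases ha0 : a = 0
        · subst ha0
          exact ⟨0, by rw [inv_zero]; exact G.zero_mem⟩
        obtain ⟨e', he'⟩ := hπ (f a⁻¹)
        have h1 := hpow a⁻¹ e' he'
        have h2 : (a ^ (p - 1), ea ^ (p - 1)) ∈ G := G.pow_mem ha (p - 1)
        have h3 := G.mul_mem h2 h1
        refine ⟨ea ^ (p - 1) * e' ^ p, ?_⟩
        have h4 : a ^ (p - 1) * a⁻¹ ^ p = a⁻¹ := by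
          obtain ⟨k, hk⟩ : ∃ k, p = k + 1 := ⟨p - 1, by have := hp.one_lt; omega⟩
          rw [hk, Nat.add_sub_cancel, pow_succ a⁻¹ k, ← mul_assoc, ← mul_pow,
            mul_inv_cancel₀ ha0, one_pow, one_mul]
        have h5 : ((a ^ (p - 1), ea ^ (p - 1)) * (a⁻¹ ^ p, e' ^ p) : K × E)
            = (a⁻¹, ea ^ (p - 1) * e' ^ p) := by
          ext
          · simpa using h4
          · simp
        rw [h5] at h3
        exact h3 }
  have hxL : x ∉ L := fun ⟨e, he⟩ => hx e he
  let πL : G →+* L := ((RingHom.fst K E).comp G.subtype).codRestrict L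
    (fun z => ⟨z.1.2, by simp⟩)
  have hπ_apply : ∀ z : G, (πL z : K) = z.1.1 := fun z => rfl
  have hπ_inj : Function.Injective πL := by
    intro z w h
    have : z.1.1 = w.1.1 := congrArg Subtype.val h
    exact Subtype.ext (hinj _ z.2 _ w.2 this)
  have hπ_surj : Function.Surjective πL := by
    rintro ⟨y, e, hy⟩
    exact ⟨⟨(y, e), hy⟩, Subtype.ext rfl⟩
  let z : K × E := (x, e)
  have hzp : z ^ p ∈ G := by
    have := hpow x e he
    simpa [z] using this
  let c : G := ⟨z ^ p, hzp⟩
  let a : L := πL c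
  have ha : (a : K) = x ^ p := by
    simp [a, hπ_apply, c, z]
  have hirr : Irreducible (X ^ p - C a : L[X]) := by
    apply X_pow_sub_C_irreducible_of_prime hp
    intro b hb
    apply hxL
    have h1 : (b : K) ^ p = x ^ p := by
      rw [← ha, ← hb]; simp
    have h2 : (b : K) = x := by
      have := frobenius_inj K p
      apply this
      simpa [frobenius_def] using h1
    rw [← h2]; exact b.2
  have hmonic : (X ^ p - C a : L[X]).Monic := monic_X_pow_sub_C a hp.ne_zero
  have hroot : aeval x (X ^ p - C a : L[X]) = 0 := by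
    simp only [map_sub, map_pow, aeval_X, aeval_C]
    show x ^ p - (a : K) = 0
    rw [ha, sub_self]
  have hmin : (X ^ p - C a : L[X]) = minpoly L x :=
    minpoly.eq_of_irreducible_of_monic hirr hroot hmonic
  let ev : G[X] →+* K × E := Polynomial.eval₂RingHom G.subtype z
  have hGG' : G ≤ ev.range := by
    intro w hw
    exact ⟨C ⟨w, hw⟩, by simp [ev]⟩
  have hzG' : z ∈ ev.range := ⟨X, by simp [ev]⟩
  have hz1 : π z.2 = f z.1 := he
  refine ⟨ev.range, hGG', hzG', ⟨fun x' e' h' => hGG' (hpow x' e' h'), ?_, ?_⟩⟩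
  · rintro _ ⟨Q, rfl⟩
    show π (Polynomial.eval₂ G.subtype z Q).2 = f (Polynomial.eval₂ G.subtype z Q).1
    have hPmem : Polynomial.eval₂ G.subtype z Q ∈
        RingHom.eqLocus (π.comp (RingHom.snd K E)) (f.comp (RingHom.fst K E)) := by
      rw [Polynomial.eval₂_eq_sum_range]
      refine Subring.sum_mem _ fun i _ => Subring.mul_mem _ ?_ (Subring.pow_mem _ hz1 i)
      exact hGP _ (Q.coeff i).2
    exact hPmem
  · rintro _ ⟨Q, rfl⟩ h0
    have h1 : aeval x (Q.map πL) = 0 := by
      rw [aeval_def, eval₂_map]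
      have : (algebraMap L K).comp πL = (RingHom.fst K E).comp G.subtype := by
        ext w; rfl
      rw [this]
      exact (Polynomial.hom_eval₂ Q G.subtype (RingHom.fst K E) z).symm.trans h0
    have h3 : (X ^ p - C a : L[X]) ∣ Q.map πL := by
      rw [hmin]; exact minpoly.dvd L x h1
    obtain ⟨T, hT⟩ := h3
    obtain ⟨T', rfl⟩ := Polynomial.map_surjective πL hπ_surj T
    have h4 : Q = (X ^ p - C c) * T' := by
      apply Polynomial.map_injective πL hπ_inj
      rw [hT, Polynomial.map_mul]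
      simp [a]
    show (Polynomial.eval₂ G.subtype z Q).2 = 0
    rw [h4, Polynomial.eval₂_mul]
    simp [c]

/-- Every good partial lift extends to a lift defined on all of `K`. -/
theorem Good.exists_lift [CharP K p] (hp : p.Prime) (hπ : Function.Surjective π)
    {G₁ : Subring (K × E)} (hG₁ : Good p π f G₁) :
    ∃ g : K →+* E, (∀ x, π (g x) = f x) ∧ ∀ z ∈ G₁, g z.1 = z.2 := by
  classical
  obtain ⟨G, hG₁G, hGS, hGmax'⟩ := zorn_le_nonempty₀ {G : Subring (K × E) | Good p π f G} (by
    intro c hcS hc y hy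
    refine ⟨sSup c, ⟨?_, ?_, ?_⟩, fun z hz => le_sSup hz⟩
    · intro x e he
      exact (le_sSup hy : y ≤ sSup c) ((hcS hy).1 x e he)
    · intro z hz
      obtain ⟨G, hGc, hzG⟩ := (Subring.mem_sSup_of_directedOn ⟨y, hy⟩ hc.directedOn).mp hz
      exact (hcS hGc).2.1 z hzG
    · intro z hz
      obtain ⟨G, hGc, hzG⟩ := (Subring.mem_sSup_of_directedOn ⟨y, hy⟩ hc.directedOn).mp hz
      exact (hcS hGc).2.2 z hzG) G₁ hG₁
  have hGS' : Good p π f G := hGS
  have hinj := hGS'.inj
  have hsurj : ∀ x : K, ∃ e : E, (x, e) ∈ G := by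
    by_contra hcon
    push Not at hcon
    obtain ⟨x, hx⟩ := hcon
    obtain ⟨e, he⟩ := hπ (f x)
    obtain ⟨G', hGG', hzG', hG'⟩ := hGS'.ext_step hp hπ x hx e he
    exact hx e (hGmax' hG' hGG' hzG')
  let φ : G →+* K := (RingHom.fst K E).comp G.subtype
  have hφ : Function.Bijective φ := by
    constructor
    · intro z w h
      exact Subtype.ext (hinj _ z.2 _ w.2 h)
    · intro x
      obtain ⟨e, he⟩ := hsurj x
      exact ⟨⟨(x, e), he⟩, rfl⟩
  let eφ : G ≃+* K := RingEquiv.ofBijective φ hφ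
  refine ⟨((RingHom.snd K E).comp G.subtype).comp eφ.symm.toRingHom, fun x => ?_, fun z hz => ?_⟩
  · have h1 := hGS'.2.1 _ (eφ.symm x).2
    have h2 : ((eφ.symm x : G) : K × E).1 = x := eφ.apply_symm_apply x
    rw [h2] at h1
    exact h1
  · have h1 : eφ.symm z.1 = ⟨z, hG₁G hz⟩ := by
      apply eφ.injective
      rw [RingEquiv.apply_symm_apply]; rfl
    show ((eφ.symm z.1 : G) : K × E).2 = z.2
    rw [h1]

end

/-- A ring `X` regarded as a `k`-algebra through a given ring hom `φ` (type synonym). -/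
def Tw {k X : Type*} [CommSemiring k] [Semiring X] (_φ : k →+* X) : Type _ := X

instance {k X : Type*} [CommSemiring k] [CommRing X] (φ : k →+* X) : CommRing (Tw φ) :=
  inferInstanceAs (CommRing X)

instance {k X : Type*} [CommSemiring k] [Field X] (φ : k →+* X) : Field (Tw φ) :=
  inferInstanceAs (Field X)

instance {k X : Type*} [CommSemiring k] [CommRing X] (φ : k →+* X) : Algebra k (Tw φ) :=
  φ.toAlgebra

/-- the identity map `Tw φ → X`. -/
def Tw.out {k X : Type*} [CommSemiring k] [Semiring X] {φ : k →+* X} (a : Tw φ) : X := a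

/-- the identity map `X → Tw φ`. -/
def Tw.mk {k X : Type*} [CommSemiring k] [Semiring X] (φ : k →+* X) (a : X) : Tw φ := a

theorem Tw.algebraMap_apply {k X : Type*} [CommSemiring k] [CommRing X] (φ : k →+* X) (c : k) :
    algebraMap k (Tw φ) c = Tw.mk φ (φ c) := rfl

open TensorProduct in
/-- A geometrically reduced (separable) field extension in characteristic `p` has the lifting
property for surjections whose kernel has vanishing `p`-th powers. -/
theorem exists_algHom_lift_of_geomReduced (p : ℕ) (hp : p.Prime) {k : Type u} {K : Type v}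
    [Field k] [Field K] [Algebra k K] [CharP k p] [Algebra.IsGeometricallyReduced k K]
    {E : Type w} [CommRing E] [Algebra k E] (N : Ideal E) (hN : ∀ n ∈ N, n ^ p = 0)
    (f : K →ₐ[k] E ⧸ N) : ∃ g : K →ₐ[k] E, (Ideal.Quotient.mkₐ k N).comp g = f := by
  classical
  haveI : Fact p.Prime := ⟨hp⟩
  haveI : CharP K p := charP_of_injective_algebraMap (algebraMap k K).injective p
  have hpk : (p : k) = 0 := CharP.cast_eq_zero k p
  have hpK : (p : K) = 0 := CharP.cast_eq_zero K p
  have hpE : (p : E) = 0 := by rw [← map_natCast (algebraMap k E), hpk, map_zero]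
  have hpKE : ((p : ℕ) : K × E) = 0 := by
    ext
    · simpa using hpK
    · simpa using hpE
  -- Frobenius lift
  obtain ⟨Ft, hFt⟩ : ∃ Ft : E ⧸ N →+* E, ∀ e, Ft (Ideal.Quotient.mk N e) = e ^ p :=
    ⟨Ideal.Quotient.lift N (PBasis.frobHom E p hp hpE) (fun n hn => hN n hn), fun e => rfl⟩
  have hmkFt : ∀ t, Ideal.Quotient.mk N (Ft t) = t ^ p := by
    intro t
    obtain ⟨e, rfl⟩ := Ideal.Quotient.mk_surjective t
    rw [hFt, map_pow]
  -- twisted structures
  let φk : k →+* k := PBasis.frobHom k p hp hpk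
  let τ : k →+* K × E := (PBasis.frobHom (K × E) p hp hpKE).comp (algebraMap k (K × E))
  have hτ : ∀ c, τ c = (algebraMap k K c ^ p, algebraMap k E c ^ p) := fun c => rfl
  haveI : Algebra.IsAlgebraic k (Tw φk) := by
    constructor
    intro a
    refine ⟨Polynomial.X ^ p - Polynomial.C (Tw.out a),
      (Polynomial.monic_X_pow_sub_C _ hp.ne_zero).ne_zero, ?_⟩
    simp only [map_sub, map_pow, Polynomial.aeval_X, Polynomial.aeval_C]
    rw [Tw.algebraMap_apply]
    exact sub_self _
  let ψ₁ : Tw φk →ₐ[k] Tw τ :=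
    { toFun := fun a => algebraMap k (K × E) (Tw.out a)
      map_one' := map_one _
      map_mul' := fun a b => map_mul (algebraMap k (K × E)) _ _
      map_zero' := map_zero _
      map_add' := fun a b => map_add (algebraMap k (K × E)) _ _
      commutes' := fun c => by
        rw [Tw.algebraMap_apply, Tw.algebraMap_apply]
        show algebraMap k (K × E) (c ^ p) = (algebraMap k (K × E) c) ^ p
        rw [map_pow] }
  let ψ₂ : K →ₐ[k] Tw τ :=
    { toFun := fun y => ((y ^ p, Ft (f y)) : K × E)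
      map_one' := by
        show ((1 ^ p, Ft (f 1)) : K × E) = 1
        rw [one_pow, map_one, map_one]; rfl
      map_mul' := fun a b => by
        show ((_, _) : K × E) = ((_, _) : K × E) * ((_, _) : K × E)
        rw [mul_pow, map_mul, map_mul]; rfl
      map_zero' := by
        show ((0 ^ p, Ft (f 0)) : K × E) = 0
        rw [zero_pow hp.ne_zero, map_zero, map_zero]; rfl
      map_add' := fun a b => by
        show ((_, _) : K × E) = ((_, _) : K × E) + ((_, _) : K × E)
        rw [PBasis.add_pow_of_natCast_eq_zero p hp hpK, map_add, map_add]; rfl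
      commutes' := fun c => by
        rw [Tw.algebraMap_apply, hτ]
        show ((_, _) : K × E) = _
        rw [← map_pow, f.commutes]
        have : algebraMap k (E ⧸ N) c = Ideal.Quotient.mk N (algebraMap k E c) := rfl
        rw [this, hFt, map_pow]
        rfl }
  have hψ₁ : ∀ a : Tw φk, (ψ₁ a : K × E) = (algebraMap k K (Tw.out a),
      algebraMap k E (Tw.out a)) := fun a => rfl
  have hψ₂ : ∀ y : K, (ψ₂ y : K × E) = (y ^ p, Ft (f y)) := fun y => rfl
  let Φ : Tw φk ⊗[k] K →ₐ[k] Tw τ :=
    Algebra.TensorProduct.lift ψ₁ ψ₂ (fun _ _ => Commute.all _ _)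
  have hΦ : ∀ (a : Tw φk) (y : K), Φ (a ⊗ₜ y) = ψ₁ a * ψ₂ y := fun a y => by
    simp [Φ]
  have hΦ' : ∀ (a : Tw φk) (y : K), (Φ (a ⊗ₜ y) : K × E) =
      (algebraMap k K (Tw.out a) * y ^ p, algebraMap k E (Tw.out a) * Ft (f y)) := by
    intro a y
    rw [hΦ]
    show (ψ₁ a : K × E) * (ψ₂ y : K × E) = _
    rw [hψ₁, hψ₂]; rfl
  -- MacLane
  have hpW : ((p : ℕ) : Tw φk ⊗[k] K) = 0 := by
    rw [← map_natCast (algebraMap k (Tw φk ⊗[k] K)), hpk, map_zero]
  have hpow : ∀ w : Tw φk ⊗[k] K, w ^ p = (1 : Tw φk) ⊗ₜ[k] ((Φ w : K × E).1) := by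
    intro w
    induction w using TensorProduct.induction_on with
    | zero =>
      rw [zero_pow hp.ne_zero, map_zero]
      show 0 = (1 : Tw φk) ⊗ₜ[k] (0 : K)
      rw [TensorProduct.tmul_zero]
    | tmul a y =>
      rw [hΦ', Algebra.TensorProduct.tmul_pow]
      show (a ^ p) ⊗ₜ[k] (y ^ p) = (1 : Tw φk) ⊗ₜ[k] (algebraMap k K (Tw.out a) * y ^ p)
      have h1 : a ^ p = (Tw.out a) • (1 : Tw φk) := by
        rw [Algebra.smul_def, mul_one, Tw.algebraMap_apply]; rfl
      rw [h1, TensorProduct.smul_tmul, Algebra.smul_def]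
    | add w₁ w₂ h₁ h₂ =>
      rw [PBasis.add_pow_of_natCast_eq_zero p hp hpW, h₁, h₂, map_add]
      show _ = (1 : Tw φk) ⊗ₜ[k] ((Φ w₁ : K × E).1 + (Φ w₂ : K × E).1)
      rw [TensorProduct.tmul_add]
  have hinjΦ : ∀ w : Tw φk ⊗[k] K, (Φ w : K × E).1 = 0 → w = 0 := by
    intro w hw
    have h1 : w ^ p = 0 := by rw [hpow, hw, TensorProduct.tmul_zero]
    exact IsReduced.eq_zero _ ⟨p, h1⟩
  -- the starting graph
  let G₁ : Subring (K × E) := Φ.toRingHom.range
  have hG₁ : Good p (Ideal.Quotient.mk N) f.toRingHom G₁ := by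
    refine ⟨?_, ?_, ?_⟩
    · intro x e he
      refine ⟨(1 : Tw φk) ⊗ₜ[k] x, ?_⟩
      show (Φ ((1 : Tw φk) ⊗ₜ[k] x) : K × E) = _
      rw [hΦ']
      have : f x = Ideal.Quotient.mk N e := he.symm
      show ((algebraMap k K 1 * x ^ p, algebraMap k E 1 * Ft (f x)) : K × E) = _
      rw [map_one, map_one, one_mul, one_mul, this, hFt]
    · rintro _ ⟨w, rfl⟩
      show Ideal.Quotient.mk N (Φ w : K × E).2 = f (Φ w : K × E).1
      induction w using TensorProduct.induction_on with
      | zero => rw [map_zero]; show Ideal.Quotient.mk N 0 = f 0; rw [map_zero, map_zero]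
      | tmul a y =>
        rw [hΦ']
        show Ideal.Quotient.mk N (algebraMap k E (Tw.out a) * Ft (f y))
          = f (algebraMap k K (Tw.out a) * y ^ p)
        rw [map_mul, hmkFt, map_mul, map_pow, f.commutes]; rfl
      | add w₁ w₂ h₁ h₂ =>
        rw [map_add]
        show Ideal.Quotient.mk N ((Φ w₁ : K × E).2 + (Φ w₂ : K × E).2)
          = f ((Φ w₁ : K × E).1 + (Φ w₂ : K × E).1)
        rw [map_add, map_add, h₁, h₂]
    · rintro _ ⟨w, rfl⟩ h0
      have : w = 0 := hinjΦ w h0
      rw [this, map_zero]; rfl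
  obtain ⟨g, hg, hgG⟩ := hG₁.exists_lift hp Ideal.Quotient.mk_surjective
  have hcomm : ∀ c : k, g (algebraMap k K c) = algebraMap k E c := by
    intro c
    have hmem : ((algebraMap k K c, algebraMap k E c) : K × E) ∈ G₁ := by
      refine ⟨(Tw.mk φk c) ⊗ₜ[k] (1 : K), ?_⟩
      show (Φ ((Tw.mk φk c) ⊗ₜ[k] (1 : K)) : K × E) = _
      rw [hΦ']
      show ((algebraMap k K c * 1 ^ p, algebraMap k E c * Ft (f 1)) : K × E) = _
      rw [one_pow, mul_one, map_one, map_one, mul_one]
    exact hgG _ hmem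
  refine ⟨{ g with commutes' := hcomm }, ?_⟩
  ext x
  exact hg x

/-- Field extensions in characteristic zero are formally smooth. -/
theorem formallySmooth_of_charZero {k : Type u} {K : Type v} [Field k] [Field K] [Algebra k K]
    [CharZero k] : Algebra.FormallySmooth k K := by
  haveI : CharZero K := charZero_of_injective_algebraMap (algebraMap k K).injective
  obtain ⟨s, hs⟩ := exists_isTranscendenceBasis k K
  set x : s → K := (↑) with hx
  have h1 : Algebra.IsAlgebraic (IntermediateField.adjoin k (Set.range x)) K :=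
    hs.isAlgebraic_field
  have h2 : Algebra.IsSeparable (IntermediateField.adjoin k (Set.range x)) K :=
    inferInstance
  exact Algebra.FormallySmooth.of_algebraicIndependent_of_isSeparable hs.1

/-- A separable (geometrically reduced) field extension is formally smooth. -/
theorem formallySmooth_of_isGeometricallyReduced {k : Type u} {K : Type v} [Field k] [Field K]
    [Algebra k K] [Algebra.IsGeometricallyReduced k K] : Algebra.FormallySmooth k K := by
  obtain ⟨p, hp⟩ := CharP.exists k
  rcases CharP.char_is_prime_or_zero k p with hp' | rfl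
  · apply Algebra.FormallySmooth.of_comp_surjective
    intro B _ _ I hI f
    refine exists_algHom_lift_of_geomReduced p hp' I (fun n hn => ?_) f
    have h2 : n ^ 2 = 0 := by
      have : n ^ 2 ∈ I ^ 2 := Ideal.pow_mem_pow hn 2
      rwa [hI] at this
    obtain ⟨j, hj⟩ : ∃ j, p = 2 + j := ⟨p - 2, by have := hp'.two_le; omega⟩
    rw [hj, pow_add, h2, zero_mul]
  · haveI : CharZero k := CharP.charP_to_charZero k
    exact formallySmooth_of_charZero

end Groth.Agent.Lib.helper17.FieldLift
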