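import Mathlib
import Groth.Agent.LibArtLift29
import Groth.Agent.Lib.Helper19.CohenK3

/-!
# helper17: regular local rings essentially of finite type over a field are formally smooth

* `formallySmooth_of_isAdicFormallySmooth`: a local `k`-algebra `B`, essentially of finite type over
  the field `k`, which is formally smooth for the adic topology is formally smooth
  (discrete topologies).  (helper29's Artinian lifting criterion.)
* `isAdicFormallySmooth_of_formallySmooth`: the trivial converse.
* `formallySmooth_of_isRegularLocalRing`: `B` regular local, essentially of finite type over `k`,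
  residue field formally smooth over `k`  ⇒  `B` formally smooth over `k`.
* `isRegularLocalRing_of_formallySmooth`: converse (Noetherian local, residue field formally smooth).
-/

set_option autoImplicit false
set_option linter.style.haveILetI false
set_option linter.overlappingInstances false
universe u

namespace Groth.Agent.Lib.helper17.RegSmooth

open IsLocalRing Groth.Agent.LibArtLift29

theorem isAdicFormallySmooth_of_formallySmooth (k B : Type u) [CommRing k] [CommRing B]
    [Algebra k B] [Algebra.FormallySmooth k B] (𝔫 : Ideal B) :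
    CAlgX.IsAdicFormallySmooth k B 𝔫 := by
  intro A _ _ J hJ ψ _
  obtain ⟨χ, hχ⟩ := Algebra.FormallySmooth.exists_lift J ⟨2, hJ⟩ ψ
  exact ⟨χ, hχ⟩

theorem isLocalHom_algebraMap_of_field (k B : Type u) [Field k] [CommRing B] [Nontrivial B]
    [Algebra k B] : IsLocalHom (algebraMap k B) := by
  refine ⟨fun a ha => ?_⟩
  have : a ≠ 0 := by
    rintro rfl
    rw [map_zero] at ha
    exact not_isUnit_zero ha
  exact isUnit_iff_ne_zero.mpr this

theorem artLift_of_isAdicFormallySmooth (k B : Type u) [Field k] [CommRing B] [IsLocalRing B]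
    [Algebra k B] (h : CAlgX.IsAdicFormallySmooth k B (maximalIdeal B)) :
    ArtLift (algebraMap k B) := by
  intro A' _ _ _ hh _ I hItop hIm g₀ hcomp hloc _
  letI : Algebra k A' := hh.toAlgebra
  have hIle : I ≤ maximalIdeal A' := IsLocalRing.le_maximalIdeal hItop
  have hI2 : I ^ 2 = ⊥ := by
    rw [pow_two, eq_bot_iff, ← hIm]
    exact Ideal.mul_mono_right hIle
  let ψ : B →ₐ[k] A' ⧸ I :=
    { g₀ with
      commutes' := fun c => by
        have := congrArg (fun f => f c) hcomp
        exact this }
  obtain ⟨N, hN⟩ := IsArtinianRing.isNilpotent_jacobson_bot (R := A')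
  rw [IsLocalRing.jacobson_eq_maximalIdeal ⊥ bot_ne_top] at hN
  have hkill : ∃ m : ℕ, ∀ x ∈ maximalIdeal B ^ m, ψ x = 0 := by
    refine ⟨N, fun x hx => ?_⟩
    have h1 : (maximalIdeal B).map g₀ ≤ (maximalIdeal A').map (Ideal.Quotient.mk I) := by
      rw [Ideal.map_le_iff_le_comap]
      intro b hb
      exact hloc b hb
    have h2 : g₀ x ∈ ((maximalIdeal B) ^ N).map g₀ := Ideal.mem_map_of_mem _ hx
    rw [Ideal.map_pow] at h2
    have h3 := Ideal.pow_right_mono h1 N h2
    rw [← Ideal.map_pow, hN, Ideal.zero_eq_bot, Ideal.map_bot] at h3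
    exact h3
  obtain ⟨χ, hχ⟩ := h A' I hI2 ψ hkill
  refine ⟨χ.toRingHom, ?_, ?_⟩
  · ext c
    exact χ.commutes c
  · ext b
    have := congrArg (fun f => f b) hχ
    exact this

theorem formallySmooth_of_isAdicFormallySmooth (k B : Type u) [Field k] [CommRing B]
    [IsLocalRing B] [Algebra k B] [Algebra.EssFiniteType k B]
    (h : CAlgX.IsAdicFormallySmooth k B (maximalIdeal B)) : Algebra.FormallySmooth k B := by
  haveI := isLocalHom_algebraMap_of_field k B
  exact formallySmooth_of_artLift (artLift_of_isAdicFormallySmooth k B h)

theorem formallySmooth_of_isRegularLocalRing (k B : Type u) [Field k] [CommRing B]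
    [IsLocalRing B] [Algebra k B] [Algebra.EssFiniteType k B] [IsRegularLocalRing B]
    [Algebra.FormallySmooth k (ResidueField B)] : Algebra.FormallySmooth k B :=
  formallySmooth_of_isAdicFormallySmooth k B
    ((Groth.Agent.Lib.helper19.CohenK.regular_iff_isAdicFormallySmooth k B).mp inferInstance)

theorem isRegularLocalRing_of_formallySmooth (k B : Type u) [Field k] [CommRing B]
    [IsLocalRing B] [IsNoetherianRing B] [Algebra k B] [Algebra.FormallySmooth k B]
    [Algebra.FormallySmooth k (ResidueField B)] : IsRegularLocalRing B :=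
  (Groth.Agent.Lib.helper19.CohenK.regular_iff_isAdicFormallySmooth k B).mpr
    (isAdicFormallySmooth_of_formallySmooth k B _)

end Groth.Agent.Lib.helper17.RegSmooth
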