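import Mathlib
import Groth.Agent.Lib.Helper17.FieldLift

/-!
A local ring with nilpotent maximal ideal which is formally smooth over a field is a field.
Consequently a formally smooth field extension is separable (geometrically reduced).
-/

set_option autoImplicit false
universe u v w

namespace Groth.Agent.Lib.helper17.SmoothArtin

open IsLocalRing Polynomial

/-- Core: if `A` (local, nilpotent maximal ideal) and its residue field are both formally smooth
over a field `k₀`, then the maximal ideal is zero. -/
theorem maximalIdeal_eq_bot_core {k₀ : Type u} {A : Type v} [Field k₀] [CommRing A] [IsLocalRing A]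
    [Algebra k₀ A] [Algebra.FormallySmooth k₀ A] [Algebra.FormallySmooth k₀ (ResidueField A)]
    (hnil : IsNilpotent (maximalIdeal A)) : maximalIdeal A = ⊥ := by
  classical
  by_contra hne
  obtain ⟨m, hm⟩ := hnil
  have hm' : maximalIdeal A ^ m = ⊥ := hm
  -- t ∈ 𝔫 \ 𝔫²
  obtain ⟨t, ht, ht2⟩ : ∃ t ∈ maximalIdeal A, t ∉ maximalIdeal A ^ 2 := by
    by_contra hcon
    push Not at hcon
    apply hne
    have hle : maximalIdeal A ≤ maximalIdeal A ^ 2 := fun t ht => hcon t ht
    have hn : ∀ n : ℕ, maximalIdeal A ≤ maximalIdeal A ^ (n + 1) := by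
      intro n
      induction n with
      | zero => simp
      | succ n ih =>
        calc maximalIdeal A ≤ maximalIdeal A ^ 2 := hle
          _ = maximalIdeal A * maximalIdeal A := pow_two _
          _ ≤ maximalIdeal A ^ (n + 1) * maximalIdeal A := Ideal.mul_mono_left ih
          _ = maximalIdeal A ^ (n + 1 + 1) := (pow_succ _ _).symm
    rw [eq_bot_iff, ← hm']
    rcases Nat.eq_zero_or_pos m with rfl | hmpos
    · simp
    · obtain ⟨j, rfl⟩ : ∃ j, m = j + 1 := ⟨m - 1, by omega⟩
      exact hn j
  -- the section σ
  let σ : ResidueField A →ₐ[k₀] A :=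
    Algebra.FormallySmooth.lift (maximalIdeal A) ⟨m, hm⟩
      (AlgHom.id k₀ (ResidueField A) : ResidueField A →ₐ[k₀] A ⧸ maximalIdeal A)
  have hσ : ∀ l, residue A (σ l) = l := fun l =>
    Algebra.FormallySmooth.mk_lift (maximalIdeal A) ⟨m, hm⟩
      (AlgHom.id k₀ (ResidueField A) : ResidueField A →ₐ[k₀] A ⧸ maximalIdeal A) l
  have hmem : ∀ a : A, a - σ (residue A a) ∈ maximalIdeal A := by
    intro a
    rw [← residue_eq_zero_iff, map_sub, hσ, sub_self]
  -- the functional
  have htbar : (maximalIdeal A).toCotangent ⟨t, ht⟩ ≠ 0 := by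
    rw [Ne, Ideal.toCotangent_eq_zero]; exact ht2
  obtain ⟨φ₀, hφ₀⟩ : ∃ φ₀ : CotangentSpace A →ₗ[ResidueField A] ResidueField A,
      φ₀ ((maximalIdeal A).toCotangent ⟨t, ht⟩) ≠ 0 := by
    by_contra hcon
    push Not at hcon
    exact htbar ((Module.forall_dual_apply_eq_zero_iff (ResidueField A) _).mp hcon)
  obtain ⟨φb, hφb⟩ : ∃ φb : CotangentSpace A →ₗ[ResidueField A] ResidueField A,
      φb ((maximalIdeal A).toCotangent ⟨t, ht⟩) = 1 :=
    ⟨(φ₀ ((maximalIdeal A).toCotangent ⟨t, ht⟩))⁻¹ • φ₀, by
      simp [inv_mul_cancel₀ hφ₀]⟩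
  obtain ⟨φ, hφ⟩ : ∃ φ : A → ResidueField A, ∀ a, φ a =
      φb ((maximalIdeal A).toCotangent ⟨a - σ (residue A a), hmem a⟩) := ⟨_, fun _ => rfl⟩
  have hcot_smul : ∀ (a : A) (y : CotangentSpace A), φb (a • y) = residue A a * φb y := by
    intro a y
    rw [← IsScalarTower.algebraMap_smul (ResidueField A) a y, map_smul, smul_eq_mul]
    rfl
  have hφ_of_mem : ∀ (a : A) (ha : a ∈ maximalIdeal A),
      φ a = φb ((maximalIdeal A).toCotangent ⟨a, ha⟩) := by
    intro a ha
    rw [hφ]
    congr 2
    apply Subtype.ext
    show a - σ (residue A a) = a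
    rw [(residue_eq_zero_iff a).mpr ha, map_zero, sub_zero]
  have hφ_add : ∀ a b, φ (a + b) = φ a + φ b := by
    intro a b
    rw [hφ, hφ, hφ, ← map_add, ← map_add]
    congr 2
    apply Subtype.ext
    show a + b - σ (residue A (a + b)) = (a - σ (residue A a)) + (b - σ (residue A b))
    rw [map_add, map_add]; ring
  have hφ_sq : ∀ x y : A, x ∈ maximalIdeal A → y ∈ maximalIdeal A → φ (x * y) = 0 := by
    intro x y hx hy
    rw [hφ_of_mem _ (Ideal.mul_mem_left _ _ hy)]
    have : (maximalIdeal A).toCotangent ⟨x * y, Ideal.mul_mem_left _ _ hy⟩ = 0 := by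
      rw [Ideal.toCotangent_eq_zero, pow_two]
      exact Ideal.mul_mem_mul hx hy
    rw [this, map_zero]
  have hφ_smul : ∀ (a y : A) (hy : y ∈ maximalIdeal A), φ (a * y) = residue A a * φ y := by
    intro a y hy
    rw [hφ_of_mem _ (Ideal.mul_mem_left _ _ hy), hφ_of_mem _ hy, ← hcot_smul, ← map_smul]
    rfl
  have hφ_σ : ∀ l, φ (σ l) = 0 := by
    intro l
    rw [hφ]
    have : (⟨σ l - σ (residue A (σ l)), hmem _⟩ : maximalIdeal A) = 0 := by
      apply Subtype.ext
      show σ l - σ (residue A (σ l)) = 0
      rw [hσ, sub_self]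
    rw [this, map_zero, map_zero]
  have hφ_mul : ∀ a b, φ (a * b) = residue A a * φ b + residue A b * φ a := by
    intro a b
    have hdecomp : a * b = σ (residue A a * residue A b)
        + (σ (residue A a) * (b - σ (residue A b)) + σ (residue A b) * (a - σ (residue A a))
          + (a - σ (residue A a)) * (b - σ (residue A b))) := by
      rw [map_mul]; ring
    have hb : φ b = φ (b - σ (residue A b)) := by
      have := hφ_add (b - σ (residue A b)) (σ (residue A b))
      rw [sub_add_cancel, hφ_σ, add_zero] at this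
      exact this
    have ha : φ a = φ (a - σ (residue A a)) := by
      have := hφ_add (a - σ (residue A a)) (σ (residue A a))
      rw [sub_add_cancel, hφ_σ, add_zero] at this
      exact this
    rw [hdecomp, hφ_add, hφ_σ, zero_add, hφ_add, hφ_add, hφ_sq _ _ (hmem a) (hmem b), add_zero,
      hφ_smul _ _ (hmem b), hφ_smul _ _ (hmem a), hσ, hσ, ← hb, ← ha]
  have hφ_t : φ t = 1 := by rw [hφ_of_mem t ht, hφb]
  have hφ_alg : ∀ c : k₀, φ (algebraMap k₀ A c) = 0 := by
    intro c
    have : algebraMap k₀ A c = σ (algebraMap k₀ (ResidueField A) c) := (σ.commutes c).symm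
    rw [this, hφ_σ]
  -- the test ring
  let I₀ : Ideal (ResidueField A)[X] := Ideal.span {X ^ (m + 1)}
  let x : (ResidueField A)[X] ⧸ I₀ := Ideal.Quotient.mk I₀ X
  let N : Ideal ((ResidueField A)[X] ⧸ I₀) := Ideal.span {x ^ 2}
  have hx_pow : x ^ (m + 1) = 0 := by
    show (Ideal.Quotient.mk I₀ X) ^ (m + 1) = 0
    rw [← map_pow, Ideal.Quotient.eq_zero_iff_mem]
    exact Ideal.subset_span rfl
  have hNnil : IsNilpotent N := by
    refine ⟨m + 1, ?_⟩
    show N ^ (m + 1) = ⊥
    rw [Ideal.span_singleton_pow, ← pow_mul, mul_comm, pow_mul, hx_pow, zero_pow (by norm_num)]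
    simp
  let u₁ : A →ₐ[k₀] ((ResidueField A)[X] ⧸ I₀) ⧸ N :=
    { toFun := fun a => Ideal.Quotient.mk N (Ideal.Quotient.mk I₀ (C (residue A a) + C (φ a) * X))
      map_one' := by
        have h1 : φ 1 = 0 := by
          have := hφ_alg 1
          rwa [map_one] at this
        rw [h1, map_one]; simp
      map_mul' := by
        intro a b
        rw [← map_mul, ← map_mul, Ideal.Quotient.eq]
        have : Ideal.Quotient.mk I₀ (C (residue A (a * b)) + C (φ (a * b)) * X)
            - Ideal.Quotient.mk I₀ ((C (residue A a) + C (φ a) * X) * (C (residue A b) + C (φ b) * X))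
            = - (Ideal.Quotient.mk I₀ (C (φ a * φ b))) * x ^ 2 := by
          show _ = - (Ideal.Quotient.mk I₀ (C (φ a * φ b))) * (Ideal.Quotient.mk I₀ X) ^ 2
          rw [← map_sub, ← map_pow, ← map_neg, ← map_mul, hφ_mul]
          congr 1
          simp only [map_mul, map_add]
          ring
        rw [this]
        exact Ideal.mul_mem_left _ _ (Ideal.subset_span rfl)
      map_zero' := by
        have h0 : φ 0 = 0 := by
          have := hφ_alg 0
          rwa [map_zero] at this
        rw [h0, map_zero]; simp
      map_add' := by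
        intro a b
        have hP : C (residue A (a + b)) + C (φ (a + b)) * X
            = (C (residue A a) + C (φ a) * X) + (C (residue A b) + C (φ b) * X) := by
          rw [hφ_add, map_add, map_add, map_add]; ring
        show Ideal.Quotient.mk N (Ideal.Quotient.mk I₀ (C (residue A (a + b)) + C (φ (a + b)) * X))
          = _
        rw [hP, map_add, map_add]
      commutes' := by
        intro c
        rw [hφ_alg]
        simp only [map_zero, zero_mul, add_zero]
        rfl }
  have hu₁ : ∀ a, u₁ a = Ideal.Quotient.mk N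
      (Ideal.Quotient.mk I₀ (C (residue A a) + C (φ a) * X)) := fun a => rfl
  let uu : A →ₐ[k₀] (ResidueField A)[X] ⧸ I₀ := Algebra.FormallySmooth.lift N hNnil u₁
  have huu : ∀ a, Ideal.Quotient.mk N (uu a) = u₁ a :=
    fun a => Algebra.FormallySmooth.mk_lift N hNnil u₁ a
  -- contradiction
  have h1 : uu t - x ∈ N := by
    rw [← Ideal.Quotient.eq, huu, hu₁, hφ_t, (residue_eq_zero_iff t).mpr ht]
    simp [x]
  obtain ⟨e', he'⟩ := Ideal.mem_span_singleton'.mp h1
  have h2 : uu t = x * (1 + e' * x) := by
    have : uu t = x + e' * x ^ 2 := by rw [he']; ring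
    rw [this]; ring
  have h3 : uu t ^ m = 0 := by
    rw [← map_pow]
    have : t ^ m = 0 := by
      have := Ideal.pow_mem_pow ht m
      rwa [hm'] at this
    rw [this, map_zero]
  have hunit : IsUnit (1 + e' * x) := by
    have hnil : IsNilpotent (e' * x) := ⟨m + 1, by rw [mul_pow, hx_pow, mul_zero]⟩
    exact hnil.isUnit_one_add
  have h4 : x ^ m = 0 := by
    rw [h2, mul_pow] at h3
    exact (hunit.pow m).mul_left_eq_zero.mp h3
  have h5 : (X : (ResidueField A)[X]) ^ (m + 1) ∣ X ^ m := by
    have : (X : (ResidueField A)[X]) ^ m ∈ I₀ := by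
      rw [← Ideal.Quotient.eq_zero_iff_mem, map_pow]; exact h4
    exact Ideal.mem_span_singleton.mp this
  have h6 := (pow_dvd_pow_iff (X_ne_zero (R := ResidueField A)) not_isUnit_X).mp h5
  omega

/-- Any field of characteristic `p` is formally smooth over `ZMod p`. -/
theorem formallySmooth_zmod (p : ℕ) [Fact p.Prime] (K : Type u) [Field K] [CharP K p]
    [Algebra (ZMod p) K] : Algebra.FormallySmooth (ZMod p) K := by
  apply Algebra.FormallySmooth.of_comp_surjective
  intro B _ _ I hI f
  have hp : p.Prime := Fact.out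
  have hpB : ((p : ℕ) : B) = 0 := by
    have : algebraMap (ZMod p) B (p : ZMod p) = (p : B) := map_natCast _ _
    rw [← this, ZMod.natCast_self, map_zero]
  have hker : ∀ n : B, Ideal.Quotient.mk I n = 0 → n ^ p = 0 := by
    intro n hn
    have hn' : n ∈ I := Ideal.Quotient.eq_zero_iff_mem.mp hn
    have h2 : n ^ 2 = 0 := by
      have : n ^ 2 ∈ I ^ 2 := Ideal.pow_mem_pow hn' 2
      rwa [hI] at this
    obtain ⟨j, hj⟩ : ∃ j, p = 2 + j := ⟨p - 2, by have := hp.two_le; omega⟩
    rw [hj, pow_add, h2, zero_mul]
  obtain ⟨G₀, hG₀, -⟩ := FieldLift.exists_good_bot (π := Ideal.Quotient.mk I)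
    (f := f.toRingHom) hp hpB hker
  obtain ⟨g, hg, -⟩ := hG₀.exists_lift hp Ideal.Quotient.mk_surjective
  have hcomm : ∀ r : ZMod p, g (algebraMap (ZMod p) K r) = algebraMap (ZMod p) B r := by
    intro r
    have : g.comp (algebraMap (ZMod p) K) = algebraMap (ZMod p) B := Subsingleton.elim _ _
    exact RingHom.congr_fun this r
  refine ⟨{ g with commutes' := hcomm }, ?_⟩
  ext x
  exact hg x

/-- A local ring with nilpotent maximal ideal, formally smooth over a field, is a field. -/
theorem maximalIdeal_eq_bot_of_formallySmooth {k' : Type u} {A : Type v} [Field k'] [CommRing A]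
    [IsLocalRing A] [Algebra k' A] [Algebra.FormallySmooth k' A]
    (hnil : IsNilpotent (maximalIdeal A)) : maximalIdeal A = ⊥ := by
  obtain ⟨p, hp⟩ := CharP.exists k'
  have hinjA : Function.Injective (algebraMap k' A) := (algebraMap k' A).injective
  have hinjL : Function.Injective (algebraMap k' (ResidueField A)) :=
    (algebraMap k' (ResidueField A)).injective
  rcases CharP.char_is_prime_or_zero k' p with hp' | rfl
  · haveI : Fact p.Prime := ⟨hp'⟩
    haveI : CharP A p := charP_of_injective_algebraMap hinjA p
    haveI : CharP (ResidueField A) p := charP_of_injective_algebraMap hinjL p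
    letI a1 : Algebra (ZMod p) k' := ZMod.algebra k' p
    letI a2 : Algebra (ZMod p) A := ZMod.algebra A p
    haveI : IsScalarTower (ZMod p) k' A := IsScalarTower.of_algebraMap_eq' (Subsingleton.elim _ _)
    haveI : Algebra.FormallySmooth (ZMod p) k' := formallySmooth_zmod p k'
    haveI : Algebra.FormallySmooth (ZMod p) A := Algebra.FormallySmooth.comp (ZMod p) k' A
    haveI : Algebra.FormallySmooth (ZMod p) (ResidueField A) := formallySmooth_zmod p _
    exact maximalIdeal_eq_bot_core (k₀ := ZMod p) hnil
  · haveI : CharZero k' := CharP.charP_to_charZero k'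
    haveI : CharZero (ResidueField A) := charZero_of_injective_algebraMap hinjL
    letI a2 : Algebra ℚ A := ((algebraMap k' A).comp (algebraMap ℚ k')).toAlgebra
    haveI : IsScalarTower ℚ k' A := IsScalarTower.of_algebraMap_eq' rfl
    letI a3 : Algebra ℚ (ResidueField A) := IsLocalRing.ResidueField.algebra A
    haveI : Algebra.FormallySmooth ℚ k' := FieldLift.formallySmooth_of_charZero
    haveI : Algebra.FormallySmooth ℚ A := Algebra.FormallySmooth.comp ℚ k' A
    haveI : Algebra.FormallySmooth ℚ (ResidueField A) := FieldLift.formallySmooth_of_charZero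
    exact maximalIdeal_eq_bot_core (k₀ := ℚ) hnil

open TensorProduct in
/-- A formally smooth field extension is separable (geometrically reduced). -/
theorem isGeometricallyReduced_of_formallySmooth {k : Type u} {K : Type v} [Field k] [Field K]
    [Algebra k K] [Algebra.FormallySmooth k K] : Algebra.IsGeometricallyReduced k K := by
  classical
  rw [Algebra.isGeometricallyReduced_field_iff]
  have key : ∀ B : Subalgebra k (AlgebraicClosure k), B.FG → IsReduced (K ⊗[k] B) := by
    intro B hB
    letI : Field B := (Subalgebra.isField_of_algebraic B).toField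
    haveI : Algebra.FiniteType k B := (Subalgebra.fg_iff_finiteType B).mp hB
    haveI : Algebra.IsAlgebraic k B :=
      Algebra.IsAlgebraic.of_injective B.val Subtype.val_injective
    haveI : Algebra.IsIntegral k B := Algebra.IsAlgebraic.isIntegral
    haveI : Module.Finite k B := Algebra.IsIntegral.finite
    haveI : Module.Finite K (K ⊗[k] B) := inferInstance
    haveI : IsArtinianRing (K ⊗[k] B) := IsArtinianRing.of_finite K (K ⊗[k] B)
    haveI : IsArtinianRing (B ⊗[k] K) :=
      RingEquiv.isArtinianRing (Algebra.TensorProduct.comm k K B).toRingEquiv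
    have hW : IsReduced (B ⊗[k] K) := by
      apply isReduced_ofLocalizationMaximal
      intro J hJ
      have hnil : IsNilpotent (maximalIdeal (Localization.AtPrime J)) := by
        have h1 := IsLocalRing.jacobson_eq_maximalIdeal (R := Localization.AtPrime J) ⊥ bot_ne_top
        rw [← h1]
        exact IsArtinianRing.isNilpotent_jacobson_bot
      have hbot := maximalIdeal_eq_bot_of_formallySmooth (k' := B)
        (A := Localization.AtPrime J) hnil
      constructor
      intro x hx
      have hxm : x ∈ maximalIdeal (Localization.AtPrime J) := by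
        rw [IsLocalRing.mem_maximalIdeal]
        intro hu
        obtain ⟨n, hn⟩ := hx
        have := hu.pow n
        rw [hn] at this
        exact not_isUnit_zero this
      rw [hbot] at hxm
      exact hxm
    exact isReduced_of_injective (Algebra.TensorProduct.comm k K B).toRingEquiv.toRingHom
      (Algebra.TensorProduct.comm k K B).injective
  haveI : IsReduced (K ⊗[k] AlgebraicClosure k) :=
    IsReduced.tensorProduct_of_flat_of_forall_fg key
  exact isReduced_of_injective (Algebra.TensorProduct.comm k (AlgebraicClosure k) K).toRingEquiv.toRingHom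
    (Algebra.TensorProduct.comm k (AlgebraicClosure k) K).injective

end Groth.Agent.Lib.helper17.SmoothArtin
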