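import Mathlib
import Groth.Agent.Lib.Helper17.RegSmooth
import Groth.Agent.Lib.Helper19.CohenK4

/-!
# helper17: smooth locus of a scheme locally of finite type over a field = regular locus
(at points whose residue field is formally smooth over the base field)

For `f : X ⟶ Spec K` locally of finite presentation and `x : X`:
* `resMap f x : K →+* X.residueField x` (same as `Curv2.resMap`).
* `mem_smoothLocus_iff_isRegularLocalRing`: if `resMap f x` is formally smooth then
  `x ∈ f.smoothLocus ↔ IsRegularLocalRing (X.presheaf.stalk x)`.
* `mem_smoothLocus_iff_isRegularLocalRing_of_perfectField`.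
-/

set_option autoImplicit false
set_option linter.style.haveILetI false
universe u

open CategoryTheory AlgebraicGeometry IsLocalRing

namespace Groth.Agent.Lib.helper17.RegSmooth

variable {K : Type u} [Field K] {X : Scheme.{u}} (f : X ⟶ Spec (CommRingCat.of K)) (x : X)

/-- the structure map `K → κ(x)`. -/
noncomputable def resMap : K →+* X.residueField x :=
  (X.residue x).hom.comp ((X.presheaf.germ ⊤ x trivial).hom.comp
    ((f.appTop).hom.comp (Scheme.ΓSpecIso (CommRingCat.of K)).inv.hom))

set_option backward.isDefEq.respectTransparency false in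
theorem resMap_eq (c : K) :
    resMap f x c = (X.residue x).hom ((f.stalkMap x).hom
      (algebraMap K ((Spec.structureSheaf K).presheaf.stalk (f x)) c)) := by
  have h := Scheme.Hom.germ_stalkMap_apply f ⊤ x trivial
    ((Scheme.ΓSpecIso (CommRingCat.of K)).inv.hom c)
  simp only [resMap, RingHom.comp_apply]
  congr 1
  rw [StructureSheaf.stalkAlgebra_map]
  exact h.symm

set_option backward.isDefEq.respectTransparency false in
theorem mem_smoothLocus_iff_isRegularLocalRing [LocallyOfFinitePresentation f]
    (h : (resMap f x).FormallySmooth) :
    x ∈ f.smoothLocus ↔ IsRegularLocalRing (X.presheaf.stalk x) := by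
  have hess := LocallyOfFiniteType.stalkMap f x
  have : IsLocallyNoetherian X := LocallyOfFiniteType.isLocallyNoetherian f
  rw [Scheme.Hom.mem_smoothLocus]
  algebraize [(f.stalkMap x).hom]
  let K' := (Spec.structureSheaf K).presheaf.stalk (f x)
  let e : K ≃ₐ[K] K' := IsLocalization.atUnits _ (f x).asIdeal.primeCompl
      (fun y hy ↦ by aesop (add simp IsUnit.mem_submonoid_iff))
  let : Field K' := (e.toRingEquiv.symm.isField (Field.toIsField K)).toField
  let : Field ((Spec (.of K)).presheaf.stalk (f x)) := this
  letI : Algebra K' (X.presheaf.stalk x) := (f.stalkMap x).hom.toAlgebra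
  -- `K → K' → κ(x)` tower
  letI : Algebra K (ResidueField (X.presheaf.stalk x)) := (resMap f x).toAlgebra
  have hFS : Algebra.FormallySmooth K (ResidueField (X.presheaf.stalk x)) := h
  haveI : IsScalarTower K K' (ResidueField (X.presheaf.stalk x)) :=
    IsScalarTower.of_algebraMap_eq (fun c => resMap_eq f x c)
  haveI : Algebra.FormallyEtale K K' := Algebra.FormallyEtale.of_isLocalization
    (f x).asIdeal.primeCompl
  have hFS' : Algebra.FormallySmooth K' (ResidueField (X.presheaf.stalk x)) :=
    Algebra.FormallySmooth.iff_restrictScalars.mp hFS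
  have hFS'' : Algebra.FormallySmooth ((Spec (.of K)).presheaf.stalk (f x))
      (ResidueField (X.presheaf.stalk x)) := hFS'
  constructor
  · intro hsm
    have : Algebra.FormallySmooth ((Spec (.of K)).presheaf.stalk (f x)) (X.presheaf.stalk x) := hsm
    exact isRegularLocalRing_of_formallySmooth ((Spec (.of K)).presheaf.stalk (f x))
      (X.presheaf.stalk x)
  · intro hreg
    exact formallySmooth_of_isRegularLocalRing ((Spec (.of K)).presheaf.stalk (f x))
      (X.presheaf.stalk x)

theorem formallySmooth_resMap_of_perfectField [PerfectField K] : (resMap f x).FormallySmooth := by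
  letI : Algebra K (X.residueField x) := (resMap f x).toAlgebra
  exact Groth.Agent.Lib.helper19.CohenK.formallySmooth_of_perfectField K (X.residueField x)

theorem mem_smoothLocus_iff_isRegularLocalRing_of_perfectField [PerfectField K]
    [LocallyOfFinitePresentation f] :
    x ∈ f.smoothLocus ↔ IsRegularLocalRing (X.presheaf.stalk x) :=
  mem_smoothLocus_iff_isRegularLocalRing f x (formallySmooth_resMap_of_perfectField f x)

end Groth.Agent.Lib.helper17.RegSmooth
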