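import Groth.Prelude.Def_FlatMod2
import Mathlib
import Groth.Agent.Lib.Helper17.StalkPullback
import Groth.Agent.Lib.Helper17.FlatBC

/-!
# Relative flatness toolkit IV (helper17, LT13): pullbacks

* `isFlatOverAt_pullback_of_flat_stalkMap`, `isFlatOverAt_pullback_iff` (S9350): for `h : X ⟶ Y` flat at `x`,
  `q : Y ⟶ S`, `G` qcoh on `Y`: `G` flat over `S` at `h x` iff `h^*G` flat over `S` at `x`.
* `isFlatOver_pullback_iff_of_flat_surjective` (S4655).
-/

set_option autoImplicit false
set_option linter.style.haveILetI false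
universe u
open CategoryTheory AlgebraicGeometry TopologicalSpace Opposite TensorProduct

namespace Groth.Agent.Lib.helper17.FlatOver4

open Scheme.Modules Groth.Agent.Lib.helper17.StalkPullback Groth.Agent.Lib.helper17.FlatBC

variable {X Y S : Scheme.{u}} (h : X ⟶ Y) (q : Y ⟶ S) (G : Y.Modules)

/-- unfolding `IsFlatOverAt` along a composite -/
theorem isFlatOverAt_comp_iff (F : X.Modules) (x : X) :
    FlatMod.IsFlatOverAt (h ≫ q) F x ↔
      @Module.Flat (S.presheaf.stalk (q.base (h.base x))) (F.presheaf.stalk x) _ _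
        (Module.compHom _ ((h.stalkMap x).hom.comp (q.stalkMap (h.base x)).hom)) := by
  have e : ((h ≫ q).stalkMap x).hom = (h.stalkMap x).hom.comp (q.stalkMap (h.base x)).hom := by
    rw [Scheme.Hom.stalkMap_comp]; rfl
  unfold FlatMod.IsFlatOverAt FlatMod.moduleStalkOver
  rw [e]
  rfl

section

variable [G.IsQuasicoherent] (x : X)

/-- the common setup: `Flat C G_{h x} ↔ Flat C (h^*G)_x` when `O_{Y,h x} → O_{X,x}` is flat. -/
theorem isFlatOverAt_pullback_iff (hflat : (h.stalkMap x).hom.Flat) :
    FlatMod.IsFlatOverAt q G (h.base x) ↔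
      FlatMod.IsFlatOverAt (h ≫ q) ((Scheme.Modules.pullback h).obj G) x := by
  rw [isFlatOverAt_comp_iff]
  set P := (Scheme.Modules.pullback h).obj G with hP
  letI algCA : Algebra (S.presheaf.stalk (q.base (h.base x))) (Y.presheaf.stalk (h.base x)) :=
    (q.stalkMap (h.base x)).hom.toAlgebra
  letI algAA' : Algebra (Y.presheaf.stalk (h.base x)) (X.presheaf.stalk x) :=
    (h.stalkMap x).hom.toAlgebra
  letI algCA' : Algebra (S.presheaf.stalk (q.base (h.base x))) (X.presheaf.stalk x) :=
    ((h.stalkMap x).hom.comp (q.stalkMap (h.base x)).hom).toAlgebra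
  haveI : IsScalarTower (S.presheaf.stalk (q.base (h.base x))) (Y.presheaf.stalk (h.base x))
      (X.presheaf.stalk x) := IsScalarTower.of_algebraMap_eq (fun _ => rfl)
  letI mCM : Module (S.presheaf.stalk (q.base (h.base x))) (G.presheaf.stalk (h.base x)) :=
    FlatMod.moduleStalkOver q G (h.base x)
  haveI : IsScalarTower (S.presheaf.stalk (q.base (h.base x))) (Y.presheaf.stalk (h.base x))
      (G.presheaf.stalk (h.base x)) := isScalarTower_moduleStalkOver q G (h.base x)
  letI mAM' : Module (Y.presheaf.stalk (h.base x)) (P.presheaf.stalk x) :=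
    FlatMod.moduleStalkOver h P x
  letI mCM' : Module (S.presheaf.stalk (q.base (h.base x))) (P.presheaf.stalk x) :=
    Module.compHom _ ((h.stalkMap x).hom.comp (q.stalkMap (h.base x)).hom)
  haveI : IsScalarTower (Y.presheaf.stalk (h.base x)) (X.presheaf.stalk x) (P.presheaf.stalk x) :=
    isScalarTower_moduleStalkOver h P x
  haveI : IsScalarTower (S.presheaf.stalk (q.base (h.base x))) (X.presheaf.stalk x)
      (P.presheaf.stalk x) :=
    ⟨fun a b m => by
      change (((h.stalkMap x).hom.comp (q.stalkMap (h.base x)).hom) a * b) • m =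
        ((h.stalkMap x).hom.comp (q.stalkMap (h.base x)).hom) a • (b • m)
      rw [mul_smul]⟩
  haveI : Module.Flat (Y.presheaf.stalk (h.base x)) (X.presheaf.stalk x) := hflat
  haveI : IsLocalHom (algebraMap (Y.presheaf.stalk (h.base x)) (X.presheaf.stalk x)) :=
    inferInstanceAs (IsLocalHom (h.stalkMap x).hom)
  haveI : Module.FaithfullyFlat (Y.presheaf.stalk (h.base x)) (X.presheaf.stalk x) :=
    Module.FaithfullyFlat.of_flat_of_isLocalHom
  obtain ⟨ψ, hψ⟩ := exists_isBaseChange_stalk_pullback h G x
  exact flat_iff_of_isBaseChange (S.presheaf.stalk (q.base (h.base x))) (X.presheaf.stalk x) hψ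

end


/-- **S4655**: for `f` flat and surjective, `G` is flat over `Z` iff `f^*G` is. -/
theorem isFlatOver_pullback_iff_of_flat_surjective [G.IsQuasicoherent] [Flat h] [Surjective h] :
    FlatMod.IsFlatOver q G ↔
      FlatMod.IsFlatOver (h ≫ q) ((Scheme.Modules.pullback h).obj G) := by
  constructor
  · intro H x
    exact (isFlatOverAt_pullback_iff h q G x (Flat.stalkMap h x)).mp (H (h.base x))
  · intro H y
    obtain ⟨x, rfl⟩ := h.surjective y
    exact (isFlatOverAt_pullback_iff h q G x (Flat.stalkMap h x)).mpr (H x)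

/-- pullback along a flat morphism preserves flatness over the base -/
theorem isFlatOver_pullback_of_flat [G.IsQuasicoherent] [Flat h] (H : FlatMod.IsFlatOver q G) :
    FlatMod.IsFlatOver (h ≫ q) ((Scheme.Modules.pullback h).obj G) := fun x =>
  (isFlatOverAt_pullback_iff h q G x (Flat.stalkMap h x)).mp (H (h.base x))


end Groth.Agent.Lib.helper17.FlatOver4
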