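import Groth.Prelude.Def_FlatMod2
import Mathlib
import Groth.Agent.Lib.Helper17.FlatOver4
import Groth.Agent.Lib.Helper17.FlatOver6

/-!
# Relative flatness toolkit VII (helper17, LT13): formal properties

* `stalkLin φ x`: the `O_{X,x}`-linear map on stalks of a morphism of modules; `stalkLinEquiv`.
* `isFlatOverAt_iff_of_iso`, `isFlatOver_iff_of_iso`: invariance under isomorphism of modules.
* `isFlatOverAt_id_iff`, `isFlatOver_id_iff`: `IsFlatOver (𝟙 X) F ↔ IsFlat F`.
* `isFlatOver_congr`: equal morphisms.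
* `isFlat_of_isFlatOver_of_flat_diagonal` (S7177).
-/

set_option autoImplicit false
set_option linter.style.haveILetI false
universe u
open CategoryTheory CategoryTheory.Limits AlgebraicGeometry TopologicalSpace Opposite TensorProduct

namespace Groth.Agent.Lib.helper17.FlatOver7

open Scheme.Modules

variable {X S : Scheme.{u}}

/-- the map on stalks induced by a morphism of modules, as an additive map -/
noncomputable def stalkAdd {F G : X.Modules} (φ : F ⟶ G) (x : X) :
    F.presheaf.stalk x →+ G.presheaf.stalk x :=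
  ((TopCat.Presheaf.stalkFunctor Ab.{u} x).map φ.mapPresheaf).hom

theorem stalkAdd_germ {F G : X.Modules} (φ : F ⟶ G) (x : X) (U : X.Opens) (hx : x ∈ U)
    (s : Γ(F, U)) :
    stalkAdd φ x ((F.presheaf.germ U x hx).hom s) = (G.presheaf.germ U x hx).hom ((φ.app U).hom s) := by
  have := TopCat.Presheaf.stalkFunctor_map_germ (C := Ab.{u}) U x hx φ.mapPresheaf
  exact congrArg (fun f => f.hom s) this

open Groth.Agent.Lib.helper16.QCohAss in
theorem stalkAdd_smul {F G : X.Modules} (φ : F ⟶ G) (x : X) (r : X.presheaf.stalk x)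
    (m : F.presheaf.stalk x) : stalkAdd φ x (r • m) = r • stalkAdd φ x m := by
  obtain ⟨U₁, hx₁, a, rfl⟩ := X.presheaf.exists_germ_eq r
  obtain ⟨U₂, hx₂, s, rfl⟩ := F.presheaf.exists_germ_eq m
  have hx : x ∈ U₁ ⊓ U₂ := ⟨hx₁, hx₂⟩
  have e1 : (X.presheaf.germ U₁ x hx₁).hom a =
      (X.presheaf.germ (U₁ ⊓ U₂) x hx).hom (X.presheaf.map (homOfLE inf_le_left).op a) :=
    (TopCat.Presheaf.germ_res_apply X.presheaf (homOfLE inf_le_left) x hx a).symm
  have e2 : (F.presheaf.germ U₂ x hx₂).hom s =
      (F.presheaf.germ (U₁ ⊓ U₂) x hx).hom (F.presheaf.map (homOfLE inf_le_right).op s) :=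
    (TopCat.Presheaf.germ_res_apply F.presheaf (homOfLE inf_le_right) x hx s).symm
  rw [e1, e2, ← germ_smul', stalkAdd_germ, stalkAdd_germ, Hom.app_smul, germ_smul']

/-- the `O_{X,x}`-linear map on stalks induced by a morphism of modules -/
noncomputable def stalkLin {F G : X.Modules} (φ : F ⟶ G) (x : X) :
    F.presheaf.stalk x →ₗ[X.presheaf.stalk x] G.presheaf.stalk x :=
  { stalkAdd φ x with map_smul' := fun r m => stalkAdd_smul φ x r m }

theorem stalkAdd_id (F : X.Modules) (x : X) (m : F.presheaf.stalk x) : stalkAdd (𝟙 F) x m = m := by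
  unfold stalkAdd
  have : (𝟙 F : F ⟶ F).mapPresheaf = 𝟙 _ := (Scheme.Modules.toPresheaf X).map_id F
  rw [this, CategoryTheory.Functor.map_id]
  rfl

theorem stalkAdd_comp {F G H : X.Modules} (φ : F ⟶ G) (ψ : G ⟶ H) (x : X)
    (m : F.presheaf.stalk x) : stalkAdd (φ ≫ ψ) x m = stalkAdd ψ x (stalkAdd φ x m) := by
  unfold stalkAdd
  have : (φ ≫ ψ).mapPresheaf = φ.mapPresheaf ≫ ψ.mapPresheaf :=
    (Scheme.Modules.toPresheaf X).map_comp φ ψ
  rw [this, CategoryTheory.Functor.map_comp]
  rfl

/-- an isomorphism of modules induces a linear equivalence on stalks -/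
noncomputable def stalkLinEquiv {F G : X.Modules} (e : F ≅ G) (x : X) :
    F.presheaf.stalk x ≃ₗ[X.presheaf.stalk x] G.presheaf.stalk x :=
  { stalkLin e.hom x with
    invFun := stalkAdd e.inv x
    left_inv := fun m => by
      change stalkAdd e.inv x (stalkAdd e.hom x m) = m
      rw [← stalkAdd_comp, e.hom_inv_id, stalkAdd_id]
    right_inv := fun m => by
      change stalkAdd e.hom x (stalkAdd e.inv x m) = m
      rw [← stalkAdd_comp, e.inv_hom_id, stalkAdd_id] }


/-- flatness over the base at a point is invariant under isomorphism of modules -/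
theorem isFlatOverAt_iff_of_iso (f : X ⟶ S) {F G : X.Modules} (e : F ≅ G) (x : X) :
    FlatMod.IsFlatOverAt f F x ↔ FlatMod.IsFlatOverAt f G x := by
  letI := FlatMod.moduleStalkOver f F x
  letI := FlatMod.moduleStalkOver f G x
  let e' : F.presheaf.stalk x ≃ₗ[S.presheaf.stalk (f.base x)] G.presheaf.stalk x :=
    { (stalkLinEquiv e x).toAddEquiv with
      map_smul' := fun a m => (stalkLinEquiv e x).map_smul ((f.stalkMap x).hom a) m }
  exact Module.Flat.equiv_iff e'

theorem isFlatOver_iff_of_iso (f : X ⟶ S) {F G : X.Modules} (e : F ≅ G) :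
    FlatMod.IsFlatOver f F ↔ FlatMod.IsFlatOver f G :=
  forall_congr' fun x => isFlatOverAt_iff_of_iso f e x

theorem isFlatAt_iff_of_iso {F G : X.Modules} (e : F ≅ G) (x : X) :
    FlatMod.IsFlatAt F x ↔ FlatMod.IsFlatAt G x :=
  Module.Flat.equiv_iff (stalkLinEquiv e x)

theorem isFlatOver_congr {f f' : X ⟶ S} (h : f = f') (F : X.Modules) :
    FlatMod.IsFlatOver f F ↔ FlatMod.IsFlatOver f' F := by subst h; rfl

/-- flatness over `X` itself (along the identity) is flatness as an `O_X`-module -/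
theorem isFlatOverAt_id_iff (F : X.Modules) (x : X) :
    FlatMod.IsFlatOverAt (𝟙 X) F x ↔ FlatMod.IsFlatAt F x := by
  unfold FlatMod.IsFlatOverAt FlatMod.IsFlatAt FlatMod.moduleStalkOver
  have h : ((𝟙 X : X ⟶ X).stalkMap x).hom = RingHom.id _ := by
    rw [Scheme.Hom.stalkMap_id]; rfl
  rw [h]
  have heq : Module.compHom (F.presheaf.stalk x) (RingHom.id (X.presheaf.stalk x)) =
      FlatMod.moduleStalk F x := Module.ext' _ _ (fun _ _ => rfl)
  change @Module.Flat (X.presheaf.stalk x) (F.presheaf.stalk x) _ _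
    (Module.compHom (F.presheaf.stalk x) (RingHom.id (X.presheaf.stalk x))) ↔ _
  rw [heq]

theorem isFlatOver_id_iff (F : X.Modules) : FlatMod.IsFlatOver (𝟙 X) F ↔ FlatMod.IsFlat F :=
  forall_congr' fun x => isFlatOverAt_id_iff F x


/-- **S7177**: flat diagonal + flat over the base ⟹ flat. -/
theorem isFlat_of_isFlatOver_of_flat_diagonal {X Y : Scheme.{u}} (f : X ⟶ Y)
    [Flat (pullback.diagonal f)] (F : X.Modules) [F.IsQuasicoherent]
    (hF : FlatMod.IsFlatOver f F) : FlatMod.IsFlat F := by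
  set p₁ := pullback.fst f f with hp₁
  set p₂ := pullback.snd f f with hp₂
  have hc : IsPullback p₂ p₁ f f := (IsPullback.of_hasPullback f f).flip
  set G := (Scheme.Modules.pullback p₂).obj F with hG
  haveI : G.IsQuasicoherent :=
    Groth.Agent.Lib.helper16.QCohPullback.isQuasicoherent_pullback p₂ F
  have h1 : FlatMod.IsFlatOver p₁ G := fun z =>
    (Groth.Agent.Lib.helper17.FlatOver6.isFlatOverAt_baseChange_both hc F z).1 (hF (p₂.base z))
  have h2 := Groth.Agent.Lib.helper17.FlatOver4.isFlatOver_pullback_of_flat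
    (pullback.diagonal f) p₁ G h1
  have e1 : pullback.diagonal f ≫ p₁ = 𝟙 X := pullback.diagonal_fst f
  have e2 : pullback.diagonal f ≫ p₂ = 𝟙 X := pullback.diagonal_snd f
  rw [isFlatOver_congr e1] at h2
  let iso : (Scheme.Modules.pullback (pullback.diagonal f)).obj G ≅ F :=
    (Scheme.Modules.pullbackComp (pullback.diagonal f) p₂).app F ≪≫
      (Scheme.Modules.pullbackCongr e2).app F ≪≫ (Scheme.Modules.pullbackId X).app F
  rw [isFlatOver_iff_of_iso (𝟙 X) iso, isFlatOver_id_iff] at h2
  exact h2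


end Groth.Agent.Lib.helper17.FlatOver7
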