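import Mathlib
import Groth.Agent.Lib.Helper5.FieldBCLocalDim
import Groth.Agent.Lib.Helper3.TopDim

/-!
# Dimension is invariant under extension of the base field (helper17)

* `dim_eq_iSup_localDim` : `dim X = ⨆ x, dim_x X` for any topological space.
* `topologicalKrullDim_eq_of_isPullback` : for a cartesian square `X' = X ×_{Spec k} Spec K` with `X`
  locally of finite type over the field `k` and `K/k` a field extension, `dim X' = dim X`.
* `surjective_of_isPullback_field` : the projection `X' ⟶ X` is surjective.
-/

set_option autoImplicit false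
set_option linter.style.haveILetI false
universe u
open CategoryTheory CategoryTheory.Limits AlgebraicGeometry

namespace Groth.Agent.Lib.helper17.FieldBCDim

theorem dim_eq_iSup_localDim (X : Type*) [TopologicalSpace X] :
    topologicalKrullDim X = ⨆ x : X, FlatMor.localDim X x := by
  apply le_antisymm
  · unfold topologicalKrullDim
    rw [Order.krullDim_eq_iSup_coheight]
    refine iSup_le fun Z => ?_
    obtain ⟨x, hx⟩ := Z.isIrreducible.nonempty
    exact le_trans (Groth.Agent.Lib.helper3.TopDim.coheight_le_localDim Z hx)
      (le_iSup (fun x => FlatMor.localDim X x) x)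
  · exact iSup_le fun x => Groth.Agent.Lib.helper3.TopDim.localDim_le_dim x

theorem surjective_specMap_of_isField {k K : CommRingCat.{u}} (hk : IsField k) (φ : k ⟶ K)
    [Nontrivial K] : Surjective (Spec.map φ) := by
  letI := hk.toField
  refine ⟨fun z => ?_⟩
  obtain ⟨w⟩ : Nonempty (Spec K) := inferInstance
  haveI : Subsingleton (PrimeSpectrum k) := inferInstance
  exact ⟨w, Subsingleton.elim (α := PrimeSpectrum k) _ _⟩

theorem surjective_of_isPullback_field {k K : CommRingCat.{u}} (hk : IsField k) (hK : IsField K)
    (φ : k ⟶ K) {X X' : Scheme.{u}} (f : X ⟶ Spec k) (f' : X' ⟶ Spec K)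
    (p : X' ⟶ X) (sq : IsPullback f' p (Spec.map φ) f) : Surjective p := by
  haveI : Nontrivial K := by letI := hK.toField; infer_instance
  haveI := surjective_specMap_of_isField hk φ
  exact MorphismProperty.of_isPullback (P := @Surjective) sq ‹_›

theorem topologicalKrullDim_eq_of_isPullback {k K : CommRingCat.{u}} (hk : IsField k)
    (hK : IsField K) (φ : k ⟶ K) {X X' : Scheme.{u}} (f : X ⟶ Spec k) [LocallyOfFiniteType f]
    (f' : X' ⟶ Spec K) (p : X' ⟶ X) (sq : IsPullback f' p (Spec.map φ) f) :
    topologicalKrullDim X' = topologicalKrullDim X := by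
  rw [dim_eq_iSup_localDim, dim_eq_iSup_localDim]
  have hp := surjective_of_isPullback_field hk hK φ f f' p sq
  apply le_antisymm
  · refine iSup_le fun x' => ?_
    rw [Groth.Agent.Lib.helper5.FieldBC.localDim_eq_of_isPullback hk hK φ f f' p sq x']
    exact le_iSup (fun x => FlatMor.localDim X x) (p x')
  · refine iSup_le fun x => ?_
    obtain ⟨x', rfl⟩ := hp.surj x
    rw [← Groth.Agent.Lib.helper5.FieldBC.localDim_eq_of_isPullback hk hK φ f f' p sq x']
    exact le_iSup (fun x => FlatMor.localDim X' x) x'

end Groth.Agent.Lib.helper17.FieldBCDim
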