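import Groth.Prelude.Def_FlatMod2
import Mathlib
import Groth.Agent.Lib.Helper17.FlatOver1

/-!
# Relative flatness toolkit II (helper17, LT13): affine case

* `flat_compHom_iff_of_bijective`: flatness is invariant under a ring isomorphism.
* `tilde_isFlatOver_iff`: S2394, `M~` on `Spec B` is flat over `Spec A` iff `M` is flat over `A`.
-/

set_option autoImplicit false
set_option linter.style.haveILetI false
universe u
open CategoryTheory AlgebraicGeometry TopologicalSpace Opposite TensorProduct

namespace Groth.Agent.Lib.helper17.FlatOver2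

open Scheme.Modules Groth.Agent.Lib.helper17.FlatOver1

/-- flatness is invariant under restriction of scalars along a bijective ring hom -/
theorem flat_compHom_iff_of_bijective {A A' : Type*} [CommRing A] [CommRing A'] (e : A →+* A')
    (he : Function.Bijective e) {N : Type*} [AddCommGroup N] [Module A' N] :
    @Module.Flat A N _ _ (Module.compHom N e) ↔ Module.Flat A' N := by
  letI := e.toAlgebra
  letI := Module.compHom N e
  haveI : IsScalarTower A A' N := IsScalarTower.of_compHom A A' N
  haveI h0 : IsLocalization (⊥ : Submonoid A) A := IsLocalization.self (by simp)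
  haveI : IsLocalization (⊥ : Submonoid A) A' :=
    IsLocalization.isLocalization_of_algEquiv ⊥ (AlgEquiv.ofBijective (Algebra.ofId A A') he)
  exact (Module.flat_iff_of_isLocalization A' (⊥ : Submonoid A) N).symm

/-- `M~` on `Spec S` is flat over `Spec R` iff `M` is flat over `R` (categorical form). -/
theorem tilde_isFlatOver_iff' {R S : CommRingCat.{u}} (φ : R ⟶ S) (M : ModuleCat.{u} S) :
    FlatMod.IsFlatOver (Spec.map φ) (tilde M) ↔ @Module.Flat R M _ _ (Module.compHom M φ.hom) := by
  set f := Spec.map φ with hf
  set F : (Spec S).Modules := tilde M with hF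
  have hUV : (⊤ : (Spec S).Opens) ≤ f ⁻¹ᵁ (⊤ : (Spec R).Opens) := fun _ _ => trivial
  have h1 : FlatMod.IsFlatOver f F ↔ ∀ x ∈ (⊤ : (Spec S).Opens), FlatMod.IsFlatOverAt f F x :=
    ⟨fun h x _ => h x, fun h x => h x trivial⟩
  rw [h1, forall_mem_isFlatOverAt_iff f F hUV (isAffineOpen_top _) (isAffineOpen_top _)]
  letI := modSecBase f F hUV
  have hbij : Function.Bijective (Scheme.ΓSpecIso R).inv.hom :=
    ConcreteCategory.bijective_of_isIso (Scheme.ΓSpecIso R).inv
  rw [← flat_compHom_iff_of_bijective _ hbij]
  letI : Module R Γ(F, ⊤) := Module.compHom _ (Scheme.ΓSpecIso R).inv.hom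
  letI : Module R M := Module.compHom M φ.hom
  have key : ∀ (a : R) (s : Γ(F, ⊤)), a • s = (φ.hom a) • s := by
    intro a s
    rw [smul_Spec_def]
    change (f.appLE ⊤ ⊤ hUV).hom ((Scheme.ΓSpecIso R).inv.hom a) • s = _
    congr 1
    have := Scheme.ΓSpecIso_inv_naturality φ
    have h2 := congrArg (fun g => g.hom a) this
    simp only [CommRingCat.hom_comp, RingHom.coe_comp, Function.comp_apply] at h2
    rw [h2]
    simp [Scheme.Hom.appLE, Scheme.Hom.appTop]
    rfl
  let e0 : M ≃ₗ[S] Γ(F, ⊤) := (tilde.isoTop M).toLinearEquiv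
  let e : M ≃ₗ[R] Γ(F, ⊤) :=
    { e0 with
      map_smul' := fun a m => by
        simp only [AddHom.toFun_eq_coe, LinearMap.coe_toAddHom, LinearEquiv.coe_coe,
          RingHom.id_apply]
        rw [key]
        exact e0.map_smul _ _ }
  exact (Module.Flat.equiv_iff e).symm

/-- **S2394**: `M~` on `Spec B` is flat over `Spec A` iff `M` is flat over `A`. -/
theorem tilde_isFlatOver_iff (A B : Type u) [CommRing A] [CommRing B] [Algebra A B]
    (M : Type u) [AddCommGroup M] [Module B M] [Module A M] [IsScalarTower A B M] :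
    FlatMod.IsFlatOver (Spec.map (CommRingCat.ofHom (algebraMap A B))) (tilde (ModuleCat.of B M)) ↔
      Module.Flat A M := by
  have h := tilde_isFlatOver_iff' (CommRingCat.ofHom (algebraMap A B)) (ModuleCat.of B M)
  rw [h]
  have heq : Module.compHom M (algebraMap A B) = ‹Module A M› :=
    Module.ext' _ _ (fun a m => algebraMap_smul B a m)
  change @Module.Flat A M _ _ (Module.compHom M (algebraMap A B)) ↔ _
  rw [heq]

end Groth.Agent.Lib.helper17.FlatOver2
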