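import Mathlib
import Groth.Agent.Lib.Helper18.SmoothDescentScheme

/-!
# helper17: geometrically reduced schemes locally of finite type over a field have dense smooth locus

* `dense_smoothLocus_of_geometricallyReduced`.
-/

set_option autoImplicit false
set_option linter.style.haveILetI false
universe u

open CategoryTheory AlgebraicGeometry Limits

namespace Groth.Agent.Lib.helper17.GeomRedSmooth

set_option backward.isDefEq.respectTransparency false in
theorem dense_smoothLocus_of_geometricallyReduced {K : Type u} [Field K] {Z : Scheme.{u}}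
    (g : Z ⟶ Spec (CommRingCat.of K)) [LocallyOfFinitePresentation g] [GeometricallyReduced g] :
    Dense (g.smoothLocus : Set Z) := by
  let Ω : Type u := AlgebraicClosure K
  let φ : Spec (CommRingCat.of Ω) ⟶ Spec (CommRingCat.of K) :=
    Spec.map (CommRingCat.ofHom (algebraMap K Ω))
  haveI : IsReduced (pullback g φ) :=
    pullback_of_geometrically (P := @IsReduced)
      (GeometricallyReduced.geometrically_isReduced (f := g)) Ω φ
  have hd : Dense ((pullback.snd g φ).smoothLocus : Set ↥(pullback g φ)) :=
    (pullback.snd g φ).dense_smoothLocus_of_perfectField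
  have hsurj : Function.Surjective (pullback.fst g φ) := (pullback.fst g φ).surjective
  rw [dense_iff_inter_open]
  intro U hU hUne
  obtain ⟨u, hu⟩ := hUne
  obtain ⟨z0, hz0⟩ := hsurj u
  have hopen : IsOpen ((pullback.fst g φ) ⁻¹' U) := hU.preimage (pullback.fst g φ).continuous
  obtain ⟨z, hzU, hzs⟩ := hd.inter_open_nonempty _ hopen ⟨z0, by rw [Set.mem_preimage, hz0]; exact hu⟩
  refine ⟨pullback.fst g φ z, hzU, ?_⟩
  have hpb : IsPullback (pullback.fst g φ) (pullback.snd g φ) g φ := IsPullback.of_hasPullback _ _
  exact Groth.Agent.Lib.Helper18.SmoothDescent.formallySmooth_stalk_descent_of_isPullback hpb z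
    (Flat.stalkMap _ _) hzs

end Groth.Agent.Lib.helper17.GeomRedSmooth
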