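import Mathlib

/-! Zero-dimensional rings and schemes (helper17): basic opens are clopen, Hausdorffness. -/

set_option autoImplicit false
universe u
open CategoryTheory AlgebraicGeometry TopologicalSpace

namespace Groth.Agent.Lib.helper17

/-- In a zero-dimensional ring, if `f ∈ p` for a prime `p`, then `s * f ^ n = 0` for some
`s ∉ p`. -/
lemma exists_mul_pow_eq_zero_of_mem {A : Type*} [CommRing A] [Ring.KrullDimLE 0 A]
    (p : Ideal A) [p.IsPrime] (f : A) (hf : f ∈ p) :
    ∃ s ∉ p, ∃ n : ℕ, s * f ^ n = 0 := by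
  by_contra hcon
  push Not at hcon
  let M : Submonoid A := p.primeCompl ⊔ Submonoid.powers f
  have hdisj : Disjoint ((⊥ : Ideal A) : Set A) M := by
    rw [Set.disjoint_left]
    intro x hx hxM
    have hx0 : x = 0 := hx
    subst hx0
    obtain ⟨y, hy, z, ⟨n, rfl⟩, hyz⟩ := Submonoid.mem_sup.mp hxM
    exact hcon y hy n hyz
  obtain ⟨q, hq, -, hqM⟩ := Ideal.exists_le_prime_disjoint (⊥ : Ideal A) M hdisj
  have hqp : q ≤ p := by
    intro x hx
    by_contra hxp
    exact Set.disjoint_left.mp hqM hx (Submonoid.mem_sup_left hxp)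
  have hfq : f ∉ q := fun h =>
    Set.disjoint_left.mp hqM h (Submonoid.mem_sup_right (Submonoid.mem_powers f))
  have : q.IsMaximal := hq.isMaximal'
  have hqeq : q = p := this.eq_of_le (Ideal.IsPrime.ne_top ‹_›) hqp
  exact hfq (hqeq ▸ hf)

/-- In a zero-dimensional ring, basic opens are closed. -/
lemma isClosed_basicOpen_of_krullDimLE_zero {A : Type*} [CommRing A] [Ring.KrullDimLE 0 A]
    (f : A) : IsClosed (PrimeSpectrum.basicOpen f : Set (PrimeSpectrum A)) := by
  rw [← isOpen_compl_iff, isOpen_iff_forall_mem_open]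
  intro p hp
  have hfp : f ∈ p.asIdeal := by
    by_contra h
    exact hp h
  obtain ⟨s, hs, n, hsn⟩ := exists_mul_pow_eq_zero_of_mem p.asIdeal f hfp
  refine ⟨PrimeSpectrum.basicOpen s, ?_, (PrimeSpectrum.basicOpen s).2, hs⟩
  intro q hq hqf
  have hsq : s ∉ q.asIdeal := hq
  have hfq : f ∉ q.asIdeal := hqf
  have h0 : s * f ^ n ∈ q.asIdeal := hsn ▸ q.asIdeal.zero_mem
  rcases q.isPrime.mem_or_mem h0 with h | h
  · exact hsq h
  · exact hfq (q.isPrime.mem_of_pow_mem n h)

/-- The prime spectrum of a zero-dimensional ring is totally separated. -/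
instance totallySeparatedSpace_of_krullDimLE_zero {A : Type*} [CommRing A] [Ring.KrullDimLE 0 A] :
    TotallySeparatedSpace (PrimeSpectrum A) := by
  rw [totallySeparatedSpace_iff_exists_isClopen]
  intro x y hxy
  -- T0: there is an open set containing exactly one of them
  obtain ⟨U, hU, hxor⟩ := exists_isOpen_xor_mem hxy
  rcases hxor with ⟨hxU, hyU⟩ | ⟨hyU, hxU⟩
  · obtain ⟨_, ⟨f, rfl⟩, hxf, hfU⟩ :=
      PrimeSpectrum.isTopologicalBasis_basic_opens.exists_subset_of_mem_open hxU hU
    exact ⟨PrimeSpectrum.basicOpen f,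
      ⟨isClosed_basicOpen_of_krullDimLE_zero f, (PrimeSpectrum.basicOpen f).2⟩, hxf,
      fun hy => hyU (hfU hy)⟩
  · obtain ⟨_, ⟨f, rfl⟩, hyf, hfU⟩ :=
      PrimeSpectrum.isTopologicalBasis_basic_opens.exists_subset_of_mem_open hyU hU
    refine ⟨(PrimeSpectrum.basicOpen f : Set (PrimeSpectrum A))ᶜ,
      ⟨(PrimeSpectrum.basicOpen f).2.isClosed_compl,
        (isClosed_basicOpen_of_krullDimLE_zero f).isOpen_compl⟩, fun hx => hxU (hfU hx), ?_⟩
    simpa using hyf

variable {X : Scheme.{u}}

/-- The coordinate ring of an affine open of a zero-dimensional scheme is zero-dimensional. -/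
lemma krullDimLE_zero_of_isAffineOpen (h : topologicalKrullDim X ≤ 0) {U : X.Opens}
    (hU : IsAffineOpen U) : Ring.KrullDimLE 0 Γ(X, U) := by
  rw [Ring.KrullDimLE, Order.krullDimLE_iff, ← ringKrullDim, Nat.cast_zero,
    ← PrimeSpectrum.topologicalKrullDim_eq_ringKrullDim Γ(X, U)]
  change topologicalKrullDim (Spec Γ(X, U)) ≤ 0
  rw [← IsHomeomorph.topologicalKrullDim_eq _ hU.isoSpec.hom.homeomorph.isHomeomorph]
  exact (topologicalKrullDim_subspace_le X U).trans h

/-- An affine open of a zero-dimensional scheme is totally separated. -/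
lemma totallySeparatedSpace_of_isAffineOpen (h : topologicalKrullDim X ≤ 0) {U : X.Opens}
    (hU : IsAffineOpen U) : TotallySeparatedSpace (U : Set X) := by
  have := krullDimLE_zero_of_isAffineOpen h hU
  have hts : TotallySeparatedSpace (Spec Γ(X, U)) :=
    inferInstanceAs (TotallySeparatedSpace (PrimeSpectrum Γ(X, U)))
  rw [totallySeparatedSpace_iff_exists_isClopen] at hts ⊢
  intro x y hxy
  let e : (U : Set X) ≃ₜ Spec Γ(X, U) := hU.isoSpec.hom.homeomorph
  obtain ⟨C, hC, hxC, hyC⟩ := hts (e.injective.ne hxy)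
  exact ⟨e ⁻¹' C, hC.preimage e.continuous, hxC, hyC⟩

/-- An affine open of a zero-dimensional scheme is Hausdorff. -/
lemma t2Space_of_isAffineOpen (h : topologicalKrullDim X ≤ 0) {U : X.Opens}
    (hU : IsAffineOpen U) : T2Space (U : Set X) := by
  have := totallySeparatedSpace_of_isAffineOpen h hU
  infer_instance

/-- In a quasi-separated zero-dimensional scheme, for affine opens `U`, `V` the set `V \ U` is
open. -/
lemma isOpen_diff_of_isAffineOpen [QuasiSeparatedSpace X] (h : topologicalKrullDim X ≤ 0)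
    {U V : X.Opens} (hU : IsAffineOpen U) (hV : IsAffineOpen V) :
    IsOpen ((V : Set X) \ (U : Set X)) := by
  have hT2 := t2Space_of_isAffineOpen h hV
  have hc : IsCompact ((U : Set X) ∩ (V : Set X)) :=
    QuasiSeparatedSpace.inter_isCompact _ _ U.2 hU.isCompact V.2 hV.isCompact
  have hc' : IsCompact ((Subtype.val : ↥(V : Set X) → X) ⁻¹' ((U : Set X) ∩ (V : Set X))) := by
    rw [Topology.IsEmbedding.subtypeVal.isCompact_iff, Set.image_preimage_eq_inter_range,
      Subtype.range_coe]
    convert hc using 1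
    ext x
    simp only [Set.mem_inter_iff, SetLike.mem_coe]
    tauto
  have hcl : IsClosed ((Subtype.val : ↥(V : Set X) → X) ⁻¹' ((U : Set X) ∩ (V : Set X))) := hc'.isClosed
  have hop := V.2.isOpenMap_subtype_val _ hcl.isOpen_compl
  convert hop using 1
  ext x
  simp only [Set.mem_sdiff, SetLike.mem_coe, Set.mem_image, Set.mem_compl_iff, Set.mem_preimage,
    Set.mem_inter_iff, Subtype.exists, exists_and_right, exists_eq_right]
  constructor
  · rintro ⟨hxV, hxU⟩
    exact ⟨hxV, fun h' => hxU h'.1⟩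
  · rintro ⟨hxV, hx⟩
    exact ⟨hxV, fun h' => hx ⟨h', hxV⟩⟩

/-- A quasi-separated zero-dimensional scheme is Hausdorff. -/
theorem t2Space_of_quasiSeparatedSpace [QuasiSeparatedSpace X] (h : topologicalKrullDim X ≤ 0) :
    T2Space X := by
  rw [t2Space_iff]
  intro x y hxy
  obtain ⟨U, hU, hxU, -⟩ := exists_isAffineOpen_mem_and_subset (x := x) (U := ⊤) trivial
  obtain ⟨V, hV, hyV, -⟩ := exists_isAffineOpen_mem_and_subset (x := y) (U := ⊤) trivial
  by_cases hyU : y ∈ U
  · have hT2 := t2Space_of_isAffineOpen h hU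
    obtain ⟨u, v, hu, hv, hxu, hyv, huv⟩ :=
      t2_separation (show (⟨x, hxU⟩ : (U : Set X)) ≠ ⟨y, hyU⟩ from fun h' => hxy (congrArg Subtype.val h'))
    refine ⟨Subtype.val '' u, Subtype.val '' v, U.2.isOpenMap_subtype_val _ hu,
      U.2.isOpenMap_subtype_val _ hv, ⟨_, hxu, rfl⟩, ⟨_, hyv, rfl⟩, ?_⟩
    exact (Set.disjoint_image_iff Subtype.val_injective).mpr huv
  · refine ⟨U, (V : Set X) \ (U : Set X), U.2, isOpen_diff_of_isAffineOpen h hU hV, hxU,
      ⟨hyV, hyU⟩, ?_⟩
    exact Set.disjoint_sdiff_right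

/-- A quasi-separated zero-dimensional scheme is totally separated. -/
theorem totallySeparatedSpace_of_quasiSeparatedSpace [QuasiSeparatedSpace X]
    (h : topologicalKrullDim X ≤ 0) : TotallySeparatedSpace X := by
  have hT2 : T2Space X := t2Space_of_quasiSeparatedSpace h
  rw [totallySeparatedSpace_iff_exists_isClopen]
  intro x y hxy
  obtain ⟨U, hU, hxU, -⟩ := exists_isAffineOpen_mem_and_subset (x := x) (U := ⊤) trivial
  by_cases hyU : y ∈ U
  · have hts := totallySeparatedSpace_of_isAffineOpen h hU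
    rw [totallySeparatedSpace_iff_exists_isClopen] at hts
    obtain ⟨C, hC, hxC, hyC⟩ :=
      hts (show (⟨x, hxU⟩ : (U : Set X)) ≠ ⟨y, hyU⟩ from fun h' => hxy (congrArg Subtype.val h'))
    have hcU : CompactSpace (U : Set X) := isCompact_iff_compactSpace.mp hU.isCompact
    have hCc : IsCompact (Subtype.val '' C : Set X) :=
      (hC.isClosed.isCompact).image continuous_subtype_val
    refine ⟨Subtype.val '' C, ⟨hCc.isClosed, U.2.isOpenMap_subtype_val _ hC.isOpen⟩,
      ⟨_, hxC, rfl⟩, ?_⟩
    rintro ⟨z, hz, hzy⟩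
    have : z = ⟨y, hyU⟩ := Subtype.ext hzy
    exact hyC (this ▸ hz)
  · exact ⟨U, ⟨hU.isCompact.isClosed, U.2⟩, hxU, hyU⟩

/-- An open contained in an affine open whose complement in that affine open is open too is
affine. -/
lemma isAffineOpen_of_le_of_isOpen_diff {U W : X.Opens} (hU : IsAffineOpen U) (hWU : W ≤ U)
    (hd : IsOpen ((U : Set X) \ (W : Set X))) : IsAffineOpen W := by
  have : IsAffine (U : Scheme) := hU
  have hind : Topology.IsInducing (X.homOfLE hWU) := (X.homOfLE hWU).isOpenEmbedding.isInducing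
  have hrange : IsClosed (Set.range (X.homOfLE hWU)) := by
    have hr : Set.range (X.homOfLE hWU) = (U.ι ⁻¹' (W : Set X)) := by
      have h1 : ((X.homOfLE hWU).opensRange : Set (U : Scheme)) =
          ((U.ι ⁻¹ᵁ W : (U : Scheme).Opens) : Set (U : Scheme)) := by
        rw [Scheme.opensRange_homOfLE]
      exact h1
    rw [hr, ← isOpen_compl_iff]
    have : (U.ι ⁻¹' (W : Set X))ᶜ = U.ι ⁻¹' ((U : Set X) \ (W : Set X)) := by
      ext u
      simp only [Set.mem_compl_iff, Set.mem_preimage, SetLike.mem_coe, Set.mem_sdiff]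
      exact ⟨fun h' => ⟨(show (U.ι u) ∈ U from u.2), h'⟩, fun h' => h'.2⟩
    rw [this]
    exact hd.preimage U.ι.continuous
  have := isAffineHom_of_isInducing (X.homOfLE hWU) hind hrange
  exact isAffine_of_isAffineHom (X.homOfLE hWU)

/-- In a quasi-separated zero-dimensional scheme every quasi-compact open is affine. -/
theorem isAffineOpen_of_isCompact [QuasiSeparatedSpace X] (h : topologicalKrullDim X ≤ 0)
    (U : X.Opens) (hU : IsCompact (U : Set X)) : IsAffineOpen U := by
  have hT2 : T2Space X := t2Space_of_quasiSeparatedSpace h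
  refine compact_open_induction_on (P := fun S => IsAffineOpen S) U hU (isAffineOpen_bot X) ?_
  intro S hS V hSaff
  -- `W = V \ S`
  have hScl : IsClosed (S : Set X) := hS.isClosed
  let W : X.Opens := ⟨(V : Set X) \ (S : Set X), V.1.2.sdiff hScl⟩
  have hWV : W ≤ V.1 := fun x hx => hx.1
  have hWaff : IsAffineOpen W := by
    refine isAffineOpen_of_le_of_isOpen_diff V.2 hWV ?_
    have : ((V.1 : X.Opens) : Set X) \ (W : Set X) = (V.1 : Set X) ∩ (S : Set X) := by
      ext x
      simp only [Set.mem_sdiff, SetLike.mem_coe, Set.mem_inter_iff, W, TopologicalSpace.Opens.coe_mk]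
      tauto
    rw [this]
    exact V.1.2.inter S.2
  have hdisj : Disjoint S W := by
    rw [← TopologicalSpace.Opens.coe_disjoint]
    exact Set.disjoint_sdiff_right
  have heq : S ⊔ V.1 = S ⊔ W := by
    ext x
    simp only [TopologicalSpace.Opens.coe_sup, Set.mem_union, SetLike.mem_coe, W,
      TopologicalSpace.Opens.coe_mk, Set.mem_sdiff]
    tauto
  rw [heq]
  exact hSaff.sup_of_disjoint hWaff hdisj

end Groth.Agent.Lib.helper17
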