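import Mathlib
import Groth.Agent.Lib.Helper17.RegSmoothSch

/-!
# helper17: more on `resMap f x : K → κ(x)` being formally smooth

* `formallySmooth_resMap_of_surjective`: rational points.
* `resMap_surjective_of_section`: the image of a section `s : Spec K ⟶ X` of `f` is a rational point.
* `formallySmooth_resMap_of_isSeparable`: residue field separable algebraic over `K`.
* `mem_smoothLocus_section_iff`: at the image of a section, smooth ↔ regular.
-/

set_option autoImplicit false
set_option linter.style.haveILetI false
universe u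

open CategoryTheory AlgebraicGeometry IsLocalRing

namespace Groth.Agent.Lib.helper17.RegSmooth

variable {K : Type u} [Field K] {X : Scheme.{u}} (f : X ⟶ Spec (CommRingCat.of K)) (x : X)

theorem formallySmooth_resMap_of_surjective (h : Function.Surjective (resMap f x)) :
    (resMap f x).FormallySmooth := by
  letI : Algebra K (X.residueField x) := (resMap f x).toAlgebra
  have hb : Function.Bijective (Algebra.ofId K (X.residueField x)) :=
    ⟨(resMap f x).injective, h⟩
  exact (Algebra.FormallySmooth.of_equiv (AlgEquiv.ofBijective (Algebra.ofId K (X.residueField x)) hb) :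
    Algebra.FormallySmooth K (X.residueField x))

theorem formallySmooth_resMap_of_isSeparable
    (h : letI := (resMap f x).toAlgebra; Algebra.IsSeparable K (X.residueField x)) :
    (resMap f x).FormallySmooth := by
  letI : Algebra K (X.residueField x) := (resMap f x).toAlgebra
  haveI : Algebra.IsSeparable K (X.residueField x) := h
  haveI : Algebra.FormallyEtale K (X.residueField x) := Algebra.FormallyEtale.of_isSeparable _ _
  exact (inferInstance : Algebra.FormallySmooth K (X.residueField x))

set_option backward.isDefEq.respectTransparency false in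
theorem resMap_surjective_of_section (s : Spec (CommRingCat.of K) ⟶ X) (hs : s ≫ f = 𝟙 _)
    (pt : Spec (CommRingCat.of K)) : Function.Surjective (resMap f (s pt)) := by
  -- the local homomorphism `θ : O_{X,s(pt)} → O_{Spec K, pt}`
  let K' := (Spec.structureSheaf K).presheaf.stalk pt
  let e : K ≃ₐ[K] K' := IsLocalization.atUnits _ pt.asIdeal.primeCompl
      (fun y hy ↦ by aesop (add simp IsUnit.mem_submonoid_iff))
  let : Field K' := (e.toRingEquiv.symm.isField (Field.toIsField K)).toField
  let : Field ((Spec (.of K)).presheaf.stalk pt) := this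
  let θ : X.presheaf.stalk (s pt) →+* (Spec (.of K)).presheaf.stalk pt := (s.stalkMap pt).hom
  haveI : IsLocalHom θ := inferInstanceAs (IsLocalHom (s.stalkMap pt).hom)
  let θ' : X.residueField (s pt) →+* (Spec (.of K)).presheaf.stalk pt :=
    IsLocalRing.ResidueField.lift θ
  have hcomp : ∀ c : K, θ' (resMap f (s pt) c) = algebraMap K K' c := by
    intro c
    refine (IsLocalRing.ResidueField.lift_residue_apply θ _).trans ?_
    have h1 := Scheme.Hom.germ_stalkMap_apply s ⊤ pt trivial
      ((f.appTop).hom ((Scheme.ΓSpecIso (CommRingCat.of K)).inv.hom c))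
    refine h1.trans ?_
    rw [StructureSheaf.stalkAlgebra_map]
    have h2 : (s.app ⊤).hom ((f.appTop).hom ((Scheme.ΓSpecIso (CommRingCat.of K)).inv.hom c)) =
        ((Spec (CommRingCat.of K)).presheaf.map (homOfLE le_top : s ⁻¹ᵁ ⊤ ⟶ ⊤).op).hom
          ((Scheme.ΓSpecIso (CommRingCat.of K)).inv.hom c) := by
      have h3 : f.appTop ≫ s.app ⊤ = (s ≫ f).app ⊤ := by
        simp [Scheme.Hom.appTop]
      have h4 : (s.app ⊤).hom ((f.appTop).hom ((Scheme.ΓSpecIso (CommRingCat.of K)).inv.hom c)) =
          ((s ≫ f).app ⊤).hom ((Scheme.ΓSpecIso (CommRingCat.of K)).inv.hom c) := by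
        rw [← h3]; rfl
      rw [h4]
      have h5 := Scheme.Hom.congr_app hs ⊤
      rw [h5]
      simp only [Scheme.Hom.id_app, Category.id_comp]
      congr 1
    rw [h2]
    have h6 := TopCat.Presheaf.germ_res_apply (Spec (CommRingCat.of K)).presheaf
      (homOfLE le_top : s ⁻¹ᵁ ⊤ ⟶ ⊤) pt trivial ((Scheme.ΓSpecIso (CommRingCat.of K)).inv.hom c)
    refine h6.trans ?_
    rfl
  intro y
  obtain ⟨c, hc⟩ := e.surjective (θ' y)
  refine ⟨c, θ'.injective ?_⟩
  rw [hcomp]
  exact hc

theorem mem_smoothLocus_section_iff [LocallyOfFinitePresentation f]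
    (s : Spec (CommRingCat.of K) ⟶ X) (hs : s ≫ f = 𝟙 _) (pt : Spec (CommRingCat.of K)) :
    s pt ∈ f.smoothLocus ↔ IsRegularLocalRing (X.presheaf.stalk (s pt)) :=
  mem_smoothLocus_iff_isRegularLocalRing f (s pt)
    (formallySmooth_resMap_of_surjective f _ (resMap_surjective_of_section f s hs pt))

end Groth.Agent.Lib.helper17.RegSmooth
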