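import Mathlib
import Groth.Agent.Lib.Helper17.RegSmoothSch2

/-!
# helper17: more on `resMap f x : K → κ(x)`

* `fromSpecResidueField_comp`: `Spec κ(x) ⟶ X ⟶ Spec K` is `Spec (resMap f x)`.
* `essFiniteType_resMap`: for `f` locally of finite type, `κ(x)` is essentially of finite type over `K`.
* `isRegularLocalRing_stalk_spec_field`: stalks of `Spec` of a field are regular local rings.
-/

set_option autoImplicit false
set_option linter.style.haveILetI false
universe u

open CategoryTheory AlgebraicGeometry IsLocalRing

namespace Groth.Agent.Lib.helper17.RegSmooth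

variable {K : Type u} [Field K] {X : Scheme.{u}} (f : X ⟶ Spec (CommRingCat.of K)) (x : X)

set_option backward.isDefEq.respectTransparency false in
theorem fromSpecResidueField_comp :
    X.fromSpecResidueField x ≫ f = Spec.map (CommRingCat.ofHom (resMap f x)) := by
  have h1 : X.fromSpecResidueField x ≫ f =
      Spec.map (X.residue x) ≫ Spec.map (f.stalkMap x) ≫
        (Spec (CommRingCat.of K)).fromSpecStalk (f x) := by
    rw [Scheme.SpecMap_stalkMap_fromSpecStalk]
    rfl
  rw [h1, Spec.fromSpecStalk_eq', ← Spec.map_comp, ← Spec.map_comp]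
  congr 1
  ext c
  exact (resMap_eq f x c).symm

set_option backward.isDefEq.respectTransparency false in
theorem essFiniteType_resMap [LocallyOfFiniteType f] : (resMap f x).EssFiniteType := by
  have hess := LocallyOfFiniteType.stalkMap f x
  algebraize [(f.stalkMap x).hom]
  let K' := (Spec.structureSheaf K).presheaf.stalk (f x)
  letI : Algebra K' (X.presheaf.stalk x) := (f.stalkMap x).hom.toAlgebra
  haveI : Algebra.EssFiniteType K' (X.presheaf.stalk x) := hess
  haveI : Algebra.EssFiniteType K K' :=
    Algebra.EssFiniteType.of_isLocalization K' (f x).asIdeal.primeCompl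
  letI : Algebra K (X.presheaf.stalk x) :=
    ((algebraMap K' (X.presheaf.stalk x)).comp (algebraMap K K')).toAlgebra
  haveI : IsScalarTower K K' (X.presheaf.stalk x) := IsScalarTower.of_algebraMap_eq (fun _ => rfl)
  haveI : Algebra.EssFiniteType K (X.presheaf.stalk x) := Algebra.EssFiniteType.comp K K' _
  have h2 : Algebra.EssFiniteType K (X.presheaf.stalk x ⧸ maximalIdeal (X.presheaf.stalk x)) :=
    inferInstance
  have h3 : resMap f x = algebraMap K (X.presheaf.stalk x ⧸ maximalIdeal (X.presheaf.stalk x)) := by
    ext c
    exact resMap_eq f x c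
  rw [h3]
  exact h2

theorem isRegularLocalRing_stalk_spec_field (p : Spec (CommRingCat.of K)) :
    IsRegularLocalRing ((Spec (CommRingCat.of K)).presheaf.stalk p) := by
  let K' := (Spec.structureSheaf K).presheaf.stalk p
  let e : K ≃ₐ[K] K' := IsLocalization.atUnits _ p.asIdeal.primeCompl
      (fun y hy ↦ by aesop (add simp IsUnit.mem_submonoid_iff))
  exact IsRegularLocalRing.of_ringEquiv e.toRingEquiv

end Groth.Agent.Lib.helper17.RegSmooth
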