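import Mathlib
import Groth.Agent.Lib.Helper17.RegSmoothSch3
import Groth.Agent.Lib.Helper5.SmoothSection

/-!
# helper17: a smooth scheme over a field has a dense set of closed points with finite separable
residue field

* `exists_finite_separable_algHom`: a nontrivial smooth algebra over a field `k` admits a `k`-algebra
  map to a finite separable field extension of `k`.
* `exists_sep_point_of_smooth`: `f : X ⟶ Spec k` smooth, `U` nonempty open: there is a finite separable
  `L/k` and a `k`-morphism `Spec L ⟶ X` landing in `U`.
* `isClosed_and_finite_separable_of_point`: the image point of a `k`-morphism `Spec L ⟶ X`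
  (`L/k` finite separable, `X` locally of finite type) is closed with finite separable residue field.
* `dense_closedPoints_separable_of_smooth`.
-/

set_option autoImplicit false
set_option linter.style.haveILetI false
universe u

open CategoryTheory AlgebraicGeometry IsLocalRing

namespace Groth.Agent.Lib.helper17.RegSmooth

theorem exists_finite_separable_algHom (k B : Type u) [Field k] [CommRing B] [Algebra k B]
    [Algebra.Smooth k B] [Nontrivial B] :
    ∃ (L : Type u) (_ : Field L) (_ : Algebra k L), FiniteDimensional k L ∧
      Algebra.IsSeparable k L ∧ Nonempty (B →ₐ[k] L) := by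
  obtain ⟨q, hq⟩ := Ideal.exists_maximal B
  haveI := hq.isPrime
  obtain ⟨A', _, _, hA', τ, p', hp', -⟩ :=
    Groth.Agent.Lib.helper5.SmoothSection.exists_etale_section (A := k) (B := B) q
  haveI : Module.Finite k A' := Algebra.FormallyUnramified.finite_of_free k A'
  haveI : IsArtinianRing A' := IsArtinianRing.of_finite k A'
  haveI : p'.IsMaximal := IsArtinianRing.isMaximal_of_isPrime p'
  letI : Field (A' ⧸ p') := Ideal.Quotient.field p'
  refine ⟨A' ⧸ p', inferInstance, inferInstance, inferInstance, ?_,
    ⟨(Ideal.Quotient.mkₐ k p').comp τ⟩⟩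
  haveI : Algebra.FormallyUnramified k (A' ⧸ p') :=
    Algebra.FormallyUnramified.of_surjective (Ideal.Quotient.mkₐ k p') Ideal.Quotient.mk_surjective
  exact Algebra.FormallyUnramified.isSeparable k (A' ⧸ p')

set_option backward.isDefEq.respectTransparency false in
theorem exists_sep_point_of_smooth {k : Type u} [Field k] {X : Scheme.{u}}
    (f : X ⟶ Spec (CommRingCat.of k)) [Smooth f] (U : Set X) (hU : IsOpen U) (hne : U.Nonempty) :
    ∃ (L : Type u) (_ : Field L) (_ : Algebra k L) (g : Spec (CommRingCat.of L) ⟶ X),
      FiniteDimensional k L ∧ Algebra.IsSeparable k L ∧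
      g ≫ f = Spec.map (CommRingCat.ofHom (algebraMap k L)) ∧
      g (IsLocalRing.closedPoint L) ∈ U := by
  obtain ⟨x₀, hx₀⟩ := hne
  obtain ⟨V, hV, hxV, hVU⟩ := exists_isAffineOpen_mem_and_subset (x := x₀) (U := ⟨U, hU⟩) hx₀
  let φ : CommRingCat.of k ⟶ Γ(X, V) := Spec.preimage (hV.fromSpec ≫ f)
  have hφ : Spec.map φ = hV.fromSpec ≫ f := Spec.map_preimage _
  have hsm : Smooth (Spec.map φ) := by rw [hφ]; infer_instance
  have hsm' : φ.hom.Smooth := (HasRingHomProperty.Spec_iff (P := @Smooth)).mp hsm
  letI : Algebra k Γ(X, V) := φ.hom.toAlgebra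
  haveI : Algebra.Smooth k Γ(X, V) := hsm'
  haveI : Nonempty V := ⟨⟨x₀, hxV⟩⟩
  haveI : Nontrivial Γ(X, V) := inferInstance
  obtain ⟨L, _, _, hfin, hsep, ⟨ψ⟩⟩ := exists_finite_separable_algHom k Γ(X, V)
  refine ⟨L, _, _, Spec.map (CommRingCat.ofHom ψ.toRingHom) ≫ hV.fromSpec, hfin, hsep, ?_, ?_⟩
  · rw [Category.assoc, ← hφ, ← Spec.map_comp]
    congr 1
    ext c
    exact ψ.commutes c
  · apply hVU
    have h1 : hV.fromSpec ((Spec.map (CommRingCat.ofHom ψ.toRingHom)) (IsLocalRing.closedPoint L)) ∈
        Set.range hV.fromSpec := ⟨_, rfl⟩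
    rw [hV.range_fromSpec] at h1
    exact h1

set_option backward.isDefEq.respectTransparency false in
/-- a point with finite residue field on a scheme locally of finite type over a field is closed. -/
theorem isClosed_of_finite_resMap {k : Type u} [Field k] {X : Scheme.{u}}
    (f : X ⟶ Spec (CommRingCat.of k)) [LocallyOfFiniteType f] (x : X) (h : (resMap f x).Finite) :
    IsClosed ({x} : Set X) := by
  haveI : JacobsonSpace X := LocallyOfFiniteType.jacobsonSpace f
  rw [isClosed_singleton_iff_locallyOfFiniteType]
  have : LocallyOfFiniteType (X.fromSpecResidueField x ≫ f) := by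
    rw [fromSpecResidueField_comp, HasRingHomProperty.Spec_iff (P := @LocallyOfFiniteType)]
    exact h.finiteType
  exact locallyOfFiniteType_of_comp _ f

set_option backward.isDefEq.respectTransparency false in
theorem finite_separable_of_point {k : Type u} [Field k] {X : Scheme.{u}}
    (f : X ⟶ Spec (CommRingCat.of k)) (L : Type u) [Field L] [Algebra k L]
    [FiniteDimensional k L] [Algebra.IsSeparable k L]
    (g : Spec (CommRingCat.of L) ⟶ X)
    (hg : g ≫ f = Spec.map (CommRingCat.ofHom (algebraMap k L))) :
    letI := (resMap f (g (closedPoint L))).toAlgebra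
    FiniteDimensional k (X.residueField (g (closedPoint L))) ∧
      Algebra.IsSeparable k (X.residueField (g (closedPoint L))) := by
  set x := g (closedPoint L) with hx
  let θ : X.residueField x ⟶ .of L := X.descResidueField (Scheme.stalkClosedPointTo g)
  have hθ : Spec.map θ ≫ X.fromSpecResidueField x = g :=
    Scheme.descResidueField_stalkClosedPointTo_fromSpecResidueField L X g
  have h1 : Spec.map (CommRingCat.ofHom (resMap f x) ≫ θ) =
      Spec.map (CommRingCat.ofHom (algebraMap k L)) := by
    rw [Spec.map_comp, ← fromSpecResidueField_comp, ← Category.assoc, hθ, hg]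
  have h2 : θ.hom.comp (resMap f x) = algebraMap k L := by
    have := Spec.map_injective h1
    exact congrArg CommRingCat.Hom.hom this
  letI := (resMap f x).toAlgebra
  let θ' : X.residueField x →ₐ[k] L :=
    { θ.hom with commutes' := fun c => RingHom.congr_fun h2 c }
  have hinj : Function.Injective θ' := θ.hom.injective
  exact ⟨FiniteDimensional.of_injective θ'.toLinearMap hinj, Algebra.IsSeparable.of_algHom k _ θ'⟩

/-- **Smooth schemes over a field have a dense set of closed points with finite separable residue
field.** -/
theorem dense_closedPoints_separable_of_smooth {k : Type u} [Field k] {X : Scheme.{u}}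
    (f : X ⟶ Spec (CommRingCat.of k)) [Smooth f] :
    Dense {x : X | IsClosed ({x} : Set X) ∧
      (letI := (resMap f x).toAlgebra
       FiniteDimensional k (X.residueField x) ∧ Algebra.IsSeparable k (X.residueField x))} := by
  rw [dense_iff_inter_open]
  intro U hU hne
  obtain ⟨L, _, _, g, hfin, hsep, hg, hgU⟩ := exists_sep_point_of_smooth f U hU hne
  have h := finite_separable_of_point f L g hg
  refine ⟨g (closedPoint L), hgU, ?_, h⟩
  apply isClosed_of_finite_resMap f
  letI := (resMap f (g (closedPoint L))).toAlgebra
  have : Module.Finite k (X.residueField (g (closedPoint L))) := h.1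
  exact RingHom.finite_algebraMap.mpr this

end Groth.Agent.Lib.helper17.RegSmooth
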