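import Mathlib

/-!
# Flatness and short exact sequences (helper17, LT13)

`flat_iff_of_exact`: for `0 → M' → M → M'' → 0` exact with `M''` flat: `M` flat iff `M'` flat.
-/

set_option autoImplicit false
universe u v
open TensorProduct

namespace Groth.Agent.Lib.helper17.FlatSES

variable {R : Type u} [CommRing R] {M' M M'' : Type v} [AddCommGroup M'] [AddCommGroup M]
  [AddCommGroup M''] [Module R M'] [Module R M] [Module R M'']
  (f : M' →ₗ[R] M) (g : M →ₗ[R] M'')

include g in
theorem flat_left_of_exact (hf : Function.Injective f) (hg : Function.Surjective g)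
    (H : Function.Exact f g) [Module.Flat R M''] [Module.Flat R M] : Module.Flat R M' := by
  rw [Module.Flat.iff_rTensor_injective']
  intro N
  have h1 : Function.Injective (f.lTensor N) :=
    LinearMap.lTensor_injective_of_exact_of_flat g hg f hf H N
  have h2 : Function.Injective (N.subtype.rTensor M) :=
    Module.Flat.rTensor_preserves_injective_linearMap _ N.injective_subtype
  have hc : (f.lTensor R) ∘ₗ (N.subtype.rTensor M') = (N.subtype.rTensor M) ∘ₗ (f.lTensor N) := by
    rw [LinearMap.lTensor_comp_rTensor, LinearMap.rTensor_comp_lTensor]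
  have h3 : Function.Injective ((f.lTensor R) ∘ₗ (N.subtype.rTensor M')) := by
    rw [hc]; exact h2.comp h1
  exact Function.Injective.of_comp h3

theorem flat_mid_of_exact (hf : Function.Injective f) (hg : Function.Surjective g)
    (H : Function.Exact f g) [Module.Flat R M''] [Module.Flat R M'] : Module.Flat R M := by
  rw [Module.Flat.iff_rTensor_injective']
  intro N
  rw [injective_iff_map_eq_zero]
  intro x hx
  have hex : Function.Exact (f.lTensor N) (g.lTensor N) := lTensor_exact N H hg
  have hcg : (g.lTensor R) ∘ₗ (N.subtype.rTensor M) = (N.subtype.rTensor M'') ∘ₗ (g.lTensor N) := by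
    rw [LinearMap.lTensor_comp_rTensor, LinearMap.rTensor_comp_lTensor]
  have hcf : (f.lTensor R) ∘ₗ (N.subtype.rTensor M') = (N.subtype.rTensor M) ∘ₗ (f.lTensor N) := by
    rw [LinearMap.lTensor_comp_rTensor, LinearMap.rTensor_comp_lTensor]
  have h1 : (N.subtype.rTensor M'') (g.lTensor N x) = 0 := by
    have := congrArg (fun φ => φ x) hcg
    simp only [LinearMap.comp_apply] at this
    rw [← this, hx, map_zero]
  have h2 : g.lTensor N x = 0 :=
    (injective_iff_map_eq_zero _).mp
      (Module.Flat.rTensor_preserves_injective_linearMap _ N.injective_subtype) _ h1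
  obtain ⟨y, rfl⟩ := (hex x).mp h2
  have h3 : (f.lTensor R) (N.subtype.rTensor M' y) = 0 := by
    have := congrArg (fun φ => φ y) hcf
    simp only [LinearMap.comp_apply] at this
    rw [this, hx]
  have h4 : N.subtype.rTensor M' y = 0 :=
    (injective_iff_map_eq_zero _).mp
      (LinearMap.lTensor_injective_of_exact_of_flat g hg f hf H R) _ h3
  have h5 : y = 0 :=
    (injective_iff_map_eq_zero _).mp
      (Module.Flat.rTensor_preserves_injective_linearMap _ N.injective_subtype) _ h4
  rw [h5, map_zero]

/-- `0 → M' → M → M'' → 0` exact with `M''` flat: `M` is flat iff `M'` is flat. -/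
theorem flat_iff_of_exact (hf : Function.Injective f) (hg : Function.Surjective g)
    (H : Function.Exact f g) [Module.Flat R M''] : Module.Flat R M ↔ Module.Flat R M' :=
  ⟨fun _ => flat_left_of_exact f g hf hg H, fun _ => flat_mid_of_exact f g hf hg H⟩

end Groth.Agent.Lib.helper17.FlatSES
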