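import Mathlib
import Groth.Agent.S0611
import Groth.Agent.Lib.Helper15.Regular

/-!
# helper17: exchange lemma for generators of an ideal in a local ring

* `isRegular_of_ofList_eq`: list form of S0611 (Noetherian local: regularity depends only on the
  ideal and the length).
* `exchange`: Steinitz exchange modulo `m K`.
* `not_mem_of_minimal`: members of a minimal generating system of `m` are independent mod `m²`.
-/

set_option autoImplicit false
set_option linter.style.haveILetI false
universe u

open IsLocalRing RingTheory.Sequence

namespace Groth.Agent.Lib.helper17.RegExchange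

/-- list form of S0611 -/
theorem isRegular_of_ofList_eq {A : Type u} [CommRing A] [IsLocalRing A] [IsNoetherianRing A]
    (as bs : List A) (hlen : as.length = bs.length) (ha : IsRegular A as)
    (h : Ideal.ofList as = Ideal.ofList bs) : IsRegular A bs := by
  have h1 : List.ofFn as.get = as := List.ofFn_get as
  have h2 : List.ofFn (fun i : Fin as.length => bs.get (Fin.cast hlen i)) = bs := by
    apply List.ext_get
    · simp [hlen]
    · intro i h1 h2
      simp
  have hspan : ∀ (n : ℕ) (g : Fin n → A), Ideal.ofList (List.ofFn g) = Ideal.span (Set.range g) := by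
    intro n g
    rw [Ideal.ofList]
    congr 1
    ext a
    simp [List.mem_ofFn]
  have := Groth.Agent.S0611.result (A := A) as.get (fun i : Fin as.length => bs.get (Fin.cast hlen i))
    (h1.symm ▸ ha) (by rw [← hspan, ← hspan, h1, h2, h])
  rw [h2] at this
  exact this

/-- Steinitz exchange modulo `m K` -/
theorem exchange {A : Type u} [CommRing A] [IsLocalRing A] (K : Ideal A) {ι : Type} [DecidableEq ι]
    (x : ι → A) : ∀ (s : Finset ι), (∀ j ∈ s, x j ∈ K) →
      (∀ j ∈ s, x j ∉ Ideal.span (x '' ((s.erase j : Finset ι) : Set ι)) ⊔ maximalIdeal A * K) →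
      ∀ T : Finset A, Ideal.span (T : Set A) = K →
        ∃ T' : Finset A, T' ⊆ T ∧ T'.card + s.card ≤ T.card ∧
          Ideal.span (x '' (s : Set ι)) ⊔ Ideal.span (T' : Set A) = K := by
  classical
  intro s
  induction s using Finset.induction_on with
  | empty =>
    intro _ _ T hT
    exact ⟨T, subset_rfl, by simp, by simp [hT]⟩
  | insert j s hj ih =>
    intro hmem hind T hT
    have hmem' : ∀ i ∈ s, x i ∈ K := fun i hi => hmem i (Finset.mem_insert_of_mem hi)
    have hind' : ∀ i ∈ s,
        x i ∉ Ideal.span (x '' ((s.erase i : Finset ι) : Set ι)) ⊔ maximalIdeal A * K := by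
      intro i hi hcon
      apply hind i (Finset.mem_insert_of_mem hi)
      have hmono : Ideal.span (x '' ((s.erase i : Finset ι) : Set ι)) ≤
          Ideal.span (x '' (((insert j s).erase i : Finset ι) : Set ι)) := by
        refine Ideal.span_mono (Set.image_mono ?_)
        intro a ha
        rw [Finset.mem_coe, Finset.mem_erase] at ha ⊢
        exact ⟨ha.1, Finset.mem_insert_of_mem ha.2⟩
      exact (sup_le_sup_right hmono (maximalIdeal A * K)) hcon
    obtain ⟨T', hT'T, hcard, hsup⟩ := ih hmem' hind' T hT
    have hTK : ∀ t ∈ T, t ∈ K := fun t ht => hT ▸ Ideal.subset_span ht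
    have hxj : x j ∈ Ideal.span (x '' (s : Set ι)) ⊔ Ideal.span (T' : Set A) := by
      rw [hsup]; exact hmem j (Finset.mem_insert_self j s)
    obtain ⟨u, hu, v, hv, huv⟩ := Submodule.mem_sup.mp hxj
    obtain ⟨f, hf⟩ := (Submodule.mem_span_finset' (R := A) (M := A)).mp hv
    -- some coefficient is a unit
    have hex : ∃ t : T', f t ∉ maximalIdeal A := by
      by_contra hall
      push Not at hall
      apply hind j (Finset.mem_insert_self j s)
      have hv' : v ∈ maximalIdeal A * K := by
        rw [← hf]
        refine Ideal.sum_mem _ fun t _ => ?_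
        rw [smul_eq_mul]
        exact Ideal.mul_mem_mul (hall t) (hTK _ (hT'T t.2))
      rw [← huv]
      have he : ((insert j s).erase j : Finset ι) = s := Finset.erase_insert hj
      rw [he]
      exact Submodule.add_mem_sup hu hv'
    obtain ⟨t0, ht0⟩ := hex
    have hunit : IsUnit (f t0) := by
      by_contra hnu
      exact ht0 ((IsLocalRing.mem_maximalIdeal _).mpr hnu)
    refine ⟨T'.erase t0.1, (Finset.erase_subset _ _).trans hT'T, ?_, ?_⟩
    · rw [Finset.card_insert_of_notMem hj, Finset.card_erase_of_mem t0.2]
      have : 0 < T'.card := Finset.card_pos.mpr ⟨t0.1, t0.2⟩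
      omega
    · set N : Ideal A := Ideal.span (x '' ((insert j s : Finset ι) : Set ι)) ⊔
        Ideal.span ((T'.erase t0.1 : Finset A) : Set A) with hN
      have hxN : ∀ i ∈ insert j s, x i ∈ N := fun i hi =>
        (le_sup_left : _ ≤ N) (Ideal.subset_span ⟨i, hi, rfl⟩)
      have htN : ∀ t ∈ T'.erase t0.1, t ∈ N := fun t ht =>
        (le_sup_right : _ ≤ N) (Ideal.subset_span ht)
      have huN : u ∈ N := by
        refine (le_sup_left : _ ≤ N) (Ideal.span_mono (Set.image_mono ?_) hu)
        intro a ha
        exact Finset.mem_insert_of_mem ha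
      have ht0N : t0.1 ∈ N := by
        have hsum : f t0 * t0.1 = x j - u - ∑ t ∈ (Finset.univ : Finset T').erase t0, f t • (t : A) := by
          have := Finset.add_sum_erase (Finset.univ : Finset T') (fun t => f t • (t : A))
            (Finset.mem_univ t0)
          rw [hf] at this
          rw [← huv, ← this, smul_eq_mul]
          ring
        have h1 : f t0 * t0.1 ∈ N := by
          rw [hsum]
          refine N.sub_mem (N.sub_mem (hxN j (Finset.mem_insert_self j s)) huN) ?_
          refine Ideal.sum_mem _ fun t ht => ?_
          rw [smul_eq_mul]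
          refine N.mul_mem_left _ (htN _ ?_)
          rw [Finset.mem_erase] at ht ⊢
          exact ⟨fun h => ht.1 (Subtype.ext h), t.2⟩
        exact (Ideal.unit_mul_mem_iff_mem N hunit).mp h1
      apply le_antisymm
      · refine sup_le ?_ ?_
        · rw [Ideal.span_le]
          rintro _ ⟨i, hi, rfl⟩
          exact hmem i hi
        · rw [Ideal.span_le]
          intro t ht
          exact hTK t (hT'T (Finset.mem_of_mem_erase ht))
      · rw [← hsup]
        refine sup_le ?_ ?_
        · refine le_sup_of_le_left (Ideal.span_mono (Set.image_mono ?_))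
          intro a ha
          exact Finset.mem_insert_of_mem ha
        · rw [Ideal.span_le]
          intro t ht
          by_cases h : t = t0.1
          · rw [h]; exact ht0N
          · exact htN t (Finset.mem_erase.mpr ⟨h, ht⟩)

/-- members of a minimal generating system of `m` are independent modulo `m²` -/
theorem not_mem_of_minimal {A : Type u} [CommRing A] [IsLocalRing A] [IsNoetherianRing A] (d : ℕ)
    (hd : (maximalIdeal A).spanFinrank = d) (x : Fin d → A)
    (hx : Ideal.span (Set.range x) = maximalIdeal A) (j : Fin d) (s : Finset (Fin d))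
    (hj : j ∉ s) :
    x j ∉ Ideal.span (x '' (s : Set (Fin d))) ⊔ maximalIdeal A ^ 2 := by
  classical
  intro hcon
  set N : Ideal A := Ideal.span (x '' ((Finset.univ.erase j : Finset (Fin d)) : Set (Fin d)))
    with hN
  have hsN : Ideal.span (x '' (s : Set (Fin d))) ≤ N := by
    refine Ideal.span_mono (Set.image_mono ?_)
    intro a ha
    rw [Finset.mem_coe, Finset.mem_erase]
    refine ⟨?_, Finset.mem_univ a⟩
    rintro rfl
    exact hj ha
  have hfg : (maximalIdeal A).FG := IsNoetherian.noetherian _
  have hle : maximalIdeal A ≤ N := by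
    apply Submodule.le_of_le_smul_of_le_jacobson_bot hfg (maximalIdeal_le_jacobson _)
    rw [smul_eq_mul, ← pow_two]
    conv_lhs => rw [← hx]
    rw [Ideal.span_le]
    rintro _ ⟨i, rfl⟩
    by_cases h : i = j
    · rw [h]
      exact (sup_le_sup_right hsN _) hcon
    · refine (le_sup_left : N ≤ _) (Ideal.subset_span ⟨i, ?_, rfl⟩)
      simp [h]
  have hNle : N ≤ maximalIdeal A := by
    rw [← hx]
    exact Ideal.span_mono (Set.image_subset_range _ _)
  have hmN : maximalIdeal A = N := le_antisymm hle hNle
  have h1 : (maximalIdeal A).spanFinrank ≤ d - 1 := by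
    conv_lhs => rw [hmN, hN]
    refine (Submodule.spanFinrank_span_le_ncard_of_finite (Set.toFinite _)).trans ?_
    refine (Set.ncard_image_le (Set.toFinite _)).trans ?_
    rw [Set.ncard_coe_finset, Finset.card_erase_of_mem (Finset.mem_univ j), Finset.card_univ,
      Fintype.card_fin]
  have : 0 < d := Fin.pos j
  omega

end Groth.Agent.Lib.helper17.RegExchange
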