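import Mathlib
import Groth.Prelude.Def_RegImm
import Groth.Agent.S2888

/-!
# Complete intersections over a field, part 1 (helper17): presentation independence

* `KerReg π` : the kernel of the ring map `π` is generated by a regular sequence.
* `cover` : if a localized polynomial ring `k[x]_𝔭` covers a regular local `k`-algebra `R`, essentially of
  finite type, compatibly with surjections to a local `k`-algebra `S`, then `KerReg (k[x]_𝔭 → S) ↔ KerReg (R → S)`.
* `kerReg_iff` : presentation independence: for two regular local `k`-algebras `R₁, R₂` essentially of finite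
  type over `k` with surjections onto `S`, `KerReg π₁ ↔ KerReg π₂`.
* `exists_cover` : a local `k`-algebra `S`, essentially of finite type, is a quotient of a localized polynomial
  ring.
-/

set_option autoImplicit false
set_option linter.style.haveILetI false

namespace Groth.Agent.Lib.helper17.CIField

universe u

open IsLocalRing RingTheory.Sequence

/-- The kernel of `π` is generated by a regular sequence. -/
def KerReg {R S : Type u} [CommRing R] [CommRing S] (π : R →+* S) : Prop :=
  ∃ rs : List R, IsRegular R rs ∧ RingHom.ker π = Ideal.ofList rs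

section Cover

variable (k : Type u) [Field k] (S : Type u) [CommRing S] [IsLocalRing S] [Algebra k S]

/-- the prime of the polynomial ring cut out by a map to a local ring -/
noncomputable abbrev primeOf {ι : Type u} (ψ : MvPolynomial ι k →ₐ[k] S) : Ideal (MvPolynomial ι k) :=
  (maximalIdeal S).comap ψ.toRingHom

instance {ι : Type u} (ψ : MvPolynomial ι k →ₐ[k] S) : (primeOf k S ψ).IsPrime :=
  Ideal.comap_isPrime _ _

/-- the induced map from the localized polynomial ring -/
noncomputable def locMap {ι : Type u} (ψ : MvPolynomial ι k →ₐ[k] S) :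
    Localization.AtPrime (primeOf k S ψ) →+* S :=
  IsLocalization.lift (M := (primeOf k S ψ).primeCompl) (g := ψ.toRingHom) (by
    intro y
    have hy : (y : MvPolynomial ι k) ∉ primeOf k S ψ := y.2
    rw [Ideal.mem_comap, mem_maximalIdeal, mem_nonunits_iff, not_not] at hy
    exact hy)

theorem locMap_comp {ι : Type u} (ψ : MvPolynomial ι k →ₐ[k] S) :
    (locMap k S ψ).comp (algebraMap _ _) = ψ.toRingHom :=
  IsLocalization.lift_comp _

theorem cover (R : Type u) [CommRing R] [IsRegularLocalRing R] [Algebra k R]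
    [Algebra.EssFiniteType k R] (π : R →ₐ[k] S) (hπ : Function.Surjective π)
    (ι : Type u) [Finite ι] (φ : MvPolynomial ι k →ₐ[k] R)
    (hφ : ∀ x ∈ Algebra.EssFiniteType.finset k R, x ∈ φ.range) :
    KerReg (locMap k S (π.comp φ)) ↔ KerReg π.toRingHom := by
  haveI hloc : IsLocalHom π.toRingHom := IsLocalHom.of_surjective π.toRingHom hπ
  have hmem : ∀ y : MvPolynomial ι k, y ∉ primeOf k S (π.comp φ) ↔ IsUnit (π (φ y)) := by
    intro y
    change ¬ (π (φ y) ∈ maximalIdeal S) ↔ _
    rw [mem_maximalIdeal, mem_nonunits_iff, not_not]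
  have hunit : ∀ y : (primeOf k S (π.comp φ)).primeCompl, IsUnit (φ.toRingHom y) := by
    intro y
    have hy := (hmem y).mp y.2
    exact hloc.map_nonunit _ hy
  let φ' : Localization.AtPrime (primeOf k S (π.comp φ)) →+* R :=
    IsLocalization.lift (M := (primeOf k S (π.comp φ)).primeCompl) (g := φ.toRingHom) hunit
  have hφ'c : φ'.comp (algebraMap _ _) = φ.toRingHom := IsLocalization.lift_comp _
  have hcomp : (π.toRingHom).comp φ' = locMap k S (π.comp φ) := by
    apply IsLocalization.ringHom_ext (primeOf k S (π.comp φ)).primeCompl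
    rw [RingHom.comp_assoc, hφ'c, locMap_comp]
    rfl
  have hrange : ∀ x ∈ Algebra.adjoin k (Algebra.EssFiniteType.finset k R : Set R), x ∈ φ.range := by
    intro x hx
    have : Algebra.adjoin k (Algebra.EssFiniteType.finset k R : Set R) ≤ φ.range :=
      Algebra.adjoin_le fun y hy => hφ y hy
    exact this hx
  have hφ's : Function.Surjective φ' := by
    intro s
    have hcond := (Algebra.essFiniteType_cond_iff (R := k) (S := R)
      (Algebra.EssFiniteType.finset k R)).mp
      (Algebra.EssFiniteType.isLocalization (R := k) (S := R))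
    obtain ⟨t, ht, htu, hst⟩ := hcond s
    obtain ⟨a, ha⟩ := hrange _ hst
    obtain ⟨b, hb⟩ := hrange _ ht
    change φ a = s * t at ha
    change φ b = t at hb
    have hb𝔭 : b ∉ primeOf k S (π.comp φ) := by
      rw [hmem, hb]
      exact htu.map π
    refine ⟨IsLocalization.mk' _ a (⟨b, hb𝔭⟩ : (primeOf k S (π.comp φ)).primeCompl), ?_⟩
    rw [IsLocalization.lift_mk'_spec]
    change φ a = φ b * s
    rw [ha, hb, mul_comm]
  have hkey := Groth.Agent.S2888.ring_iff (Localization.AtPrime (primeOf k S (π.comp φ))) R S φ' hφ's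
    π.toRingHom hπ
  rw [hcomp] at hkey
  exact hkey

/-- `locMap` as an algebra map -/
noncomputable def locMapₐ {ι : Type u} (ψ : MvPolynomial ι k →ₐ[k] S) :
    Localization.AtPrime (primeOf k S ψ) →ₐ[k] S :=
  { locMap k S ψ with
    commutes' := by
      intro c
      change locMap k S ψ (algebraMap k (Localization.AtPrime (primeOf k S ψ)) c) = _
      rw [IsScalarTower.algebraMap_apply k (MvPolynomial ι k) (Localization.AtPrime (primeOf k S ψ))]
      have := congrArg (fun f => f (algebraMap k (MvPolynomial ι k) c)) (locMap_comp k S ψ)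
      simp only [RingHom.comp_apply] at this
      rw [this]
      exact ψ.commutes c }

@[simp] theorem locMapₐ_toRingHom {ι : Type u} (ψ : MvPolynomial ι k →ₐ[k] S) :
    (locMapₐ k S ψ).toRingHom = locMap k S ψ := rfl

theorem locMap_surjective [Algebra.EssFiniteType k S] {ι : Type u} (ψ : MvPolynomial ι k →ₐ[k] S)
    (hψ : ∀ x ∈ Algebra.EssFiniteType.finset k S, x ∈ ψ.range) :
    Function.Surjective (locMap k S ψ) := by
  have hmem : ∀ y : MvPolynomial ι k, y ∉ primeOf k S ψ ↔ IsUnit (ψ y) := by
    intro y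
    change ¬ (ψ y ∈ maximalIdeal S) ↔ _
    rw [mem_maximalIdeal, mem_nonunits_iff, not_not]
  have hrange : ∀ x ∈ Algebra.adjoin k (Algebra.EssFiniteType.finset k S : Set S), x ∈ ψ.range := by
    intro x hx
    have : Algebra.adjoin k (Algebra.EssFiniteType.finset k S : Set S) ≤ ψ.range :=
      Algebra.adjoin_le fun y hy => hψ y hy
    exact this hx
  intro s
  have hcond := (Algebra.essFiniteType_cond_iff (R := k) (S := S)
    (Algebra.EssFiniteType.finset k S)).mp
    (Algebra.EssFiniteType.isLocalization (R := k) (S := S))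
  obtain ⟨t, ht, htu, hst⟩ := hcond s
  obtain ⟨a, ha⟩ := hrange _ hst
  obtain ⟨b, hb⟩ := hrange _ ht
  change ψ a = s * t at ha
  change ψ b = t at hb
  have hb𝔭 : b ∉ primeOf k S ψ := by
    rw [hmem, hb]
    exact htu
  refine ⟨IsLocalization.mk' _ a (⟨b, hb𝔭⟩ : (primeOf k S ψ).primeCompl), ?_⟩
  unfold locMap
  rw [IsLocalization.lift_mk'_spec]
  change ψ a = ψ b * s
  rw [ha, hb, mul_comm]

/-- Presentation independence. -/
theorem kerReg_iff (R₁ R₂ : Type u) [CommRing R₁] [IsRegularLocalRing R₁] [Algebra k R₁]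
    [Algebra.EssFiniteType k R₁] [CommRing R₂] [IsRegularLocalRing R₂] [Algebra k R₂]
    [Algebra.EssFiniteType k R₂] (π₁ : R₁ →ₐ[k] S) (hπ₁ : Function.Surjective π₁)
    (π₂ : R₂ →ₐ[k] S) (hπ₂ : Function.Surjective π₂) :
    KerReg π₁.toRingHom ↔ KerReg π₂.toRingHom := by
  classical
  let σ₁ := Algebra.EssFiniteType.finset k R₁
  let σ₂ := Algebra.EssFiniteType.finset k R₂
  let ι : Type u := (↥σ₁) ⊕ (↥σ₂)
  let l₁ : S → R₁ := Function.surjInv hπ₁
  let l₂ : S → R₂ := Function.surjInv hπ₂
  have hl₁ : ∀ s, π₁ (l₁ s) = s := Function.surjInv_eq hπ₁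
  have hl₂ : ∀ s, π₂ (l₂ s) = s := Function.surjInv_eq hπ₂
  let φ₁ : MvPolynomial ι k →ₐ[k] R₁ :=
    MvPolynomial.aeval (Sum.elim (fun z : ↥σ₁ => (z : R₁)) (fun w : ↥σ₂ => l₁ (π₂ (w : R₂))))
  let φ₂ : MvPolynomial ι k →ₐ[k] R₂ :=
    MvPolynomial.aeval (Sum.elim (fun z : ↥σ₁ => l₂ (π₁ (z : R₁))) (fun w : ↥σ₂ => (w : R₂)))
  have heq : π₁.comp φ₁ = π₂.comp φ₂ := by
    apply MvPolynomial.algHom_ext
    intro i
    rcases i with z | w
    · simp [φ₁, φ₂, hl₂]
    · simp [φ₁, φ₂, hl₁]
  have h1 := cover k S R₁ π₁ hπ₁ ι φ₁ (by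
    intro x hx
    exact ⟨MvPolynomial.X (Sum.inl ⟨x, hx⟩), by simp [φ₁]⟩)
  have h2 := cover k S R₂ π₂ hπ₂ ι φ₂ (by
    intro x hx
    exact ⟨MvPolynomial.X (Sum.inr ⟨x, hx⟩), by simp [φ₂]⟩)
  rw [← h1, ← h2, heq]

/-- A local `k`-algebra essentially of finite type is covered by a localized polynomial ring. -/
theorem exists_cover [Algebra.EssFiniteType k S] :
    ∃ (ι : Type u) (_ : Finite ι) (ψ : MvPolynomial ι k →ₐ[k] S),
      Function.Surjective (locMap k S ψ) := by
  classical
  let σ := Algebra.EssFiniteType.finset k S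
  refine ⟨↥σ, inferInstance, MvPolynomial.aeval (fun z : ↥σ => (z : S)), ?_⟩
  apply locMap_surjective
  intro x hx
  exact ⟨MvPolynomial.X ⟨x, hx⟩, by simp⟩

end Cover

end Groth.Agent.Lib.helper17.CIField
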