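import Mathlib
import Groth.Agent.S2881
import Groth.Agent.S1661
import Groth.Agent.Lib.Helper17.RegExchange
import Groth.Agent.Lib.Helper11.KoszulReg

/-!
# helper17: two-out-of-three for ideals generated by regular sequences (Noetherian local)

`A → B = A/I → C = B/J`, `A` Noetherian local, `J` generated by a regular sequence of `B`.
Then `I` is generated by a regular sequence iff `K = ker (A → C)` is.
-/

set_option autoImplicit false
set_option linter.style.haveILetI false
universe u

open IsLocalRing RingTheory.Sequence

namespace Groth.Agent.Lib.helper17.RegTwoOfThree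

open Groth.Agent.Lib.helper11.KoszulH1

theorem ofList_replicate_zero {A : Type u} [CommRing A] (k : ℕ) :
    Ideal.ofList (List.replicate k (0 : A)) = ⊥ := by
  rw [Ideal.ofList, eq_bot_iff, Ideal.span_le]
  intro a ha
  have : a = 0 := List.eq_of_mem_replicate ha
  rw [this]; exact Ideal.zero_mem _

theorem ofList_ofFn {A : Type u} [CommRing A] {n : ℕ} (g : Fin n → A) :
    Ideal.ofList (List.ofFn g) = Ideal.span (Set.range g) := by
  rw [Ideal.ofList]
  congr 1
  ext a
  simp [List.mem_ofFn]

/-- the linear functional `a ↦ Σ y_i a_i` kills the trivial relations -/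
theorem sum_eq_zero_of_mem_Triv {A : Type u} [CommRing A] {r : ℕ} (y : Fin r → A)
    (a : Fin r → A) (ha : a ∈ Triv y A) : ∑ i, y i * a i = 0 := by
  classical
  let L : (Fin r → A) →ₗ[A] A :=
    { toFun := fun a => ∑ i, y i * a i
      map_add' := by
        intro a b
        simp only [Pi.add_apply, mul_add, Finset.sum_add_distrib]
      map_smul' := by
        intro c a
        simp only [Pi.smul_apply, smul_eq_mul, RingHom.id_apply, Finset.mul_sum]
        refine Finset.sum_congr rfl fun i _ => by ring }
  change L a = 0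
  have : Triv y A ≤ LinearMap.ker L := by
    unfold Triv
    rw [Submodule.span_le]
    rintro v ⟨i, j, x, rfl⟩
    rw [SetLike.mem_coe, LinearMap.mem_ker]
    change ∑ k, y k * (y j • (Pi.single i x : Fin r → A) - y i • (Pi.single j x : Fin r → A)) k = 0
    simp only [Pi.sub_apply, Pi.smul_apply, smul_eq_mul, mul_sub, Finset.sum_sub_distrib]
    simp only [Pi.single_apply, mul_ite, mul_zero, Finset.sum_ite_eq', Finset.mem_univ, if_true]
    ring
  exact LinearMap.mem_ker.mp (this ha)

/-- lifting trivial relations along a surjection -/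
theorem exists_lift_Triv {A B : Type u} [CommRing A] [CommRing B] (φ : A →+* B)
    (hφ : Function.Surjective φ) {r : ℕ} (y : Fin r → A) (b : Fin r → B)
    (hb : b ∈ Triv (fun i => φ (y i)) B) : ∃ a ∈ Triv y A, ∀ i, φ (a i) = b i := by
  classical
  unfold Triv at hb
  induction hb using Submodule.span_induction with
  | mem v hv =>
    obtain ⟨i, j, x, rfl⟩ := hv
    obtain ⟨x', rfl⟩ := hφ x
    refine ⟨y j • (Pi.single i x' : Fin r → A) - y i • (Pi.single j x' : Fin r → A),
      Submodule.subset_span ⟨i, j, x', rfl⟩, fun k => ?_⟩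
    simp only [Pi.sub_apply, Pi.smul_apply, smul_eq_mul, map_sub, map_mul, Pi.single_apply]
    split_ifs <;> simp
  | zero => exact ⟨0, Submodule.zero_mem _, fun i => by simp⟩
  | add u v _ _ hu hv =>
    obtain ⟨a, ha, hau⟩ := hu
    obtain ⟨b', hb', hbv⟩ := hv
    exact ⟨a + b', Submodule.add_mem _ ha hb', fun i => by simp [hau, hbv]⟩
  | smul c u _ hu =>
    obtain ⟨a, ha, hau⟩ := hu
    obtain ⟨c', rfl⟩ := hφ c
    exact ⟨c' • a, Submodule.smul_mem _ _ ha, fun i => by simp [hau]⟩

/-- **Two out of three** for ideals generated by regular sequences. -/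
theorem ring_iff {A B C : Type u} [CommRing A] [CommRing B] [CommRing C] [IsLocalRing A]
    [IsNoetherianRing A] [Nontrivial C] (φ : A →+* B) (hφ : Function.Surjective φ)
    (ψ : B →+* C)
    (hJ : ∃ rs : List B, IsRegular B rs ∧ RingHom.ker ψ = Ideal.ofList rs) :
    (∃ rs : List A, IsRegular A rs ∧ RingHom.ker φ = Ideal.ofList rs) ↔
      (∃ rs : List A, IsRegular A rs ∧ RingHom.ker (ψ.comp φ) = Ideal.ofList rs) := by
  classical
  obtain ⟨rs, hrs, hJ⟩ := hJ
  obtain ⟨fs, rfl⟩ := (List.map_surjective_iff.mpr hφ) rs
  have hneK : RingHom.ker (ψ.comp φ) ≠ ⊤ := RingHom.ker_ne_top _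
  have hneJ : RingHom.ker ψ ≠ ⊤ := RingHom.ker_ne_top _
  have hKcomap : RingHom.ker (ψ.comp φ) = (RingHom.ker ψ).comap φ := (RingHom.comap_ker ψ φ).symm
  constructor
  · rintro ⟨gs, hgs, hI⟩
    obtain ⟨h1, h2⟩ := Groth.Agent.S1661.weaklyRegular_append_of_surjective φ hφ gs
      hgs.toIsWeaklyRegular hI fs hrs.toIsWeaklyRegular
    refine ⟨gs ++ fs, ⟨h1, ?_⟩, ?_⟩
    · rw [h2, ← hJ, ← hKcomap, smul_eq_mul, Ideal.mul_top]
      exact hneK.symm
    · rw [h2, ← hJ, hKcomap]
  · rintro ⟨ks, hks, hK⟩
    haveI : IsNoetherianRing B := isNoetherianRing_of_surjective A B φ hφ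
    haveI : Nontrivial B := ψ.domain_nontrivial
    haveI : IsLocalRing B := IsLocalRing.of_surjective' φ hφ
    haveI : IsLocalHom φ := IsLocalHom.of_surjective _ hφ
    have hKm : RingHom.ker (ψ.comp φ) ≤ maximalIdeal A := IsLocalRing.le_maximalIdeal hneK
    have hJm : RingHom.ker ψ ≤ maximalIdeal B := IsLocalRing.le_maximalIdeal hneJ
    have hIK : RingHom.ker φ ≤ RingHom.ker (ψ.comp φ) := by
      rw [hKcomap]; exact Ideal.ker_le_comap _
    have hKmap : (RingHom.ker (ψ.comp φ)).map φ = RingHom.ker ψ := by
      rw [hKcomap, Ideal.map_comap_of_surjective φ hφ]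
    let y : Fin fs.length → A := fs.get
    have hofy : List.ofFn y = fs := List.ofFn_get fs
    have hofφy : List.ofFn (fun i => φ (y i)) = fs.map φ := by
      conv_rhs => rw [← hofy]
      rw [List.map_ofFn]
      rfl
    have hspany : Ideal.span (Set.range y) = Ideal.ofList fs := by
      rw [← ofList_ofFn, hofy]
    have hJspan : RingHom.ker ψ = Ideal.span (Set.range (fun i => φ (y i))) := by
      rw [hJ, ← ofList_ofFn, hofφy]
    have hyK : ∀ j, y j ∈ RingHom.ker (ψ.comp φ) := by
      intro j
      rw [hKcomap, Ideal.mem_comap, hJspan]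
      exact Ideal.subset_span ⟨j, rfl⟩
    -- Step A: independence of the `y j` modulo `m K`
    have hind : ∀ j ∈ (Finset.univ : Finset (Fin fs.length)),
        y j ∉ Ideal.span (y '' ((Finset.univ.erase j : Finset (Fin fs.length)) :
          Set (Fin fs.length))) ⊔ maximalIdeal A * RingHom.ker (ψ.comp φ) := by
      intro j _ hcon
      let S : Finset B := (Finset.univ.erase j).image (fun i => φ (y i))
      have hSJ : Ideal.span (S : Set B) ≤ RingHom.ker ψ := by
        rw [Ideal.span_le]
        intro b hb
        obtain ⟨i, -, rfl⟩ := Finset.mem_image.mp hb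
        rw [hJspan]
        exact Ideal.subset_span ⟨i, rfl⟩
      have h1 : RingHom.ker ψ ≤ Ideal.span (S : Set B) := by
        apply Submodule.le_of_le_smul_of_le_jacobson_bot (IsNoetherian.noetherian _)
          (maximalIdeal_le_jacobson (⊥ : Ideal B))
        conv_lhs => rw [hJspan]
        rw [Ideal.span_le]
        rintro _ ⟨i, rfl⟩
        by_cases h : i = j
        · subst h
          have h2 := Ideal.mem_map_of_mem φ hcon
          rw [Ideal.map_sup, Ideal.map_mul, hKmap, Ideal.map_span] at h2
          have h3 : Ideal.span (φ '' (y '' ((Finset.univ.erase i : Finset (Fin fs.length)) :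
              Set (Fin fs.length)))) ≤ Ideal.span (S : Set B) := by
            refine Ideal.span_mono ?_
            rintro _ ⟨_, ⟨k, hk, rfl⟩, rfl⟩
            exact Finset.mem_coe.mpr (Finset.mem_image.mpr ⟨k, hk, rfl⟩)
          have h4 : (maximalIdeal A).map φ * RingHom.ker ψ ≤ maximalIdeal B • RingHom.ker ψ := by
            rw [smul_eq_mul]
            refine Ideal.mul_mono_left ?_
            rw [Ideal.map_le_iff_le_comap]
            intro a ha
            exact (IsLocalRing.mem_maximalIdeal _).mpr
              (fun hu => (IsLocalRing.mem_maximalIdeal _).mp ha (isUnit_of_map_unit φ a hu))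
          exact (sup_le_sup h3 h4) h2
        · refine (le_sup_left : Ideal.span (S : Set B) ≤ _) (Ideal.subset_span ?_)
          exact Finset.mem_coe.mpr (Finset.mem_image.mpr
            ⟨i, Finset.mem_erase.mpr ⟨h, Finset.mem_univ i⟩, rfl⟩)
      have hJS : RingHom.ker ψ = Ideal.span (S : Set B) := le_antisymm h1 hSJ
      obtain ⟨⟨q, hq⟩⟩ := Ideal.nonempty_minimalPrimes hneJ
      haveI := hq.1.1
      have hht1 : q.height ≤ S.card := by
        apply Ideal.height_le_card_of_mem_minimalPrimes_span_finset
        rw [← hJS]; exact hq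
      have hht2 : ringKrullDim (Localization.AtPrime q) = (fs.map φ).length :=
        Groth.Agent.S2881.dim_atPrime_of_minimal_regular B (fs.map φ) hrs.toIsWeaklyRegular q
          (hJ ▸ hq)
      rw [IsLocalization.AtPrime.ringKrullDim_eq_height q (Localization.AtPrime q),
        List.length_map] at hht2
      have hht3 : q.height = fs.length := by exact_mod_cast hht2
      have hScard : S.card ≤ fs.length - 1 := by
        refine Finset.card_image_le.trans ?_
        rw [Finset.card_erase_of_mem (Finset.mem_univ j), Finset.card_univ, Fintype.card_fin]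
      have hpos : 0 < fs.length := Fin.pos j
      rw [hht3] at hht1
      have : fs.length ≤ S.card := by exact_mod_cast hht1
      omega
    -- Step B: exchange
    have hT : Ideal.span ((ks.toFinset : Finset A) : Set A) = RingHom.ker (ψ.comp φ) := by
      rw [hK, Ideal.ofList]
      congr 1
      ext a
      simp
    obtain ⟨T', hT'T, hcard, hsup⟩ := Groth.Agent.Lib.helper17.RegExchange.exchange
      (RingHom.ker (ψ.comp φ)) y Finset.univ (fun j _ => hyK j) hind ks.toFinset hT
    rw [Finset.coe_univ, Set.image_univ, Finset.card_univ, Fintype.card_fin] at *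
    have hTK : ∀ t ∈ T', t ∈ RingHom.ker (ψ.comp φ) := fun t ht =>
      hT ▸ Ideal.subset_span (hT'T ht)
    -- Step C: move the remaining generators into `ker φ`
    have hstepC : ∀ t ∈ T', ∃ i ∈ RingHom.ker φ, t - i ∈ Ideal.span (Set.range y) := by
      intro t ht
      have h1 : φ t ∈ (Ideal.span (Set.range y)).map φ := by
        rw [Ideal.map_span, ← Set.range_comp]
        have := hTK t ht
        rw [hKcomap, Ideal.mem_comap, hJspan] at this
        exact this
      obtain ⟨w, hw, hwt⟩ := (Ideal.mem_map_iff_of_surjective φ hφ).mp h1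
      refine ⟨t - w, ?_, ?_⟩
      · rw [RingHom.mem_ker, map_sub, hwt, sub_self]
      · rw [sub_sub_cancel]; exact hw
    choose! ι hι using hstepC
    let X : Finset A := T'.image ι
    have hX : ∀ a ∈ X, a ∈ RingHom.ker φ := by
      intro a ha
      obtain ⟨t, ht, rfl⟩ := Finset.mem_image.mp ha
      exact (hι t ht).1
    have hXcard : X.card ≤ T'.card := Finset.card_image_le
    have hKX : Ideal.span (Set.range y) ⊔ Ideal.span (X : Set A) = RingHom.ker (ψ.comp φ) := by
      apply le_antisymm
      · refine sup_le ?_ ?_
        · rw [Ideal.span_le]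
          rintro _ ⟨j, rfl⟩
          exact hyK j
        · rw [Ideal.span_le]
          intro a ha
          exact hIK (hX a ha)
      · rw [← hsup]
        refine sup_le le_sup_left ?_
        rw [Ideal.span_le]
        intro t ht
        have h1 : t = (t - ι t) + ι t := by ring
        rw [h1]
        exact Submodule.add_mem_sup (hι t ht).2
          (Ideal.subset_span (Finset.mem_coe.mpr (Finset.mem_image.mpr ⟨t, ht, rfl⟩)))
    -- Step D: a regular sequence `xs ++ fs` generating `K`
    have hTcard : ks.toFinset.card ≤ ks.length := List.toFinset_card_le ks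
    let xs : List A := X.toList ++ List.replicate (ks.length - fs.length - X.card) 0
    have hxslen : xs.length = ks.length - fs.length := by
      simp only [xs, List.length_append, Finset.length_toList, List.length_replicate]
      omega
    have hxsspan : Ideal.ofList xs = Ideal.span (X : Set A) := by
      simp only [xs]
      rw [Ideal.ofList_append, ofList_replicate_zero, sup_bot_eq, Ideal.ofList]
      congr 1
      ext a
      simp
    have hlen : ks.length = (xs ++ fs).length := by
      rw [List.length_append, hxslen]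
      omega
    have hspan : Ideal.ofList ks = Ideal.ofList (xs ++ fs) := by
      rw [Ideal.ofList_append, hxsspan, ← hspany, sup_comm, hKX, hK]
    have hreg := Groth.Agent.Lib.helper17.RegExchange.isRegular_of_ofList_eq ks _ hlen hks hspan
    -- Step E: `ker φ = (xs)`
    have hI'I : Ideal.ofList xs ≤ RingHom.ker φ := by
      rw [hxsspan, Ideal.span_le]
      exact fun a ha => hX a ha
    have hH1 : H1Z (fun i => φ (y i)) B :=
      H1Z_of_isWeaklyRegular fs.length (fun i => φ (y i)) (hofφy ▸ hrs.toIsWeaklyRegular)
    have hII' : RingHom.ker φ ≤ Ideal.ofList xs := by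
      apply Submodule.le_of_le_smul_of_le_jacobson_bot (IsNoetherian.noetherian _)
        (maximalIdeal_le_jacobson (⊥ : Ideal A))
      intro ν hν
      have hνK : ν ∈ Ideal.span (Set.range y) ⊔ Ideal.span (X : Set A) := by
        rw [hKX]; exact hIK hν
      obtain ⟨w, hw, v, hv, hwv⟩ := Submodule.mem_sup.mp hνK
      obtain ⟨a, ha⟩ := Ideal.mem_span_range_iff_exists_fun.mp hw
      have hv' : v ∈ RingHom.ker φ := by
        have : Ideal.span (X : Set A) ≤ RingHom.ker φ := by
          rw [Ideal.span_le]; exact fun a ha => hX a ha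
        exact this hv
      have hφw : φ w = 0 := by
        have h1 : φ ν = 0 := (RingHom.mem_ker).mp hν
        have h2 : φ v = 0 := (RingHom.mem_ker).mp hv'
        rw [← hwv, map_add, h2, add_zero] at h1
        exact h1
      have hrel : ∑ i, (fun i => φ (y i)) i • (fun i => φ (a i)) i = 0 := by
        rw [← hφw, ← ha, map_sum]
        refine Finset.sum_congr rfl fun i _ => ?_
        simp only [smul_eq_mul, map_mul]
        ring
      have hmem := hH1 (fun i => φ (a i)) hrel
      obtain ⟨a', ha', haa'⟩ := exists_lift_Triv φ hφ y (fun i => φ (a i)) hmem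
      have hzero := sum_eq_zero_of_mem_Triv y a' ha'
      have hw' : w = ∑ i, (a i - a' i) * y i := by
        rw [← ha]
        have : ∑ i, (a i - a' i) * y i = ∑ i, a i * y i - ∑ i, y i * a' i := by
          rw [← Finset.sum_sub_distrib]
          refine Finset.sum_congr rfl fun i _ => by ring
        rw [this, hzero, sub_zero]
      have hwm : w ∈ maximalIdeal A • RingHom.ker φ := by
        rw [hw', smul_eq_mul, mul_comm]
        refine Ideal.sum_mem _ fun i _ => ?_
        refine Ideal.mul_mem_mul ?_ (hKm (hyK i))
        rw [RingHom.mem_ker, map_sub, haa', sub_self]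
      rw [← hwv, add_comm]
      have hvxs : v ∈ Ideal.ofList xs := by rw [hxsspan]; exact hv
      exact Submodule.add_mem_sup hvxs hwm
    have hIeq : RingHom.ker φ = Ideal.ofList xs := le_antisymm hII' hI'I
    refine ⟨xs, ⟨((isWeaklyRegular_append_iff A xs fs).mp hreg.toIsWeaklyRegular).1, ?_⟩, hIeq⟩
    rw [← hIeq, smul_eq_mul, Ideal.mul_top]
    exact (RingHom.ker_ne_top φ).symm

end Groth.Agent.Lib.helper17.RegTwoOfThree
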