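import Mathlib
import Groth.Prelude.Def_RegImm
import Groth.Agent.Lib.Helper17.CIField1
import Groth.Agent.Lib.Helper17.LciCM
import Groth.Agent.Lib.Helper17.RegTwoOfThree

/-!
# Complete intersections over a field, part 2 (helper17)

* `isCIOver_iff_kerReg` : for any presentation `π : R ↠ S` by a regular local ring essentially of finite type,
  `Synt.IsCIOver k S ↔ KerReg π`.
* `isCIOver_of_algEquiv` : invariance under `k`-algebra isomorphisms.
* `isCIOver_atPrime_iff` : for a surjection `φ : P ↠ T` (`P` regular at the prime, e.g. a polynomial ring) and a prime `𝔮` of `T`, `T_𝔮` is a complete intersection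
  over `k` iff `(ker φ) k[x]_{𝔮'}` is generated by a regular sequence.
* `isCIOver_atPrime_of_isGlobalCI` : local rings of a global complete intersection are complete intersections.
-/

set_option autoImplicit false
set_option linter.style.haveILetI false

namespace Groth.Agent.Lib.helper17.CIField

universe u

open IsLocalRing RingTheory.Sequence

section

variable (k : Type u) [Field k] (S : Type u) [CommRing S] [IsLocalRing S] [Algebra k S]

theorem isCIOver_of_kerReg (R : Type u) [CommRing R] [IsRegularLocalRing R] [Algebra k R]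
    [Algebra.EssFiniteType k R] (π : R →ₐ[k] S) (hπ : Function.Surjective π)
    (h : KerReg π.toRingHom) : Synt.IsCIOver k S := by
  obtain ⟨rs, hreg, hker⟩ := h
  have hne : RingHom.ker π.toRingHom ≠ ⊤ := RingHom.ker_ne_top _
  have hle : RingHom.ker π.toRingHom ≤ maximalIdeal R := IsLocalRing.le_maximalIdeal hne
  refine ⟨R, inferInstance, inferInstance, inferInstance, inferInstance, rs, ?_, hreg, ⟨?_⟩⟩
  · intro r hr
    apply hle
    rw [hker]
    exact Ideal.subset_span hr
  · exact ((Ideal.quotientKerAlgEquivOfSurjective hπ).symm).trans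
      (Ideal.quotientEquivAlgOfEq k hker)

theorem kerReg_of_isCIOver (R : Type u) [CommRing R] [IsRegularLocalRing R] [Algebra k R]
    [Algebra.EssFiniteType k R] (π : R →ₐ[k] S) (hπ : Function.Surjective π)
    (h : Synt.IsCIOver k S) : KerReg π.toRingHom := by
  obtain ⟨R', _, _, _, hess, rs', hmem, hreg, ⟨e⟩⟩ := h
  haveI := hess
  let π' : R' →ₐ[k] S := e.symm.toAlgHom.comp (Ideal.Quotient.mkₐ k (Ideal.ofList rs'))
  have hπ' : Function.Surjective π' :=
    e.symm.surjective.comp (Ideal.Quotient.mkₐ_surjective k _)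
  have hker : RingHom.ker π'.toRingHom = Ideal.ofList rs' := by
    ext x
    rw [RingHom.mem_ker]
    change e.symm (Ideal.Quotient.mk _ x) = 0 ↔ _
    rw [map_eq_zero_iff _ e.symm.injective, Ideal.Quotient.eq_zero_iff_mem]
  exact (kerReg_iff k S R' R π' hπ' π hπ).mp ⟨rs', hreg, hker⟩

theorem isCIOver_iff_kerReg (R : Type u) [CommRing R] [IsRegularLocalRing R] [Algebra k R]
    [Algebra.EssFiniteType k R] (π : R →ₐ[k] S) (hπ : Function.Surjective π) :
    Synt.IsCIOver k S ↔ KerReg π.toRingHom :=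
  ⟨kerReg_of_isCIOver k S R π hπ, isCIOver_of_kerReg k S R π hπ⟩

theorem isCIOver_of_algEquiv (S' : Type u) [CommRing S'] [IsLocalRing S'] [Algebra k S']
    (e : S ≃ₐ[k] S') (h : Synt.IsCIOver k S) : Synt.IsCIOver k S' := by
  obtain ⟨R', i1, i2, i3, hess, rs', hmem, hreg, ⟨e'⟩⟩ := h
  exact ⟨R', i1, i2, i3, hess, rs', hmem, hreg, ⟨e.symm.trans e'⟩⟩

end

section AtPrime

variable (k : Type u) [Field k] {P : Type u} [CommRing P] [Algebra k P]
  {T : Type u} [CommRing T] [Algebra k T]
  (φ : P →ₐ[k] T) (hφ : Function.Surjective φ) (𝔮 : Ideal T) [𝔮.IsPrime]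
  (𝔮' : Ideal P) [𝔮'.IsPrime] (h𝔮 : 𝔮' = 𝔮.comap φ.toRingHom)

/-- the local surjection `k[x]_{𝔮'} → T_𝔮` as an algebra map -/
noncomputable def locHomₐ : Localization.AtPrime 𝔮' →ₐ[k] Localization.AtPrime 𝔮 :=
  { Localization.localRingHom 𝔮' 𝔮 φ.toRingHom h𝔮 with
    commutes' := by
      intro c
      change Localization.localRingHom 𝔮' 𝔮 φ.toRingHom h𝔮
        (algebraMap k (Localization.AtPrime 𝔮') c) = _
      rw [IsScalarTower.algebraMap_apply k (P) (Localization.AtPrime 𝔮'),
        Localization.localRingHom_to_map,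
        IsScalarTower.algebraMap_apply k T (Localization.AtPrime 𝔮)]
      congr 1
      exact φ.commutes c }

include hφ in
theorem locHomₐ_surjective : Function.Surjective (locHomₐ k φ 𝔮 𝔮' h𝔮) := by
  subst h𝔮
  exact RingHom.surjective_localRingHom_of_surjective φ.toRingHom hφ 𝔮

include hφ in
theorem ker_locHomₐ : RingHom.ker (locHomₐ k φ 𝔮 𝔮' h𝔮).toRingHom =
    (RingHom.ker φ.toRingHom).map (algebraMap (P) (Localization.AtPrime 𝔮')) := by
  subst h𝔮
  have hT : Submonoid.map φ.toRingHom (𝔮.comap φ.toRingHom).primeCompl = 𝔮.primeCompl :=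
    Submonoid.map_comap_eq_of_surjective hφ 𝔮.primeCompl
  exact IsLocalization.ker_map (M := (𝔮.comap φ.toRingHom).primeCompl)
    (S := Localization.AtPrime (𝔮.comap φ.toRingHom)) (Localization.AtPrime 𝔮) φ.toRingHom hT

include hφ h𝔮 in
/-- `T_𝔮` is a complete intersection over `k` iff `(ker φ) k[x]_{𝔮'}` is generated by a regular sequence. -/
theorem isCIOver_atPrime_iff [Algebra.EssFiniteType k P]
    [IsRegularLocalRing (Localization.AtPrime 𝔮')] :
    Synt.IsCIOver k (Localization.AtPrime 𝔮) ↔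
      ∃ rs : List (Localization.AtPrime 𝔮'), IsRegular (Localization.AtPrime 𝔮') rs ∧
        Ideal.ofList rs =
          (RingHom.ker φ.toRingHom).map (algebraMap (P) (Localization.AtPrime 𝔮')) := by
  haveI : Algebra.EssFiniteType k (Localization.AtPrime 𝔮') := inferInstance
  rw [isCIOver_iff_kerReg k (Localization.AtPrime 𝔮) (Localization.AtPrime 𝔮')
    (locHomₐ k φ 𝔮 𝔮' h𝔮) (locHomₐ_surjective k φ hφ 𝔮 𝔮' h𝔮)]
  unfold KerReg
  rw [ker_locHomₐ k φ hφ 𝔮 𝔮' h𝔮]
  constructor
  · rintro ⟨rs, h1, h2⟩; exact ⟨rs, h1, h2.symm⟩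
  · rintro ⟨rs, h1, h2⟩; exact ⟨rs, h1, h2.symm⟩

end AtPrime

end Groth.Agent.Lib.helper17.CIField
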