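import Mathlib
import Groth.Prelude.Def_RegImm
import Groth.Agent.Lib.Helper17.CIField2

/-!
# Complete intersections over a field, part 3 (helper17)

* `isCIOver_atPrime_of_isGlobalCI` : local rings of a global complete intersection over `k` are complete
  intersections over `k`.
* `isCIOver_atPrime_away_iff`, `isCIOver_atPrime_of_isGlobalCI_away`, `isCIOver_atPrime_of_isLCIOver` :
  passing to basic open subsets.
-/

set_option autoImplicit false
set_option linter.style.haveILetI false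

namespace Groth.Agent.Lib.helper17.CIField

universe u

open IsLocalRing RingTheory.Sequence

variable (k : Type u) [Field k] {T : Type u} [CommRing T] [Algebra k T]

theorem isCIOver_atPrime_of_isGlobalCI (h : Synt.IsGlobalCI k T) (𝔮 : Ideal T) [h𝔮 : 𝔮.IsPrime] :
    Synt.IsCIOver k (Localization.AtPrime 𝔮) := by
  rcases h with hS | ⟨n, c, hcn, φ, r, hφ, hker, hdim⟩
  · exact absurd (Subsingleton.elim _ _) h𝔮.ne_top
  haveI : Nontrivial T := ⟨⟨0, 1, fun h01 => h𝔮.ne_top ((Ideal.eq_top_iff_one _).mpr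
    (h01 ▸ 𝔮.zero_mem))⟩⟩
  have hof : Ideal.ofList (List.ofFn r) = Ideal.span (Set.range r) :=
    Groth.Agent.Lib.helper17.RegTwoOfThree.ofList_ofFn r
  let e : (MvPolynomial (Fin n) k ⧸ Ideal.ofList (List.ofFn r)) ≃+* T :=
    (Ideal.quotEquivOfEq (hof.trans hker.symm)).trans
      (RingHom.quotientKerEquivOfSurjective (f := φ.toRingHom) hφ)
  have hlen : (List.ofFn r).length = c := List.length_ofFn
  have hne : Ideal.ofList (List.ofFn r) ≠ ⊤ := by
    intro htop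
    haveI : Subsingleton (MvPolynomial (Fin n) k ⧸ Ideal.ofList (List.ofFn r)) :=
      Ideal.Quotient.subsingleton_iff.mpr htop
    exact not_subsingleton T e.symm.injective.subsingleton
  have hle : ringKrullDim (MvPolynomial (Fin n) k ⧸ Ideal.ofList (List.ofFn r)) ≤
      ((n - (List.ofFn r).length : ℕ) : WithBot ℕ∞) := by
    rw [ringKrullDim_eq_of_ringEquiv e, hdim, hlen]
  haveI := Groth.Agent.Lib.helper26.CMCat.isCohenMacaulayRing_field k
  haveI hP : LocCoh.IsCohenMacaulayRing (MvPolynomial (Fin n) k) :=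
    Groth.Agent.Lib.helper26.CMPoly.isCohenMacaulayRing_mvPolynomial k n
  have hreg := (Groth.Agent.Lib.helper26.DimFormula.cm_equidim_regular k (MvPolynomial (Fin n) k) n
    (Groth.Agent.Lib.helper17.LciCM.heq_mvPolynomial k n) (List.ofFn r) (hlen.symm ▸ hcn) hne hle).2
  have hle𝔮 : Ideal.ofList (List.ofFn r) ≤ 𝔮.comap φ.toRingHom := by
    rw [hof, ← hker]
    intro x hx
    rw [Ideal.mem_comap, (RingHom.mem_ker).mp hx]
    exact 𝔮.zero_mem
  have hreg' := hreg (𝔮.comap φ.toRingHom) hle𝔮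
  rw [isCIOver_atPrime_iff k φ hφ 𝔮 (𝔮.comap φ.toRingHom) rfl]
  refine ⟨_, hreg', ?_⟩
  rw [← Ideal.map_ofList, hof, hker]

section Away

variable (g : T) (𝔮₂ : Ideal (Localization.Away g)) [𝔮₂.IsPrime]

/-- `(T_g)_{𝔮₂} ≃ T_{𝔮₂ ∩ T}` -/
noncomputable def atPrimeAwayEquiv :
    Localization.AtPrime 𝔮₂ ≃ₐ[k]
      Localization.AtPrime (𝔮₂.comap (algebraMap T (Localization.Away g))) :=
  haveI : IsLocalization.AtPrime (Localization.AtPrime 𝔮₂)
      (𝔮₂.comap (algebraMap T (Localization.Away g))) :=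
    IsLocalization.isLocalization_isLocalization_atPrime_isLocalization (Submonoid.powers g)
      (Localization.AtPrime 𝔮₂) 𝔮₂
  (IsLocalization.algEquiv (𝔮₂.comap (algebraMap T (Localization.Away g))).primeCompl
    (Localization.AtPrime 𝔮₂)
    (Localization.AtPrime (𝔮₂.comap (algebraMap T (Localization.Away g))))).restrictScalars k

theorem isCIOver_atPrime_away_iff :
    Synt.IsCIOver k (Localization.AtPrime 𝔮₂) ↔
      Synt.IsCIOver k (Localization.AtPrime (𝔮₂.comap (algebraMap T (Localization.Away g)))) :=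
  ⟨isCIOver_of_algEquiv k _ _ (atPrimeAwayEquiv k g 𝔮₂),
    isCIOver_of_algEquiv k _ _ (atPrimeAwayEquiv k g 𝔮₂).symm⟩

end Away

theorem isCIOver_atPrime_congr {𝔮 𝔮' : Ideal T} [𝔮.IsPrime] [𝔮'.IsPrime] (h : 𝔮 = 𝔮') :
    Synt.IsCIOver k (Localization.AtPrime 𝔮) ↔ Synt.IsCIOver k (Localization.AtPrime 𝔮') := by
  subst h
  rfl

/-- the prime of `T_g` corresponding to a prime `𝔮 ∌ g`. -/
theorem exists_prime_away (g : T) (𝔮 : Ideal T) [𝔮.IsPrime] (hg : g ∉ 𝔮) :
    ∃ (𝔮₂ : Ideal (Localization.Away g)) (_ : 𝔮₂.IsPrime),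
      𝔮₂.comap (algebraMap T (Localization.Away g)) = 𝔮 := by
  have hdisj : Disjoint (Submonoid.powers g : Set T) (𝔮 : Set T) := by
    rw [Set.disjoint_left]
    rintro _ ⟨m, rfl⟩ hq
    exact hg (Ideal.IsPrime.mem_of_pow_mem inferInstance _ hq)
  exact ⟨𝔮.map (algebraMap T (Localization.Away g)),
    IsLocalization.isPrime_of_isPrime_disjoint _ _ 𝔮 inferInstance hdisj,
    IsLocalization.under_map_of_isPrime_disjoint _ _ inferInstance hdisj⟩

theorem isCIOver_atPrime_of_forall_away (g : T) (𝔮 : Ideal T) [𝔮.IsPrime] (hg : g ∉ 𝔮)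
    (h : ∀ (𝔮₂ : Ideal (Localization.Away g)) [𝔮₂.IsPrime],
      Synt.IsCIOver k (Localization.AtPrime 𝔮₂)) :
    Synt.IsCIOver k (Localization.AtPrime 𝔮) := by
  obtain ⟨𝔮₂, h𝔮₂, hc⟩ := exists_prime_away g 𝔮 hg
  exact (isCIOver_atPrime_congr k hc).mp ((isCIOver_atPrime_away_iff k g 𝔮₂).mp (h 𝔮₂))

theorem isCIOver_atPrime_of_isGlobalCI_away (g : T) (𝔮 : Ideal T) [𝔮.IsPrime] (hg : g ∉ 𝔮)
    (h : Synt.IsGlobalCI k (Localization.Away g)) : Synt.IsCIOver k (Localization.AtPrime 𝔮) :=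
  isCIOver_atPrime_of_forall_away k g 𝔮 hg fun 𝔮₂ _ => isCIOver_atPrime_of_isGlobalCI k h 𝔮₂

theorem isCIOver_atPrime_of_isLCIOver (h : Synt.IsLCIOver k T) (𝔮 : Ideal T) [h𝔮 : 𝔮.IsPrime] :
    Synt.IsCIOver k (Localization.AtPrime 𝔮) := by
  obtain ⟨g, hg, hT⟩ := h.2 ⟨𝔮, h𝔮⟩
  exact isCIOver_atPrime_of_isGlobalCI_away k g 𝔮 hg hT

theorem isCIOver_atPrime_of_isLCIOver_away (g : T) (𝔮 : Ideal T) [𝔮.IsPrime] (hg : g ∉ 𝔮)
    (h : Synt.IsLCIOver k (Localization.Away g)) : Synt.IsCIOver k (Localization.AtPrime 𝔮) :=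
  isCIOver_atPrime_of_forall_away k g 𝔮 hg fun 𝔮₂ _ => isCIOver_atPrime_of_isLCIOver k h 𝔮₂

end Groth.Agent.Lib.helper17.CIField
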