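import Mathlib
import Groth.Prelude.Def_RegImm
import Groth.Agent.Lib.Helper17.CIField3
import Groth.Agent.Lib.Helper17.CIField4
import Groth.Agent.Lib.Helper17.RegNear

/-!
# Complete intersections over a field, part 5 (helper17): spreading out

* `exists_isGlobalCI_away_of_regular` : if `(ker φ) k[x]_{𝔮'}` is generated by a regular sequence then some
  basic open neighbourhood `T_g` of `𝔮` is a global complete intersection over `k`.
* `isCIOver_atPrime_iff_exists_isGlobalCI_away` : for `T` of finite type over `k`: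
  `T_𝔮` is a complete intersection over `k` iff some `T_g`, `g ∉ 𝔮`, is a global complete intersection.
-/

set_option autoImplicit false
set_option linter.style.haveILetI false

namespace Groth.Agent.Lib.helper17.CIField

universe u

open IsLocalRing RingTheory.Sequence

theorem ringKrullDim_le_of_isLocalization {R : Type*} [CommRing R] (M : Submonoid R)
    (S : Type*) [CommRing S] [Algebra R S] [IsLocalization M S] :
    ringKrullDim S ≤ ringKrullDim R := by
  rw [ringKrullDim_le_iff_height_le]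
  intro 𝔓 h𝔓
  rw [← IsLocalization.height_under M]
  exact Ideal.height_le_ringKrullDim_of_ne_top (Ideal.comap_ne_top _ h𝔓.ne_top)

variable (k : Type u) [Field k]

theorem isGlobalCI_of_algEquiv {S S' : Type u} [CommRing S] [CommRing S'] [Algebra k S]
    [Algebra k S'] (e : S ≃ₐ[k] S') (h : Synt.IsGlobalCI k S) : Synt.IsGlobalCI k S' := by
  rcases h with hS | ⟨n, c, hcn, φ, r, hφ, hker, hdim⟩
  · exact Or.inl e.symm.injective.subsingleton
  · refine Or.inr ⟨n, c, hcn, e.toAlgHom.comp φ, r, e.surjective.comp hφ, ?_, ?_⟩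
    · rw [← hker]
      ext x
      rw [RingHom.mem_ker, RingHom.mem_ker]
      change e (φ x) = 0 ↔ φ x = 0
      exact map_eq_zero_iff _ e.injective
    · rw [← ringKrullDim_eq_of_ringEquiv e.toRingEquiv, hdim]

theorem awayQuotEquiv {P T : Type u} [CommRing P] [CommRing T] [Algebra k P] [Algebra k T]
    (φ : P →ₐ[k] T) (hφ : Function.Surjective φ) (g' : P) (B : Type u) [CommRing B] [Algebra P B]
    [Algebra k B] [IsScalarTower k P B] [IsLocalization.Away g' B] (J : Ideal B)
    (hJ : J = (RingHom.ker φ.toRingHom).map (algebraMap P B)) :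
    Nonempty (Localization.Away (φ g') ≃ₐ[k] B ⧸ J) := by
  let ψ0 : P →ₐ[k] B ⧸ J := (Ideal.Quotient.mkₐ k J).comp (IsScalarTower.toAlgHom k P B)
  have hker : RingHom.ker φ.toRingHom ≤ RingHom.ker ψ0.toRingHom := by
    intro x hx
    rw [RingHom.mem_ker]
    change Ideal.Quotient.mk J (algebraMap P B x) = 0
    rw [Ideal.Quotient.eq_zero_iff_mem, hJ]
    exact Ideal.mem_map_of_mem _ hx
  let θ : T →ₐ[k] B ⧸ J := AlgHom.liftOfSurjective φ hφ ψ0 hker
  have hθ : ∀ x, θ (φ x) = Ideal.Quotient.mk J (algebraMap P B x) := fun x =>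
    AlgHom.liftOfSurjective_apply φ hφ ψ0 hker x
  letI : Algebra T (B ⧸ J) := θ.toRingHom.toAlgebra
  haveI : IsScalarTower k T (B ⧸ J) := IsScalarTower.of_algebraMap_eq fun c => (θ.commutes c).symm
  have hloc : IsLocalization (Submonoid.map φ.toRingHom (Submonoid.powers g')) (B ⧸ J) := by
    refine IsLocalization.of_surjective (Submonoid.powers g') B φ.toRingHom hφ (Ideal.Quotient.mk J)
      Ideal.Quotient.mk_surjective ?_ ?_
    · ext x
      exact (hθ x).symm
    · rw [Ideal.mk_ker, hJ]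
  have hpow : Submonoid.map φ.toRingHom (Submonoid.powers g') = Submonoid.powers (φ g') :=
    Submonoid.map_powers _ _
  rw [hpow] at hloc
  haveI : IsLocalization.Away (φ g') (B ⧸ J) := hloc
  exact ⟨(IsLocalization.algEquiv (Submonoid.powers (φ g')) (Localization.Away (φ g'))
    (B ⧸ J)).restrictScalars k⟩

theorem exists_isGlobalCI_away_of_regular (n : ℕ) {T : Type u} [CommRing T] [Algebra k T]
    (φ : MvPolynomial (Fin n) k →ₐ[k] T) (hφ : Function.Surjective φ) (𝔮 : Ideal T) [𝔮.IsPrime]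
    (𝔮' : Ideal (MvPolynomial (Fin n) k)) [𝔮'.IsPrime] (h𝔮 : 𝔮' = 𝔮.comap φ.toRingHom)
    (rs : List (Localization.AtPrime 𝔮')) (hreg : IsWeaklyRegular (Localization.AtPrime 𝔮') rs)
    (hrs : Ideal.ofList rs = (RingHom.ker φ.toRingHom).map
      (algebraMap (MvPolynomial (Fin n) k) (Localization.AtPrime 𝔮'))) :
    ∃ g : T, g ∉ 𝔮 ∧ Synt.IsGlobalCI k (Localization.Away g) := by
  classical
  have hI𝔮 : RingHom.ker φ.toRingHom ≤ 𝔮' := by
    intro x hx
    rw [h𝔮, Ideal.mem_comap, (RingHom.mem_ker).mp hx]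
    exact 𝔮.zero_mem
  obtain ⟨g', hg', ks, hlen, hksI, hB⟩ := Groth.Agent.Lib.helper17.RegNear.spread_regular' 𝔮'
    (RingHom.ker φ.toRingHom) hI𝔮 (Localization.AtPrime 𝔮') rs hreg hrs.symm
  let B := Localization.Away g'
  obtain ⟨hregB, hIB⟩ := hB B
  set ks' : List B := ks.map (algebraMap (MvPolynomial (Fin n) k) B) with hks'
  obtain ⟨Φ, r0, hΦ, hkerΦ⟩ := exists_presentation_away k n g' B
  let r' : Fin ks'.length → MvPolynomial (Fin (n + 1)) k := fun i => Function.surjInv hΦ (ks'.get i)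
  have hΦr' : (Φ ∘ r') = ks'.get := by
    funext i
    exact Function.surjInv_eq hΦ _
  set J : Ideal B := Ideal.span (Set.range (Φ ∘ r')) with hJdef
  have hJ1 : J = Ideal.ofList ks' := by
    rw [hJdef, hΦr', Set.range_list_get]
  have hJ2 : J = (RingHom.ker φ.toRingHom).map (algebraMap (MvPolynomial (Fin n) k) B) := by
    rw [hJ1, hIB]
  have hJne : J ≠ ⊤ := by
    intro htop
    apply hregB.2
    rw [smul_eq_mul, Ideal.mul_top, ← hJ1, htop]
  haveI : Nontrivial (B ⧸ J) := Ideal.Quotient.nontrivial_iff.mpr hJne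
  let Ψ : MvPolynomial (Fin (n + 1)) k →ₐ[k] B ⧸ J := (Ideal.Quotient.mkₐ k J).comp Φ
  have hΨ : Function.Surjective Ψ := (Ideal.Quotient.mkₐ_surjective k J).comp hΦ
  have hkerΨ : RingHom.ker Ψ.toRingHom = Ideal.span (Set.range (Fin.append r0 r')) :=
    ker_comp_mk k Φ hΦ r0 hkerΦ r'
  -- dimension
  have hd1 : ringKrullDim (B ⧸ J) + (ks'.length : WithBot ℕ∞) ≤ (n : WithBot ℕ∞) := by
    have h1 := dim_quot_add_length_le ks'.length B ks' rfl hregB.toIsWeaklyRegular
    rw [← ringKrullDim_eq_of_ringEquiv (Ideal.quotEquivOfEq hJ1)] at h1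
    refine h1.trans ?_
    refine (ringKrullDim_le_of_isLocalization (Submonoid.powers g') B).trans ?_
    rw [MvPolynomial.ringKrullDim_of_isNoetherianRing, ringKrullDim_eq_zero_of_field]
    simp
  have hne : Ideal.span (Set.range (Fin.append r0 r')) ≠ ⊤ := by
    rw [← hkerΨ]
    exact RingHom.ker_ne_top _
  have hd2 := le_dim_mvPolynomial_quot k (n + 1) (1 + ks'.length) (Fin.append r0 r') hne
  rw [ringKrullDim_eq_of_ringEquiv ((Ideal.quotEquivOfEq hkerΨ.symm).trans
    (RingHom.quotientKerEquivOfSurjective (f := Ψ.toRingHom) hΨ))] at hd2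
  have hdim : 1 + ks'.length ≤ n + 1 ∧
      ringKrullDim (B ⧸ J) = ((n + 1 - (1 + ks'.length) : ℕ) : WithBot ℕ∞) := by
    cases hE : ringKrullDim (B ⧸ J) with
    | bot => rw [hE] at hd2; simp at hd2
    | coe e =>
      rw [hE] at hd1 hd2
      cases e with
      | top =>
        exfalso
        have : ((⊤ : ℕ∞) : WithBot ℕ∞) + ((ks'.length : ℕ∞) : WithBot ℕ∞) ≤
            ((n : ℕ∞) : WithBot ℕ∞) := hd1
        rw [← WithBot.coe_add, top_add, WithBot.coe_le_coe] at this
        exact ENat.natCast_ne_top n (top_le_iff.mp this)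
      | coe e =>
        have h1 : e + ks'.length ≤ n := by exact_mod_cast hd1
        have h2 : n + 1 - (1 + ks'.length) ≤ e := by
          have h2' : (((n + 1 - (1 + ks'.length) : ℕ) : ℕ∞) : WithBot ℕ∞) ≤
              (((e : ℕ) : ℕ∞) : WithBot ℕ∞) := hd2
          rwa [WithBot.coe_le_coe, Nat.cast_le] at h2'
        refine ⟨by omega, ?_⟩
        have : e = n + 1 - (1 + ks'.length) := by omega
        rw [this]
        rfl
  have hGCI : Synt.IsGlobalCI k (B ⧸ J) :=
    Or.inr ⟨n + 1, 1 + ks'.length, hdim.1, Ψ, Fin.append r0 r', hΨ, hkerΨ, hdim.2⟩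
  obtain ⟨e⟩ := awayQuotEquiv k φ hφ g' B J hJ2
  refine ⟨φ g', ?_, isGlobalCI_of_algEquiv k e.symm hGCI⟩
  intro hmem
  apply hg'
  rw [h𝔮]
  exact hmem

end Groth.Agent.Lib.helper17.CIField
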