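import Mathlib
import Groth.Prelude.Def_RegImm
import Groth.Agent.Lib.Helper17.CIField5
import Groth.Agent.Lib.Helper26.CM2
import Groth.Agent.Lib.Helper26.Depth7

/-!
# Complete intersections over a field, part 6 (helper17): the main local–global equivalences

* `isCIOver_atPrime_iff_exists_isGlobalCI_away` : `T` of finite type over `k`, `𝔮` prime:
  `T_𝔮` is a complete intersection over `k` iff some `T_g`, `g ∉ 𝔮`, is a global complete intersection.
* `isLCIOver_of_isGlobalCI`.
* `isLCIOver_iff_forall_isCIOver` : `T` f.t. is LCI iff all local rings are CI.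
* `isRegular_of_dim_quot` : in a regular local ring, a list in the maximal ideal cutting the dimension by its
  length is a regular sequence.
-/

set_option autoImplicit false
set_option linter.style.haveILetI false

namespace Groth.Agent.Lib.helper17.CIField

universe u

open IsLocalRing RingTheory.Sequence

variable (k : Type u) [Field k]

theorem isCIOver_atPrime_iff_exists_isGlobalCI_away {T : Type u} [CommRing T] [Algebra k T]
    [hft : Algebra.FiniteType k T] (𝔮 : Ideal T) [𝔮.IsPrime] :
    Synt.IsCIOver k (Localization.AtPrime 𝔮) ↔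
      ∃ g : T, g ∉ 𝔮 ∧ Synt.IsGlobalCI k (Localization.Away g) := by
  constructor
  · intro h
    obtain ⟨n, φ, hφ⟩ := Algebra.FiniteType.iff_quotient_mvPolynomial''.mp hft
    obtain ⟨rs, hreg, hrs⟩ := (isCIOver_atPrime_iff k φ hφ 𝔮 (𝔮.comap φ.toRingHom) rfl).mp h
    exact exists_isGlobalCI_away_of_regular k n φ hφ 𝔮 (𝔮.comap φ.toRingHom) rfl rs
      hreg.toIsWeaklyRegular hrs
  · rintro ⟨g, hg, h⟩
    exact isCIOver_atPrime_of_isGlobalCI_away k g 𝔮 hg h

theorem isLCIOver_of_isGlobalCI {T : Type u} [CommRing T] [Algebra k T]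
    [hft : Algebra.FiniteType k T] (h : Synt.IsGlobalCI k T) : Synt.IsLCIOver k T := by
  refine ⟨hft, fun p => ⟨1, ?_, ?_⟩⟩
  · intro h1
    exact p.2.ne_top ((Ideal.eq_top_iff_one _).mpr h1)
  · have e : T ≃ₐ[T] Localization.Away (1 : T) :=
      IsLocalization.atUnits T (Submonoid.powers (1 : T)) (by
        rintro _ ⟨m, rfl⟩
        simp)
    exact isGlobalCI_of_algEquiv k (e.restrictScalars k) h

theorem isLCIOver_iff_forall_isCIOver {T : Type u} [CommRing T] [Algebra k T]
    [hft : Algebra.FiniteType k T] :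
    Synt.IsLCIOver k T ↔ ∀ p : PrimeSpectrum T, Synt.IsCIOver k (Localization.AtPrime p.asIdeal) := by
  constructor
  · intro h p
    exact isCIOver_atPrime_of_isLCIOver k h p.asIdeal
  · intro h
    exact ⟨hft, fun p => (isCIOver_atPrime_iff_exists_isGlobalCI_away k p.asIdeal).mp (h p)⟩

theorem isLCIOver_iff_forall_maximal_isCIOver {T : Type u} [CommRing T] [Algebra k T]
    [hft : Algebra.FiniteType k T] :
    Synt.IsLCIOver k T ↔
      ∀ m : MaximalSpectrum T, Synt.IsCIOver k (Localization.AtPrime m.asIdeal) := by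
  constructor
  · intro h m
    exact isCIOver_atPrime_of_isLCIOver k h m.asIdeal
  · intro h
    refine ⟨hft, fun p => ?_⟩
    obtain ⟨m, hm, hpm⟩ := Ideal.exists_le_maximal p.asIdeal p.2.ne_top
    obtain ⟨g, hg, hG⟩ := (isCIOver_atPrime_iff_exists_isGlobalCI_away k m).mp (h ⟨m, hm⟩)
    exact ⟨g, fun hgp => hg (hpm hgp), hG⟩

theorem isRegular_of_dim_quot (A : Type u) [CommRing A] [IsRegularLocalRing A] (xs : List A)
    (hmem : ∀ x ∈ xs, x ∈ maximalIdeal A)
    (hdim : ringKrullDim (A ⧸ Ideal.ofList xs) + (xs.length : WithBot ℕ∞) = ringKrullDim A) :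
    IsRegular A xs := by
  have hCM : LocCoh.IsCohenMacaulayModule A A := by
    unfold LocCoh.IsCohenMacaulayModule
    rw [Module.supportDim_self_eq_ringKrullDim]
    exact (Groth.Agent.Lib.helper26.Depth.depth_eq_ringKrullDim_of_isRegularLocalRing A).symm
  have hsub : (Ideal.ofList xs • ⊤ : Submodule A A) = Ideal.ofList xs := by
    rw [smul_eq_mul, Ideal.mul_top]
  have hw := Groth.Agent.Lib.helper26.Depth.isWeaklyRegular_of_supportDim_quot_ofList xs A hCM hmem (by
    rw [Module.supportDim_self_eq_ringKrullDim, ← hdim]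
    congr 1
    rw [Module.supportDim_eq_of_equiv (Submodule.quotEquivOfEq _ _ hsub)]
    exact Module.supportDim_quotient_eq_ringKrullDim _)
  refine ⟨hw, ?_⟩
  rw [hsub]
  intro htop
  have hle : Ideal.ofList xs ≤ maximalIdeal A := Ideal.span_le.mpr fun x hx => hmem x hx
  rw [← htop] at hle
  exact (maximalIdeal.isMaximal A).ne_top (top_le_iff.mp hle)

end Groth.Agent.Lib.helper17.CIField
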