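import Mathlib
import Groth.Prelude.Def_RegImm
import Groth.Agent.Lib.Helper17.CIField6

/-!
# Complete intersections over a field, part 7 (helper17): regular sequences vs number of generators

* `regular_iff_card` : in a regular local ring `A`, for a proper ideal `J` with `dim A/J + c = dim A`:
  `J` is generated by a regular sequence iff it is generated by `c` elements.
-/

set_option autoImplicit false
set_option linter.style.haveILetI false

namespace Groth.Agent.Lib.helper17.CIField

universe u

open IsLocalRing RingTheory.Sequence

theorem exists_nat_dim_quot (A : Type u) [CommRing A] [IsNoetherianRing A] [IsLocalRing A]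
    (J : Ideal A) (c : ℕ)
    (hdim : ringKrullDim (A ⧸ J) + (c : WithBot ℕ∞) = ringKrullDim A) :
    ∃ d : ℕ, ringKrullDim (A ⧸ J) = (d : WithBot ℕ∞) := by
  cases hE : ringKrullDim (A ⧸ J) with
  | bot =>
    rw [hE] at hdim
    exact absurd hdim.symm (by simpa using ringKrullDim_ne_bot (R := A))
  | coe e =>
    cases e with
    | top =>
      exfalso
      rw [hE] at hdim
      have h1 : ((⊤ : ℕ∞) : WithBot ℕ∞) + ((c : ℕ∞) : WithBot ℕ∞) = ringKrullDim A := hdim
      rw [← WithBot.coe_add, top_add] at h1
      exact ringKrullDim_ne_top (R := A) h1.symm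
    | coe e => exact ⟨e, rfl⟩

theorem regular_iff_card (A : Type u) [CommRing A] [IsRegularLocalRing A] (J : Ideal A)
    (hJ : J ≠ ⊤) (c : ℕ)
    (hdim : ringKrullDim (A ⧸ J) + (c : WithBot ℕ∞) = ringKrullDim A) :
    (∃ rs : List A, IsRegular A rs ∧ Ideal.ofList rs = J) ↔
      (∃ s : Finset A, s.card = c ∧ Ideal.span (s : Set A) = J) := by
  classical
  obtain ⟨d, hd⟩ := exists_nat_dim_quot A J c hdim
  have hJle : J ≤ maximalIdeal A := IsLocalRing.le_maximalIdeal hJ
  constructor
  · rintro ⟨rs, hreg, rfl⟩
    have h1 := ringKrullDim_add_length_eq_ringKrullDim_of_isRegular rs hreg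
    rw [← hdim, hd] at h1
    have hlen : rs.length = c := by
      have : d + rs.length = d + c := by exact_mod_cast h1
      omega
    refine ⟨rs.toFinset, ?_, ?_⟩
    · apply le_antisymm
      · rw [← hlen]; exact List.toFinset_card_le rs
      · have hsub : ((rs.toFinset : Finset A) : Set A) ⊆ Ring.jacobson A := by
          rw [IsLocalRing.ringJacobson_eq_maximalIdeal]
          intro x hx
          rw [List.coe_toFinset] at hx
          exact hJle (Ideal.subset_span hx)
        have h2 := ringKrullDim_le_ringKrullDim_quotient_add_card rs.toFinset hsub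
        have hspan : Ideal.span ((rs.toFinset : Finset A) : Set A) = Ideal.ofList rs := by
          rw [List.coe_toFinset]
        rw [ringKrullDim_eq_of_ringEquiv (Ideal.quotEquivOfEq hspan), ← hdim, hd] at h2
        have : d + c ≤ d + rs.toFinset.card := by exact_mod_cast h2
        omega
    · rw [List.coe_toFinset]
  · rintro ⟨s, hcard, rfl⟩
    refine ⟨s.toList, ?_, ?_⟩
    · apply isRegular_of_dim_quot
      · intro x hx
        rw [Finset.mem_toList] at hx
        exact hJle (Ideal.subset_span hx)
      · have hspan : Ideal.ofList s.toList = Ideal.span (s : Set A) := by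
          change Ideal.span {x | x ∈ s.toList} = _
          congr 1
          ext x
          simp
        rw [ringKrullDim_eq_of_ringEquiv (Ideal.quotEquivOfEq hspan), Finset.length_toList, hcard]
        exact hdim
    · change Ideal.span {x | x ∈ s.toList} = _
      congr 1
      ext x
      simp

end Groth.Agent.Lib.helper17.CIField
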