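import Mathlib
import Groth.Prelude.Def_RegImm
import Groth.Agent.Lib.Helper17.CIField7

/-!
# Complete intersections over a field, part 8 (helper17)

* `exists_finiteType_atPrime` : a local `k`-algebra essentially of finite type is the localization of a finite
  type `k`-algebra at a prime.
* `exists_isGlobalCI_atPrime_of_isCIOver` : a complete intersection over `k` is a localization of a global complete
  intersection at a prime.
-/

set_option autoImplicit false
set_option linter.style.haveILetI false

namespace Groth.Agent.Lib.helper17.CIField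

universe u

open IsLocalRing RingTheory.Sequence

variable (k : Type u) [Field k]

/-- transport along an equality of primes -/
noncomputable def atPrimeCongr {T : Type u} [CommRing T] [Algebra k T] {𝔮 𝔮' : Ideal T}
    [h1 : 𝔮.IsPrime] [h2 : 𝔮'.IsPrime] (h : 𝔮 = 𝔮') :
    Localization.AtPrime 𝔮 ≃ₐ[k] Localization.AtPrime 𝔮' := by
  subst h
  exact AlgEquiv.refl

theorem exists_finiteType_atPrime (S : Type u) [CommRing S] [IsLocalRing S] [Algebra k S]
    [Algebra.EssFiniteType k S] :
    ∃ (T : Type u) (_ : CommRing T) (_ : Algebra k T) (_ : Algebra.FiniteType k T) (a : Ideal T)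
      (_ : a.IsPrime), Nonempty (S ≃ₐ[k] Localization.AtPrime a) := by
  classical
  obtain ⟨ι, hι, ψ, hψ⟩ := exists_cover k S
  let P := MvPolynomial ι k
  let T := P ⧸ RingHom.ker ψ.toRingHom
  let θ : T →ₐ[k] S := Ideal.Quotient.liftₐ (RingHom.ker ψ.toRingHom) ψ (fun x hx => hx)
  have hθ : ∀ x : P, θ (Ideal.Quotient.mk _ x) = ψ x := fun x => rfl
  letI : Algebra T S := θ.toRingHom.toAlgebra
  haveI : IsScalarTower k T S := IsScalarTower.of_algebraMap_eq fun c => (θ.commutes c).symm
  let a : Ideal T := (maximalIdeal S).comap (algebraMap T S)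
  haveI ha : a.IsPrime := Ideal.comap_isPrime _ _
  have hmem : ∀ x : P, x ∈ primeOf k S ψ ↔ ψ x ∈ maximalIdeal S := fun x => Iff.rfl
  have hloc : IsLocalization (Submonoid.map (Ideal.Quotient.mk (RingHom.ker ψ.toRingHom))
      (primeOf k S ψ).primeCompl) S := by
    refine IsLocalization.of_surjective (primeOf k S ψ).primeCompl
      (Localization.AtPrime (primeOf k S ψ)) (Ideal.Quotient.mk (RingHom.ker ψ.toRingHom))
      Ideal.Quotient.mk_surjective (locMap k S ψ) hψ ?_ ?_
    · rw [locMap_comp]
      exact RingHom.ext fun x => rfl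
    · intro x hx
      obtain ⟨a0, s, rfl⟩ := IsLocalization.exists_mk'_eq (primeOf k S ψ).primeCompl x
      rw [RingHom.mem_ker] at hx
      unfold locMap at hx
      rw [IsLocalization.lift_mk'_spec, mul_zero] at hx
      rw [Ideal.mk_ker, IsLocalization.mk'_mem_map_algebraMap_iff]
      exact ⟨1, Submonoid.one_mem _, by rw [one_mul]; exact hx⟩
  have hM : Submonoid.map (Ideal.Quotient.mk (RingHom.ker ψ.toRingHom))
      (primeOf k S ψ).primeCompl = a.primeCompl := by
    ext t
    constructor
    · rintro ⟨x, hx, rfl⟩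
      change ¬ (θ (Ideal.Quotient.mk _ x) ∈ maximalIdeal S)
      rw [hθ]
      exact hx
    · intro ht
      obtain ⟨x, rfl⟩ := Ideal.Quotient.mk_surjective t
      refine ⟨x, ?_, rfl⟩
      change ¬ (ψ x ∈ maximalIdeal S)
      exact ht
  rw [hM] at hloc
  haveI : IsLocalization.AtPrime S a := hloc
  haveI : Algebra.FiniteType k T := inferInstance
  refine ⟨T, inferInstance, inferInstance, inferInstance, a, ha, ⟨?_⟩⟩
  exact ((IsLocalization.algEquiv a.primeCompl S (Localization.AtPrime a)).restrictScalars k)

theorem exists_isGlobalCI_atPrime_of_isCIOver (S : Type u) [CommRing S] [IsLocalRing S]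
    [Algebra k S] [Algebra.EssFiniteType k S] (h : Synt.IsCIOver k S) :
    ∃ (A : Type u) (_ : CommRing A) (_ : Algebra k A) (a : Ideal A) (_ : a.IsPrime),
      Algebra.FiniteType k A ∧ Synt.IsGlobalCI k A ∧ Nonempty (S ≃ₐ[k] Localization.AtPrime a) := by
  obtain ⟨T, _, _, hft, a, ha, ⟨e⟩⟩ := exists_finiteType_atPrime k S
  have h1 : Synt.IsCIOver k (Localization.AtPrime a) := isCIOver_of_algEquiv k _ _ e h
  obtain ⟨g, hg, hG⟩ := (isCIOver_atPrime_iff_exists_isGlobalCI_away k a).mp h1
  obtain ⟨a₂, ha₂, hc⟩ := exists_prime_away g a hg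
  haveI : Algebra.FiniteType k (Localization.Away g) :=
    Algebra.FiniteType.trans (S := T) inferInstance inferInstance
  refine ⟨Localization.Away g, inferInstance, inferInstance, a₂, ha₂, inferInstance, hG, ⟨?_⟩⟩
  exact e.trans ((atPrimeCongr k hc.symm).trans (atPrimeAwayEquiv k g a₂).symm)

end Groth.Agent.Lib.helper17.CIField
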