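import Mathlib
import Groth.Prelude.Def_RegImm
import Groth.Agent.Lib.Helper17.CIField8

/-!
# Complete intersections over a field, part 9 (helper17)

* `isCIOver_of_isRegularLocalRing` : a regular local ring essentially of finite type over `k` is a complete
  intersection over `k`.
* `exists_isGlobalCI_away_of_isDomain` : a finite type `k`-domain has a nonzero `g` with `A_g` a global complete
  intersection.
-/

set_option autoImplicit false
set_option linter.style.haveILetI false

namespace Groth.Agent.Lib.helper17.CIField

universe u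

open IsLocalRing RingTheory.Sequence

variable (k : Type u) [Field k]

theorem isCIOver_of_isRegularLocalRing (S : Type u) [CommRing S]
    [IsRegularLocalRing S] [Algebra k S] [Algebra.EssFiniteType k S] : Synt.IsCIOver k S := by
  refine ⟨S, inferInstance, inferInstance, inferInstance, inferInstance, [], ?_, ?_, ⟨?_⟩⟩
  · intro r hr
    simp at hr
  · refine ⟨IsWeaklyRegular.nil S S, ?_⟩
    rw [Ideal.ofList_nil, Submodule.bot_smul]
    exact (bot_ne_top : (⊥ : Submodule S S) ≠ ⊤).symm
  · have h0 : Ideal.ofList ([] : List S) = ⊥ := Ideal.ofList_nil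
    exact (AlgEquiv.quotientBot k S).symm.trans (Ideal.quotientEquivAlgOfEq k h0.symm)

theorem exists_isGlobalCI_away_of_isDomain (A : Type u) [CommRing A] [IsDomain A] [Algebra k A]
    [Algebra.FiniteType k A] : ∃ g : A, g ≠ 0 ∧ Synt.IsGlobalCI k (Localization.Away g) := by
  haveI : (⊥ : Ideal A).IsPrime := Ideal.isPrime_bot
  haveI hfr : IsFractionRing A (Localization.AtPrime (⊥ : Ideal A)) := by
    simpa [Ideal.primeCompl_bot] using Localization.isLocalization (M := (⊥ : Ideal A).primeCompl)
  let e : FractionRing A ≃ₐ[A] Localization.AtPrime (⊥ : Ideal A) :=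
    IsLocalization.algEquiv (nonZeroDivisors A) _ _
  haveI : IsRegularLocalRing (Localization.AtPrime (⊥ : Ideal A)) :=
    IsRegularLocalRing.of_ringEquiv e.toRingEquiv
  have h1 : Synt.IsCIOver k (Localization.AtPrime (⊥ : Ideal A)) :=
    isCIOver_of_isRegularLocalRing k _
  obtain ⟨g, hg, hG⟩ := (isCIOver_atPrime_iff_exists_isGlobalCI_away k (⊥ : Ideal A)).mp h1
  exact ⟨g, fun h => hg (h ▸ Ideal.zero_mem _), hG⟩

end Groth.Agent.Lib.helper17.CIField
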