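import Mathlib
import Groth.Prelude.Def_RegImm
import Groth.Agent.Lib.Helper17.CIField9

/-!
# Complete intersections over a field, part 10 (helper17): localization of global/local complete intersections

* `isGlobalCI_away` : `S` global complete intersection over `k` ⇒ so is `S_g`.
* `isLCIOver_away` : `S` local complete intersection over `k` ⇒ so is `S_g`.
-/

set_option autoImplicit false
set_option linter.style.haveILetI false

namespace Groth.Agent.Lib.helper17.CIField

universe u

open IsLocalRing RingTheory.Sequence

variable (k : Type u) [Field k]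

theorem exists_presentation_away' {S : Type u} [CommRing S] [Algebra k S] (n c : ℕ)
    (φ : MvPolynomial (Fin n) k →ₐ[k] S) (r : Fin c → MvPolynomial (Fin n) k)
    (hφ : Function.Surjective φ) (hker : RingHom.ker φ.toRingHom = Ideal.span (Set.range r))
    (g : S) :
    ∃ (Φ : MvPolynomial (Fin (n + 1)) k →ₐ[k] Localization.Away g)
      (r' : Fin (c + 1) → MvPolynomial (Fin (n + 1)) k),
      Function.Surjective Φ ∧ RingHom.ker Φ.toRingHom = Ideal.span (Set.range r') := by
  have haeval : MvPolynomial.aeval (R := k) (φ ∘ MvPolynomial.X) = φ := by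
    apply MvPolynomial.algHom_ext
    intro i
    simp
  let presS : Algebra.Presentation k S (Fin n) (Fin c) :=
    { Algebra.Generators.ofAlgHom φ hφ with
      relation := r
      span_range_relation_eq_ker := by
        rw [Algebra.Generators.ker_eq_ker_aeval_val]
        change _ = RingHom.ker (MvPolynomial.aeval (R := k) (φ ∘ MvPolynomial.X))
        rw [haeval, ← hker]
        rfl }
  let e1 : Fin (n + 1) ≃ Unit ⊕ Fin n :=
    ((finCongr (Nat.add_comm n 1)).trans finSumFinEquiv.symm).trans
      (Equiv.sumCongr (Equiv.equivPUnit (Fin 1)) (Equiv.refl _))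
  let e2 : Fin (c + 1) ≃ Unit ⊕ Fin c :=
    ((finCongr (Nat.add_comm c 1)).trans finSumFinEquiv.symm).trans
      (Equiv.sumCongr (Equiv.equivPUnit (Fin 1)) (Equiv.refl _))
  let pres : Algebra.Presentation k (Localization.Away g) (Fin (n + 1)) (Fin (c + 1)) :=
    ((Algebra.Presentation.localizationAway (Localization.Away g) g).comp presS).reindex e1 e2
  obtain ⟨h1, h2⟩ := exists_of_presentation k pres
  exact ⟨MvPolynomial.aeval pres.val, pres.relation, h1, h2⟩

theorem isGlobalCI_away {S : Type u} [CommRing S] [Algebra k S] (g : S)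
    (h : Synt.IsGlobalCI k S) : Synt.IsGlobalCI k (Localization.Away g) := by
  by_cases hsub : Subsingleton (Localization.Away g)
  · exact Or.inl hsub
  rw [not_subsingleton_iff_nontrivial] at hsub
  rcases h with hS | ⟨n, c, hcn, φ, r, hφ, hker, hdim⟩
  · exfalso
    have : (1 : Localization.Away g) = 0 := by
      rw [← map_one (algebraMap S (Localization.Away g)), Subsingleton.elim (1 : S) 0, map_zero]
    exact one_ne_zero this
  obtain ⟨Φ, r', hΦ, hkerΦ⟩ := exists_presentation_away' k n c φ r hφ hker g
  have hne : Ideal.span (Set.range r') ≠ ⊤ := by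
    rw [← hkerΦ]
    exact RingHom.ker_ne_top _
  have hd2 := le_dim_mvPolynomial_quot k (n + 1) (c + 1) r' hne
  rw [ringKrullDim_eq_of_ringEquiv ((Ideal.quotEquivOfEq hkerΦ.symm).trans
    (RingHom.quotientKerEquivOfSurjective (f := Φ.toRingHom) hΦ))] at hd2
  have hd1 : ringKrullDim (Localization.Away g) ≤ ((n - c : ℕ) : WithBot ℕ∞) := by
    rw [← hdim]
    exact ringKrullDim_le_of_isLocalization (Submonoid.powers g) _
  refine Or.inr ⟨n + 1, c + 1, by omega, Φ, r', hΦ, hkerΦ, ?_⟩
  have heq : n + 1 - (c + 1) = n - c := by omega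
  rw [heq] at hd2 ⊢
  exact le_antisymm hd1 hd2

theorem isLCIOver_away {S : Type u} [CommRing S] [Algebra k S] (g : S)
    (h : Synt.IsLCIOver k S) : Synt.IsLCIOver k (Localization.Away g) := by
  haveI := h.1
  haveI : Algebra.FiniteType k (Localization.Away g) :=
    Algebra.FiniteType.trans (S := S) inferInstance inferInstance
  rw [isLCIOver_iff_forall_isCIOver k]
  intro p
  rw [isCIOver_atPrime_away_iff k g p.asIdeal]
  exact isCIOver_atPrime_of_isLCIOver k h _

end Groth.Agent.Lib.helper17.CIField
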