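import Mathlib
import Groth.Prelude.Def_RegImm
import Groth.Agent.Lib.Helper17.CIField10

/-!
# Complete intersections over a field, part 11 (helper17): change of base field along an isomorphism

* `isGlobalCI_transfer`, `isLCIOver_transfer` : transport along `σ : k ≃+* κ`, `τ : S ≃+* S'` semilinear.
* `isLCIOver_fiber_iff` : for a ring `R ≃+* k`, the fibre `κ(𝔭) ⊗_R S` is LCI over `κ(𝔭)` iff `S` is LCI over `k`.
-/

set_option autoImplicit false
set_option linter.style.haveILetI false

namespace Groth.Agent.Lib.helper17.CIField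

universe u

open IsLocalRing RingTheory.Sequence TensorProduct

section Transfer

variable {k κ : Type u} [Field k] [Field κ] (σ : k ≃+* κ) {S S' : Type u} [CommRing S] [CommRing S']
  [Algebra k S] [Algebra κ S'] (τ : S ≃+* S')
  (hτ : ∀ c, τ (algebraMap k S c) = algebraMap κ S' (σ c))

include hτ in
theorem exists_transfer_hom (n : ℕ) (φ : MvPolynomial (Fin n) k →ₐ[k] S) :
    ∃ φ' : MvPolynomial (Fin n) κ →ₐ[κ] S',
      ∀ x, φ' (MvPolynomial.map (σ : k →+* κ) x) = τ (φ x) := by
  refine ⟨MvPolynomial.aeval (fun i => τ (φ (MvPolynomial.X i))), ?_⟩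
  intro x
  induction x using MvPolynomial.induction_on with
  | C a =>
    rw [MvPolynomial.map_C, MvPolynomial.aeval_C, MvPolynomial.algHom_C]
    exact (hτ a).symm
  | add p q hp hq => rw [map_add, map_add, hp, hq, map_add, map_add]
  | mul_X p i hp =>
    rw [map_mul, map_mul, hp, MvPolynomial.map_X, MvPolynomial.aeval_X, map_mul, map_mul]

include hτ in
theorem isGlobalCI_transfer (h : Synt.IsGlobalCI k S) : Synt.IsGlobalCI κ S' := by
  rcases h with hS | ⟨n, c, hcn, φ, r, hφ, hker, hdim⟩
  · exact Or.inl τ.symm.injective.subsingleton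
  · obtain ⟨φ', hφ'⟩ := exists_transfer_hom σ τ hτ n φ
    let E : MvPolynomial (Fin n) k ≃+* MvPolynomial (Fin n) κ := MvPolynomial.mapEquiv (Fin n) σ
    have hE : ∀ x, E x = MvPolynomial.map (σ : k →+* κ) x := fun x => rfl
    refine Or.inr ⟨n, c, hcn, φ', fun i => E (r i), ?_, ?_, ?_⟩
    · intro y
      obtain ⟨x, hx⟩ := hφ (τ.symm y)
      exact ⟨E x, by rw [hE, hφ', hx, τ.apply_symm_apply]⟩
    · have hspan : Ideal.span (Set.range fun i => E (r i)) =
          (Ideal.span (Set.range r)).map (E : MvPolynomial (Fin n) k →+* MvPolynomial (Fin n) κ) := by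
        rw [Ideal.map_span, ← Set.range_comp]
        rfl
      rw [hspan, ← hker]
      ext x'
      obtain ⟨x, rfl⟩ := E.surjective x'
      rw [RingHom.mem_ker]
      change φ' (E x) = 0 ↔ _
      rw [hE, hφ', map_eq_zero_iff _ τ.injective]
      constructor
      · intro hx
        exact Ideal.mem_map_of_mem _ ((RingHom.mem_ker).mpr hx)
      · intro hx
        rw [← hE] at hx
        have := (Ideal.mem_map_of_equiv E (E x)).mp hx
        obtain ⟨y, hy, hye⟩ := this
        rw [E.injective hye] at hy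
        exact (RingHom.mem_ker).mp hy
    · rw [← ringKrullDim_eq_of_ringEquiv τ, hdim]

include hτ in
theorem isLCIOver_transfer (h : Synt.IsLCIOver k S) : Synt.IsLCIOver κ S' := by
  obtain ⟨hft, hloc⟩ := h
  refine ⟨?_, ?_⟩
  · obtain ⟨n, φ, hφ⟩ := Algebra.FiniteType.iff_quotient_mvPolynomial''.mp hft
    obtain ⟨φ', hφ'⟩ := exists_transfer_hom σ τ hτ n φ
    refine Algebra.FiniteType.of_surjective φ' ?_
    intro y
    obtain ⟨x, hx⟩ := hφ (τ.symm y)
    exact ⟨MvPolynomial.map (σ : k →+* κ) x, by rw [hφ', hx, τ.apply_symm_apply]⟩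
  · intro p'
    let p : PrimeSpectrum S := ⟨p'.asIdeal.comap (τ : S →+* S'), Ideal.comap_isPrime _ _⟩
    obtain ⟨g, hg, hG⟩ := hloc p
    refine ⟨τ g, hg, ?_⟩
    have hM : Submonoid.map (τ : S →* S') (Submonoid.powers g) = Submonoid.powers (τ g) :=
      Submonoid.map_powers _ _
    let τg : Localization.Away g ≃+* Localization.Away (τ g) :=
      IsLocalization.ringEquivOfRingEquiv (M := Submonoid.powers g) (T := Submonoid.powers (τ g))
        (Localization.Away g) (Localization.Away (τ g)) τ hM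
    refine isGlobalCI_transfer σ τg ?_ hG
    intro c
    rw [IsScalarTower.algebraMap_apply k S (Localization.Away g),
      IsScalarTower.algebraMap_apply κ S' (Localization.Away (τ g)), ← hτ]
    exact IsLocalization.ringEquivOfRingEquiv_eq _ _

end Transfer

section Fiber

variable (k : Type u) [Field k]

theorem isLCIOver_fiber_iff (R : Type u) [CommRing R] (σ : k ≃+* R) (S : Type u) [CommRing S]
    [Algebra R S] [Algebra k S] (hc : ∀ c, algebraMap k S c = algebraMap R S (σ c))
    (𝔭 : PrimeSpectrum R) :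
    Synt.IsLCIOver 𝔭.asIdeal.ResidueField (𝔭.asIdeal.Fiber S) ↔ Synt.IsLCIOver k S := by
  have hR : IsField R := MulEquiv.isField (Field.toIsField k) σ.symm.toMulEquiv
  haveI : Nontrivial R := hR.nontrivial
  haveI : IsSimpleOrder (Ideal R) := Ring.isField_iff_isSimpleOrder_ideal.mp hR
  have hp : 𝔭.asIdeal = ⊥ := (eq_bot_or_eq_top 𝔭.asIdeal).resolve_right 𝔭.2.ne_top
  haveI hmax : 𝔭.asIdeal.IsMaximal := by
    rw [hp]
    exact Ring.isField_iff_maximal_bot.mp hR
  have hbij : Function.Bijective (algebraMap R 𝔭.asIdeal.ResidueField) := by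
    refine ⟨?_, Ideal.algebraMap_residueField_surjective _⟩
    rw [RingHom.injective_iff_ker_eq_bot]
    exact (eq_bot_or_eq_top _).resolve_right (RingHom.ker_ne_top _)
  let σκ : k ≃+* 𝔭.asIdeal.ResidueField := σ.trans (RingEquiv.ofBijective _ hbij)
  let eR : R ≃ₐ[R] 𝔭.asIdeal.ResidueField :=
    AlgEquiv.ofBijective (Algebra.ofId R 𝔭.asIdeal.ResidueField) hbij
  let τ : S ≃ₐ[R] 𝔭.asIdeal.Fiber S :=
    (Algebra.TensorProduct.lid R S).symm.trans (Algebra.TensorProduct.congr eR AlgEquiv.refl)
  have hτ : ∀ c, τ.toRingEquiv (algebraMap k S c) =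
      algebraMap 𝔭.asIdeal.ResidueField (𝔭.asIdeal.Fiber S) (σκ c) := by
    intro c
    rw [hc]
    change τ (algebraMap R S (σ c)) = _
    rw [τ.commutes, IsScalarTower.algebraMap_apply R 𝔭.asIdeal.ResidueField (𝔭.asIdeal.Fiber S)]
    rfl
  constructor
  · intro h
    refine isLCIOver_transfer σκ.symm τ.toRingEquiv.symm ?_ h
    intro c
    obtain ⟨c', rfl⟩ := σκ.surjective c
    rw [← hτ, RingEquiv.symm_apply_apply, RingEquiv.symm_apply_apply]
  · intro h
    exact isLCIOver_transfer σκ τ.toRingEquiv hτ h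

end Fiber

end Groth.Agent.Lib.helper17.CIField
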