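import Groth.Prelude.Def_FlatMod2
import Mathlib
import Groth.Agent.Lib.Helper17.FlatOver1
import Groth.Agent.Lib.Helper16.QCohAffinePush

/-!
# Relative flatness toolkit V (helper17, LT13): pushforward along affine morphisms

* `flat_sections_push_iff`: `Γ(f_*F, W) = Γ(F, f⁻¹W)` have the same flatness over `Γ(S,V)`.
* `isFlatOver_push_iff` (S9349): for `f` affine, `F` qcoh: `F` flat over `S` iff `f_*F` flat over `S`.
-/

set_option autoImplicit false
set_option linter.style.haveILetI false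
universe u
open CategoryTheory AlgebraicGeometry TopologicalSpace Opposite TensorProduct

namespace Groth.Agent.Lib.helper17.FlatOver5

open Scheme.Modules Groth.Agent.Lib.helper17.FlatOver1

variable {X Y S : Scheme.{u}} (f : X ⟶ Y) (q : Y ⟶ S) (F : X.Modules)

theorem flat_sections_push_iff {V : S.Opens} {W : Y.Opens} (hWV : W ≤ q ⁻¹ᵁ V)
    (hUV : f ⁻¹ᵁ W ≤ (f ≫ q) ⁻¹ᵁ V) :
    @Module.Flat Γ(S, V) Γ(F, f ⁻¹ᵁ W) _ _ (modSecBase (f ≫ q) F hUV) ↔
      @Module.Flat Γ(S, V) Γ((Scheme.Modules.pushforward f).obj F, W) _ _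
        (modSecBase q ((Scheme.Modules.pushforward f).obj F) hWV) := by
  letI m1 := modSecBase (f ≫ q) F hUV
  letI m2 := modSecBase q ((Scheme.Modules.pushforward f).obj F) hWV
  have hring : ∀ a : Γ(S, V), ((f ≫ q).appLE V (f ⁻¹ᵁ W) hUV).hom a =
      (f.app W).hom ((q.appLE V W hWV).hom a) := by
    intro a
    have : (f ≫ q).appLE V (f ⁻¹ᵁ W) hUV = q.appLE V W hWV ≫ f.app W := by
      rw [Scheme.Hom.app_eq_appLE, Scheme.Hom.appLE_comp_appLE]
    rw [this]; rfl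
  let e : Γ(F, f ⁻¹ᵁ W) ≃ₗ[Γ(S, V)] Γ((Scheme.Modules.pushforward f).obj F, W) :=
    { AddEquiv.refl _ with
      map_smul' := fun a m => by
        change ((f ≫ q).appLE V (f ⁻¹ᵁ W) hUV).hom a • m = _
        rw [hring]
        rfl }
  exact Module.Flat.equiv_iff e

/-- **S9349**: for an affine morphism `f`, a quasi-coherent `F` is flat over `S` iff `f_*F` is. -/
theorem isFlatOver_push_iff [IsAffineHom f] [F.IsQuasicoherent] :
    FlatMod.IsFlatOver (f ≫ q) F ↔ FlatMod.IsFlatOver q ((Scheme.Modules.pushforward f).obj F) := by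
  haveI : ((Scheme.Modules.pushforward f).obj F).IsQuasicoherent :=
    Groth.Agent.Lib.helper16.QCohAffinePush.isQuasicoherent_push f F
  have hcov : ∀ y : Y, ∃ (V : S.Opens) (W : Y.Opens), IsAffineOpen V ∧ IsAffineOpen W ∧
      W ≤ q ⁻¹ᵁ V ∧ y ∈ W := by
    intro y
    obtain ⟨_, ⟨V, hV : IsAffineOpen V, rfl⟩, hyV, -⟩ :=
      S.isBasis_affineOpens.exists_subset_of_mem_open (Set.mem_univ (q.base y)) isOpen_univ
    obtain ⟨_, ⟨W, hW : IsAffineOpen W, rfl⟩, hyW, hWV⟩ :=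
      Y.isBasis_affineOpens.exists_subset_of_mem_open (show y ∈ (q ⁻¹ᵁ V : Set Y) from hyV)
        (q ⁻¹ᵁ V).2
    exact ⟨V, W, hV, hW, hWV, hyW⟩
  constructor
  · intro H y
    obtain ⟨V, W, hV, hW, hWV, hyW⟩ := hcov y
    have hUV : f ⁻¹ᵁ W ≤ (f ≫ q) ⁻¹ᵁ V := fun x hx => hWV hx
    have hU : IsAffineOpen (f ⁻¹ᵁ W) := hW.preimage f
    have h1 := flat_sections_of_isFlatOverAt (f ≫ q) F hUV hU hV (fun x _ => H x)
    exact isFlatOverAt_of_flat_sections q _ hWV hW hV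
      ((flat_sections_push_iff f q F hWV hUV).mp h1) y hyW
  · intro H x
    obtain ⟨V, W, hV, hW, hWV, hyW⟩ := hcov (f.base x)
    have hUV : f ⁻¹ᵁ W ≤ (f ≫ q) ⁻¹ᵁ V := fun x hx => hWV hx
    have hU : IsAffineOpen (f ⁻¹ᵁ W) := hW.preimage f
    have h1 := flat_sections_of_isFlatOverAt q _ hWV hW hV (fun y _ => H y)
    exact isFlatOverAt_of_flat_sections (f ≫ q) F hUV hU hV
      ((flat_sections_push_iff f q F hWV hUV).mpr h1) x hyW


end Groth.Agent.Lib.helper17.FlatOver5
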