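import Mathlib
import Groth.Prelude.Def_CAlgX

/-!
# helper17: `H_1`-regular sequences in Noetherian local rings are regular

`CAlgX.IsH1Regular f` (every relation `Σ a_i f_i = 0` is a combination of the trivial relations).

* `key`: structure of the trivial relations of `Fin.snoc g x`.
* `mem_span_of_mul_mem`: `H_1`-regular `(g, x)` ⇒ `x` is a nonzerodivisor modulo `(g)`.
* `isH1Regular_init`: `H_1`-regular `(g, x)`, `x` in the Jacobson radical, `R` Noetherian ⇒ `g` is
  `H_1`-regular (Nakayama).
* `isWeaklyRegular_of_isH1Regular`, `isRegular_of_isH1Regular`: `H_1`-regular sequences in the Jacobson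
  radical (maximal ideal) of a Noetherian (local) ring are (weakly) regular.
* `isH1Regular_localization`: `H_1`-regularity passes to localizations.
-/

set_option autoImplicit false
universe u
open CAlgX

namespace Groth.Agent.Lib.helper17.H1Reg

variable {R : Type u} [CommRing R]

/-- the trivial relations. -/
def B {c : ℕ} (f : Fin c → R) : Submodule R (Fin c → R) :=
  Submodule.span R {v : Fin c → R | ∃ i j : Fin c, v = Pi.single i (f j) - Pi.single j (f i)}

theorem isH1Regular_iff {c : ℕ} (f : Fin c → R) :
    IsH1Regular f ↔ ∀ a : Fin c → R, ∑ i, a i * f i = 0 → a ∈ B f := Iff.rfl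

/-- Structure of the trivial relations of `(g, x)`. -/
theorem key {c : ℕ} (g : Fin c → R) (x : R) (v : Fin (c + 1) → R)
    (hv : v ∈ B (Fin.snoc g x : Fin (c + 1) → R)) :
    ∃ b ∈ B g, ∃ w : Fin c → R, (∀ i : Fin c, v i.castSucc = b i + x * w i) ∧
      v (Fin.last c) = -∑ i, w i * g i := by
  classical
  induction hv using Submodule.span_induction with
  | mem v hv =>
    obtain ⟨i, j, rfl⟩ := hv
    induction i using Fin.lastCases with
    | last =>
      induction j using Fin.lastCases with
      | last =>
        refine ⟨0, Submodule.zero_mem _, 0, fun i => ?_, ?_⟩ <;> simp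
      | cast j =>
        refine ⟨0, Submodule.zero_mem _, -Pi.single j 1, fun i => ?_, ?_⟩
        · simp only [Fin.snoc_castSucc, Fin.snoc_last, Pi.sub_apply, Pi.zero_apply, Pi.neg_apply,
            zero_add]
          rw [Pi.single_apply, Pi.single_apply, Pi.single_apply]
          simp only [Fin.castSucc_inj, (Fin.castSucc_lt_last i).ne, if_false]
          split_ifs <;> ring
        · simp only [Fin.snoc_castSucc, Fin.snoc_last, Pi.sub_apply, Pi.neg_apply]
          rw [Pi.single_apply, Pi.single_apply]
          simp only [(Fin.castSucc_lt_last j).ne', if_true, if_false, sub_zero]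
          simp [Pi.single_apply]
    | cast i =>
      induction j using Fin.lastCases with
      | last =>
        refine ⟨0, Submodule.zero_mem _, Pi.single i 1, fun k => ?_, ?_⟩
        · simp only [Fin.snoc_castSucc, Fin.snoc_last, Pi.sub_apply, Pi.zero_apply, zero_add]
          rw [Pi.single_apply, Pi.single_apply, Pi.single_apply]
          simp only [Fin.castSucc_inj, (Fin.castSucc_lt_last k).ne, if_false]
          split_ifs <;> ring
        · simp only [Fin.snoc_castSucc, Fin.snoc_last, Pi.sub_apply]
          rw [Pi.single_apply, Pi.single_apply]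
          simp only [(Fin.castSucc_lt_last i).ne', if_true, if_false, zero_sub]
          simp [Pi.single_apply]
      | cast j =>
        refine ⟨Pi.single i (g j) - Pi.single j (g i), Submodule.subset_span ⟨i, j, rfl⟩, 0,
          fun k => ?_, ?_⟩
        · simp only [Fin.snoc_castSucc, Pi.sub_apply, Pi.zero_apply, mul_zero, add_zero]
          rw [Pi.single_apply, Pi.single_apply, Pi.single_apply, Pi.single_apply]
          simp only [Fin.castSucc_inj]
        · simp only [Fin.snoc_castSucc, Pi.sub_apply]
          rw [Pi.single_apply, Pi.single_apply]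
          simp [(Fin.castSucc_lt_last i).ne', (Fin.castSucc_lt_last j).ne']
  | zero =>
    refine ⟨0, Submodule.zero_mem _, 0, fun i => ?_, ?_⟩ <;> simp
  | add v₁ v₂ _ _ h₁ h₂ =>
    obtain ⟨b₁, hb₁, w₁, h₁a, h₁b⟩ := h₁
    obtain ⟨b₂, hb₂, w₂, h₂a, h₂b⟩ := h₂
    refine ⟨b₁ + b₂, Submodule.add_mem _ hb₁ hb₂, w₁ + w₂, fun i => ?_, ?_⟩
    · simp only [Pi.add_apply, h₁a, h₂a]; ring
    · simp only [Pi.add_apply, h₁b, h₂b, add_mul, Finset.sum_add_distrib]; ring
  | smul r v _ h =>
    obtain ⟨b, hb, w, ha, hb'⟩ := h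
    refine ⟨r • b, Submodule.smul_mem _ _ hb, r • w, fun i => ?_, ?_⟩
    · simp only [Pi.smul_apply, smul_eq_mul, ha]; ring
    · simp only [Pi.smul_apply, smul_eq_mul, hb', Finset.mul_sum, mul_neg, mul_assoc]

/-- If `(g, x)` is `H_1`-regular then `x` is a nonzerodivisor modulo `(g)`. -/
theorem mem_span_of_mul_mem {c : ℕ} (g : Fin c → R) (x : R)
    (h : IsH1Regular (Fin.snoc g x : Fin (c + 1) → R)) (a : R)
    (ha : a * x ∈ Ideal.span (Set.range g)) : a ∈ Ideal.span (Set.range g) := by
  obtain ⟨b, hb⟩ := (Ideal.mem_span_range_iff_exists_fun).1 ha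
  have hrel : ∑ k, (Fin.snoc b (-a) : Fin (c + 1) → R) k *
      (Fin.snoc g x : Fin (c + 1) → R) k = 0 := by
    rw [Fin.sum_univ_castSucc]
    simp only [Fin.snoc_castSucc, Fin.snoc_last, hb]
    ring
  obtain ⟨b', -, w, -, hlast⟩ := key g x _ (h _ hrel)
  rw [Fin.snoc_last, neg_inj] at hlast
  rw [hlast]
  exact (Ideal.mem_span_range_iff_exists_fun).2 ⟨w, rfl⟩

/-- Dropping the last element of an `H_1`-regular sequence (Nakayama). -/
theorem isH1Regular_init [IsNoetherianRing R] {c : ℕ} (g : Fin c → R) (x : R)
    (hx : x ∈ (⊥ : Ideal R).jacobson)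
    (h : IsH1Regular (Fin.snoc g x : Fin (c + 1) → R)) : IsH1Regular g := by
  let Z : Submodule R (Fin c → R) := LinearMap.ker (Fintype.linearCombination R g)
  have hZ : ∀ a : Fin c → R, a ∈ Z ↔ ∑ i, a i * g i = 0 := by
    intro a
    rw [LinearMap.mem_ker, Fintype.linearCombination_apply]
    simp only [smul_eq_mul]
  have hle : Z ≤ B g ⊔ (Ideal.span {x}) • Z := by
    intro a ha
    rw [hZ] at ha
    have hrel : ∑ k, (Fin.snoc a 0 : Fin (c + 1) → R) k *
        (Fin.snoc g x : Fin (c + 1) → R) k = 0 := by
      rw [Fin.sum_univ_castSucc]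
      simp only [Fin.snoc_castSucc, Fin.snoc_last, ha]
      ring
    obtain ⟨b, hb, w, hinit, hlast⟩ := key g x _ (h _ hrel)
    rw [Fin.snoc_last] at hlast
    have hw : w ∈ Z := by
      rw [hZ]
      have := neg_eq_zero.mp hlast.symm
      exact this
    have ha' : a = b + x • w := by
      funext i
      have := hinit i
      rw [Fin.snoc_castSucc] at this
      rw [this]
      simp
    rw [ha']
    exact Submodule.add_mem_sup hb
      (Submodule.smul_mem_smul (Ideal.mem_span_singleton_self x) hw)
  have hfg : Z.FG := IsNoetherian.noetherian Z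
  have hjac : Ideal.span {x} ≤ (⊥ : Ideal R).jacobson :=
    (Ideal.span_singleton_le_iff_mem _).2 hx
  have hZB : Z ≤ B g := Submodule.le_of_le_smul_of_le_jacobson_bot hfg hjac hle
  intro a ha
  exact hZB ((hZ a).2 ha)


theorem ofList_ofFn {c : ℕ} (g : Fin c → R) :
    Ideal.ofList (List.ofFn g) = Ideal.span (Set.range g) := by
  unfold Ideal.ofList
  congr 1
  ext y
  simp [List.mem_ofFn]

open RingTheory.Sequence in
/-- `H_1`-regular sequences in the Jacobson radical of a Noetherian ring are weakly regular. -/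
theorem isWeaklyRegular_of_isH1Regular [IsNoetherianRing R] :
    ∀ {c : ℕ} (f : Fin c → R), (∀ i, f i ∈ (⊥ : Ideal R).jacobson) → IsH1Regular f →
      IsWeaklyRegular R (List.ofFn f) := by
  intro c
  induction c with
  | zero =>
    intro f _ _
    rw [List.ofFn_zero]
    exact IsWeaklyRegular.nil R R
  | succ c ih =>
    intro f hf h
    have hsn : (Fin.snoc (Fin.init f) (f (Fin.last c)) : Fin (c + 1) → R) = f :=
      Fin.snoc_init_self f
    rw [← hsn] at h
    have h1 : IsH1Regular (Fin.init f) := isH1Regular_init _ _ (hf _) h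
    have ih1 := ih (Fin.init f) (fun i => hf _) h1
    rw [List.ofFn_succ', List.concat_eq_append, isWeaklyRegular_append_iff]
    refine ⟨ih1, ?_⟩
    rw [isWeaklyRegular_singleton_iff]
    rw [isSMulRegular_iff_right_eq_zero_of_smul]
    intro m hm
    obtain ⟨a, rfl⟩ := Submodule.Quotient.mk_surjective _ m
    rw [← Submodule.Quotient.mk_smul, Submodule.Quotient.mk_eq_zero] at hm
    rw [Submodule.Quotient.mk_eq_zero]
    have htop : ∀ I : Ideal R, (I • ⊤ : Submodule R R) = I := fun I => by
      rw [smul_eq_mul, Ideal.mul_top]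
    rw [htop] at hm ⊢
    have hofn : Ideal.ofList (List.ofFn fun i => f (Fin.castSucc i)) =
        Ideal.span (Set.range (Fin.init f)) := ofList_ofFn (Fin.init f)
    rw [hofn] at hm ⊢
    rw [smul_eq_mul, mul_comm] at hm
    exact mem_span_of_mul_mem (Fin.init f) (f (Fin.last c)) h a hm

open RingTheory.Sequence in
/-- `H_1`-regular sequences in the maximal ideal of a Noetherian local ring are regular. -/
theorem isRegular_of_isH1Regular [IsNoetherianRing R] [IsLocalRing R] {c : ℕ} (f : Fin c → R)
    (hf : ∀ i, f i ∈ IsLocalRing.maximalIdeal R) (h : IsH1Regular f) :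
    IsRegular R (List.ofFn f) := by
  refine IsRegular.of_isWeaklyRegular_of_mem_maximalIdeal R ?_ ?_
  · intro r hr
    obtain ⟨i, rfl⟩ := (List.mem_ofFn' f r).1 hr
    exact hf i
  · refine isWeaklyRegular_of_isH1Regular f (fun i => ?_) h
    rw [IsLocalRing.jacobson_eq_maximalIdeal _ bot_ne_top]
    exact hf i

/-- `H_1`-regularity passes to localizations. -/
theorem isH1Regular_localization {S : Type u} [CommRing S] [Algebra R S] (M : Submonoid R)
    [IsLocalization M S] {c : ℕ} (f : Fin c → R) (h : IsH1Regular f) :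
    IsH1Regular (fun i => algebraMap R S (f i)) := by
  classical
  intro a ha
  obtain ⟨s, hs⟩ := IsLocalization.exist_integer_multiples M (Finset.univ : Finset (Fin c)) a
  choose b hb using fun i => hs i (Finset.mem_univ i)
  -- `algebraMap (b i) = s • a i`
  have h1 : algebraMap R S (∑ i, b i * f i) = 0 := by
    rw [map_sum]
    have : ∀ i, algebraMap R S (b i * f i) = (s : R) • (a i * algebraMap R S (f i)) := by
      intro i
      rw [map_mul, hb i, smul_mul_assoc]
    simp_rw [this]
    rw [← Finset.smul_sum, ha, smul_zero]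
  obtain ⟨t, ht⟩ := (IsLocalization.map_eq_zero_iff M S _).1 h1
  have h2 : ∑ i, ((t : R) • b) i * f i = 0 := by
    simp only [Pi.smul_apply, smul_eq_mul, mul_assoc]
    rw [← Finset.mul_sum]
    exact ht
  have h3 := h _ h2
  -- transport along the componentwise map
  let Φ : (Fin c → R) →ₗ[R] (Fin c → S) := (Algebra.linearMap R S).compLeft (Fin c)
  have hΦ : ∀ v : Fin c → R, ∀ i, Φ v i = algebraMap R S (v i) := fun v i => rfl
  have h4 : Submodule.map Φ (B f) ≤
      (B (fun i => algebraMap R S (f i))).restrictScalars R := by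
    unfold B
    rw [Submodule.map_span, Submodule.span_le]
    rintro _ ⟨v, ⟨i, j, rfl⟩, rfl⟩
    refine Submodule.subset_span ⟨i, j, ?_⟩
    funext k
    rw [hΦ]
    simp only [Pi.sub_apply, map_sub, Pi.single_apply]
    split_ifs <;> simp
  have h5 : Φ ((t : R) • b) ∈ B (fun i => algebraMap R S (f i)) :=
    h4 (Submodule.mem_map_of_mem h3)
  have hu : IsUnit (algebraMap R S ((t : R) * (s : R))) := by
    rw [map_mul]
    exact (IsLocalization.map_units S t).mul (IsLocalization.map_units S s)
  have h6 : Φ ((t : R) • b) = algebraMap R S ((t : R) * (s : R)) • a := by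
    funext i
    rw [hΦ]
    simp only [Pi.smul_apply, smul_eq_mul, map_mul, hb i, Algebra.smul_def]
    ring
  rw [h6] at h5
  have := Submodule.smul_mem _ (↑hu.unit⁻¹ : S) h5
  rwa [smul_smul, IsUnit.val_inv_mul, one_smul] at this

end Groth.Agent.Lib.helper17.H1Reg
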