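import Mathlib
import Groth.Prelude.Def_LCI2
import Groth.Agent.Lib.Helper17.H1Reg
import Groth.Agent.Lib.Helper17.GorFlat
import Groth.Agent.Lib.Helper17.GorRing
import Groth.Agent.Lib.Helper7.KoszulLow

/-!
# helper17: quotients of Gorenstein rings by Koszul-regular ideals are Gorenstein

* `gor_quot_ofList`: `A` Gorenstein local, `rs` a (weakly) regular sequence in the maximal ideal ⇒
  `A/(rs)` Gorenstein.
* `isRegular_of_isKoszulRegularSeq`: Koszul-regular sequences in the maximal ideal of a Noetherian
  local ring are regular.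
* `isGorensteinRing_quotient_of_isKoszulRegularIdeal`.
* `isGorensteinRing_of_isLCI`: lci over Gorenstein is Gorenstein.
-/

set_option autoImplicit false
set_option linter.style.haveILetI false
universe u
open IsLocalRing RingTheory.Sequence

namespace Groth.Agent.Lib.helper17.LciGor

open Groth.Agent.Lib.helper17.GorIso Groth.Agent.Lib.helper17.H1Reg
  Groth.Agent.Lib.helper17.GorRing

theorem gor_quot_ofList_aux : ∀ (n : ℕ) (A : Type u) [CommRing A] [IsLocalRing A]
    [IsNoetherianRing A] (rs : List A), rs.length = n → (∀ r ∈ rs, r ∈ maximalIdeal A) →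
    IsWeaklyRegular A rs → LocCoh.IsGorensteinLocalRing A →
    LocCoh.IsGorensteinLocalRing (A ⧸ Ideal.ofList rs) := by
  intro n
  induction n with
  | zero =>
    intro A _ _ _ rs hlen _ _ hA
    obtain rfl := List.length_eq_zero_iff.mp hlen
    have h0 : Ideal.ofList ([] : List A) = ⊥ := Ideal.ofList_nil
    exact isGorensteinLocalRing_of_ringEquiv
      ((Ideal.quotEquivOfEq h0).trans (RingEquiv.quotientBot A)) hA
  | succ n ih =>
    intro A _ _ _ rs hlen hmem hreg hA
    obtain ⟨r, rs, rfl⟩ := List.exists_cons_of_length_eq_add_one hlen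
    have hr : r ∈ maximalIdeal A := hmem r List.mem_cons_self
    rw [isWeaklyRegular_cons_iff] at hreg
    obtain ⟨hr1, hr2⟩ := hreg
    let e : QuotSMulTop r A ≃ₗ[A] (A ⧸ Ideal.span {r}) :=
      Submodule.quotEquivOfEq _ _ (by
        rw [← Submodule.ideal_span_singleton_smul, smul_eq_mul, Ideal.mul_top])
    have hr3 : IsWeaklyRegular (A ⧸ Ideal.span {r}) rs := (e.isWeaklyRegular_congr rs).mp hr2
    have hr4 : IsWeaklyRegular (A ⧸ Ideal.span {r})
        (rs.map (algebraMap A (A ⧸ Ideal.span {r}))) :=
      (isWeaklyRegular_map_algebraMap_iff (A ⧸ Ideal.span {r}) (A ⧸ Ideal.span {r}) rs).mpr hr3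
    haveI hloc : IsLocalRing (A ⧸ Ideal.span {r}) :=
      Groth.Agent.Lib.helper17.GorQuot.isLocalRing_quot r hr
    have hA' : LocCoh.IsGorensteinLocalRing (A ⧸ Ideal.span {r}) :=
      (Groth.Agent.Lib.helper17.GorFlat.gor_quot_iff A r hr hr1).mp hA
    have hmem' : ∀ y ∈ rs.map (algebraMap A (A ⧸ Ideal.span {r})),
        y ∈ maximalIdeal (A ⧸ Ideal.span {r}) := by
      intro y hy
      obtain ⟨a, ha, rfl⟩ := List.mem_map.mp hy
      exact (Groth.Agent.Lib.helper17.GorQuot.mk_mem_maximalIdeal_iff r hr a).mpr
        (hmem a (List.mem_cons_of_mem _ ha))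
    have h1 := ih (A ⧸ Ideal.span {r}) (rs.map (algebraMap A (A ⧸ Ideal.span {r})))
      (by rw [List.length_map]; simpa using hlen) hmem' hr4 hA'
    have hmap : Ideal.ofList (rs.map (algebraMap A (A ⧸ Ideal.span {r}))) =
        (Ideal.ofList rs).map (Ideal.Quotient.mk (Ideal.span {r})) := by
      rw [Ideal.map_ofList]; rfl
    have hcons : Ideal.span {r} ⊔ Ideal.ofList rs = Ideal.ofList (r :: rs) :=
      (Ideal.ofList_cons r rs).symm
    exact isGorensteinLocalRing_of_ringEquiv
      ((Ideal.quotEquivOfEq hcons.symm).trans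
        ((DoubleQuot.quotQuotEquivQuotSup (Ideal.span {r}) (Ideal.ofList rs)).symm.trans
          (Ideal.quotEquivOfEq hmap.symm))) h1

/-- Quotient of a Gorenstein local ring by a weakly regular sequence in the maximal ideal. -/
theorem gor_quot_ofList (A : Type u) [CommRing A] [IsLocalRing A]
    [IsNoetherianRing A] (rs : List A) (hmem : ∀ r ∈ rs, r ∈ maximalIdeal A)
    (hreg : IsWeaklyRegular A rs) (hA : LocCoh.IsGorensteinLocalRing A) :
    LocCoh.IsGorensteinLocalRing (A ⧸ Ideal.ofList rs) :=
  gor_quot_ofList_aux rs.length A rs rfl hmem hreg hA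


/-- Koszul-regular sequences in the maximal ideal of a Noetherian local ring are regular. -/
theorem isRegular_of_isKoszulRegularSeq (A : Type u) [CommRing A] [IsLocalRing A]
    [IsNoetherianRing A] (l : List A) (hmem : ∀ r ∈ l, r ∈ maximalIdeal A)
    (h : LCI.IsKoszulRegularSeq A l) : IsRegular A l := by
  have h1 := Groth.Agent.Lib.helper7.KoszulLow.isH1Regular_of_isKoszulRegularSeq A l h
  have h2 := isRegular_of_isH1Regular l.get (fun i => hmem _ (List.get_mem l i)) h1
  rwa [List.ofFn_get] at h2

section Local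

variable (R : Type u) [CommRing R] [LocCoh.IsGorensteinRing R] (I : Ideal R)
  (Q : Ideal R) [Q.IsPrime]

/-- The local statement: `R_Q / I R_Q` is Gorenstein when `I` is generated near `Q` by a
Koszul-regular sequence. -/
theorem gor_localization_quotient (hIQ : I ≤ Q) (g : R) (hg : g ∉ Q)
    (l : List (Localization.Away g)) (hl : LCI.IsKoszulRegularSeq (Localization.Away g) l)
    (hIl : I.map (algebraMap R (Localization.Away g)) = Ideal.span {x | x ∈ l}) :
    LocCoh.IsGorensteinLocalRing
      (Localization.AtPrime Q ⧸ I.map (algebraMap R (Localization.AtPrime Q))) := by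
  have hgu : IsUnit (algebraMap R (Localization.AtPrime Q) g) :=
    IsLocalization.map_units (Localization.AtPrime Q) (⟨g, hg⟩ : Q.primeCompl)
  let φ : Localization.Away g →+* Localization.AtPrime Q := IsLocalization.Away.lift g hgu
  letI : Algebra (Localization.Away g) (Localization.AtPrime Q) := φ.toAlgebra
  haveI : IsScalarTower R (Localization.Away g) (Localization.AtPrime Q) :=
    IsScalarTower.of_algebraMap_eq (fun x => (IsLocalization.Away.lift_eq g hgu x).symm)
  haveI hloc : IsLocalization (Q.primeCompl.map (algebraMap R (Localization.Away g)))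
      (Localization.AtPrime Q) :=
    IsLocalization.isLocalization_of_submonoid_le (Localization.Away g) (Localization.AtPrime Q)
      (Submonoid.powers g) Q.primeCompl (Submonoid.powers_le.mpr hg)
  have h1 := Groth.Agent.Lib.helper7.KoszulLow.isH1Regular_of_isKoszulRegularSeq _ l hl
  have h2 := isH1Regular_localization (S := Localization.AtPrime Q)
    (Q.primeCompl.map (algebraMap R (Localization.Away g))) l.get h1
  set f' : Fin l.length → Localization.AtPrime Q :=
    fun i => algebraMap (Localization.Away g) (Localization.AtPrime Q) (l.get i) with hf'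
  have hI : I.map (algebraMap R (Localization.AtPrime Q)) = Ideal.span (Set.range f') := by
    rw [IsScalarTower.algebraMap_eq R (Localization.Away g) (Localization.AtPrime Q),
      ← Ideal.map_map, hIl, Ideal.map_span]
    congr 1
    ext y
    constructor
    · rintro ⟨x, hx, rfl⟩
      obtain ⟨i, rfl⟩ := List.mem_iff_get.mp hx
      exact ⟨i, rfl⟩
    · rintro ⟨i, rfl⟩
      exact ⟨l.get i, List.get_mem l i, rfl⟩
  have hmem : ∀ i, f' i ∈ maximalIdeal (Localization.AtPrime Q) := by
    intro i
    have h3 : f' i ∈ I.map (algebraMap R (Localization.AtPrime Q)) := by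
      rw [hI]; exact Ideal.subset_span ⟨i, rfl⟩
    rw [← Localization.AtPrime.map_eq_maximalIdeal]
    exact Ideal.map_mono hIQ h3
  haveI : IsNoetherianRing (Localization.AtPrime Q) :=
    IsLocalization.isNoetherianRing Q.primeCompl _ inferInstance
  have h4 : IsRegular (Localization.AtPrime Q) (List.ofFn f') :=
    isRegular_of_isH1Regular f' hmem h2
  have hG : LocCoh.IsGorensteinLocalRing (Localization.AtPrime Q) :=
    LocCoh.IsGorensteinRing.isGorensteinLocalRing_localization Q
  have h5 := gor_quot_ofList (Localization.AtPrime Q) (List.ofFn f')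
    (fun r hr => by
      obtain ⟨i, rfl⟩ := (List.mem_ofFn' f' r).1 hr
      exact hmem i) h4.toIsWeaklyRegular hG
  have h6 : Ideal.ofList (List.ofFn f') = I.map (algebraMap R (Localization.AtPrime Q)) := by
    rw [ofList_ofFn, hI]
  exact isGorensteinLocalRing_of_ringEquiv (Ideal.quotEquivOfEq h6.symm) h5

end Local

/-- The quotient of a Gorenstein ring by a Koszul-regular ideal is Gorenstein. -/
theorem isGorensteinRing_quotient_of_isKoszulRegularIdeal (R : Type u) [CommRing R]
    [LocCoh.IsGorensteinRing R] (I : Ideal R) (hI : LCI.IsKoszulRegularIdeal I) :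
    LocCoh.IsGorensteinRing (R ⧸ I) := by
  refine { isGorensteinLocalRing_localization := ?_ }
  intro 𝔮 h𝔮
  set Q : Ideal R := 𝔮.comap (Ideal.Quotient.mk I) with hQ
  haveI : Q.IsPrime := Ideal.comap_isPrime _ _
  have hIQ : I ≤ Q := by
    intro x hx
    rw [hQ, Ideal.mem_comap, Ideal.Quotient.eq_zero_iff_mem.mpr hx]
    exact 𝔮.zero_mem
  obtain ⟨g, hg, l, hl, hIl⟩ := hI ⟨Q, inferInstance⟩ hIQ
  have h1 := gor_localization_quotient R I Q hIQ g hg l hl hIl
  have hsub : Algebra.algebraMapSubmonoid (R ⧸ I) Q.primeCompl = 𝔮.primeCompl := by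
    ext y
    constructor
    · rintro ⟨x, hx, rfl⟩
      exact hx
    · intro hy
      obtain ⟨x, rfl⟩ := Ideal.Quotient.mk_surjective y
      exact ⟨x, hy, rfl⟩
  haveI : IsLocalization 𝔮.primeCompl
      (Localization.AtPrime Q ⧸ I.map (algebraMap R (Localization.AtPrime Q))) := by
    rw [← hsub]; infer_instance
  let e : Localization.AtPrime 𝔮 ≃ₐ[R ⧸ I]
      (Localization.AtPrime Q ⧸ I.map (algebraMap R (Localization.AtPrime Q))) :=
    IsLocalization.algEquiv 𝔮.primeCompl _ _
  exact isGorensteinLocalRing_of_ringEquiv e.toRingEquiv h1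

/-- A local complete intersection algebra over a Gorenstein ring is Gorenstein. -/
theorem isGorensteinRing_of_isLCI (A B : Type u) [CommRing A] [CommRing B] [Algebra A B]
    [LocCoh.IsGorensteinRing A] (h : LCI.IsLCI A B) : LocCoh.IsGorensteinRing B := by
  obtain ⟨-, n, f, hf, hK⟩ := h
  haveI := isGorensteinRing_mvPolynomial_fin A n
  haveI := isGorensteinRing_quotient_of_isKoszulRegularIdeal (MvPolynomial (Fin n) A) _ hK
  exact isGorensteinRing_of_ringEquiv
    (RingHom.quotientKerEquivOfSurjective (f := f.toRingHom) hf)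

end Groth.Agent.Lib.helper17.LciGor
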