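import Mathlib
import Groth.Agent.Lib.Helper3.AlgClosedTensor

/-!
# Geometric connectedness from finite extensions (helper17)

`TrivIdem R`: the only idempotents of `R` are `0` and `1`.

* `trivIdem_tensor_of_isAlgClosed`: over an algebraically closed field `k`, if `F` has only trivial
  idempotents then so does `K ⊗[k] F` for every field extension `K`.
* `trivIdem_tensor_of_forall_finite`: if `k' ⊗[k] F` has only trivial idempotents for all finite
  field extensions `k'/k`, then so does `K ⊗[k] F` for every field extension `K/k`.
* `connectedSpace_of_trivIdem`.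
-/

set_option autoImplicit false
set_option linter.style.haveILetI false
universe u v w

namespace Groth.Agent.Lib.helper17.IdemAlgClosed

open TensorProduct

/-- The only idempotents of `R` are `0` and `1`. -/
def TrivIdem (R : Type*) [CommRing R] : Prop := ∀ e : R, IsIdempotentElem e → e = 0 ∨ e = 1

theorem TrivIdem.of_injective {R S : Type*} [CommRing R] [CommRing S] (f : R →+* S)
    (hf : Function.Injective f) (h : TrivIdem S) : TrivIdem R := by
  intro e he
  rcases h (f e) (he.map f) with h0 | h1
  · left; exact hf (by rw [h0, map_zero])
  · right; exact hf (by rw [h1, map_one])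

theorem trivIdem_of_isLocalRing (R : Type*) [CommRing R] [IsLocalRing R] : TrivIdem R := by
  intro e he
  rcases IsLocalRing.isUnit_or_isUnit_one_sub_self e with h | h
  · right
    have h1 : e * (e - 1) = 0 := by rw [mul_sub, he.eq, mul_one, sub_self]
    have := h.mul_left_cancel (h1.trans (mul_zero e).symm)
    exact sub_eq_zero.mp this
  · left
    have h1 : (1 - e) * e = 0 := by rw [sub_mul, he.eq, one_mul, sub_self]
    exact h.mul_left_cancel (h1.trans (mul_zero (1 - e)).symm)

theorem connectedSpace_of_trivIdem (R : Type*) [CommRing R] [Nontrivial R] (h : TrivIdem R) :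
    ConnectedSpace (PrimeSpectrum R) := by
  haveI : PreconnectedSpace (PrimeSpectrum R) := by
    rw [preconnectedSpace_iff_clopen]
    intro s hs
    obtain ⟨e, he, rfl⟩ := PrimeSpectrum.isClopen_iff.mp hs
    rcases h e he with rfl | rfl
    · left; simp
    · right; simp
  exact ⟨inferInstance⟩

/-- If `C ⊗[R] B` has only trivial idempotents for all finitely generated subalgebras `B` of `A` and
`C` is flat, then `C ⊗[R] A` has only trivial idempotents. -/
theorem trivIdem_tensorProduct_of_flat_of_forall_fg {R C A : Type*}
    [CommRing R] [CommRing C] [CommRing A] [Algebra R A] [Algebra R C] [Module.Flat R C]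
    (h : ∀ B : Subalgebra R A, B.FG → TrivIdem (C ⊗[R] B)) :
    TrivIdem (C ⊗[R] A) := by
  intro e he
  obtain ⟨D, hD, hx⟩ := exists_fg_and_mem_baseChange e
  have h_inj : Function.Injective
      (Algebra.TensorProduct.map (AlgHom.id C C) D.val) :=
    Module.Flat.lTensor_preserves_injective_linearMap _ Subtype.val_injective
  obtain ⟨e', rfl⟩ := hx
  have he' : IsIdempotentElem e' := by
    apply h_inj
    rw [map_mul]
    exact he.eq
  rcases h D hD e' he' with h0 | h1
  · left; rw [h0, map_zero]
  · right; rw [h1, map_one]

/-- Over an algebraically closed field `k`, if `F` has only trivial idempotents then so does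
`K ⊗[k] F` for every field extension `K` of `k`. -/
theorem trivIdem_tensor_of_isAlgClosed (k : Type u) [Field k] [IsAlgClosed k] (K : Type v)
    (F : Type w) [Field K] [CommRing F] [Algebra k K] [Algebra k F] (hF : TrivIdem F) :
    TrivIdem (K ⊗[k] F) := by
  classical
  intro e he
  let b := Module.Basis.ofVectorSpace k F
  let bK := Algebra.TensorProduct.basis K b
  let T : Finset K := (bK.repr e).support.image (bK.repr e)
  let R : Subalgebra k K := Algebra.adjoin k (T : Set K)
  have hRfg : R.FG := Subalgebra.fg_adjoin_finset T
  haveI hRft : Algebra.FiniteType k R := (Subalgebra.fg_iff_finiteType R).mp hRfg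
  have heR : ∀ i, bK.repr e i ∈ R := fun i => by
    by_cases h : bK.repr e i = 0
    · rw [h]; exact R.zero_mem
    · exact Algebra.subset_adjoin (Finset.mem_coe.mpr
        (Finset.mem_image_of_mem _ (Finsupp.mem_support_iff.mpr h)))
  let r : Module.Basis.ofVectorSpaceIndex k F → R := fun i => ⟨bK.repr e i, heR i⟩
  let e' : R ⊗[k] F := ∑ i ∈ (bK.repr e).support, r i ⊗ₜ[k] b i
  let ψ : R ⊗[k] F →ₐ[k] K ⊗[k] F := Algebra.TensorProduct.map R.val (AlgHom.id k F)
  have hsum : ∀ z : K ⊗[k] F, ∑ i ∈ (bK.repr z).support, (bK.repr z i) ⊗ₜ[k] b i = z := by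
    intro z
    conv_rhs => rw [← bK.linearCombination_repr z]
    rw [Finsupp.linearCombination_apply, Finsupp.sum]
    refine Finset.sum_congr rfl fun i _ => ?_
    rw [Algebra.TensorProduct.basis_repr_symm_apply']
  have hψe : ψ e' = e := by
    simp only [e', ψ, r, map_sum, Algebra.TensorProduct.map_tmul, Subalgebra.coe_val,
      AlgHom.coe_id, id_eq]
    exact hsum e
  have hψinj : Function.Injective ψ := by
    have h := Module.Flat.rTensor_preserves_injective_linearMap (M := F) R.val.toLinearMap
      Subtype.val_injective
    exact h
  have he' : IsIdempotentElem e' := by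
    apply hψinj
    rw [map_mul, hψe]
    exact he.eq
  -- evaluation at a `k`-point of `R`
  have hpt : ∀ φ : R →ₐ[k] k, (∀ i, φ (r i) = 0) ∨ (∀ i, φ (r i) = b.repr 1 i) := by
    intro φ
    let θ : R ⊗[k] F →ₐ[k] F :=
      Algebra.TensorProduct.lift ((Algebra.ofId k F).comp φ) (AlgHom.id k F)
        (fun _ _ => Commute.all _ _)
    have hθe : θ e' = ∑ i ∈ (bK.repr e).support, φ (r i) • b i := by
      simp only [e', map_sum]
      refine Finset.sum_congr rfl fun i _ => ?_
      simp only [θ, Algebra.TensorProduct.lift_tmul, AlgHom.comp_apply, AlgHom.coe_id, id_eq,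
        Algebra.ofId_apply, Algebra.smul_def]
    have hcoord : ∀ i, b.repr (θ e') i = φ (r i) := by
      intro i
      rw [hθe, map_sum, Finset.sum_apply']
      by_cases hi : i ∈ (bK.repr e).support
      · rw [Finset.sum_eq_single i]
        · simp
        · intro j _ hj
          simp [hj]
        · intro h; exact absurd hi h
      · rw [Finset.sum_eq_zero]
        · have : r i = 0 := by
            apply Subtype.ext
            simpa [r] using hi
          rw [this, map_zero]
        · intro j hj
          have : j ≠ i := fun h => hi (h ▸ hj)
          simp [this]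
    rcases hF (θ e') (he'.map θ) with h0 | h1
    · left
      intro i
      rw [← hcoord i, h0, map_zero, Finsupp.zero_apply]
    · right
      intro i
      rw [← hcoord i, h1]
  -- all products `r i * (r j - c j)` vanish
  have hprod : ∀ i j, r i * (r j - algebraMap k R (b.repr 1 j)) = 0 := by
    intro i j
    by_contra hne
    obtain ⟨φ, hφ⟩ := Groth.Agent.Lib.helper3.AlgClosedTensor.exists_algHom_ne_zero (k := k) hne
    apply hφ
    rw [map_mul, map_sub, AlgHom.commutes, Algebra.algebraMap_self, RingHom.id_apply]
    rcases hpt φ with h | h
    · rw [h i, zero_mul]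
    · rw [h j, sub_self, mul_zero]
  by_cases hall : ∀ i, r i = 0
  · left
    have : bK.repr e = 0 := by
      ext i
      have := congrArg Subtype.val (hall i)
      simpa [r] using this
    simpa using this
  · right
    push Not at hall
    obtain ⟨i0, hi0⟩ := hall
    have hj : ∀ j, r j = algebraMap k R (b.repr 1 j) := by
      intro j
      have := hprod i0 j
      rcases mul_eq_zero.mp this with h | h
      · exact absurd h hi0
      · exact sub_eq_zero.mp h
    apply bK.repr.injective
    ext j
    have h1 := congrArg Subtype.val (hj j)
    have h2 : bK.repr (1 : K ⊗[k] F) j = algebraMap k K (b.repr 1 j) := by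
      rw [Algebra.TensorProduct.one_def, Algebra.TensorProduct.basis_repr_tmul]
      simp
    rw [h2]
    simpa [r] using h1

/-- If `k' ⊗[k] F` has only trivial idempotents for all finite field extensions `k'` of `k`, then so
does `K ⊗[k] F` for every field extension `K` of `k`. -/
theorem trivIdem_tensor_of_forall_finite (k F : Type u) [Field k] [CommRing F] [Algebra k F]
    (h : ∀ (K : Type u) [Field K] [Algebra k K], Module.Finite k K → TrivIdem (K ⊗[k] F))
    (K : Type u) [Field K] [Algebra k K] : TrivIdem (K ⊗[k] F) := by
  have hbar : TrivIdem (AlgebraicClosure k ⊗[k] F) := by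
    have h1 : TrivIdem (F ⊗[k] AlgebraicClosure k) := by
      apply trivIdem_tensorProduct_of_flat_of_forall_fg
      intro K' hK'
      have hfield : IsField K' := Subalgebra.isField_of_algebraic K'
      letI : Field K' := hfield.toField
      haveI : Algebra.FiniteType k K' := (Subalgebra.fg_iff_finiteType K').mp hK'
      haveI : Algebra.IsAlgebraic k K' :=
        Algebra.IsAlgebraic.of_injective K'.val Subtype.val_injective
      haveI : Algebra.IsIntegral k K' := Algebra.IsAlgebraic.isIntegral
      haveI hfin : Module.Finite k K' := Algebra.IsIntegral.finite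
      exact (h K' hfin).of_injective (Algebra.TensorProduct.comm k F K').toRingEquiv.toRingHom
        (Algebra.TensorProduct.comm k F K').injective
    exact h1.of_injective (Algebra.TensorProduct.comm k (AlgebraicClosure k) F).toRingEquiv.toRingHom
      (Algebra.TensorProduct.comm k (AlgebraicClosure k) F).injective
  let j : AlgebraicClosure k →ₐ[k] AlgebraicClosure K := IsAlgClosed.lift
  letI algj : Algebra (AlgebraicClosure k) (AlgebraicClosure K) := j.toRingHom.toAlgebra
  haveI : IsScalarTower k (AlgebraicClosure k) (AlgebraicClosure K) :=
    IsScalarTower.of_algebraMap_eq (fun a => (j.commutes a).symm)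
  have h2 : TrivIdem (AlgebraicClosure K ⊗[AlgebraicClosure k] (AlgebraicClosure k ⊗[k] F)) :=
    trivIdem_tensor_of_isAlgClosed (AlgebraicClosure k) (AlgebraicClosure K) _ hbar
  have h3 : TrivIdem (AlgebraicClosure K ⊗[k] F) :=
    h2.of_injective (Algebra.TensorProduct.cancelBaseChange k (AlgebraicClosure k)
      (AlgebraicClosure k) (AlgebraicClosure K) F).symm.toRingEquiv.toRingHom
      (Algebra.TensorProduct.cancelBaseChange k (AlgebraicClosure k) (AlgebraicClosure k)
      (AlgebraicClosure K) F).symm.injective
  let i : K →ₐ[k] AlgebraicClosure K := Algebra.ofId _ _ |>.restrictScalars k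
  have hi : Function.Injective i := (algebraMap K (AlgebraicClosure K)).injective
  have h4 : Function.Injective (Algebra.TensorProduct.map i (AlgHom.id k F)) :=
    Module.Flat.rTensor_preserves_injective_linearMap (M := F) i.toLinearMap hi
  exact h3.of_injective (Algebra.TensorProduct.map i (AlgHom.id k F)).toRingHom h4

end Groth.Agent.Lib.helper17.IdemAlgClosed
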