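import Mathlib
import Groth.Agent.Lib.Helper17.FibreStalk

set_option autoImplicit false
set_option linter.style.haveILetI false
universe u
open CategoryTheory CategoryTheory.Limits AlgebraicGeometry TopologicalSpace IsLocalRing

namespace Groth.Agent.Lib.helper17.FibreStalk2

open Groth.Agent.Lib.helper17.FibreStalk

/-- pullback along a `K`-point `g : Spec K → Y` inducing an isomorphism `κ(y) ≃ K`: the stalk map
of the projection to `X` has kernel `m_y O_{X,x}`. -/
theorem ker_stalkMap_of_isPullback_field {X Y Z : Scheme.{u}} (f : X ⟶ Y) (K : Type u) [Field K]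
    (g : Spec (CommRingCat.of K) ⟶ Y) (ι : Z ⟶ X) (π : Z ⟶ Spec (CommRingCat.of K))
    (h : IsPullback ι π f g)
    (hsurj : Function.Surjective (Scheme.stalkClosedPointTo g).hom) (z : Z) :
    RingHom.ker (ι.stalkMap z).hom =
      (maximalIdeal (Y.presheaf.stalk (f (ι z)))).map (f.stalkMap (ι z)).hom := by
  set φ := Scheme.descResidueField (Scheme.stalkClosedPointTo g) with hφ
  have hφbij : Function.Bijective φ.hom := by
    refine ⟨RingHom.injective _, fun c => ?_⟩
    obtain ⟨s, hs⟩ := hsurj c
    refine ⟨Y.residue _ s, ?_⟩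
    have := Scheme.residue_descResidueField (Scheme.stalkClosedPointTo g)
    rw [← hs]
    exact congrArg (fun m => m.hom s) this
  haveI : IsIso φ := by
    rw [ConcreteCategory.isIso_iff_bijective]
    exact hφbij
  haveI : IsIso (Spec.map φ) := inferInstance
  have hfac : Spec.map φ ≫ Y.fromSpecResidueField (g (closedPoint K)) = g :=
    Scheme.descResidueField_stalkClosedPointTo_fromSpecResidueField K Y g
  have h2 : IsPullback ι (π ≫ Spec.map φ) f (Y.fromSpecResidueField (g (closedPoint K))) := by
    refine IsPullback.of_iso h (Iso.refl _) (Iso.refl _) (asIso (Spec.map φ)) (Iso.refl _) ?_ ?_ ?_ ?_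
    · simp
    · simp
    · simp
    · simp only [Iso.refl_hom, Category.comp_id, asIso_hom]
      exact hfac.symm
  exact ker_stalkMap_of_isPullback f _ ι _ h2 z

end Groth.Agent.Lib.helper17.FibreStalk2
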