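import Mathlib
import Groth.Agent.Lib.Helper24.SmoothRegularIff

/-!
# helper17: regularity of local rings is stable under generization

* `isRegularLocalRing_localization_of_le`: `p ≤ p₀` primes of `B`, `B_{p₀}` regular ⇒ `B_p` regular.
* `isRegularLocalRing_stalk_of_specializes`: `x ⤳ x₀` in a scheme, `O_{X,x₀}` regular ⇒ `O_{X,x}` regular.
* `exists_specializes_closedFibre`: for a closed map `g : Z ⟶ Spec R` (`R` local), every point of `Z`
  specializes to a point over the closed point.
-/

set_option autoImplicit false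
set_option linter.style.haveILetI false
universe u

open CategoryTheory AlgebraicGeometry IsLocalRing

namespace Groth.Agent.Lib.helper17.RegGeneriz

theorem isRegularLocalRing_localization_of_le {B : Type u} [CommRing B] (p p₀ : Ideal B)
    [p.IsPrime] [p₀.IsPrime] (hle : p ≤ p₀)
    (h : IsRegularLocalRing (Localization.AtPrime p₀)) :
    IsRegularLocalRing (Localization.AtPrime p) := by
  haveI : IsRegularRing (Localization.AtPrime p₀) :=
    Groth.Agent.Lib.Helper24.SmoothRegularIff.isRegularRing_of_isRegularLocalRing _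
  have hdisj : Disjoint (p₀.primeCompl : Set B) p := by
    rw [Set.disjoint_left]
    intro a ha hap
    exact ha (hle hap)
  haveI hp' : (p.map (algebraMap B (Localization.AtPrime p₀))).IsPrime :=
    IsLocalization.isPrime_of_isPrime_disjoint p₀.primeCompl _ p ‹_› hdisj
  have hcomap : (p.map (algebraMap B (Localization.AtPrime p₀))).comap
      (algebraMap B (Localization.AtPrime p₀)) = p :=
    IsLocalization.under_map_of_isPrime_disjoint p₀.primeCompl _ ‹_› hdisj
  haveI : IsRegularLocalRing
      (Localization.AtPrime (p.map (algebraMap B (Localization.AtPrime p₀)))) :=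
    IsRegularRing.isRegularLocalRing_localization _
  have h1 := IsLocalization.isLocalization_isLocalization_atPrime_isLocalization p₀.primeCompl
    (Localization.AtPrime (p.map (algebraMap B (Localization.AtPrime p₀))))
    (p.map (algebraMap B (Localization.AtPrime p₀)))
  haveI h2 : IsLocalization.AtPrime
      (Localization.AtPrime (p.map (algebraMap B (Localization.AtPrime p₀)))) p := by
    convert h1 using 2
    exact hcomap.symm
  exact IsRegularLocalRing.of_ringEquiv (IsLocalization.algEquiv p.primeCompl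
    (Localization.AtPrime (p.map (algebraMap B (Localization.AtPrime p₀))))
    (Localization.AtPrime p)).toRingEquiv

set_option backward.isDefEq.respectTransparency false in
theorem isRegularLocalRing_stalk_of_specializes {X : Scheme.{u}} {x x₀ : X} (h : x ⤳ x₀)
    (hreg : IsRegularLocalRing (X.presheaf.stalk x₀)) :
    IsRegularLocalRing (X.presheaf.stalk x) := by
  obtain ⟨U, hU, hx₀U, -⟩ := exists_isAffineOpen_mem_and_subset (x := x₀) (U := ⊤) trivial
  have hxU : x ∈ U := h.mem_open U.2 hx₀U
  letI : Algebra Γ(X, U) (X.presheaf.stalk x₀) :=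
    TopCat.Presheaf.algebra_section_stalk X.presheaf ⟨x₀, hx₀U⟩
  letI : Algebra Γ(X, U) (X.presheaf.stalk x) :=
    TopCat.Presheaf.algebra_section_stalk X.presheaf ⟨x, hxU⟩
  haveI L₀ : IsLocalization.AtPrime (X.presheaf.stalk x₀) (hU.primeIdealOf ⟨x₀, hx₀U⟩).asIdeal :=
    hU.isLocalization_stalk ⟨x₀, hx₀U⟩
  haveI L : IsLocalization.AtPrime (X.presheaf.stalk x) (hU.primeIdealOf ⟨x, hxU⟩).asIdeal :=
    hU.isLocalization_stalk ⟨x, hxU⟩
  have hle : (hU.primeIdealOf ⟨x, hxU⟩).asIdeal ≤ (hU.primeIdealOf ⟨x₀, hx₀U⟩).asIdeal := by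
    intro a ha
    rw [hU.primeIdealOf_eq_map_closedPoint] at ha ⊢
    have ha' : (X.presheaf.germ U x hxU).hom a ∈ maximalIdeal (X.presheaf.stalk x) := ha
    show (X.presheaf.germ U x₀ hx₀U).hom a ∈ maximalIdeal (X.presheaf.stalk x₀)
    rw [IsLocalRing.mem_maximalIdeal, mem_nonunits_iff] at ha' ⊢
    intro hu
    apply ha'
    have h1 : (X.presheaf.germ U x hxU).hom a =
        (X.presheaf.stalkSpecializes h).hom ((X.presheaf.germ U x₀ hx₀U).hom a) := by
      rw [← TopCat.Presheaf.germ_stalkSpecializes X.presheaf hx₀U h]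
      rfl
    rw [h1]
    exact hu.map _
  have hreg₀ : IsRegularLocalRing (Localization.AtPrime (hU.primeIdealOf ⟨x₀, hx₀U⟩).asIdeal) :=
    IsRegularLocalRing.of_ringEquiv (IsLocalization.algEquiv
      (hU.primeIdealOf ⟨x₀, hx₀U⟩).asIdeal.primeCompl (X.presheaf.stalk x₀)
      (Localization.AtPrime (hU.primeIdealOf ⟨x₀, hx₀U⟩).asIdeal)).toRingEquiv
  haveI := isRegularLocalRing_localization_of_le _ _ hle hreg₀
  exact IsRegularLocalRing.of_ringEquiv (IsLocalization.algEquiv
    (hU.primeIdealOf ⟨x, hxU⟩).asIdeal.primeCompl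
    (Localization.AtPrime (hU.primeIdealOf ⟨x, hxU⟩).asIdeal) (X.presheaf.stalk x)).toRingEquiv

/-- every point of a scheme with a closed map to the spectrum of a local ring specializes to a
point of the closed fibre. -/
theorem exists_specializes_closedFibre {R : Type u} [CommRing R] [IsLocalRing R] {Z : Scheme.{u}}
    (g : Z ⟶ Spec (CommRingCat.of R)) (hg : IsClosedMap g) (z : Z) :
    ∃ z₀ : Z, z ⤳ z₀ ∧ g z₀ = closedPoint R := by
  have h1 : IsClosed (g '' closure {z}) := hg _ isClosed_closure
  have h2 : g z ∈ g '' closure {z} := ⟨z, subset_closure rfl, rfl⟩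
  have h3 : closedPoint R ∈ g '' closure {z} :=
    (IsLocalRing.specializes_closedPoint (g z)).mem_closed h1 h2
  obtain ⟨z₀, hz₀, hgz₀⟩ := h3
  exact ⟨z₀, specializes_iff_mem_closure.mpr hz₀, hgz₀⟩

end Groth.Agent.Lib.helper17.RegGeneriz
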