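import Mathlib
import Groth.Prelude.Def_CurvBase
import Groth.Agent.Lib.Helper3.StalkBC2

/-!
# helper17: local rings of `X_{k'}` at points over `x` versus localizations of `k' ⊗[k] O_{X,x}`

For a scheme `X` over a field `k`, a point `x` and a property `Q` of rings that is invariant under
isomorphism:

* `stalk_of_tensor`: if all localizations of `k' ⊗[k] O_{X,x}` at primes have `Q`, then all local rings
  of `X_{k'}` at points over `x` have `Q`.
* `tensor_of_stalk`: conversely for `k'/k` algebraic, provided `Q` is stable under generization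
  (`Q (R_m) → Q (R_p)` for `p ≤ m`).
-/

set_option autoImplicit false
set_option linter.style.haveILetI false
universe u

open CategoryTheory AlgebraicGeometry TensorProduct

namespace Groth.Agent.Lib.helper17.GeomPoint

attribute [local instance] Curv2.stalkAlgebra

variable (k : Type u) [Field k] (X : Scheme.{u}) [X.Over (Spec (CommRingCat.of k))] (x : X)

theorem exists_prime (k' : Type u) [Field k'] [Algebra k k'] (x' : ↥(Curv2.bc k X k'))
    (hx' : Curv2.bcFst k X k' x' = x) :
    ∃ p : PrimeSpectrum ((X.presheaf.stalk x) ⊗[k] k'),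
      Nonempty ((Curv2.bc k X k').presheaf.stalk x' ≃+* Localization.AtPrime p.asIdeal) :=
  Groth.Agent.Lib.helper3.StalkBC2.exists_prime_of_specializes x (X ↘ Spec (CommRingCat.of k)) k'
    (Groth.Agent.Lib.helper3.StalkBC2.specMap_stalkMap k X x) x' (hx' ▸ specializes_rfl)

theorem exists_point (k' : Type u) [Field k'] [Algebra k k'] [Algebra.IsAlgebraic k k']
    (m : Ideal ((X.presheaf.stalk x) ⊗[k] k')) [m.IsMaximal] :
    ∃ x' : ↥(Curv2.bc k X k'), Curv2.bcFst k X k' x' = x ∧
      Nonempty (Localization.AtPrime m ≃+* (Curv2.bc k X k').presheaf.stalk x') :=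
  Groth.Agent.Lib.helper3.StalkBC2.exists_point_of_isMaximal x (X ↘ Spec (CommRingCat.of k)) k'
    (Groth.Agent.Lib.helper3.StalkBC2.specMap_stalkMap k X x) m

section

variable (Q : ∀ (R : Type u) [CommRing R], Prop)
  (hiso : ∀ (R R' : Type u) [CommRing R] [CommRing R'], (R ≃+* R') → Q R → Q R')
include hiso

/-- transport of "all localizations at primes have `Q`" along a ring isomorphism, pointwise. -/
theorem loc_of_ringEquiv {R R' : Type u} [CommRing R] [CommRing R'] (e : R ≃+* R')
    (p : Ideal R') [p.IsPrime] (h : Q (Localization.AtPrime (p.comap e))) :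
    Q (Localization.AtPrime p) :=
  hiso _ _ (IsLocalization.ringEquivOfRingEquiv
    (Localization.AtPrime (p.comap e)) (Localization.AtPrime p) e (e.map_primeCompl_comap_eq p)) h

theorem stalk_of_tensor (k' : Type u) [Field k'] [Algebra k k']
    (h : ∀ (p : Ideal (k' ⊗[k] (X.presheaf.stalk x))) [p.IsPrime], Q (Localization.AtPrime p))
    (x' : ↥(Curv2.bc k X k')) (hx' : Curv2.bcFst k X k' x' = x) :
    Q ((Curv2.bc k X k').presheaf.stalk x') := by
  obtain ⟨p, ⟨e⟩⟩ := exists_prime k X x k' x' hx'
  haveI := p.isPrime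
  refine hiso _ _ e.symm ?_
  refine loc_of_ringEquiv Q hiso (Algebra.TensorProduct.comm k k' (X.presheaf.stalk x)).toRingEquiv
    p.asIdeal ?_
  exact h _

theorem tensor_of_stalk
    (hgen : ∀ (R : Type u) [CommRing R] (p m : Ideal R) [p.IsPrime] [m.IsPrime], p ≤ m →
      Q (Localization.AtPrime m) → Q (Localization.AtPrime p))
    (k' : Type u) [Field k'] [Algebra k k'] [Algebra.IsAlgebraic k k']
    (h : ∀ (x' : ↥(Curv2.bc k X k')), Curv2.bcFst k X k' x' = x →
      Q ((Curv2.bc k X k').presheaf.stalk x'))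
    (p : Ideal (k' ⊗[k] (X.presheaf.stalk x))) [p.IsPrime] : Q (Localization.AtPrime p) := by
  refine loc_of_ringEquiv Q hiso (Algebra.TensorProduct.comm k (X.presheaf.stalk x) k').toRingEquiv
    p ?_
  set p' := p.comap (Algebra.TensorProduct.comm k (X.presheaf.stalk x) k').toRingEquiv with hp'
  obtain ⟨m, hm, hle⟩ := Ideal.exists_le_maximal p' (Ideal.IsPrime.ne_top inferInstance)
  haveI := hm
  obtain ⟨x', hx', ⟨e⟩⟩ := exists_point k X x k' m
  exact hgen _ p' m hle (hiso _ _ e.symm (h x' hx'))

end

end Groth.Agent.Lib.helper17.GeomPoint
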