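import Mathlib
import Groth.Prelude.Def_CurvBase
import Groth.Prelude.Def_Curv2
import Groth.Agent.Lib.Helper17.GeomPoint
import Groth.Agent.Lib.Helper17.RegGeneriz
import Groth.Agent.Lib.Helper24.GeomFG4
import Groth.Agent.Lib.Helper24.GeomLim3

/-!
# helper17: descent of local properties from `X_{k'}` to `X_l`, `l/k` finite purely inseparable

* `stalk_descent`: for a flat morphism `f : Y ⟶ Z`, a property of local rings that descends along
  faithfully flat local maps passes from `O_{Y,y}` to `O_{Z,f y}`.
* `descend_pi`: if all local rings of `(X_{k'})_L` (`L/k'` finite) at points over `x'` have `Q`, then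
  so do the local rings of `X_l` (`l/k` finite purely inseparable) at points over the image of `x'`.
* `geomRegularAt_of_pi`: geometric regularity at a point from the finite purely inseparable
  extensions (assuming only that the local ring at the point is Noetherian).
-/

set_option autoImplicit false
set_option linter.style.haveILetI false
universe u

open CategoryTheory CategoryTheory.Limits AlgebraicGeometry TensorProduct

namespace Groth.Agent.Lib.helper17.GeomPoint

attribute [local instance] Curv2.stalkAlgebra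

theorem universallyInjective_SpecMap (k K : Type u) [Field k] [Field K]
    [Algebra k K] [IsPurelyInseparable k K] :
    UniversallyInjective (Spec.map (CommRingCat.ofHom (algebraMap k K))) := by
  have htfae := (tfae_universallyInjective (Spec.map (CommRingCat.ofHom (algebraMap k K)))).out 0 1
  refine htfae.mpr ?_
  intro L _ g₁ g₂ hg
  obtain ⟨φ₁, rfl⟩ := Spec.map_surjective g₁
  obtain ⟨φ₂, rfl⟩ := Spec.map_surjective g₂
  have hg' : Spec.map (CommRingCat.ofHom (algebraMap k K) ≫ φ₁) =
      Spec.map (CommRingCat.ofHom (algebraMap k K) ≫ φ₂) := by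
    rw [Spec.map_comp, Spec.map_comp]; exact hg
  have h2 := Spec.map_injective hg'
  have h3 : φ₁.hom.comp (algebraMap k K) = φ₂.hom.comp (algebraMap k K) :=
    congrArg CommRingCat.Hom.hom h2
  have h4 := IsPurelyInseparable.injective_comp_algebraMap k K L h3
  congr 1
  exact CommRingCat.hom_ext h4

theorem surjective_SpecMap (k K : Type u) [Field k] [Field K] [Algebra k K] :
    Surjective (Spec.map (CommRingCat.ofHom (algebraMap k K))) := by
  refine ⟨fun p => ⟨(⟨⊥, Ideal.isPrime_bot⟩ : PrimeSpectrum K), ?_⟩⟩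
  exact @Subsingleton.elim _ (inferInstanceAs (Subsingleton (PrimeSpectrum k))) _ _

theorem flat_SpecMap (k K : Type u) [Field k] [Field K] [Algebra k K] :
    Flat (Spec.map (CommRingCat.ofHom (algebraMap k K))) := by
  rw [HasRingHomProperty.Spec_iff (P := @Flat)]
  change (algebraMap k K).Flat
  rw [RingHom.flat_algebraMap_iff]
  infer_instance

section descent

variable (Q : ∀ (R : Type u) [CommRing R], Prop)
  (hdesc : ∀ (R S : Type u) [CommRing R] [CommRing S] [IsLocalRing R] [IsLocalRing S]
    [Algebra R S] [Module.FaithfullyFlat R S], Q S → Q R)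
include hdesc

theorem stalk_descent {Y Z : Scheme.{u}} (f : Y ⟶ Z) [Flat f] (y : Y)
    (h : Q (Y.presheaf.stalk y)) : Q (Z.presheaf.stalk (f y)) := by
  letI : Algebra (Z.presheaf.stalk (f y)) (Y.presheaf.stalk y) := (f.stalkMap y).hom.toAlgebra
  haveI : Module.Flat (Z.presheaf.stalk (f y)) (Y.presheaf.stalk y) := Flat.stalkMap f y
  haveI : IsLocalHom (algebraMap (Z.presheaf.stalk (f y)) (Y.presheaf.stalk y)) := by
    change IsLocalHom (f.stalkMap y).hom
    infer_instance
  haveI : Module.FaithfullyFlat (Z.presheaf.stalk (f y)) (Y.presheaf.stalk y) :=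
    Module.FaithfullyFlat.of_flat_of_isLocalHom
  exact hdesc _ _ h

theorem descend_pi (k : Type u) [Field k] (X : Scheme.{u}) [X.Over (Spec (CommRingCat.of k))]
    (k' : Type u) [Field k'] [Algebra k k'] (x' : ↥(Curv2.bc k X k'))
    (h : letI : (Curv2.bc k X k').Over (Spec (CommRingCat.of k')) := ⟨Curv2.bcSnd k X k'⟩
      ∀ (L : Type u) [Field L] [Algebra k' L] [Module.Finite k' L]
        (w : ↥(Curv2.bc k' (Curv2.bc k X k') L)), Curv2.bcFst k' (Curv2.bc k X k') L w = x' →
        Q ((Curv2.bc k' (Curv2.bc k X k') L).presheaf.stalk w))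
    (l : Type u) [Field l] [Algebra k l] [FiniteDimensional k l] [IsPurelyInseparable k l]
    (z : ↥(Curv2.bc k X l)) (hz : Curv2.bcFst k X l z = Curv2.bcFst k X k' x') :
    Q ((Curv2.bc k X l).presheaf.stalk z) := by
  letI : (Curv2.bc k X k').Over (Spec (CommRingCat.of k')) := ⟨Curv2.bcSnd k X k'⟩
  obtain ⟨L, _, _, _, _, _, _, hL⟩ := Groth.Agent.Lib.Helper24.GeomFG.exists_compositum k k' l
  haveI := hL
  have hba : Spec.map (CommRingCat.ofHom (algebraMap k' L)) ≫
      Spec.map (CommRingCat.ofHom (algebraMap k k')) =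
      Spec.map (CommRingCat.ofHom (algebraMap l L)) ≫
      Spec.map (CommRingCat.ofHom (algebraMap k l)) := by
    rw [← Spec.map_comp, ← Spec.map_comp, ← CommRingCat.ofHom_comp, ← CommRingCat.ofHom_comp,
      ← IsScalarTower.algebraMap_eq, ← IsScalarTower.algebraMap_eq]
  have hcomm : (Curv2.bcFst k' (Curv2.bc k X k') L ≫ Curv2.bcFst k X k') ≫
      (X ↘ Spec (CommRingCat.of k)) =
      (Curv2.bcSnd k' (Curv2.bc k X k') L ≫ Spec.map (CommRingCat.ofHom (algebraMap l L))) ≫
      Spec.map (CommRingCat.ofHom (algebraMap k l)) := by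
    rw [Category.assoc, Category.assoc, ← hba]
    have h1 : Curv2.bcFst k X k' ≫ (X ↘ Spec (CommRingCat.of k)) =
        Curv2.bcSnd k X k' ≫ Spec.map (CommRingCat.ofHom (algebraMap k k')) := pullback.condition
    have h2 : Curv2.bcFst k' (Curv2.bc k X k') L ≫ Curv2.bcSnd k X k' =
        Curv2.bcSnd k' (Curv2.bc k X k') L ≫ Spec.map (CommRingCat.ofHom (algebraMap k' L)) :=
      pullback.condition
    rw [h1, ← Category.assoc, h2, Category.assoc]
  let π : Curv2.bc k' (Curv2.bc k X k') L ⟶ Curv2.bc k X l :=
    pullback.lift (Curv2.bcFst k' (Curv2.bc k X k') L ≫ Curv2.bcFst k X k')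
      (Curv2.bcSnd k' (Curv2.bc k X k') L ≫ Spec.map (CommRingCat.ofHom (algebraMap l L))) hcomm
  have hπ1 : π ≫ Curv2.bcFst k X l =
      Curv2.bcFst k' (Curv2.bc k X k') L ≫ Curv2.bcFst k X k' := pullback.lift_fst _ _ _
  have hπ2 : π ≫ Curv2.bcSnd k X l =
      Curv2.bcSnd k' (Curv2.bc k X k') L ≫ Spec.map (CommRingCat.ofHom (algebraMap l L)) :=
    pullback.lift_snd _ _ _
  have big : IsPullback (Curv2.bcFst k' (Curv2.bc k X k') L ≫ Curv2.bcFst k X k')
      (Curv2.bcSnd k' (Curv2.bc k X k') L) (X ↘ Spec (CommRingCat.of k))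
      (Spec.map (CommRingCat.ofHom (algebraMap k' L)) ≫
        Spec.map (CommRingCat.ofHom (algebraMap k k'))) :=
    (IsPullback.of_hasPullback (Curv2.bcSnd k X k')
      (Spec.map (CommRingCat.ofHom (algebraMap k' L)))).paste_horiz
      (IsPullback.of_hasPullback (X ↘ Spec (CommRingCat.of k))
        (Spec.map (CommRingCat.ofHom (algebraMap k k'))))
  rw [hba, ← hπ1] at big
  have hpb : IsPullback π (Curv2.bcSnd k' (Curv2.bc k X k') L) (Curv2.bcSnd k X l)
      (Spec.map (CommRingCat.ofHom (algebraMap l L))) :=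
    IsPullback.of_right big hπ2
      (IsPullback.of_hasPullback (X ↘ Spec (CommRingCat.of k))
        (Spec.map (CommRingCat.ofHom (algebraMap k l))))
  haveI : Flat π := MorphismProperty.of_isPullback (P := @Flat) hpb.flip (flat_SpecMap l L)
  haveI : Surjective (Curv2.bcFst k' (Curv2.bc k X k') L) :=
    MorphismProperty.of_isPullback (P := @Surjective)
      (IsPullback.of_hasPullback (Curv2.bcSnd k X k')
        (Spec.map (CommRingCat.ofHom (algebraMap k' L)))).flip (surjective_SpecMap k' L)
  haveI : UniversallyInjective (Curv2.bcFst k X l) :=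
    MorphismProperty.of_isPullback (P := @UniversallyInjective)
      (IsPullback.of_hasPullback (X ↘ Spec (CommRingCat.of k))
        (Spec.map (CommRingCat.ofHom (algebraMap k l)))).flip (universallyInjective_SpecMap k l)
  obtain ⟨w, hw⟩ := (Curv2.bcFst k' (Curv2.bc k X k') L).surjective x'
  have hπw : π w = z := by
    apply (Curv2.bcFst k X l).injective
    rw [hz, ← hw, ← Scheme.Hom.comp_apply, ← Scheme.Hom.comp_apply, hπ1]
  have hQw := h L w hw
  have := stalk_descent Q hdesc π w hQw
  rwa [hπw] at this

end descent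

/-- Geometric regularity at a point can be checked on finite purely inseparable extensions, as
soon as the local ring at the point is Noetherian. -/
theorem geomRegularAt_of_pi (k : Type u) [Field k] (X : Scheme.{u})
    [X.Over (Spec (CommRingCat.of k))] (x : X) [IsNoetherianRing (X.presheaf.stalk x)]
    (h : ∀ (k' : Type u) [Field k'] [Algebra k k'] [FiniteDimensional k k']
      [IsPurelyInseparable k k'] (x' : ↥(Curv2.bc k X k')),
      Curv2.bcFst k X k' x' = x → IsRegularLocalRing ↥((Curv2.bc k X k').presheaf.stalk x')) :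
    Curv2.IsGeomRegularAt k X x := by
  have hiso : ∀ (R R' : Type u) [CommRing R] [CommRing R'], (R ≃+* R') →
      IsRegularLocalRing R → IsRegularLocalRing R' := fun R R' _ _ e h => by
    haveI := h
    exact IsRegularLocalRing.of_ringEquiv e
  have hgen : ∀ (R : Type u) [CommRing R] (p m : Ideal R) [p.IsPrime] [m.IsPrime], p ≤ m →
      IsRegularLocalRing (Localization.AtPrime m) → IsRegularLocalRing (Localization.AtPrime p) :=
    fun R _ p m _ _ hle h =>
      Groth.Agent.Lib.helper17.RegGeneriz.isRegularLocalRing_localization_of_le p m hle h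
  have h3 : ∀ (k' : Type u) [Field k'] [Algebra k k'], Module.Finite k k' →
      IsRegularRing (k' ⊗[k] (X.presheaf.stalk x)) := by
    refine (Groth.Agent.Lib.Helper24.GeomFG.geom_iff_pi
      Groth.Agent.Lib.Helper24.GeomFG.geomStable_isRegularRing k (X.presheaf.stalk x)).2 ?_
    intro k' _ _ hfin hpi
    haveI := hfin
    haveI := hpi
    haveI : IsNoetherianRing (k' ⊗[k] (X.presheaf.stalk x)) :=
      Groth.Agent.Lib.Helper24.GeomLim.isNoetherianRing_tensor_finite k _ k'
    rw [isRegularRing_iff]
    intro p hp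
    exact tensor_of_stalk k X x
      (fun R _ => IsRegularLocalRing R) hiso hgen k' (fun x' hx' => h k' x' hx') p
  intro k' _ _ hfg x' hx'
  have hess : Algebra.EssFiniteType k k' := IntermediateField.fg_top_iff.1 hfg
  have h1 : IsRegularRing (k' ⊗[k] (X.presheaf.stalk x)) :=
    (Groth.Agent.Lib.Helper24.GeomFG.geom_iff_fg
      Groth.Agent.Lib.Helper24.GeomFG.geomStable_isRegularRing k (X.presheaf.stalk x)).1 h3 k' hess
  exact stalk_of_tensor k X x
    (fun R _ => IsRegularLocalRing R) hiso k'
    (fun p _ => IsRegularRing.isRegularLocalRing_localization p) x' hx'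

end Groth.Agent.Lib.helper17.GeomPoint
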