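import Mathlib
import Groth.Agent.Lib.Helper17.GorFlat
import Groth.Agent.Lib.Helper17.PrincGor
import Groth.Agent.Lib.Helper17.FieldCM
import Groth.Agent.Lib.Helper17.FibreStalk

/-!
# helper17: local rings along étale (unramified flat) morphisms

* `map_maximalIdeal_of_unramified`: for `a : U ⟶ X` formally unramified and locally of finite type,
  `m_{a u} O_{U,u} = m_u`.
* `gor_stalk_iff_of_etale`, `cm_stalk_iff_of_etale`: the local rings of `U` and `X` at `u`, `a u`
  are simultaneously Gorenstein (Cohen–Macaulay).
* `isField_stalk_of_etale_field`: the local rings of a scheme étale over a field are fields.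
* `fibRing_equiv_of_isField`: if `O_{Y, f x}` is a field then the local ring of the fibre at `x` is
  `O_{X,x}`.
-/

set_option autoImplicit false
set_option linter.style.haveILetI false
universe u
open CategoryTheory CategoryTheory.Limits AlgebraicGeometry TopologicalSpace IsLocalRing

namespace Groth.Agent.Lib.helper17.EtaleStalk

open Groth.Agent.Lib.helper17.FibreStalk Groth.Agent.Lib.helper17.GorIso

/-- a field is a Gorenstein local ring. -/
theorem gor_of_isField (R : Type u) [CommRing R] (h : IsField R) :
    LocCoh.IsGorensteinLocalRing R := by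
  letI := h.toField
  refine Groth.Agent.Lib.helper17.PrincGor.gor_of_principal_maximalIdeal R 0 ?_
  rw [IsLocalRing.isField_iff_maximalIdeal_eq.mp h]
  simp

/-- a field is a Cohen–Macaulay local ring. -/
theorem cm_of_isField (R : Type u) [CommRing R] (h : IsField R) :
    LocCoh.IsCohenMacaulayLocalRing R := by
  letI := h.toField
  exact Groth.Agent.Lib.helper17.FieldCM.cm_of_krullDimLE_zero R

variable {U X : Scheme.{u}}

theorem map_maximalIdeal_of_unramified (a : U ⟶ X) [FormallyUnramified a] [LocallyOfFiniteType a]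
    (u : U) :
    (maximalIdeal (X.presheaf.stalk (a u))).map (a.stalkMap u).hom =
      maximalIdeal (U.presheaf.stalk u) := by
  letI := (a.stalkMap u).hom.toAlgebra
  haveI : IsLocalHom (algebraMap (X.presheaf.stalk (a u)) (U.presheaf.stalk u)) :=
    inferInstanceAs (IsLocalHom (a.stalkMap u).hom)
  haveI : Algebra.EssFiniteType (X.presheaf.stalk (a u)) (U.presheaf.stalk u) :=
    LocallyOfFiniteType.stalkMap a u
  haveI : Algebra.FormallyUnramified (X.presheaf.stalk (a u)) (U.presheaf.stalk u) :=
    FormallyUnramified.stalkMap a u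
  exact Algebra.FormallyUnramified.map_maximalIdeal

/-- closed fibre of the stalk map of an unramified morphism is a field. -/
theorem isField_closedFibre_of_unramified (a : U ⟶ X) [FormallyUnramified a]
    [LocallyOfFiniteType a] (u : U) :
    IsField (U.presheaf.stalk u ⧸
      (maximalIdeal (X.presheaf.stalk (a u))).map (a.stalkMap u).hom) := by
  rw [map_maximalIdeal_of_unramified a u, ← Ideal.Quotient.maximal_ideal_iff_isField_quotient]
  infer_instance

theorem gor_stalk_iff_of_etale (a : U ⟶ X) [Etale a] (u : U)
    [IsNoetherianRing (X.presheaf.stalk (a u))] [IsNoetherianRing (U.presheaf.stalk u)] :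
    LocCoh.IsGorensteinLocalRing (U.presheaf.stalk u) ↔
      LocCoh.IsGorensteinLocalRing (X.presheaf.stalk (a u)) := by
  letI := (a.stalkMap u).hom.toAlgebra
  haveI : IsLocalHom (algebraMap (X.presheaf.stalk (a u)) (U.presheaf.stalk u)) :=
    inferInstanceAs (IsLocalHom (a.stalkMap u).hom)
  haveI : Module.Flat (X.presheaf.stalk (a u)) (U.presheaf.stalk u) := Flat.stalkMap a u
  rw [Groth.Agent.Lib.helper17.GorFlat.gor_iff_of_flat (X.presheaf.stalk (a u))
    (U.presheaf.stalk u)]
  have hF := gor_of_isField _ (isField_closedFibre_of_unramified a u)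
  exact ⟨fun h => h.1, fun h => ⟨h, hF⟩⟩

theorem cm_stalk_iff_of_etale (a : U ⟶ X) [Etale a] (u : U)
    [IsNoetherianRing (X.presheaf.stalk (a u))] [IsNoetherianRing (U.presheaf.stalk u)] :
    LocCoh.IsCohenMacaulayLocalRing (U.presheaf.stalk u) ↔
      LocCoh.IsCohenMacaulayLocalRing (X.presheaf.stalk (a u)) := by
  letI := (a.stalkMap u).hom.toAlgebra
  haveI : IsLocalHom (algebraMap (X.presheaf.stalk (a u)) (U.presheaf.stalk u)) :=
    inferInstanceAs (IsLocalHom (a.stalkMap u).hom)
  haveI : Module.Flat (X.presheaf.stalk (a u)) (U.presheaf.stalk u) := Flat.stalkMap a u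
  rw [Groth.Agent.Lib.Helper24.FlatDepth.cm_iff_of_flat (X.presheaf.stalk (a u))
    (U.presheaf.stalk u)]
  have hF := cm_of_isField _ (isField_closedFibre_of_unramified a u)
  exact ⟨fun h => h.1, fun h => ⟨h, hF⟩⟩

/-- the local rings of the spectrum of a field are fields. -/
theorem isField_stalk_spec_field (k : Type u) [Field k] (z : Spec (CommRingCat.of k)) :
    IsField ((Spec (CommRingCat.of k)).presheaf.stalk z) := by
  have e3 : Localization.AtPrime z.asIdeal ≃+*
      (Spec (CommRingCat.of k)).presheaf.stalk z :=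
    (IsLocalization.algEquiv z.asIdeal.primeCompl (Localization.AtPrime z.asIdeal)
      ((Spec.structureSheaf k).presheaf.stalk z)).toRingEquiv
  have e4 : k ≃ₐ[k] Localization.AtPrime z.asIdeal :=
    IsLocalization.atUnits k z.asIdeal.primeCompl (fun x hx => by
      change IsUnit x
      rw [isUnit_iff_ne_zero]
      rintro rfl
      exact hx (zero_mem _))
  exact (e4.toRingEquiv.trans e3).symm.toMulEquiv.isField (Field.toIsField k)

/-- the local rings of a scheme étale over a field are fields. -/
theorem isField_stalk_of_etale_field (k : Type u) [Field k] {V : Scheme.{u}}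
    (b : V ⟶ Spec (CommRingCat.of k)) [FormallyUnramified b] [LocallyOfFiniteType b] (v : V) :
    IsField (V.presheaf.stalk v) := by
  rw [IsLocalRing.isField_iff_maximalIdeal_eq, ← map_maximalIdeal_of_unramified b v,
    IsLocalRing.isField_iff_maximalIdeal_eq.mp (isField_stalk_spec_field k (b v)), Ideal.map_bot]

variable {Y : Scheme.{u}}

/-- if `O_{Y, f x}` is a field, the local ring of the fibre of `f` at `x` is `O_{X,x}`. -/
theorem nonempty_fibre_stalk_equiv_of_isField (f : X ⟶ Y) (x : X)
    (h : IsField (Y.presheaf.stalk (f x))) :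
    Nonempty ((f.fiber (f x)).presheaf.stalk (f.asFiber x) ≃+* X.presheaf.stalk x) := by
  obtain ⟨e⟩ := nonempty_asFiber_stalk_equiv f x
  have h0 : (maximalIdeal (Y.presheaf.stalk (f x))).map (f.stalkMap x).hom = ⊥ := by
    rw [IsLocalRing.isField_iff_maximalIdeal_eq.mp h, Ideal.map_bot]
  exact ⟨e.symm.trans ((Ideal.quotEquivOfEq h0).trans (RingEquiv.quotientBot _))⟩

theorem flat_stalkMap_of_isField (f : X ⟶ Y) (x : X)
    (h : IsField (Y.presheaf.stalk (f x))) : (f.stalkMap x).hom.Flat := by
  letI := h.toField
  letI := (f.stalkMap x).hom.toAlgebra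
  change Module.Flat (Y.presheaf.stalk (f x)) (X.presheaf.stalk x)
  infer_instance

end Groth.Agent.Lib.helper17.EtaleStalk
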