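import Mathlib
import Groth.Prelude.Def_CurvBase
import Groth.Agent.Lib.Helper18.LocalEtale
import Groth.Agent.Lib.Helper24.CplIso

/-!
# Ordinary double points and étale local homomorphisms (helper17)

* `residue_surjective_of_isOrdDoublePt`: the residue field of an ordinary double point over `K` is `K`.
* `complEquiv_of_etale`: a flat unramified local homomorphism of Noetherian local rings with trivial
  residue field extension induces an isomorphism on completions.
* `isOrdDoublePt_iff_of_etale`: transfer of `Curv2.IsOrdDoublePt` along such a homomorphism.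
-/

set_option autoImplicit false
set_option linter.style.haveILetI false
universe u

namespace Groth.Agent.Lib.helper17.OdpEtale

open IsLocalRing

theorem residue_surjective_of_isOrdDoublePt (K A : Type u) [Field K] [CommRing A] [Algebra K A]
    [IsLocalRing A] (h : Curv2.IsOrdDoublePt K A) :
    Function.Surjective ((residue A).comp (algebraMap K A)) := by
  obtain ⟨e, he⟩ := h
  let cc : (MvPowerSeries (Fin 2) K ⧸ Ideal.span
      {(MvPowerSeries.X 0 * MvPowerSeries.X 1 : MvPowerSeries (Fin 2) K)}) →+* K :=
    Ideal.Quotient.lift _ (MvPowerSeries.constantCoeff (σ := Fin 2) (R := K)) (by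
      intro a ha
      have hle : Ideal.span {(MvPowerSeries.X 0 * MvPowerSeries.X 1 : MvPowerSeries (Fin 2) K)} ≤
          RingHom.ker (MvPowerSeries.constantCoeff (σ := Fin 2) (R := K)) := by
        rw [Ideal.span_le, Set.singleton_subset_iff, SetLike.mem_coe, RingHom.mem_ker, map_mul,
          MvPowerSeries.constantCoeff_X, zero_mul]
      exact hle ha)
  let ρ : A →+* K := cc.comp (e.toRingHom.comp
    (algebraMap A (AdicCompletion (maximalIdeal A) A)))
  have hρ : ∀ c : K, ρ (algebraMap K A c) = c := by
    intro c
    change cc (e (algebraMap A _ (algebraMap K A c))) = c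
    rw [he c]
    rw [Ideal.Quotient.lift_mk]
    exact MvPowerSeries.constantCoeff_C c
  have hker : RingHom.ker ρ ≤ maximalIdeal A := by
    apply IsLocalRing.le_maximalIdeal
    intro htop
    have : (1 : A) ∈ RingHom.ker ρ := by rw [htop]; trivial
    rw [RingHom.mem_ker, map_one] at this
    exact one_ne_zero this
  intro x
  obtain ⟨a, rfl⟩ := residue_surjective x
  refine ⟨ρ a, ?_⟩
  have h1 : a - algebraMap K A (ρ a) ∈ RingHom.ker ρ := by
    rw [RingHom.mem_ker, map_sub, hρ, sub_self]
  have h2 := hker h1
  rw [← residue_eq_zero_iff, map_sub, sub_eq_zero] at h2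
  exact h2.symm

section equiv

variable (A B : Type u) [CommRing A] [CommRing B] [IsLocalRing A] [IsLocalRing B]
  [IsNoetherianRing A] [IsNoetherianRing B] [Algebra A B] [IsLocalHom (algebraMap A B)]

theorem exists_complEquiv_of_etale [Module.Flat A B]
    (hres : Function.Surjective (algebraMap (ResidueField A) (ResidueField B)))
    (hm : (maximalIdeal A).map (algebraMap A B) = maximalIdeal B) :
    ∃ E : AdicCompletion (maximalIdeal A) A ≃+* AdicCompletion (maximalIdeal B) B,
      ∀ a : A, E (algebraMap A _ a) = algebraMap B _ (algebraMap A B a) := by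
  have hl := fun n => H18Loc.levelwise_of_etale A B hres hm n
  have hinj : ∀ (n : ℕ) (r : A), algebraMap A B r ∈ maximalIdeal B ^ n → r ∈ maximalIdeal A ^ n := by
    intro n r hr
    rw [← (hl n).2]
    exact hr
  have hsurj : ∀ (n : ℕ) (s : B), ∃ r : A, s - algebraMap A B r ∈ maximalIdeal B ^ n :=
    fun n s => (hl n).1 s
  refine ⟨Groth.Agent.Lib.Helper24.CplIso.complEquiv (maximalIdeal A) (maximalIdeal B)
    (algebraMap A B) (le_of_eq hm) hinj hsurj, ?_⟩
  intro a
  rw [AdicCompletion.algebraMap_apply, AdicCompletion.algebraMap_apply, Algebra.algebraMap_self,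
    Algebra.algebraMap_self, RingHom.id_apply, RingHom.id_apply]
  exact Groth.Agent.Lib.Helper24.CplFlat.complMap_of _ _ _ (le_of_eq hm) a

end equiv

theorem isOrdDoublePt_iff_of_etale (K A B : Type u) [Field K] [CommRing A] [CommRing B]
    [Algebra K A] [Algebra K B] [IsLocalRing A] [IsLocalRing B]
    [IsNoetherianRing A] [IsNoetherianRing B] [Algebra A B] [IsLocalHom (algebraMap A B)]
    [IsScalarTower K A B] [Module.Flat A B]
    (hres : Function.Surjective (algebraMap (ResidueField A) (ResidueField B)))
    (hm : (maximalIdeal A).map (algebraMap A B) = maximalIdeal B) :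
    Curv2.IsOrdDoublePt K A ↔ Curv2.IsOrdDoublePt K B := by
  obtain ⟨E, hE⟩ := exists_complEquiv_of_etale A B hres hm
  constructor
  · rintro ⟨e, he⟩
    refine ⟨E.symm.trans e, fun c => ?_⟩
    rw [RingEquiv.trans_apply, IsScalarTower.algebraMap_apply K A B, ← hE, RingEquiv.symm_apply_apply]
    exact he c
  · rintro ⟨e, he⟩
    refine ⟨E.trans e, fun c => ?_⟩
    rw [RingEquiv.trans_apply, hE, ← IsScalarTower.algebraMap_apply K A B]
    exact he c

end Groth.Agent.Lib.helper17.OdpEtale
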