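import Mathlib
import Groth.Prelude.Def_CurvBase
import Groth.Agent.Lib.Helper17.OdpEtale
import Groth.Agent.Lib.Helper17.EtaleStalk
import Groth.Agent.Lib.Helper2.ConstFin3
import Groth.Agent.Lib.Helper3.StalkBC2

/-!
# Nodes and étale morphisms (helper17)

* `stalkMap_comp`: `Curv2.stalkMap` is compatible with morphisms over `Spec K`.
* `isClosed_singleton_iff_of_etale`: for `π : Y ⟶ X` étale with `X` Jacobson, `π y` is closed iff `y` is.
* `odp_iff`: transfer of `Curv2.IsOrdDoublePt` along an étale morphism over an algebraically closed field.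
* `bcMap`, `isPullback_bcMap`: the base change of a morphism of `k`-schemes to a field extension.
* `isNode_iff_of_etale`: `π y` is a node of `X` iff `y` is a node of `Y` (`π` étale, `X` l.f.t. over `k`).
-/

set_option autoImplicit false
set_option linter.style.haveILetI false
universe u

namespace Groth.Agent.Lib.helper17.NodeEtale

open CategoryTheory CategoryTheory.Limits AlgebraicGeometry IsLocalRing

/-- the structure map to a local ring is compatible with morphisms over `Spec K`. -/
theorem stalkMap_comp (K : Type u) [Field K] {V W : Scheme.{u}}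
    (s : W ⟶ Spec (CommRingCat.of K)) (g : V ⟶ W) (t : V ⟶ Spec (CommRingCat.of K))
    (ht : g ≫ s = t) (v : V) :
    @Curv2.stalkMap K _ V ⟨t⟩ v =
      (g.stalkMap v).hom.comp (@Curv2.stalkMap K _ W ⟨s⟩ (g v)) := by
  subst ht
  have h1 := @Groth.Agent.Lib.helper3.StalkBC2.specMap_stalkMap K _ V ⟨g ≫ s⟩ v
  have h2 := @Groth.Agent.Lib.helper3.StalkBC2.specMap_stalkMap K _ W ⟨s⟩ (g v)
  change V.fromSpecStalk v ≫ (g ≫ s) = _ at h1
  change W.fromSpecStalk (g v) ≫ s = _ at h2
  have h3 : Spec.map (CommRingCat.ofHom (@Curv2.stalkMap K _ V ⟨g ≫ s⟩ v)) =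
      Spec.map (CommRingCat.ofHom ((g.stalkMap v).hom.comp (@Curv2.stalkMap K _ W ⟨s⟩ (g v)))) := by
    rw [← h1, CommRingCat.ofHom_comp, Spec.map_comp, ← h2, CommRingCat.ofHom_hom,
      Scheme.SpecMap_stalkMap_fromSpecStalk_assoc]
  have h4 := Spec.map_injective h3
  exact congrArg CommRingCat.Hom.hom h4

theorem isClosed_singleton_iff_of_etale {X Y : Scheme.{u}} [JacobsonSpace X] (π : Y ⟶ X) [Etale π]
    (y : Y) : IsClosed ({π y} : Set X) ↔ IsClosed ({y} : Set Y) := by
  constructor
  · intro h
    haveI := Groth.Agent.Lib.helper2.ConstFin.locallyQuasiFinite_of_etale π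
    have h1 : _root_.IsDiscrete (π ⁻¹' {π y}) := π.isDiscrete_preimage_singleton (π y)
    have h2 : IsClosed (π ⁻¹' {π y}) := h.preimage π.continuous
    have h3 : ({y} : Set Y) ⊆ π ⁻¹' {π y} := by
      rw [Set.singleton_subset_iff]; rfl
    exact isClosed_of_subset_discrete_closed h3 h1 h2
  · intro h
    exact π.closePoints_subset_preimage_closedPoints h

/-- transfer of ordinary double points along an étale morphism of schemes locally of finite type
over an algebraically closed field. -/
theorem odp_iff (K : Type u) [Field K] [IsAlgClosed K] {V W : Scheme.{u}}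
    (s : W ⟶ Spec (CommRingCat.of K)) [LocallyOfFiniteType s] (g : V ⟶ W) [Etale g]
    (t : V ⟶ Spec (CommRingCat.of K)) (ht : g ≫ s = t) (v : V) :
    (letI := @Curv2.stalkAlgebra K _ W ⟨s⟩ (g v)
     Curv2.IsOrdDoublePt K (W.presheaf.stalk (g v))) ↔
    (letI := @Curv2.stalkAlgebra K _ V ⟨t⟩ v
     Curv2.IsOrdDoublePt K (V.presheaf.stalk v)) := by
  letI iA : Algebra K (W.presheaf.stalk (g v)) := @Curv2.stalkAlgebra K _ W ⟨s⟩ (g v)
  letI iB : Algebra K (V.presheaf.stalk v) := @Curv2.stalkAlgebra K _ V ⟨t⟩ v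
  letI iAB : Algebra (W.presheaf.stalk (g v)) (V.presheaf.stalk v) := (g.stalkMap v).hom.toAlgebra
  haveI : IsLocalHom (algebraMap (W.presheaf.stalk (g v)) (V.presheaf.stalk v)) :=
    inferInstanceAs (IsLocalHom (g.stalkMap v).hom)
  haveI : IsScalarTower K (W.presheaf.stalk (g v)) (V.presheaf.stalk v) := by
    apply IsScalarTower.of_algebraMap_eq
    intro c
    have := congrArg (fun φ => φ c) (stalkMap_comp K s g t ht v)
    exact this
  haveI : IsLocallyNoetherian W := LocallyOfFiniteType.isLocallyNoetherian s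
  haveI : LocallyOfFiniteType t := by rw [← ht]; infer_instance
  haveI : IsLocallyNoetherian V := LocallyOfFiniteType.isLocallyNoetherian t
  haveI : Module.Flat (W.presheaf.stalk (g v)) (V.presheaf.stalk v) := Flat.stalkMap g v
  haveI : Algebra.EssFiniteType (W.presheaf.stalk (g v)) (V.presheaf.stalk v) :=
    LocallyOfFiniteType.stalkMap g v
  haveI : Algebra.FormallyUnramified (W.presheaf.stalk (g v)) (V.presheaf.stalk v) :=
    FormallyUnramified.stalkMap g v
  have hm : (maximalIdeal (W.presheaf.stalk (g v))).map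
      (algebraMap (W.presheaf.stalk (g v)) (V.presheaf.stalk v)) =
      maximalIdeal (V.presheaf.stalk v) :=
    Groth.Agent.Lib.helper17.EtaleStalk.map_maximalIdeal_of_unramified g v
  have hKres : ∀ c : K, algebraMap (ResidueField (W.presheaf.stalk (g v)))
      (ResidueField (V.presheaf.stalk v)) (residue _ (algebraMap K _ c)) =
      residue _ (algebraMap K (V.presheaf.stalk v) c) := by
    intro c
    rw [IsScalarTower.algebraMap_apply K (W.presheaf.stalk (g v)) (V.presheaf.stalk v)]
    rfl
  constructor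
  · intro h
    have hs := OdpEtale.residue_surjective_of_isOrdDoublePt K _ h
    -- κ(A) is algebraically closed
    have hbij : Function.Bijective ((residue (W.presheaf.stalk (g v))).comp
        (algebraMap K (W.presheaf.stalk (g v)))) := ⟨RingHom.injective _, hs⟩
    haveI : IsAlgClosed (ResidueField (W.presheaf.stalk (g v))) :=
      IsAlgClosed.of_ringEquiv _ _ (RingEquiv.ofBijective _ hbij)
    have hres : Function.Surjective (algebraMap (ResidueField (W.presheaf.stalk (g v)))
        (ResidueField (V.presheaf.stalk v))) :=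
      IsAlgClosed.algebraMap_bijective_of_isIntegral.2
    exact (OdpEtale.isOrdDoublePt_iff_of_etale K _ _ hres hm).1 h
  · intro h
    have hs := OdpEtale.residue_surjective_of_isOrdDoublePt K _ h
    have hres : Function.Surjective (algebraMap (ResidueField (W.presheaf.stalk (g v)))
        (ResidueField (V.presheaf.stalk v))) := by
      intro x
      obtain ⟨c, hc⟩ := hs x
      exact ⟨residue _ (algebraMap K _ c), (hKres c).trans hc⟩
    exact (OdpEtale.isOrdDoublePt_iff_of_etale K _ _ hres hm).2 h

section bc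

variable {k K : Type u} [Field k] [Field K] [Algebra k K] {X Y : Scheme.{u}}
  (p : X ⟶ Spec (CommRingCat.of k)) (π : Y ⟶ X)

/-- the base change of `π` to `K`. -/
noncomputable def bcMap :
    pullback (π ≫ p) (Spec.map (CommRingCat.ofHom (algebraMap k K))) ⟶
      pullback p (Spec.map (CommRingCat.ofHom (algebraMap k K))) :=
  pullback.lift (pullback.fst _ _ ≫ π) (pullback.snd _ _)
    (by rw [Category.assoc, pullback.condition])

theorem bcMap_fst : bcMap (K := K) p π ≫ pullback.fst _ _ = pullback.fst _ _ ≫ π :=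
  pullback.lift_fst _ _ _

theorem bcMap_snd : bcMap (K := K) p π ≫ pullback.snd _ _ = pullback.snd _ _ :=
  pullback.lift_snd _ _ _

theorem isPullback_bcMap :
    IsPullback (bcMap (K := K) p π) (pullback.fst (π ≫ p) _) (pullback.fst p _) π := by
  refine IsPullback.of_right ?_ (bcMap_fst p π) (IsPullback.of_hasPullback p _).flip
  rw [bcMap_snd]
  exact (IsPullback.of_hasPullback (π ≫ p) _).flip

instance [Etale π] : Etale (bcMap (K := K) p π) :=
  MorphismProperty.of_isPullback (isPullback_bcMap p π).flip inferInstance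

end bc

theorem isNode_iff_of_etale (k : Type u) [Field k] {X Y : Scheme.{u}}
    (p : X ⟶ Spec (CommRingCat.of k)) [LocallyOfFiniteType p] (π : Y ⟶ X) [Etale π]
    (q : Y ⟶ Spec (CommRingCat.of k)) (hq : π ≫ p = q) (y : Y) :
    @Curv2.IsNode k _ X ⟨p⟩ (π y) ↔ @Curv2.IsNode k _ Y ⟨q⟩ y := by
  subst hq
  haveI : JacobsonSpace X := LocallyOfFiniteType.jacobsonSpace p
  unfold Curv2.IsNode
  refine and_congr (isClosed_singleton_iff_of_etale π y) ?_
  constructor
  · rintro ⟨xb, hxb, h⟩
    obtain ⟨yb, hyb1, hyb2⟩ := Groth.Agent.Lib.helper2.ConstFin.exists_preimage_of_isPullback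
      (isPullback_bcMap (K := AlgebraicClosure k) p π) xb y hxb
    subst hyb1
    refine ⟨yb, hyb2, ?_⟩
    exact (odp_iff (AlgebraicClosure k) (pullback.snd p _) (bcMap p π) (pullback.snd (π ≫ p) _)
      (bcMap_snd p π) yb).1 h
  · rintro ⟨yb, hyb, h⟩
    refine ⟨bcMap p π yb, ?_, ?_⟩
    · change (bcMap p π ≫ pullback.fst _ _) yb = _
      rw [bcMap_fst, Scheme.Hom.comp_apply]
      exact congrArg π hyb
    · exact (odp_iff (AlgebraicClosure k) (pullback.snd p _) (bcMap p π) (pullback.snd (π ≫ p) _)
        (bcMap_snd p π) yb).2 h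

end Groth.Agent.Lib.helper17.NodeEtale
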