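import Mathlib
import Groth.Prelude.Def_CurvBase
import Groth.Agent.Lib.Helper17.NodeEtale

/-!
# Nodes and restriction of the base field along a finite separable extension (helper17)

* `jMap p' c ι' ι hι : X ×_{B'} T ⟶ X ×_B T` for `c : B' ⟶ B`, `ι' ≫ c = ι`; étale if `c` is
  (`isPullback_jMap`, `etale_jMap`).
* `isOrdDoublePt_of_ringEquiv`: transport of `Curv2.IsOrdDoublePt` along an isomorphism of base fields.
* `stalkMap_baseField`: `Curv2.stalkMap` under a change of base field.
* `exists_odp_of_algEquiv`: the node condition does not depend on the choice of algebraic closure.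
* `etale_specMap_of_finite_separable`.
* `isNode_restrict_of_isNode`: a node over a finite separable extension `k'/k` is a node over `k`.
-/

set_option autoImplicit false
set_option linter.style.haveILetI false
universe u

namespace Groth.Agent.Lib.helper17.EtBaseRestr

open CategoryTheory CategoryTheory.Limits AlgebraicGeometry IsLocalRing

section G

variable {X B' B T : Scheme.{u}} (p' : X ⟶ B') (c : B' ⟶ B) (ι' : T ⟶ B') (ι : T ⟶ B)
  (hι : ι' ≫ c = ι)

/-- the canonical map `X ×_{B'} T ⟶ X ×_B T`. -/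
noncomputable def jMap : pullback p' ι' ⟶ pullback (p' ≫ c) ι :=
  pullback.lift (pullback.fst _ _) (pullback.snd _ _)
    (by rw [← Category.assoc, pullback.condition, Category.assoc, hι])

theorem jMap_fst : jMap p' c ι' ι hι ≫ pullback.fst _ _ = pullback.fst _ _ :=
  pullback.lift_fst _ _ _

theorem jMap_snd : jMap p' c ι' ι hι ≫ pullback.snd _ _ = pullback.snd _ _ :=
  pullback.lift_snd _ _ _

/-- the section `T ⟶ B' ×_B T`. -/
noncomputable def θMap : T ⟶ pullback c ι :=
  pullback.lift ι' (𝟙 T) (by rw [hι, Category.id_comp])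

/-- `X ×_B T ⟶ B' ×_B T`. -/
noncomputable def ρMap : pullback (p' ≫ c) ι ⟶ pullback c ι :=
  pullback.lift (pullback.fst _ _ ≫ p') (pullback.snd _ _)
    (by rw [Category.assoc, pullback.condition])

theorem θMap_fst : θMap c ι' ι hι ≫ pullback.fst c ι = ι' := pullback.lift_fst _ _ _

theorem θMap_snd : θMap c ι' ι hι ≫ pullback.snd c ι = 𝟙 T := pullback.lift_snd _ _ _

theorem ρMap_fst : ρMap p' c ι ≫ pullback.fst c ι = pullback.fst _ _ ≫ p' :=
  pullback.lift_fst _ _ _

theorem ρMap_snd : ρMap p' c ι ≫ pullback.snd c ι = pullback.snd _ _ := pullback.lift_snd _ _ _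

theorem isPullback_ρMap :
    IsPullback (ρMap p' c ι) (pullback.fst (p' ≫ c) ι) (pullback.fst c ι) p' := by
  have t : IsPullback (ρMap p' c ι ≫ pullback.snd c ι) (pullback.fst (p' ≫ c) ι) ι (p' ≫ c) := by
    have : ρMap p' c ι ≫ pullback.snd c ι = pullback.snd (p' ≫ c) ι := pullback.lift_snd _ _ _
    rw [this]
    exact (IsPullback.of_hasPullback (p' ≫ c) ι).flip
  exact IsPullback.of_right t (pullback.lift_fst _ _ _) (IsPullback.of_hasPullback c ι).flip

theorem isPullback_jMap :
    IsPullback (jMap p' c ι' ι hι) (pullback.snd p' ι') (ρMap p' c ι) (θMap c ι' ι hι) := by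
  have t : IsPullback (jMap p' c ι' ι hι ≫ pullback.fst (p' ≫ c) ι) (pullback.snd p' ι') p'
      (θMap c ι' ι hι ≫ pullback.fst c ι) := by
    have h1 : jMap p' c ι' ι hι ≫ pullback.fst (p' ≫ c) ι = pullback.fst p' ι' := jMap_fst ..
    have h2 : θMap c ι' ι hι ≫ pullback.fst c ι = ι' := pullback.lift_fst _ _ _
    rw [h1, h2]
    exact IsPullback.of_hasPullback p' ι'
  refine IsPullback.of_right t ?_ (isPullback_ρMap p' c ι).flip
  apply pullback.hom_ext
  · rw [Category.assoc, Category.assoc, ρMap_fst, θMap_fst, ← Category.assoc, jMap_fst,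
      pullback.condition]
  · rw [Category.assoc, Category.assoc, ρMap_snd, θMap_snd, jMap_snd, Category.comp_id]

instance etale_θMap [Etale c] : Etale (θMap c ι' ι hι) := by
  have h1 : θMap c ι' ι hι ≫ pullback.snd c ι = 𝟙 T := pullback.lift_snd _ _ _
  have : Etale (θMap c ι' ι hι ≫ pullback.snd c ι) := by rw [h1]; infer_instance
  exact Etale.of_comp (θMap c ι' ι hι) (pullback.snd c ι)

instance etale_jMap [Etale c] : Etale (jMap p' c ι' ι hι) :=
  MorphismProperty.of_isPullback (isPullback_jMap p' c ι' ι hι).flip inferInstance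

end G

/-- ring equivalence of power series rings induced by a ring equivalence of coefficients. -/
noncomputable def psEquiv {L K : Type u} [CommRing L] [CommRing K] (σ : Type*) (τ : L ≃+* K) :
    MvPowerSeries σ L ≃+* MvPowerSeries σ K :=
  RingEquiv.ofRingHom (MvPowerSeries.map (τ : L →+* K)) (MvPowerSeries.map (τ.symm : K →+* L))
    (by
      rw [← MvPowerSeries.map_comp]
      have : (τ : L →+* K).comp (τ.symm : K →+* L) = RingHom.id K := by ext x; simp
      rw [this, MvPowerSeries.map_id])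
    (by
      rw [← MvPowerSeries.map_comp]
      have : (τ.symm : K →+* L).comp (τ : L →+* K) = RingHom.id L := by ext x; simp
      rw [this, MvPowerSeries.map_id])

theorem isOrdDoublePt_of_ringEquiv (L K A : Type u) [Field L] [Field K] [CommRing A]
    [IsLocalRing A] [Algebra L A] [Algebra K A] (τ : L ≃+* K)
    (hτ : ∀ c : L, algebraMap K A (τ c) = algebraMap L A c)
    (h : Curv2.IsOrdDoublePt L A) : Curv2.IsOrdDoublePt K A := by
  obtain ⟨e, he⟩ := h
  have hI : Ideal.span {(MvPowerSeries.X 0 * MvPowerSeries.X 1 : MvPowerSeries (Fin 2) K)} =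
      Ideal.map ((psEquiv (Fin 2) τ : MvPowerSeries (Fin 2) L ≃+* MvPowerSeries (Fin 2) K) :
        MvPowerSeries (Fin 2) L →+* MvPowerSeries (Fin 2) K)
      (Ideal.span {(MvPowerSeries.X 0 * MvPowerSeries.X 1 : MvPowerSeries (Fin 2) L)}) := by
    rw [Ideal.map_span, Set.image_singleton]
    congr 2
    change _ = MvPowerSeries.map (τ : L →+* K) _
    rw [map_mul, MvPowerSeries.map_X, MvPowerSeries.map_X]
  let ψ := Ideal.quotientEquiv _ _ (psEquiv (Fin 2) τ) hI
  refine ⟨e.trans ψ, fun c => ?_⟩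
  obtain ⟨c', rfl⟩ := τ.surjective c
  rw [hτ, RingEquiv.trans_apply, he c']
  change Ideal.Quotient.mk _ (MvPowerSeries.map (τ : L →+* K) (MvPowerSeries.C c')) = _
  rw [MvPowerSeries.map_C]
  rfl

/-- `Curv2.stalkMap` under a change of the base field. -/
theorem stalkMap_baseField (L₁ L₂ : Type u) [Field L₁] [Field L₂] (ρ : L₂ →+* L₁) {V : Scheme.{u}}
    (s₁ : V ⟶ Spec (CommRingCat.of L₁)) (t : V ⟶ Spec (CommRingCat.of L₂))
    (ht : s₁ ≫ Spec.map (CommRingCat.ofHom ρ) = t) (v : V) :
    @Curv2.stalkMap L₂ _ V ⟨t⟩ v = (@Curv2.stalkMap L₁ _ V ⟨s₁⟩ v).comp ρ := by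
  subst ht
  have h1 := @Groth.Agent.Lib.helper3.StalkBC2.specMap_stalkMap L₂ _ V
    ⟨s₁ ≫ Spec.map (CommRingCat.ofHom ρ)⟩ v
  have h2 := @Groth.Agent.Lib.helper3.StalkBC2.specMap_stalkMap L₁ _ V ⟨s₁⟩ v
  change V.fromSpecStalk v ≫ (s₁ ≫ Spec.map (CommRingCat.ofHom ρ)) = _ at h1
  change V.fromSpecStalk v ≫ s₁ = _ at h2
  have h3 : Spec.map (CommRingCat.ofHom
      (@Curv2.stalkMap L₂ _ V ⟨s₁ ≫ Spec.map (CommRingCat.ofHom ρ)⟩ v)) =
      Spec.map (CommRingCat.ofHom ((@Curv2.stalkMap L₁ _ V ⟨s₁⟩ v).comp ρ)) := by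
    rw [← h1, CommRingCat.ofHom_comp, Spec.map_comp, ← h2, Category.assoc]
  have h4 := Spec.map_injective h3
  exact congrArg CommRingCat.Hom.hom h4

theorem exists_odp_of_algEquiv (k : Type u) [Field k] {X : Scheme.{u}}
    (p : X ⟶ Spec (CommRingCat.of k)) [LocallyOfFiniteType p] (L₁ L₂ : Type u) [Field L₁] [Field L₂]
    [IsAlgClosed L₂] [Algebra k L₁] [Algebra k L₂] (τ : L₁ ≃ₐ[k] L₂) (x : X)
    (h : ∃ v₁ : ↥(pullback p (Spec.map (CommRingCat.ofHom (algebraMap k L₁)))),
      pullback.fst p (Spec.map (CommRingCat.ofHom (algebraMap k L₁))) v₁ = x ∧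
      (letI := @Curv2.stalkAlgebra L₁ _ (pullback p (Spec.map (CommRingCat.ofHom (algebraMap k L₁))))
          ⟨pullback.snd p _⟩ v₁
       Curv2.IsOrdDoublePt L₁
        ((pullback p (Spec.map (CommRingCat.ofHom (algebraMap k L₁)))).presheaf.stalk v₁))) :
    ∃ v₂ : ↥(pullback p (Spec.map (CommRingCat.ofHom (algebraMap k L₂)))),
      pullback.fst p (Spec.map (CommRingCat.ofHom (algebraMap k L₂))) v₂ = x ∧
      (letI := @Curv2.stalkAlgebra L₂ _ (pullback p (Spec.map (CommRingCat.ofHom (algebraMap k L₂))))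
          ⟨pullback.snd p _⟩ v₂
       Curv2.IsOrdDoublePt L₂
        ((pullback p (Spec.map (CommRingCat.ofHom (algebraMap k L₂)))).presheaf.stalk v₂)) := by
  obtain ⟨v₁, hv₁, hodp⟩ := h
  let ρ : L₂ →+* L₁ := (τ.symm : L₂ →+* L₁)
  have hρ : (CommRingCat.ofHom (algebraMap k L₂)) ≫ CommRingCat.ofHom ρ =
      CommRingCat.ofHom (algebraMap k L₁) := by
    ext c
    change ρ (algebraMap k L₂ c) = algebraMap k L₁ c
    exact τ.symm.commutes c
  haveI : IsIso (CommRingCat.ofHom ρ) := by
    have : CommRingCat.ofHom ρ = (τ.symm.toRingEquiv.toCommRingCatIso).hom := rfl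
    rw [this]; infer_instance
  let Ψ : pullback p (Spec.map (CommRingCat.ofHom (algebraMap k L₁))) ⟶
      pullback p (Spec.map (CommRingCat.ofHom (algebraMap k L₂))) :=
    pullback.map _ _ _ _ (𝟙 X) (Spec.map (CommRingCat.ofHom ρ)) (𝟙 _)
      (by rw [Category.id_comp, Category.comp_id])
      (by rw [Category.comp_id, ← Spec.map_comp, hρ])
  haveI : IsIso Ψ := by
    dsimp only [Ψ]; infer_instance
  have hΨs : Ψ ≫ pullback.snd p _ = pullback.snd p _ ≫ Spec.map (CommRingCat.ofHom ρ) :=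
    pullback.lift_snd _ _ _
  have hΨf : Ψ ≫ pullback.fst p _ = pullback.fst p _ := by
    have h0 : Ψ ≫ pullback.fst p _ = pullback.fst p _ ≫ 𝟙 X := pullback.lift_fst _ _ _
    rw [h0, Category.comp_id]
  refine ⟨Ψ v₁, ?_, ?_⟩
  · rw [← Scheme.Hom.comp_apply, hΨf]; exact hv₁
  · haveI : LocallyOfFiniteType (pullback.snd p (Spec.map (CommRingCat.ofHom (algebraMap k L₂)))) :=
      MorphismProperty.pullback_snd (P := @LocallyOfFiniteType) _ _ inferInstance
    refine (NodeEtale.odp_iff L₂ (pullback.snd p _) Ψ _ hΨs v₁).2 ?_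
    refine @isOrdDoublePt_of_ringEquiv L₁ L₂ _ _ _ _ _ (_) (_) τ.toRingEquiv ?_ hodp
    intro c
    have h1 := stalkMap_baseField L₁ L₂ ρ (pullback.snd p _)
      (pullback.snd p _ ≫ Spec.map (CommRingCat.ofHom ρ)) rfl v₁
    have h2 := congrArg (fun φ => φ (τ c)) h1
    change _ = (@Curv2.stalkMap L₁ _ _ ⟨pullback.snd p _⟩ v₁) (ρ (τ c)) at h2
    have h3 : ρ (τ c) = c := τ.symm_apply_apply c
    rw [h3] at h2
    exact h2

theorem etale_specMap_of_finite_separable (k k' : Type u) [Field k] [Field k'] [Algebra k k']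
    [FiniteDimensional k k'] [Algebra.IsSeparable k k'] :
    Etale (Spec.map (CommRingCat.ofHom (algebraMap k k'))) := by
  rw [HasRingHomProperty.Spec_iff (P := @Etale)]
  change (algebraMap k k').Etale
  rw [RingHom.etale_algebraMap]
  haveI : Algebra.FormallyEtale k k' := Algebra.FormallyEtale.of_isSeparable k k'
  haveI : Algebra.FinitePresentation k k' := by
    haveI : Algebra.FiniteType k k' := inferInstance
    exact Algebra.FinitePresentation.of_finiteType.mp inferInstance
  exact ⟨inferInstance, inferInstance⟩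

/-- a node over a finite separable extension `k'` of `k` is a node over `k`. -/
theorem isNode_restrict_of_isNode (k k' : Type u) [Field k] [Field k'] [Algebra k k']
    [FiniteDimensional k k'] [Algebra.IsSeparable k k'] {X : Scheme.{u}}
    (p' : X ⟶ Spec (CommRingCat.of k')) [LocallyOfFiniteType p'] (x : X)
    (h : @Curv2.IsNode k' _ X ⟨p'⟩ x) :
    @Curv2.IsNode k _ X ⟨p' ≫ Spec.map (CommRingCat.ofHom (algebraMap k k'))⟩ x := by
  obtain ⟨hcl, v₁, hv₁, hodp⟩ := h
  refine ⟨hcl, ?_⟩
  haveI hc : Etale (Spec.map (CommRingCat.ofHom (algebraMap k k'))) :=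
    etale_specMap_of_finite_separable k k'
  have hι : Spec.map (CommRingCat.ofHom (algebraMap k' (AlgebraicClosure k'))) ≫
      Spec.map (CommRingCat.ofHom (algebraMap k k')) =
      Spec.map (CommRingCat.ofHom (algebraMap k (AlgebraicClosure k'))) := by
    rw [← Spec.map_comp, ← CommRingCat.ofHom_comp, ← IsScalarTower.algebraMap_eq]
  haveI : LocallyOfFiniteType (p' ≫ Spec.map (CommRingCat.ofHom (algebraMap k k'))) :=
    inferInstance
  haveI : LocallyOfFiniteType (pullback.snd (p' ≫ Spec.map (CommRingCat.ofHom (algebraMap k k')))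
      (Spec.map (CommRingCat.ofHom (algebraMap k (AlgebraicClosure k'))))) :=
    MorphismProperty.pullback_snd (P := @LocallyOfFiniteType) _ _ inferInstance
  have h1 := (NodeEtale.odp_iff (AlgebraicClosure k') (pullback.snd _ _)
    (jMap p' (Spec.map (CommRingCat.ofHom (algebraMap k k'))) _ _ hι) (pullback.snd _ _)
    (jMap_snd p' _ _ _ hι) v₁).2 hodp
  haveI : IsAlgClosure k (AlgebraicClosure k') := IsAlgClosure.ofAlgebraic k k' (AlgebraicClosure k')
  exact exists_odp_of_algEquiv k (p' ≫ Spec.map (CommRingCat.ofHom (algebraMap k k')))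
    (AlgebraicClosure k') (AlgebraicClosure k)
    (IsAlgClosure.equiv k (AlgebraicClosure k') (AlgebraicClosure k)) x
    ⟨jMap p' (Spec.map (CommRingCat.ofHom (algebraMap k k'))) _ _ hι v₁, by
      rw [← Scheme.Hom.comp_apply, jMap_fst]; exact hv₁, h1⟩

end Groth.Agent.Lib.helper17.EtBaseRestr
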