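import Mathlib
import Groth.Prelude.Def_CurvBase
import Groth.Agent.Lib.Helper17.EtBaseRestr

/-!
# Nodes and restriction of the base field: the converse (helper17)

* `specMap_resMap`: `Curv2.resMap` induces `Spec κ(v) ⟶ V ⟶ Spec K`.
* `exists_sigma`: a point of `X ×_k K` with residue field `K` is in the image of `X ×_{k'} K` for a
  suitable embedding `σ : k' → K`.
* `isNode_of_isNode_restrict`: for `k'/k` finite separable, a node over `k` is a node over `k'`.
-/

set_option autoImplicit false
set_option linter.style.haveILetI false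
universe u

namespace Groth.Agent.Lib.helper17.EtBaseRestr2

open CategoryTheory CategoryTheory.Limits AlgebraicGeometry IsLocalRing
open Groth.Agent.Lib.helper17.EtBaseRestr

/-- the ring map `Curv2.resMap` induces the composite `Spec κ(v) ⟶ V ⟶ Spec K`. -/
theorem specMap_resMap (K : Type u) [Field K] {V : Scheme.{u}} (t : V ⟶ Spec (CommRingCat.of K))
    (v : V) :
    V.fromSpecResidueField v ≫ t = Spec.map (CommRingCat.ofHom (@Curv2.resMap K _ V ⟨t⟩ v)) := by
  have h1 := @Groth.Agent.Lib.helper3.StalkBC2.specMap_stalkMap K _ V ⟨t⟩ v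
  change V.fromSpecStalk v ≫ t = _ at h1
  have h2 : CommRingCat.ofHom (@Curv2.resMap K _ V ⟨t⟩ v) =
      CommRingCat.ofHom (@Curv2.stalkMap K _ V ⟨t⟩ v) ≫ V.residue v := rfl
  rw [h2, Spec.map_comp, ← h1]
  rfl

theorem odp_congr (K : Type u) [Field K] {V : Scheme.{u}} (t : V ⟶ Spec (CommRingCat.of K))
    {v v' : V} (h : v = v')
    (hodp : letI := @Curv2.stalkAlgebra K _ V ⟨t⟩ v
      Curv2.IsOrdDoublePt K (V.presheaf.stalk v)) :
    letI := @Curv2.stalkAlgebra K _ V ⟨t⟩ v'
    Curv2.IsOrdDoublePt K (V.presheaf.stalk v') := by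
  subst h
  exact hodp

/-- core of the converse: a point of `X ×_k K` with residue field `K` lies in the image of
`X ×_{k'} K` for a suitable `k'`-structure `σ` on `K`. -/
theorem exists_sigma (k k' K : Type u) [Field k] [Field k'] [Field K] [Algebra k k'] [Algebra k K]
    {X : Scheme.{u}} (p' : X ⟶ Spec (CommRingCat.of k'))
    (c : Spec (CommRingCat.of k') ⟶ Spec (CommRingCat.of k))
    (hc : c = Spec.map (CommRingCat.ofHom (algebraMap k k')))
    (ι : Spec (CommRingCat.of K) ⟶ Spec (CommRingCat.of k))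
    (hιdef : ι = Spec.map (CommRingCat.ofHom (algebraMap k K)))
    (v : ↥(pullback (p' ≫ c) ι))
    (hb : Function.Surjective (@Curv2.resMap K _ _ ⟨pullback.snd (p' ≫ c) ι⟩ v)) :
    ∃ (σ : k' →+* K) (hσ : Spec.map (CommRingCat.ofHom σ) ≫ c = ι)
      (w : ↥(pullback p' (Spec.map (CommRingCat.ofHom σ)))),
      jMap p' c (Spec.map (CommRingCat.ofHom σ)) ι hσ w = v := by
  let P := pullback (p' ≫ c) ι
  let b : K →+* P.residueField v := @Curv2.resMap K _ P ⟨pullback.snd _ _⟩ v
  have hbij : Function.Bijective b := ⟨b.injective, hb⟩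
  let bE : K ≃+* P.residueField v := RingEquiv.ofBijective b hbij
  let a : k' →+* P.residueField v := @Curv2.resMap k' _ P ⟨pullback.fst _ _ ≫ p'⟩ v
  let σ : k' →+* K := (bE.symm : P.residueField v →+* K).comp a
  have hbσ : b.comp σ = a := by
    ext t
    change b (bE.symm (a t)) = a t
    exact bE.apply_symm_apply (a t)
  let ψ := P.fromSpecResidueField v
  have hβ : ψ ≫ pullback.snd (p' ≫ c) ι = Spec.map (CommRingCat.ofHom b) :=
    specMap_resMap K (pullback.snd _ _) v
  have hα : ψ ≫ (pullback.fst (p' ≫ c) ι ≫ p') = Spec.map (CommRingCat.ofHom a) :=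
    specMap_resMap k' (pullback.fst _ _ ≫ p') v
  have hσk : σ.comp (algebraMap k k') = algebraMap k K := by
    have h1 : b.comp (σ.comp (algebraMap k k')) = b.comp (algebraMap k K) := by
      rw [← RingHom.comp_assoc, hbσ]
      have h2 : Spec.map (CommRingCat.ofHom (a.comp (algebraMap k k'))) =
          Spec.map (CommRingCat.ofHom (b.comp (algebraMap k K))) := by
        rw [CommRingCat.ofHom_comp, CommRingCat.ofHom_comp, Spec.map_comp, Spec.map_comp, ← hα, ← hβ,
          ← hc, ← hιdef, Category.assoc, Category.assoc, Category.assoc]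
        congr 1
        exact pullback.condition
      exact congrArg CommRingCat.Hom.hom (Spec.map_injective h2)
    ext t
    exact b.injective (congrArg (fun φ => φ t) h1)
  have hσ : Spec.map (CommRingCat.ofHom σ) ≫ c = ι := by
    rw [hc, hιdef, ← Spec.map_comp, ← CommRingCat.ofHom_comp, hσk]
  refine ⟨σ, hσ, ?_⟩
  have key : ψ ≫ ρMap p' c ι = (ψ ≫ pullback.snd (p' ≫ c) ι) ≫
      θMap c (Spec.map (CommRingCat.ofHom σ)) ι hσ := by
    apply pullback.hom_ext
    · rw [Category.assoc, Category.assoc, ρMap_fst, θMap_fst, hα, hβ, ← Spec.map_comp,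
        ← CommRingCat.ofHom_comp, hbσ]
    · rw [Category.assoc, Category.assoc, ρMap_snd, θMap_snd, Category.comp_id]
  have hpt : ρMap p' c ι v = θMap c (Spec.map (CommRingCat.ofHom σ)) ι hσ
      (pullback.snd (p' ≫ c) ι v) := by
    have h1 := congrArg (fun φ => φ (IsLocalRing.closedPoint (P.residueField v))) key
    simp only [Scheme.Hom.comp_apply] at h1
    rw [Scheme.fromSpecResidueField_apply] at h1
    exact h1
  obtain ⟨w, hw1, -⟩ := Groth.Agent.Lib.helper2.ConstFin.exists_preimage_of_isPullback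
    (isPullback_jMap p' c (Spec.map (CommRingCat.ofHom σ)) ι hσ) v _ hpt
  exact ⟨w, hw1⟩

/-- a node over `k` of a scheme over a finite separable extension `k'` is a node over `k'`. -/
theorem isNode_of_isNode_restrict (k k' : Type u) [Field k] [Field k'] [Algebra k k']
    [FiniteDimensional k k'] [Algebra.IsSeparable k k'] {X : Scheme.{u}}
    (p' : X ⟶ Spec (CommRingCat.of k')) [LocallyOfFiniteType p'] (x : X)
    (h : @Curv2.IsNode k _ X ⟨p' ≫ Spec.map (CommRingCat.ofHom (algebraMap k k'))⟩ x) :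
    @Curv2.IsNode k' _ X ⟨p'⟩ x := by
  obtain ⟨hcl, v, hv, hodp⟩ := h
  refine ⟨hcl, ?_⟩
  have hsurj := @OdpEtale.residue_surjective_of_isOrdDoublePt (AlgebraicClosure k) _ _ _
    (@Curv2.stalkAlgebra (AlgebraicClosure k) _ _ ⟨pullback.snd _ _⟩ v) _ hodp
  obtain ⟨σ, hσ, w, hw⟩ := exists_sigma k k' (AlgebraicClosure k) p' _ rfl _ rfl v hsurj
  letI iK : Algebra k' (AlgebraicClosure k) := σ.toAlgebra
  have hσk : σ.comp (algebraMap k k') = algebraMap k (AlgebraicClosure k) := by
    rw [← Spec.map_comp, ← CommRingCat.ofHom_comp] at hσ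
    exact congrArg CommRingCat.Hom.hom (Spec.map_injective hσ)
  haveI : IsScalarTower k k' (AlgebraicClosure k) :=
    IsScalarTower.of_algebraMap_eq (fun t => (congrArg (fun φ => φ t) hσk).symm)
  haveI : Algebra.IsAlgebraic k' (AlgebraicClosure k) := Algebra.IsAlgebraic.tower_top (K := k) k'
  haveI : IsAlgClosure k' (AlgebraicClosure k) := ⟨inferInstance, inferInstance⟩
  haveI hc : Etale (Spec.map (CommRingCat.ofHom (algebraMap k k'))) :=
    etale_specMap_of_finite_separable k k'
  haveI : LocallyOfFiniteType (p' ≫ Spec.map (CommRingCat.ofHom (algebraMap k k'))) :=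
    inferInstance
  haveI : LocallyOfFiniteType (pullback.snd (p' ≫ Spec.map (CommRingCat.ofHom (algebraMap k k')))
      (Spec.map (CommRingCat.ofHom (algebraMap k (AlgebraicClosure k))))) :=
    MorphismProperty.pullback_snd (P := @LocallyOfFiniteType) _ _ inferInstance
  have h1 := odp_congr (AlgebraicClosure k) (pullback.snd _ _) hw.symm hodp
  have h2 := (NodeEtale.odp_iff (AlgebraicClosure k) (pullback.snd _ _)
    (jMap p' (Spec.map (CommRingCat.ofHom (algebraMap k k'))) (Spec.map (CommRingCat.ofHom σ)) _ hσ)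
    (pullback.snd _ _) (jMap_snd p' _ _ _ hσ) w).1 h1
  exact exists_odp_of_algEquiv k' p' (AlgebraicClosure k) (AlgebraicClosure k')
    (IsAlgClosure.equiv k' (AlgebraicClosure k) (AlgebraicClosure k')) x
    ⟨w, by
      have h3 : pullback.fst p' (Spec.map (CommRingCat.ofHom σ)) w =
          (jMap p' (Spec.map (CommRingCat.ofHom (algebraMap k k'))) (Spec.map (CommRingCat.ofHom σ))
            _ hσ ≫ pullback.fst _ _) w := by rw [jMap_fst]
      rw [Scheme.Hom.comp_apply, hw] at h3
      exact h3.trans hv, h2⟩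

end Groth.Agent.Lib.helper17.EtBaseRestr2
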