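import Mathlib
import Groth.Prelude.Def_CurvBase
import Groth.Agent.Lib.Helper17.EtBaseRestr2

/-!
# All points over a node are ordinary double points (helper17)

* `exists_algEquiv_comp`: two `k`-embeddings of an algebraic extension into an algebraic closure
  `K` of `k` differ by an element of `Aut(K/k)`.
* `exists_section_point`, `exists_Kpoint`: for `K` algebraically closed and `κ(x)/k` algebraic,
  every point of `X_K` over `x` is the image of a `K`-point `α` with `α ≫ snd = 𝟙`.
* `psiMap`: the semilinear isomorphism `X_{L₁} ≅ X_{L₂}` induced by `τ : L₁ ≃ₐ[k] L₂`;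
  `odp_psiMap`: it preserves ordinary double points.
* `odpAt_of_odpAt`: if one point of `X_K` over `x` is an ordinary double point, all are.
-/

set_option autoImplicit false
set_option linter.style.haveILetI false
universe u

namespace Groth.Agent.Lib.helper17.NodeAllPts

open CategoryTheory CategoryTheory.Limits AlgebraicGeometry IsLocalRing TensorProduct
open Groth.Agent.Lib.helper17.EtBaseRestr Groth.Agent.Lib.helper17.EtBaseRestr2

theorem exists_algEquiv_aux (k κ K₀ K₁ : Type u) [Field k] [Field κ] [Field K₀] [Field K₁]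
    [Algebra k κ] [Algebra k K₀] [Algebra k K₁] [Algebra κ K₀] [Algebra κ K₁]
    [IsScalarTower k κ K₀] [IsScalarTower k κ K₁] [IsAlgClosure k K₀] [IsAlgClosure k K₁]
    [Algebra.IsAlgebraic k κ] :
    ∃ τ : K₀ ≃ₐ[k] K₁, ∀ a : κ, τ (algebraMap κ K₀ a) = algebraMap κ K₁ a := by
  haveI : IsAlgClosed K₀ := IsAlgClosure.isAlgClosed k
  haveI : IsAlgClosed K₁ := IsAlgClosure.isAlgClosed k
  haveI : Algebra.IsAlgebraic κ K₀ := Algebra.IsAlgebraic.tower_top (K := k) κ
  haveI : Algebra.IsAlgebraic κ K₁ := Algebra.IsAlgebraic.tower_top (K := k) κ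
  haveI : IsAlgClosure κ K₀ := ⟨inferInstance, inferInstance⟩
  haveI : IsAlgClosure κ K₁ := ⟨inferInstance, inferInstance⟩
  let τ' : K₀ ≃ₐ[κ] K₁ := IsAlgClosure.equiv κ K₀ K₁
  exact ⟨τ'.restrictScalars k, fun a => τ'.commutes a⟩

/-- two embeddings of an algebraic extension into an algebraic closure differ by an automorphism. -/
theorem exists_algEquiv_comp (k κ K : Type u) [Field k] [Field κ] [Field K] [Algebra k κ]
    [Algebra k K] [Algebra.IsAlgebraic k κ] [IsAlgClosure k K] (φ₀ φ₁ : κ →+* K)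
    (h₀ : φ₀.comp (algebraMap k κ) = algebraMap k K)
    (h₁ : φ₁.comp (algebraMap k κ) = algebraMap k K) :
    ∃ τ : K ≃ₐ[k] K, ∀ a, τ (φ₀ a) = φ₁ a := by
  have t₀ : @IsScalarTower k κ K _ φ₀.toAlgebra.toSMul _ :=
    @IsScalarTower.of_algebraMap_eq k κ K _ _ _ _ φ₀.toAlgebra _
      (fun t => (congrArg (fun f => f t) h₀).symm)
  have t₁ : @IsScalarTower k κ K _ φ₁.toAlgebra.toSMul _ :=
    @IsScalarTower.of_algebraMap_eq k κ K _ _ _ _ φ₁.toAlgebra _
      (fun t => (congrArg (fun f => f t) h₁).symm)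
  exact @exists_algEquiv_aux k κ K K _ _ _ _ _ _ _ φ₀.toAlgebra φ₁.toAlgebra t₀ t₁ _ _ _

/-- every point of `Spec K ×_k Spec κ` (`κ/k` algebraic, `K` algebraically closed) is the image of
a section over `Spec K`. -/
theorem exists_section_point (k K κ : Type u) [Field k] [Field K] [Field κ] [Algebra k K]
    [Algebra k κ] [IsAlgClosed K] [Algebra.IsIntegral k κ]
    (w : ↥(pullback (Spec.map (CommRingCat.ofHom (algebraMap k K)))
      (Spec.map (CommRingCat.ofHom (algebraMap k κ))))) :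
    ∃ (φ : κ →+* K) (β : Spec (CommRingCat.of K) ⟶
        pullback (Spec.map (CommRingCat.ofHom (algebraMap k K)))
          (Spec.map (CommRingCat.ofHom (algebraMap k κ)))),
      β ≫ pullback.fst _ _ = 𝟙 _ ∧ β ≫ pullback.snd _ _ = Spec.map (CommRingCat.ofHom φ) ∧
      ∀ z, β z = w := by
  let e := pullbackSpecIso k K κ
  let P : PrimeSpectrum (K ⊗[k] κ) := e.hom w
  haveI : P.asIdeal.IsPrime := P.isPrime
  haveI : Algebra.IsIntegral K (K ⊗[k] κ) := inferInstance
  let q : K →+* (K ⊗[k] κ) ⧸ P.asIdeal :=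
    (Ideal.Quotient.mk P.asIdeal).comp (algebraMap K (K ⊗[k] κ))
  have hq : q.IsIntegral :=
    RingHom.IsIntegral.trans _ _ (algebraMap_isIntegral_iff.mpr inferInstance)
      (RingHom.isIntegral_of_surjective _ Ideal.Quotient.mk_surjective)
  have hb : Function.Bijective q := IsAlgClosed.ringHom_bijective_of_isIntegral q hq
  let qE : K ≃+* (K ⊗[k] κ) ⧸ P.asIdeal := RingEquiv.ofBijective q hb
  let ψ : (K ⊗[k] κ) →+* K := (qE.symm : _ →+* K).comp (Ideal.Quotient.mk P.asIdeal)
  have hψ : ψ.comp (algebraMap K (K ⊗[k] κ)) = RingHom.id K := by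
    ext c; exact qE.symm_apply_apply c
  let φ : κ →+* K :=
    ψ.comp (Algebra.TensorProduct.includeRight : κ →ₐ[k] K ⊗[k] κ).toRingHom
  refine ⟨φ, Spec.map (CommRingCat.ofHom ψ) ≫ e.inv, ?_, ?_, ?_⟩
  · rw [Category.assoc, pullbackSpecIso_inv_fst', ← Spec.map_comp, ← CommRingCat.ofHom_comp, hψ]
    exact Spec.map_id _
  · rw [Category.assoc, pullbackSpecIso_inv_snd, ← Spec.map_comp, ← CommRingCat.ofHom_comp]
    rfl
  · intro z
    have hz : Spec.map (CommRingCat.ofHom ψ) z = P := by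
      apply PrimeSpectrum.ext
      rw [Spec.map_apply]
      change Ideal.comap ψ z.asIdeal = P.asIdeal
      have hz0 : z.asIdeal = ⊥ := by
        haveI := z.isPrime
        exact (Ideal.eq_bot_or_top z.asIdeal).resolve_right (Ideal.IsPrime.ne_top inferInstance)
      rw [hz0]
      ext t
      rw [Ideal.mem_comap, Ideal.mem_bot]
      change qE.symm (Ideal.Quotient.mk P.asIdeal t) = 0 ↔ _
      rw [map_eq_zero_iff _ qE.symm.injective, Ideal.Quotient.eq_zero_iff_mem]
    rw [Scheme.Hom.comp_apply, hz]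
    change e.inv (e.hom w) = w
    rw [← Scheme.Hom.comp_apply, Iso.hom_inv_id]
    rfl

section Gamma

variable {X S Y Z : Scheme.{u}} (p : X ⟶ S) (g : Y ⟶ S) (ι : Z ⟶ X) (r' : Z ⟶ S)
  (hr : ι ≫ p = r')

/-- `Y ×_S Z ⟶ X ×_S Y` induced by `ι : Z ⟶ X`. -/
noncomputable def γMap : pullback g r' ⟶ pullback p g :=
  pullback.lift (pullback.snd g r' ≫ ι) (pullback.fst g r')
    (by rw [Category.assoc, hr, pullback.condition])

theorem γMap_fst : γMap p g ι r' hr ≫ pullback.fst p g = pullback.snd g r' ≫ ι :=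
  pullback.lift_fst _ _ _

theorem γMap_snd : γMap p g ι r' hr ≫ pullback.snd p g = pullback.fst g r' :=
  pullback.lift_snd _ _ _

theorem isPullback_γMap :
    IsPullback (γMap p g ι r' hr) (pullback.snd g r') (pullback.fst p g) ι := by
  have t : IsPullback (pullback.snd p g) (pullback.fst p g) g p :=
    (IsPullback.of_hasPullback p g).flip
  have s : IsPullback (γMap p g ι r' hr ≫ pullback.snd p g) (pullback.snd g r') g (ι ≫ p) := by
    rw [γMap_snd, hr]
    exact IsPullback.of_hasPullback g r'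
  exact IsPullback.of_right s (γMap_fst p g ι r' hr) t

end Gamma

/-- every point of `X_K` over a point `x` of `X` with `κ(x)/k` algebraic is the image of a
`K`-point (for `K` algebraically closed). -/
theorem exists_Kpoint (k K : Type u) [Field k] [Field K] [Algebra k K] [IsAlgClosed K]
    {X : Scheme.{u}} (p : X ⟶ Spec (CommRingCat.of k)) (x : X)
    (halg : (@Curv2.resMap k _ X ⟨p⟩ x).IsIntegral)
    (v : ↥(pullback p (Spec.map (CommRingCat.ofHom (algebraMap k K)))))
    (hv : pullback.fst p (Spec.map (CommRingCat.ofHom (algebraMap k K))) v = x) :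
    ∃ (φ : X.residueField x →+* K) (α : Spec (CommRingCat.of K) ⟶
        pullback p (Spec.map (CommRingCat.ofHom (algebraMap k K)))),
      φ.comp (@Curv2.resMap k _ X ⟨p⟩ x) = algebraMap k K ∧
      α ≫ pullback.fst p _ = Spec.map (CommRingCat.ofHom φ) ≫ X.fromSpecResidueField x ∧
      α ≫ pullback.snd p _ = 𝟙 _ ∧ ∀ z, α z = v := by
  letI : Algebra k (X.residueField x) := (@Curv2.resMap k _ X ⟨p⟩ x).toAlgebra
  haveI : Algebra.IsIntegral k (X.residueField x) := ⟨fun a => halg a⟩
  have hr : X.fromSpecResidueField x ≫ p =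
      Spec.map (CommRingCat.ofHom (algebraMap k (X.residueField x))) := specMap_resMap k p x
  obtain ⟨w, hw1, -⟩ := Scheme.exists_preimage_of_isPullback
    (isPullback_γMap p (Spec.map (CommRingCat.ofHom (algebraMap k K)))
      (X.fromSpecResidueField x) _ hr) v
    (IsLocalRing.closedPoint (X.residueField x))
    (by rw [Scheme.fromSpecResidueField_apply]; exact hv)
  obtain ⟨φ, β, hβ1, hβ2, hβ3⟩ := exists_section_point k K (X.residueField x) w
  refine ⟨φ, β ≫ γMap p (Spec.map (CommRingCat.ofHom (algebraMap k K)))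
      (X.fromSpecResidueField x) _ hr, ?_, ?_, ?_, ?_⟩
  · have h1 : Spec.map (CommRingCat.ofHom φ) ≫
        Spec.map (CommRingCat.ofHom (algebraMap k (X.residueField x))) =
        Spec.map (CommRingCat.ofHom (algebraMap k K)) := by
      rw [← hβ2, Category.assoc, ← pullback.condition, ← Category.assoc, hβ1, Category.id_comp]
    have h2 : Spec.map (CommRingCat.ofHom (φ.comp (@Curv2.resMap k _ X ⟨p⟩ x))) =
        Spec.map (CommRingCat.ofHom (algebraMap k K)) := by
      rw [CommRingCat.ofHom_comp, Spec.map_comp]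
      exact h1
    exact congrArg CommRingCat.Hom.hom (Spec.map_injective h2)
  · rw [Category.assoc, γMap_fst, ← Category.assoc, hβ2]
  · rw [Category.assoc, γMap_snd, hβ1]
  · intro z
    rw [Scheme.Hom.comp_apply, hβ3, hw1]

/-- the local ring of `V` at `v` is an ordinary double point over `L`. -/
def OdpAt (L : Type u) [Field L] {V : Scheme.{u}} (t : V ⟶ Spec (CommRingCat.of L)) (v : V) :
    Prop :=
  letI := @Curv2.stalkAlgebra L _ V ⟨t⟩ v
  Curv2.IsOrdDoublePt L (V.presheaf.stalk v)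

section Psi

variable (k : Type u) [Field k] {X : Scheme.{u}} (p : X ⟶ Spec (CommRingCat.of k))
  (L₁ L₂ : Type u) [Field L₁] [Field L₂] [Algebra k L₁] [Algebra k L₂] (τ : L₁ ≃ₐ[k] L₂)

theorem ofHom_symm_comp :
    (CommRingCat.ofHom (algebraMap k L₂)) ≫ CommRingCat.ofHom (τ.symm : L₂ →+* L₁) =
      CommRingCat.ofHom (algebraMap k L₁) := by
  ext c
  change τ.symm (algebraMap k L₂ c) = algebraMap k L₁ c
  exact τ.symm.commutes c

/-- the semilinear isomorphism `X_{L₁} ⟶ X_{L₂}` induced by `τ : L₁ ≃ₐ[k] L₂`. -/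
noncomputable def psiMap : pullback p (Spec.map (CommRingCat.ofHom (algebraMap k L₁))) ⟶
    pullback p (Spec.map (CommRingCat.ofHom (algebraMap k L₂))) :=
  pullback.map _ _ _ _ (𝟙 X) (Spec.map (CommRingCat.ofHom (τ.symm : L₂ →+* L₁))) (𝟙 _)
    (by rw [Category.id_comp, Category.comp_id])
    (by rw [Category.comp_id, ← Spec.map_comp, ofHom_symm_comp])

theorem psiMap_snd : psiMap k p L₁ L₂ τ ≫ pullback.snd p _ =
    pullback.snd p _ ≫ Spec.map (CommRingCat.ofHom (τ.symm : L₂ →+* L₁)) :=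
  pullback.lift_snd _ _ _

theorem psiMap_fst : psiMap k p L₁ L₂ τ ≫ pullback.fst p _ = pullback.fst p _ := by
  have h0 : psiMap k p L₁ L₂ τ ≫ pullback.fst p _ = pullback.fst p _ ≫ 𝟙 X :=
    pullback.lift_fst _ _ _
  rw [h0, Category.comp_id]

instance : IsIso (psiMap k p L₁ L₂ τ) := by
  haveI : IsIso (CommRingCat.ofHom (τ.symm : L₂ →+* L₁)) := by
    have : CommRingCat.ofHom (τ.symm : L₂ →+* L₁) = (τ.symm.toRingEquiv.toCommRingCatIso).hom := rfl
    rw [this]; infer_instance
  dsimp only [psiMap]; infer_instance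

theorem odp_psiMap [IsAlgClosed L₂] [LocallyOfFiniteType p]
    (v₁ : ↥(pullback p (Spec.map (CommRingCat.ofHom (algebraMap k L₁)))))
    (hodp : OdpAt L₁ (pullback.snd p (Spec.map (CommRingCat.ofHom (algebraMap k L₁)))) v₁) :
    OdpAt L₂ (pullback.snd p (Spec.map (CommRingCat.ofHom (algebraMap k L₂))))
      (psiMap k p L₁ L₂ τ v₁) := by
  unfold OdpAt at hodp ⊢
  haveI : LocallyOfFiniteType (pullback.snd p (Spec.map (CommRingCat.ofHom (algebraMap k L₂)))) :=
    MorphismProperty.pullback_snd (P := @LocallyOfFiniteType) _ _ inferInstance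
  refine (NodeEtale.odp_iff L₂ (pullback.snd p _) (psiMap k p L₁ L₂ τ) _
    (psiMap_snd k p L₁ L₂ τ) v₁).2 ?_
  refine @isOrdDoublePt_of_ringEquiv L₁ L₂ _ _ _ _ _ (_) (_) τ.toRingEquiv ?_ hodp
  intro c
  have h1 := stalkMap_baseField L₁ L₂ (τ.symm : L₂ →+* L₁) (pullback.snd p _)
    (pullback.snd p _ ≫ Spec.map (CommRingCat.ofHom (τ.symm : L₂ →+* L₁))) rfl v₁
  have h2 := congrArg (fun φ => φ (τ c)) h1
  change _ = (@Curv2.stalkMap L₁ _ _ ⟨pullback.snd p _⟩ v₁) ((τ.symm : L₂ →+* L₁) (τ c)) at h2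
  have h3 : (τ.symm : L₂ →+* L₁) (τ c) = c := τ.symm_apply_apply c
  rw [h3] at h2
  exact h2

end Psi

/-- all points of `X_K` over a point `x` with `κ(x)/k` algebraic are conjugate under `Aut(K/k)`;
in particular if one is an ordinary double point, all are. -/
theorem odpAt_of_odpAt (k K : Type u) [Field k] [Field K] [Algebra k K] [IsAlgClosure k K]
    {X : Scheme.{u}} (p : X ⟶ Spec (CommRingCat.of k)) [LocallyOfFiniteType p] (x : X)
    (halg : (@Curv2.resMap k _ X ⟨p⟩ x).IsIntegral)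
    (v₀ v : ↥(pullback p (Spec.map (CommRingCat.ofHom (algebraMap k K)))))
    (h₀ : pullback.fst p (Spec.map (CommRingCat.ofHom (algebraMap k K))) v₀ = x)
    (h : pullback.fst p (Spec.map (CommRingCat.ofHom (algebraMap k K))) v = x)
    (hodp : OdpAt K (pullback.snd p (Spec.map (CommRingCat.ofHom (algebraMap k K)))) v₀) :
    OdpAt K (pullback.snd p (Spec.map (CommRingCat.ofHom (algebraMap k K)))) v := by
  haveI : IsAlgClosed K := IsAlgClosure.isAlgClosed k
  obtain ⟨φ₀, α₀, hφ₀, hα₀f, hα₀s, hα₀p⟩ := exists_Kpoint k K p x halg v₀ h₀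
  obtain ⟨φ₁, α₁, hφ₁, hα₁f, hα₁s, hα₁p⟩ := exists_Kpoint k K p x halg v h
  letI : Algebra k (X.residueField x) := (@Curv2.resMap k _ X ⟨p⟩ x).toAlgebra
  haveI : Algebra.IsIntegral k (X.residueField x) := ⟨fun a => halg a⟩
  haveI : Algebra.IsAlgebraic k (X.residueField x) := Algebra.IsIntegral.isAlgebraic
  obtain ⟨τ, hτ⟩ := exists_algEquiv_comp k (X.residueField x) K φ₀ φ₁ hφ₀ hφ₁
  have e1 : (τ : K →+* K).comp φ₀ = φ₁ := RingHom.ext hτ
  have e2 : (τ : K →+* K).comp (τ.symm : K →+* K) = RingHom.id K :=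
    RingHom.ext fun c => τ.apply_symm_apply c
  have key : Spec.map (CommRingCat.ofHom (τ : K →+* K)) ≫ α₀ ≫ psiMap k p K K τ = α₁ := by
    apply pullback.hom_ext
    · rw [Category.assoc, Category.assoc, psiMap_fst, hα₀f, hα₁f, ← Category.assoc,
        ← Spec.map_comp, ← CommRingCat.ofHom_comp, e1]
    · rw [Category.assoc, Category.assoc, psiMap_snd, ← Category.assoc α₀, hα₀s,
        Category.id_comp, ← Spec.map_comp, ← CommRingCat.ofHom_comp, e2, hα₁s]
      exact Spec.map_id _
  have hpt : psiMap k p K K τ v₀ = v := by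
    have h1 := congrArg (fun f => f (IsLocalRing.closedPoint K)) key
    simp only [Scheme.Hom.comp_apply] at h1
    rw [hα₀p, hα₁p] at h1
    exact h1
  rw [← hpt]
  exact odp_psiMap k p K K τ v₀ hodp

end Groth.Agent.Lib.helper17.NodeAllPts
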