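import Mathlib

/-!
# helper17: `k[[T_1..T_n]]/(T_i T_j)` is the multicross subring of `(k[[t]])^n`

* `exists_decomp_of_killCompl_eq_zero`: a power series killed by `killCompl e` is a combination of
  the killed variables.
* `axis`, `sec`, `theta`, `thetaBar`: restriction to the coordinate axes;
  `thetaBar_injective`, `range_thetaBar`, `thetaBar_C`.
-/

set_option autoImplicit false
set_option linter.style.haveILetI false
universe u

namespace Groth.Agent.Lib.helper17.MvPSKer

open MvPowerSeries Finsupp

/-- a power series killed by `killCompl e` lies in the ideal generated by the killed variables -/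
theorem exists_decomp_of_killCompl_eq_zero {σ : Type*} {n : ℕ} {R : Type*} [CommRing R]
    (e : σ ↪ Fin n) (f : MvPowerSeries (Fin n) R) (hf : MvPowerSeries.killCompl e f = 0) :
    ∃ g : Fin n → MvPowerSeries (Fin n) R, f = ∑ t, MvPowerSeries.X t * g t ∧
      ∀ t ∈ Set.range e, g t = 0 := by
  classical
  let g : Fin n → MvPowerSeries (Fin n) R := fun t β =>
    if t ∉ Set.range e ∧ (∀ s < t, s ∉ Set.range e → β s = 0) then
      coeff (β + single t 1) f else 0
  have hg : ∀ t β, coeff β (g t) = if t ∉ Set.range e ∧ (∀ s < t, s ∉ Set.range e → β s = 0) then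
      coeff (β + single t 1) f else 0 := fun t β => rfl
  have hsum : f = ∑ t, X t * g t := by
    ext α
    rw [map_sum]
    have hterm : ∀ t, coeff α (X t * g t) =
        if (α t ≠ 0 ∧ t ∉ Set.range e ∧ ∀ s < t, s ∉ Set.range e → α s = 0) then coeff α f
          else 0 := by
      intro t
      rw [X_def, coeff_monomial_mul, one_mul]
      by_cases h1 : single t 1 ≤ α
      · have h1' : α t ≠ 0 := by
          have := h1 t
          simp only [single_eq_same] at this
          omega
        rw [if_pos h1, hg]
        have h2 : α - single t 1 + single t 1 = α := tsub_add_cancel_of_le h1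
        have h3 : ∀ s < t, (α - single t 1 : Fin n →₀ ℕ) s = α s := by
          intro s hs
          rw [Finsupp.tsub_apply, single_eq_of_ne (ne_of_lt hs), tsub_zero]
        rw [h2]
        by_cases h4 : t ∉ Set.range e ∧ ∀ s < t, s ∉ Set.range e → α s = 0
        · rw [if_pos ⟨h4.1, fun s hs hse => by rw [h3 s hs]; exact h4.2 s hs hse⟩,
            if_pos ⟨h1', h4⟩]
        · rw [if_neg (fun h => h4 ⟨h.1, fun s hs hse => by rw [← h3 s hs]; exact h.2 s hs hse⟩),
            if_neg (fun h => h4 h.2)]
      · have h1' : α t = 0 := by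
          by_contra h
          apply h1
          intro s
          by_cases hs : s = t
          · subst hs
            simp only [single_eq_same]
            omega
          · rw [single_eq_of_ne hs]
            exact Nat.zero_le _
        rw [if_neg h1, if_neg (fun h => h.1 h1')]
    simp only [hterm]
    by_cases hA : ∃ t, α t ≠ 0 ∧ t ∉ Set.range e
    · -- minimal such t
      let T : Finset (Fin n) := Finset.univ.filter fun t => α t ≠ 0 ∧ t ∉ Set.range e
      have hT : T.Nonempty := by
        obtain ⟨t, ht⟩ := hA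
        exact ⟨t, Finset.mem_filter.2 ⟨Finset.mem_univ _, ht⟩⟩
      let t0 := T.min' hT
      have ht0 : α t0 ≠ 0 ∧ t0 ∉ Set.range e := by
        exact (Finset.mem_filter.1 (Finset.min'_mem T hT)).2
      have hmin : ∀ t, α t ≠ 0 → t ∉ Set.range e → t0 ≤ t := by
        intro t h1 h2
        exact Finset.min'_le T t (Finset.mem_filter.2 ⟨Finset.mem_univ _, h1, h2⟩)
      rw [Finset.sum_eq_single t0]
      · rw [if_pos]
        refine ⟨ht0.1, ht0.2, fun s hs hse => ?_⟩
        by_contra hne
        exact absurd (hmin s hne hse) (not_le.2 hs)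
      · intro t _ hne
        rw [if_neg]
        rintro ⟨h1, h2, h3⟩
        have hle := hmin t h1 h2
        have hlt : t0 < t := lt_of_le_of_ne hle (Ne.symm hne)
        exact ht0.1 (h3 t0 hlt ht0.2)
      · intro h
        exact absurd (Finset.mem_univ _) h
    · have hall : ∀ t, ¬ (α t ≠ 0 ∧ t ∉ Set.range e ∧ ∀ s < t, s ∉ Set.range e → α s = 0) :=
        fun t h => hA ⟨t, h.1, h.2.1⟩
      simp only [hall, if_false, Finset.sum_const_zero]
      have hα : α ∈ Set.range (embDomain e) := by
        rw [mem_range_embDomain_iff]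
        intro t ht
        by_contra hte
        exact hA ⟨t, by simpa using ht, hte⟩
      obtain ⟨x, rfl⟩ := hα
      rw [← coeff_killCompl, hf, map_zero]
  refine ⟨g, hsum, fun t ht => ?_⟩
  ext β
  rw [hg, if_neg (fun h => h.1 ht), map_zero]


section axis

variable (k : Type u) [Field k] (n : ℕ)

/-- the embedding `Unit ↪ Fin n` with value `i` -/
def pt (i : Fin n) : Unit ↪ Fin n := ⟨fun _ => i, fun a b _ => Subsingleton.elim a b⟩

/-- restriction of a power series to the `i`-th coordinate axis -/
noncomputable def axis (i : Fin n) : MvPowerSeries (Fin n) k →ₐ[k] PowerSeries k :=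
  MvPowerSeries.killCompl (pt n i)

/-- a power series in one variable, as a power series in the `i`-th variable -/
noncomputable def sec (i : Fin n) : PowerSeries k →ₐ[k] MvPowerSeries (Fin n) k :=
  MvPowerSeries.rename (pt n i)

variable {k n}

theorem axis_X_self (i : Fin n) : axis k n i (X i) = PowerSeries.X :=
  killCompl_X (e := pt n i) ()

theorem axis_X_of_ne {i j : Fin n} (h : j ≠ i) : axis k n i (X j) = 0 := by
  apply killCompl_X_eq_zero
  rintro ⟨u, hu⟩
  exact h hu.symm

theorem axis_C (i : Fin n) (c : k) : axis k n i (C c) = PowerSeries.C c :=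
  killCompl_C (e := pt n i) c

theorem constantCoeff_axis (i : Fin n) (f : MvPowerSeries (Fin n) k) :
    PowerSeries.constantCoeff (axis k n i f) = constantCoeff f := by
  have h := coeff_killCompl (e := pt n i) f 0
  rw [embDomain_zero] at h
  exact h

theorem axis_sec (i : Fin n) (g : PowerSeries k) : axis k n i (sec k n i g) = g :=
  killCompl_rename_app (e := pt n i) g

theorem sec_X (i : Fin n) : sec k n i PowerSeries.X = X i :=
  rename_X (pt n i) ()

end axis


section theta

variable (k : Type u) [Field k] (n : ℕ)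

/-- the ideal generated by the mixed products `X i * X j`, `i ≠ j` -/
noncomputable abbrev mixedIdeal : Ideal (MvPowerSeries (Fin n) k) :=
  Ideal.span {f : MvPowerSeries (Fin n) k | ∃ i j : Fin n, i ≠ j ∧ f = X i * X j}

/-- restriction to the coordinate axes -/
noncomputable def theta : MvPowerSeries (Fin n) k →ₐ[k] (Fin n → PowerSeries k) :=
  AlgHom.pi (axis k n)

variable {k n}

theorem theta_apply (f : MvPowerSeries (Fin n) k) (i : Fin n) : theta k n f i = axis k n i f := rfl

theorem mixedIdeal_le_ker : mixedIdeal k n ≤ RingHom.ker (theta k n).toRingHom := by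
  unfold mixedIdeal
  rw [Ideal.span_le]
  rintro f ⟨i, j, hij, rfl⟩
  rw [SetLike.mem_coe, RingHom.mem_ker]
  funext l
  show axis k n l (X i * X j) = 0
  rw [map_mul]
  by_cases hl : i = l
  · subst hl
    rw [axis_X_of_ne (Ne.symm hij), mul_zero]
  · rw [axis_X_of_ne hl, zero_mul]

theorem mem_mixedIdeal_of_theta_eq_zero (hn : 0 < n) (f : MvPowerSeries (Fin n) k)
    (hf : theta k n f = 0) : f ∈ mixedIdeal k n := by
  classical
  have hax : ∀ i, axis k n i f = 0 := fun i => congrFun hf i
  -- constant coefficient vanishes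
  have h0 : constantCoeff f = 0 := by
    rw [← constantCoeff_axis ⟨0, hn⟩, hax, map_zero]
  -- first decomposition
  let e0 : Empty ↪ Fin n := ⟨fun x => x.elim, fun x => x.elim⟩
  have hk0 : killCompl e0 f = 0 := by
    ext x
    have hx : x = 0 := Subsingleton.elim _ _
    rw [coeff_killCompl, hx, embDomain_zero, map_zero]
    exact h0
  obtain ⟨g, hg, -⟩ := exists_decomp_of_killCompl_eq_zero e0 f hk0
  rw [hg]
  refine Ideal.sum_mem _ fun i _ => ?_
  -- `axis i (g i) = 0`
  have h1 : axis k n i (g i) = 0 := by
    have h2 := hax i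
    rw [hg, map_sum, Finset.sum_eq_single i] at h2
    · rw [map_mul, axis_X_self] at h2
      exact (mul_eq_zero.1 h2).resolve_left PowerSeries.X_ne_zero
    · intro t _ hti
      rw [map_mul, axis_X_of_ne hti, zero_mul]
    · intro h
      exact absurd (Finset.mem_univ _) h
  obtain ⟨h, hh, hh0⟩ := exists_decomp_of_killCompl_eq_zero (pt n i) (g i) h1
  rw [hh, Finset.mul_sum]
  refine Ideal.sum_mem _ fun t _ => ?_
  by_cases hti : t = i
  · have : h t = 0 := hh0 t ⟨(), hti.symm⟩
    rw [this, mul_zero, mul_zero]
    exact Ideal.zero_mem _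
  · rw [← mul_assoc]
    exact Ideal.mul_mem_right _ _ (Ideal.subset_span ⟨i, t, Ne.symm hti, rfl⟩)

theorem constantCoeff_theta (f : MvPowerSeries (Fin n) k) (i : Fin n) :
    PowerSeries.constantCoeff (theta k n f i) = constantCoeff f :=
  constantCoeff_axis i f

theorem exists_theta_eq (F : Fin n → PowerSeries k)
    (hF : ∀ i j, PowerSeries.constantCoeff (F i) = PowerSeries.constantCoeff (F j)) :
    ∃ f, theta k n f = F := by
  classical
  rcases Nat.eq_zero_or_pos n with h | hn
  · subst h
    exact ⟨0, funext fun i => i.elim0⟩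
  let c : k := PowerSeries.constantCoeff (F ⟨0, hn⟩)
  have hc : ∀ i, PowerSeries.constantCoeff (F i) = c := fun i => hF i _
  have hdiv : ∀ i, ∃ h : PowerSeries k, F i = PowerSeries.C c + PowerSeries.X * h := by
    intro i
    have : PowerSeries.X ∣ F i - PowerSeries.C c := by
      rw [PowerSeries.X_dvd_iff, map_sub, PowerSeries.constantCoeff_C, hc, sub_self]
    obtain ⟨h, hh⟩ := this
    exact ⟨h, by rw [← hh]; ring⟩
  choose h hh using hdiv
  refine ⟨C c + ∑ i, X i * sec k n i (h i), funext fun j => ?_⟩
  rw [theta_apply, map_add, axis_C, map_sum, Finset.sum_eq_single j, map_mul, axis_X_self,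
    axis_sec, hh j]
  · intro t _ htj
    rw [map_mul, axis_X_of_ne htj, zero_mul]
  · intro hj
    exact absurd (Finset.mem_univ _) hj

end theta


section thetaBar

variable (k : Type u) [Field k] (n : ℕ)

/-- the map from `k[[T_1..T_n]]/(T_i T_j)` to `(k[[t]])^n` -/
noncomputable def thetaBar : (MvPowerSeries (Fin n) k ⧸ mixedIdeal k n) →+* (Fin n → PowerSeries k) :=
  Ideal.Quotient.lift _ (theta k n).toRingHom (fun _ hf => mixedIdeal_le_ker hf)

variable {k n}

theorem thetaBar_mk (f : MvPowerSeries (Fin n) k) :
    thetaBar k n (Ideal.Quotient.mk _ f) = theta k n f := rfl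

theorem thetaBar_injective (hn : 0 < n) : Function.Injective (thetaBar k n) := by
  rw [injective_iff_map_eq_zero]
  intro z hz
  obtain ⟨f, rfl⟩ := Ideal.Quotient.mk_surjective z
  rw [thetaBar_mk] at hz
  exact Ideal.Quotient.eq_zero_iff_mem.2 (mem_mixedIdeal_of_theta_eq_zero hn f hz)

theorem range_thetaBar (F : Fin n → PowerSeries k) :
    F ∈ Set.range (thetaBar k n) ↔
      ∀ i j : Fin n, PowerSeries.constantCoeff (F i) = PowerSeries.constantCoeff (F j) := by
  constructor
  · rintro ⟨z, rfl⟩ i j
    obtain ⟨f, rfl⟩ := Ideal.Quotient.mk_surjective z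
    rw [thetaBar_mk, constantCoeff_theta, constantCoeff_theta]
  · intro hF
    obtain ⟨f, hf⟩ := exists_theta_eq F hF
    exact ⟨Ideal.Quotient.mk _ f, hf⟩

theorem thetaBar_C (c : k) :
    thetaBar k n (Ideal.Quotient.mk _ (C c)) = fun _ => PowerSeries.C c := by
  funext i
  rw [thetaBar_mk, theta_apply, axis_C]

end thetaBar

end Groth.Agent.Lib.helper17.MvPSKer
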