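import Mathlib
import Groth.Prelude.Def_CurvBase
import Groth.Agent.Lib.Helper24.CohenPS
import Groth.Agent.Lib.Helper24.CplFlat
import Groth.Agent.Lib.Helper17.MvPSKer
import Groth.Agent.Lib.Helper24.PSLift1

set_option autoImplicit false
set_option linter.style.haveILetI false
universe u

namespace Groth.Agent.Lib.helper17.OdpAscent

open IsLocalRing Groth.Agent.Lib.helper17.MvPSKer

section theta

variable (k : Type u) [Field k]

theorem mixedIdeal_two : mixedIdeal k 2 =
    Ideal.span {(MvPowerSeries.X 0 * MvPowerSeries.X 1 : MvPowerSeries (Fin 2) k)} := by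
  apply le_antisymm
  · unfold mixedIdeal
    rw [Ideal.span_le]
    rintro f ⟨i, j, hij, rfl⟩
    fin_cases i <;> fin_cases j
    · exact absurd rfl hij
    · exact Ideal.subset_span rfl
    · change (MvPowerSeries.X 1 * MvPowerSeries.X 0 : MvPowerSeries (Fin 2) k) ∈ _
      rw [mul_comm]
      exact Ideal.subset_span rfl
    · exact absurd rfl hij
  · rw [Ideal.span_le, Set.singleton_subset_iff]
    exact Ideal.subset_span ⟨0, 1, by decide, rfl⟩

/-- the embedding `k⟦X₀,X₁⟧/(X₀X₁) → k⟦t⟧ × k⟦t⟧`. -/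
noncomputable def th : (MvPowerSeries (Fin 2) k ⧸
    Ideal.span {(MvPowerSeries.X 0 * MvPowerSeries.X 1 : MvPowerSeries (Fin 2) k)}) →+*
    (Fin 2 → PowerSeries k) :=
  Ideal.Quotient.lift _ (theta k 2).toRingHom (fun f hf => mixedIdeal_le_ker (by
    rw [mixedIdeal_two]; exact hf))

variable {k}

theorem th_mk (f : MvPowerSeries (Fin 2) k) :
    th k (Ideal.Quotient.mk _ f) = theta k 2 f := rfl

theorem th_injective : Function.Injective (th k) := by
  rw [injective_iff_map_eq_zero]
  intro z hz
  obtain ⟨f, rfl⟩ := Ideal.Quotient.mk_surjective z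
  rw [th_mk] at hz
  rw [Ideal.Quotient.eq_zero_iff_mem, ← mixedIdeal_two]
  exact mem_mixedIdeal_of_theta_eq_zero (by decide) f hz

theorem th_X (i j : Fin 2) : th k (Ideal.Quotient.mk _ (MvPowerSeries.X i)) j =
    if j = i then PowerSeries.X else 0 := by
  rw [th_mk, theta_apply]
  split_ifs with h
  · subst h; exact axis_X_self j
  · exact axis_X_of_ne (fun h' => h h'.symm)

theorem exists_pow_eq (z : MvPowerSeries (Fin 2) k ⧸
    Ideal.span {(MvPowerSeries.X 0 * MvPowerSeries.X 1 : MvPowerSeries (Fin 2) k)}) (hz : z ≠ 0) :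
    ∃ (i : Fin 2) (a : ℕ) (G : MvPowerSeries (Fin 2) k ⧸
      Ideal.span {(MvPowerSeries.X 0 * MvPowerSeries.X 1 : MvPowerSeries (Fin 2) k)}),
      (Ideal.Quotient.mk _ (MvPowerSeries.X i)) ^ (a + 1) =
        Ideal.Quotient.mk _ (MvPowerSeries.X i) * z * G := by
  have h1 : th k z ≠ 0 := fun h => hz (th_injective (h.trans (map_zero _).symm))
  obtain ⟨i, hi⟩ := Function.ne_iff.mp h1
  have hi' : th k z i ≠ 0 := hi
  obtain ⟨w', hw'⟩ := (PowerSeries.isUnit_divided_by_X_pow_order hi').exists_right_inv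
  refine ⟨i, (th k z i).order.toNat, Ideal.Quotient.mk _ (sec k 2 i w'), ?_⟩
  apply th_injective
  funext j
  rw [map_pow, map_mul, map_mul, Pi.pow_apply, Pi.mul_apply, Pi.mul_apply, th_X]
  by_cases hj : j = i
  · subst hj
    rw [if_pos rfl, th_mk (sec k 2 j w'), theta_apply, axis_sec]
    conv_rhs => rw [← PowerSeries.X_pow_order_mul_divXPowOrder (f := th k z j)]
    rw [pow_succ]
    calc PowerSeries.X ^ (th k z j).order.toNat * PowerSeries.X
        = PowerSeries.X * PowerSeries.X ^ (th k z j).order.toNat *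
          (PowerSeries.divXPowOrder (th k z j) * w') := by rw [hw']; ring
      _ = _ := by ring
  · rw [if_neg hj, zero_pow (Nat.succ_ne_zero _), zero_mul, zero_mul]

theorem mk_X_pow_ne_zero (i : Fin 2) (n : ℕ) :
    (Ideal.Quotient.mk (Ideal.span {(MvPowerSeries.X 0 * MvPowerSeries.X 1 :
      MvPowerSeries (Fin 2) k)}) (MvPowerSeries.X i)) ^ n ≠ 0 := by
  intro h
  have h1 := congrArg (fun F => (th k F) i) h
  simp only [map_pow, Pi.pow_apply, map_zero, Pi.zero_apply] at h1
  rw [th_X, if_pos rfl] at h1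
  exact pow_ne_zero n PowerSeries.X_ne_zero h1

end theta

section ascent

open Groth.Agent.Lib.Helper24

variable (k K A B : Type u) [Field k] [Field K] [CommRing A] [CommRing B]
  [IsLocalRing A] [IsLocalRing B] [IsNoetherianRing A] [IsNoetherianRing B]
  [Algebra k A] [Algebra K B] [Algebra A B] [IsLocalHom (algebraMap A B)] [Module.Flat A B]

/-- a power series in two variables with zero constant coefficient is in `(X₀, X₁)`. -/
theorem exists_decomp (f : MvPowerSeries (Fin 2) k) (hf : MvPowerSeries.constantCoeff f = 0) :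
    ∃ g₀ g₁ : MvPowerSeries (Fin 2) k, f = MvPowerSeries.X 0 * g₀ + MvPowerSeries.X 1 * g₁ := by
  have h1 := Groth.Agent.Lib.helper24.PSLift1.mem_pow_span_X 1 f (by
    intro x hx
    have hx0 : x = 0 := by
      rw [Nat.lt_one_iff] at hx
      exact (Finsupp.degree_eq_zero_iff x).mp hx
    rw [hx0]
    exact hf)
  rw [pow_one] at h1
  have h2 : Set.range (MvPowerSeries.X : Fin 2 → MvPowerSeries (Fin 2) k) =
      {MvPowerSeries.X 0, MvPowerSeries.X 1} := by
    ext y
    constructor
    · rintro ⟨i, rfl⟩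
      fin_cases i
      · exact Or.inl rfl
      · exact Or.inr rfl
    · rintro (rfl | rfl)
      · exact ⟨0, rfl⟩
      · exact ⟨1, rfl⟩
  rw [h2, Ideal.mem_span_pair] at h1
  obtain ⟨a, b, hab⟩ := h1
  exact ⟨a, b, by rw [← hab]; ring⟩

theorem odp_ascent (hm : (maximalIdeal A).map (algebraMap A B) = maximalIdeal B)
    (hres : Function.Surjective ((residue B).comp (algebraMap K B)))
    (h : Curv2.IsOrdDoublePt k A) : Curv2.IsOrdDoublePt K B := by
  classical
  obtain ⟨e, -⟩ := h
  have hc_inj : Function.Injective (CplFlat.cplMap A B) :=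
    (CplFlat.faithfullyFlat_cplMap A B).injective
  -- generators of the maximal ideal of `Â`
  let u : Fin 2 → AdicCompletion (maximalIdeal A) A :=
    fun i => e.symm (Ideal.Quotient.mk _ (MvPowerSeries.X i))
  have heu : ∀ i, e (u i) = Ideal.Quotient.mk _ (MvPowerSeries.X i) :=
    fun i => e.apply_symm_apply _
  have hu01 : u 0 * u 1 = 0 := by
    apply e.injective
    rw [map_mul, heu, heu, map_zero, ← map_mul, Ideal.Quotient.eq_zero_iff_mem]
    exact Ideal.subset_span rfl
  have hu_mem : ∀ i, u i ∈ maximalIdeal (AdicCompletion (maximalIdeal A) A) := by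
    intro i
    rw [mem_maximalIdeal, mem_nonunits_iff]
    intro hunit
    have h1 : IsUnit (e (u i)) := hunit.map e
    rw [heu] at h1
    obtain ⟨w, hw⟩ := h1.exists_right_inv
    obtain ⟨g, rfl⟩ := Ideal.Quotient.mk_surjective w
    rw [← map_mul, ← map_one (Ideal.Quotient.mk _), Ideal.Quotient.eq,
      Ideal.mem_span_singleton'] at hw
    obtain ⟨q, hq⟩ := hw
    have h2 := congrArg MvPowerSeries.constantCoeff hq
    simp only [map_mul, map_sub, map_one, MvPowerSeries.constantCoeff_X, mul_zero, zero_mul,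
      zero_sub] at h2
    exact one_ne_zero (neg_eq_zero.mp h2.symm)
  have hmA : maximalIdeal (AdicCompletion (maximalIdeal A) A) = Ideal.span (Set.range u) := by
    apply le_antisymm
    · intro a ha
      obtain ⟨f, hf⟩ := Ideal.Quotient.mk_surjective (e a)
      have hf0 : MvPowerSeries.constantCoeff f = 0 := by
        by_contra hne
        have hfu : IsUnit f := MvPowerSeries.isUnit_iff_constantCoeff.mpr (Ne.isUnit hne)
        have h1 : IsUnit (e a) := by rw [← hf]; exact hfu.map _
        have h2 : IsUnit a := by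
          have := h1.map e.symm
          rwa [e.symm_apply_apply] at this
        exact (mem_nonunits_iff.mp ((mem_maximalIdeal a).mp ha)) h2
      obtain ⟨g₀, g₁, hg⟩ := exists_decomp k f hf0
      have h3 : a = u 0 * e.symm (Ideal.Quotient.mk _ g₀) +
          u 1 * e.symm (Ideal.Quotient.mk _ g₁) := by
        apply e.injective
        rw [map_add, map_mul, map_mul, heu, heu, e.apply_symm_apply, e.apply_symm_apply, ← hf, hg,
          map_add, map_mul, map_mul]
      rw [h3]
      exact Ideal.add_mem _ (Ideal.mul_mem_right _ _ (Ideal.subset_span ⟨0, rfl⟩))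
        (Ideal.mul_mem_right _ _ (Ideal.subset_span ⟨1, rfl⟩))
    · rw [Ideal.span_le]
      rintro _ ⟨i, rfl⟩
      exact hu_mem i
  -- the completed target
  haveI : IsNoetherianRing (AdicCompletion (maximalIdeal B) B) :=
    Groth.Agent.S0542.result B _ (maximalIdeal B).fg_of_isNoetherianRing
  haveI : IsAdicComplete (maximalIdeal K) K := by
    rw [IsLocalRing.maximalIdeal_eq_bot]; infer_instance
  let x : Fin 2 → AdicCompletion (maximalIdeal B) B := fun i => CplFlat.cplMap A B (u i)
  let v : K →+* AdicCompletion (maximalIdeal B) B :=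
    (algebraMap B (AdicCompletion (maximalIdeal B) B)).comp (algebraMap K B)
  have hres' : Function.Surjective
      ((residue (AdicCompletion (maximalIdeal B) B)).comp v) := by
    intro y
    obtain ⟨y', rfl⟩ := (AdicCompletion.residueField_map_bijective B).2 y
    obtain ⟨c, hc⟩ := hres y'
    refine ⟨c, ?_⟩
    rw [← hc]
    simp only [RingHom.comp_apply, v]
    rw [IsLocalRing.ResidueField.map_residue]
  have hx : maximalIdeal (AdicCompletion (maximalIdeal B) B) =
      (maximalIdeal K).map v ⊔ Ideal.span (Set.range x) := by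
    rw [IsLocalRing.maximalIdeal_eq_bot, Ideal.map_bot, bot_sup_eq,
      AdicCompletion.maximalIdeal_eq_map (R := B)]
    have h1 : (maximalIdeal B).map (algebraMap B (AdicCompletion (maximalIdeal B) B)) =
        ((maximalIdeal A).map (algebraMap A B)).map
          (algebraMap B (AdicCompletion (maximalIdeal B) B)) := by rw [hm]
    rw [h1, Ideal.map_map,
      ← IsScalarTower.algebraMap_eq, ← CplFlat.cplMap_comp_algebraMap, ← Ideal.map_map,
      ← AdicCompletion.maximalIdeal_eq_map, hmA, Ideal.map_span, ← Set.range_comp]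
    rfl
  obtain ⟨Ψ, hΨC, hΨX, hΨs, -⟩ := CohenPS.exists_ps_surjective v hres' 2 x hx
  have hΨ0 : Ψ (MvPowerSeries.X 0 * MvPowerSeries.X 1) = 0 := by
    rw [map_mul, hΨX, hΨX]
    change CplFlat.cplMap A B (u 0) * CplFlat.cplMap A B (u 1) = 0
    rw [← map_mul, hu01, map_zero]
  let Ψb : (MvPowerSeries (Fin 2) K ⧸
      Ideal.span {(MvPowerSeries.X 0 * MvPowerSeries.X 1 : MvPowerSeries (Fin 2) K)}) →+*
      AdicCompletion (maximalIdeal B) B :=
    Ideal.Quotient.lift _ Ψ (by
      intro f hf
      rw [Ideal.mem_span_singleton'] at hf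
      obtain ⟨q, rfl⟩ := hf
      rw [map_mul, hΨ0, mul_zero])
  have hΨb_mk : ∀ f, Ψb (Ideal.Quotient.mk _ f) = Ψ f := fun f => rfl
  have hΨb_surj : Function.Surjective Ψb :=
    Ideal.Quotient.lift_surjective_of_surjective _ _ hΨs
  have hΨb_inj : Function.Injective Ψb := by
    rw [injective_iff_map_eq_zero]
    intro z hz
    by_contra hne
    obtain ⟨i, a, G, hG⟩ := exists_pow_eq z hne
    have h1 := congrArg Ψb hG
    rw [map_pow, map_mul, map_mul, hz, mul_zero, zero_mul, hΨb_mk, hΨX] at h1
    change (CplFlat.cplMap A B (u i)) ^ (a + 1) = 0 at h1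
    rw [← map_pow] at h1
    have h2 : u i ^ (a + 1) = 0 := hc_inj (h1.trans (map_zero _).symm)
    have h3 := congrArg e h2
    rw [map_pow, heu, map_zero] at h3
    exact mk_X_pow_ne_zero i (a + 1) h3
  refine ⟨(RingEquiv.ofBijective Ψb ⟨hΨb_inj, hΨb_surj⟩).symm, fun c => ?_⟩
  rw [RingEquiv.symm_apply_eq, RingEquiv.ofBijective_apply, hΨb_mk]
  exact (RingHom.congr_fun hΨC c).symm

end ascent

end Groth.Agent.Lib.helper17.OdpAscent
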