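import Mathlib
import Groth.Prelude.Def_CurvBase
import Groth.Agent.Lib.Helper17.OdpAscent
import Groth.Agent.Lib.Helper17.NodeAllPts
import Groth.Agent.Lib.Helper17.FieldBC
import Groth.Agent.Lib.Helper17.NodeEtale
import Groth.Agent.Lib.Helper17.GeomPoint2

set_option autoImplicit false
set_option linter.style.haveILetI false
universe u

namespace Groth.Agent.Lib.helper17.OdpAscentSch

open CategoryTheory CategoryTheory.Limits AlgebraicGeometry IsLocalRing TensorProduct
open Groth.Agent.Lib.helper17.FibreStalk Groth.Agent.Lib.helper17.NodeAllPts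
open Groth.Agent.Lib.helper17.EtBaseRestr2

section

variable {X X' : Scheme.{u}} {K K' : CommRingCat.{u}}
  {f : X ⟶ Spec K} {f' : X' ⟶ Spec K'} {g' : X' ⟶ X} {φ : K ⟶ K'}

/-- for a base change to a field `K'` and a point `x'` over a `K`-rational point:
`m_x O_{X',x'} = m_{x'}`. -/
theorem map_maximalIdeal_eq (hc : IsPullback g' f' f (Spec.map φ)) (x' : X')
    (ψ : K ⟶ X.residueField (g' x')) (hψ : X.fromSpecResidueField (g' x') ≫ f = Spec.map ψ)
    (hbij : Function.Bijective ψ.hom) (hK' : IsField K') :
    (maximalIdeal (X.presheaf.stalk (g' x'))).map (g'.stalkMap x').hom =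
      maximalIdeal (X'.presheaf.stalk x') := by
  letI := ψ.hom.toAlgebra
  letI := φ.hom.toAlgebra
  obtain ⟨q, hq, ⟨e⟩⟩ := FieldBC.exists_fibRing_equiv_localization hc x' ψ hψ
  have hF : IsField ((X.residueField (g' x')) ⊗[K] K') := by
    let e0 : K ≃ₐ[K] X.residueField (g' x') := AlgEquiv.ofBijective (Algebra.ofId K _) hbij
    let e1 : (X.residueField (g' x')) ⊗[K] K' ≃ₐ[K] K' :=
      (Algebra.TensorProduct.congr e0.symm AlgEquiv.refl).trans (Algebra.TensorProduct.lid K K')
    exact e1.toMulEquiv.isField hK'
  have hL : IsField (Localization.AtPrime q) := by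
    have hu : q.primeCompl ≤ IsUnit.submonoid _ := by
      intro b hb
      have hb0 : b ≠ 0 := fun h0 => hb (h0 ▸ q.zero_mem)
      obtain ⟨c, hc⟩ := hF.mul_inv_cancel hb0
      exact IsUnit.of_mul_eq_one _ hc
    exact (IsLocalization.atUnits _ q.primeCompl (S := Localization.AtPrime q)
      hu).symm.toMulEquiv.isField hF
  have hFib : IsField (FibRing g' x') := e.toMulEquiv.isField hL
  have hmax : ((maximalIdeal (X.presheaf.stalk (g' x'))).map (g'.stalkMap x').hom).IsMaximal :=
    Ideal.Quotient.maximal_of_isField _ hFib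
  exact (IsLocalRing.eq_maximalIdeal hmax)

end

/-- ordinary double points ascend along base change to an algebraically closed extension. -/
theorem odpAt_ascent (L M : Type u) [Field L] [Field M] [Algebra L M] [IsAlgClosed M]
    {V : Scheme.{u}} (t : V ⟶ Spec (CommRingCat.of L)) [LocallyOfFiniteType t]
    (w : ↥(pullback t (Spec.map (CommRingCat.ofHom (algebraMap L M)))))
    (h : OdpAt L t (pullback.fst t (Spec.map (CommRingCat.ofHom (algebraMap L M))) w)) :
    OdpAt M (pullback.snd t (Spec.map (CommRingCat.ofHom (algebraMap L M)))) w := by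
  unfold OdpAt at h ⊢
  have hs := @OdpEtale.residue_surjective_of_isOrdDoublePt L _ _ _
    (@Curv2.stalkAlgebra L _ V ⟨t⟩ _) _ h
  have hbij : Function.Bijective (@Curv2.resMap L _ V ⟨t⟩
      (pullback.fst t (Spec.map (CommRingCat.ofHom (algebraMap L M))) w)) :=
    ⟨RingHom.injective _, hs⟩
  have halg : (@Curv2.resMap L _ V ⟨t⟩
      (pullback.fst t (Spec.map (CommRingCat.ofHom (algebraMap L M))) w)).IsIntegral :=
    RingHom.isIntegral_of_surjective _ hs
  obtain ⟨φ, α, -, -, hαs, hαp⟩ := exists_Kpoint L M t _ halg w rfl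
  letI iA : Algebra L (V.presheaf.stalk
      (pullback.fst t (Spec.map (CommRingCat.ofHom (algebraMap L M))) w)) :=
    @Curv2.stalkAlgebra L _ V ⟨t⟩ _
  letI iB : Algebra M ((pullback t (Spec.map (CommRingCat.ofHom
      (algebraMap L M)))).presheaf.stalk w) :=
    @Curv2.stalkAlgebra M _ _ ⟨pullback.snd t (Spec.map (CommRingCat.ofHom (algebraMap L M)))⟩ w
  letI iAB : Algebra (V.presheaf.stalk
      (pullback.fst t (Spec.map (CommRingCat.ofHom (algebraMap L M))) w))
      ((pullback t (Spec.map (CommRingCat.ofHom (algebraMap L M)))).presheaf.stalk w) :=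
    ((pullback.fst t (Spec.map (CommRingCat.ofHom (algebraMap L M)))).stalkMap w).hom.toAlgebra
  haveI : IsLocalHom (algebraMap (V.presheaf.stalk
      (pullback.fst t (Spec.map (CommRingCat.ofHom (algebraMap L M))) w))
      ((pullback t (Spec.map (CommRingCat.ofHom (algebraMap L M)))).presheaf.stalk w)) :=
    inferInstanceAs (IsLocalHom
      ((pullback.fst t (Spec.map (CommRingCat.ofHom (algebraMap L M)))).stalkMap w).hom)
  haveI : IsLocallyNoetherian V := LocallyOfFiniteType.isLocallyNoetherian t
  haveI : LocallyOfFiniteType (pullback.snd t (Spec.map (CommRingCat.ofHom (algebraMap L M)))) :=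
    MorphismProperty.pullback_snd (P := @LocallyOfFiniteType) _ _ inferInstance
  haveI : IsLocallyNoetherian (pullback t (Spec.map (CommRingCat.ofHom (algebraMap L M)))) :=
    LocallyOfFiniteType.isLocallyNoetherian
      (pullback.snd t (Spec.map (CommRingCat.ofHom (algebraMap L M))))
  haveI : Flat (Spec.map (CommRingCat.ofHom (algebraMap L M))) :=
    Groth.Agent.Lib.helper17.GeomPoint.flat_SpecMap L M
  haveI : Flat (pullback.fst t (Spec.map (CommRingCat.ofHom (algebraMap L M)))) :=
    MorphismProperty.pullback_fst (P := @Flat) _ _ inferInstance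
  haveI : Module.Flat (V.presheaf.stalk
      (pullback.fst t (Spec.map (CommRingCat.ofHom (algebraMap L M))) w))
      ((pullback t (Spec.map (CommRingCat.ofHom (algebraMap L M)))).presheaf.stalk w) :=
    Flat.stalkMap _ w
  have hm : (maximalIdeal (V.presheaf.stalk
      (pullback.fst t (Spec.map (CommRingCat.ofHom (algebraMap L M))) w))).map
      (algebraMap _ ((pullback t (Spec.map (CommRingCat.ofHom
        (algebraMap L M)))).presheaf.stalk w)) = maximalIdeal _ :=
    map_maximalIdeal_eq (IsPullback.of_hasPullback t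
      (Spec.map (CommRingCat.ofHom (algebraMap L M)))) w
      (CommRingCat.ofHom (@Curv2.resMap L _ V ⟨t⟩ _)) (specMap_resMap L t _) hbij
      (Field.toIsField M)
  have hres : Function.Surjective ((residue ((pullback t (Spec.map (CommRingCat.ofHom
      (algebraMap L M)))).presheaf.stalk w)).comp (algebraMap M _)) := by
    obtain rfl := hαp (IsLocalRing.closedPoint M)
    have h1 := Scheme.descResidueField_stalkClosedPointTo_fromSpecResidueField M _ α
    have h2 := specMap_resMap M (pullback.snd t (Spec.map (CommRingCat.ofHom (algebraMap L M))))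
      (α (IsLocalRing.closedPoint M))
    have h3 : Spec.map (CommRingCat.ofHom (@Curv2.resMap M _ _
        ⟨pullback.snd t (Spec.map (CommRingCat.ofHom (algebraMap L M)))⟩
        (α (IsLocalRing.closedPoint M))) ≫
        Scheme.descResidueField (Scheme.stalkClosedPointTo α)) = Spec.map (𝟙 _) := by
      rw [Spec.map_comp, ← h2, ← Category.assoc, h1, hαs, Spec.map_id]
    have h4 := Spec.map_injective h3
    intro c
    refine ⟨(Scheme.descResidueField (Scheme.stalkClosedPointTo α)).hom c, ?_⟩
    have h5 := congrArg (fun F => F.hom ((Scheme.descResidueField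
      (Scheme.stalkClosedPointTo α)).hom c)) h4
    apply (Scheme.descResidueField (Scheme.stalkClosedPointTo α)).hom.injective
    exact h5
  exact OdpAscent.odp_ascent L M _ _ hm hres h

end Groth.Agent.Lib.helper17.OdpAscentSch
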