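import Mathlib
import Groth.Prelude.Def_CurvBase
import Groth.Agent.Lib.Helper17.OdpAscentSch
import Groth.Agent.Lib.Helper3.FTField

set_option autoImplicit false
set_option linter.style.haveILetI false
universe u

namespace Groth.Agent.Lib.helper17.NodeAscent

open CategoryTheory CategoryTheory.Limits AlgebraicGeometry IsLocalRing TensorProduct
open Groth.Agent.Lib.helper17.NodeAllPts Groth.Agent.Lib.helper17.OdpAscentSch

/-- integrality of the residue field at a closed point. -/
theorem resMap_isIntegral (k : Type u) [Field k] {X : Scheme.{u}}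
    (p : X ⟶ Spec (CommRingCat.of k)) [LocallyOfFiniteType p] (x : X)
    (hcl : IsClosed ({x} : Set X)) : (@Curv2.resMap k _ X ⟨p⟩ x).IsIntegral := by
  letI iX : X.Over (Spec (CommRingCat.of k)) := ⟨p⟩
  haveI : LocallyOfFiniteType (X ↘ Spec (CommRingCat.of k)) := ‹LocallyOfFiniteType p›
  have htr := Groth.Agent.Lib.helper3.FTField.trdeg_residueField_eq_zero_of_isClosed k X x hcl
  letI := Curv2.resAlgebra k X x
  haveI : Algebra.IsAlgebraic k (X.residueField x) := trdeg_eq_zero_iff.mp htr
  haveI : Algebra.IsIntegral k (X.residueField x) := Algebra.IsAlgebraic.isIntegral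
  exact fun a => Algebra.IsIntegral.isIntegral a

/-- nodes ascend along arbitrary field extensions. -/
theorem isNode_ascent (k K : Type u) [Field k] [Field K] [Algebra k K] {X : Scheme.{u}}
    (p : X ⟶ Spec (CommRingCat.of k)) [LocallyOfFiniteType p]
    (y : ↥(pullback p (Spec.map (CommRingCat.ofHom (algebraMap k K)))))
    (hy : IsClosed ({y} : Set ↥(pullback p (Spec.map (CommRingCat.ofHom (algebraMap k K))))))
    (hx : @Curv2.IsNode k _ X ⟨p⟩ (pullback.fst p _ y)) :
    @Curv2.IsNode K _ (pullback p (Spec.map (CommRingCat.ofHom (algebraMap k K))))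
      ⟨pullback.snd p _⟩ y := by
  obtain ⟨hcl, xb₀, hxb₀, hodp⟩ := hx
  have halg := resMap_isIntegral k p _ hcl
  refine ⟨hy, ?_⟩
  -- the embedding of algebraic closures
  let ι : AlgebraicClosure k →ₐ[k] AlgebraicClosure K := IsAlgClosed.lift
  letI : Algebra (AlgebraicClosure k) (AlgebraicClosure K) := ι.toRingHom.toAlgebra
  have hcomp : (algebraMap (AlgebraicClosure k) (AlgebraicClosure K)).comp
      (algebraMap k (AlgebraicClosure k)) =
      (algebraMap K (AlgebraicClosure K)).comp (algebraMap k K) := by
    ext c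
    exact (ι.commutes c).trans (IsScalarTower.algebraMap_apply k K (AlgebraicClosure K) c)
  have hq : Spec.map (CommRingCat.ofHom (algebraMap K (AlgebraicClosure K))) ≫
      Spec.map (CommRingCat.ofHom (algebraMap k K)) =
      Spec.map (CommRingCat.ofHom (algebraMap (AlgebraicClosure k) (AlgebraicClosure K))) ≫
      Spec.map (CommRingCat.ofHom (algebraMap k (AlgebraicClosure k))) := by
    rw [← Spec.map_comp, ← Spec.map_comp, ← CommRingCat.ofHom_comp, ← CommRingCat.ofHom_comp,
      hcomp]
  -- the two descriptions of `X ×_k K̄`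
  have hZ := (IsPullback.of_hasPullback
      (pullback.snd p (Spec.map (CommRingCat.ofHom (algebraMap k K))))
      (Spec.map (CommRingCat.ofHom (algebraMap K (AlgebraicClosure K))))).paste_horiz
    (IsPullback.of_hasPullback p (Spec.map (CommRingCat.ofHom (algebraMap k K))))
  have hW := (IsPullback.of_hasPullback
      (pullback.snd p (Spec.map (CommRingCat.ofHom (algebraMap k (AlgebraicClosure k)))))
      (Spec.map (CommRingCat.ofHom (algebraMap (AlgebraicClosure k)
        (AlgebraicClosure K))))).paste_horiz
    (IsPullback.of_hasPullback p (Spec.map (CommRingCat.ofHom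
      (algebraMap k (AlgebraicClosure k)))))
  rw [hq] at hZ
  let θ := hZ.isoIsPullback _ _ hW
  have hθ1 : θ.hom ≫ (pullback.fst _ _ ≫ pullback.fst _ _) = pullback.fst _ _ ≫ pullback.fst _ _ :=
    hZ.isoIsPullback_hom_fst _ _ hW
  have hθ2 : θ.hom ≫ pullback.snd _ _ = pullback.snd _ _ := hZ.isoIsPullback_hom_snd _ _ hW
  -- a point over `y`
  haveI : Surjective (Spec.map (CommRingCat.ofHom (algebraMap K (AlgebraicClosure K)))) :=
    Groth.Agent.Lib.helper17.GeomPoint.surjective_SpecMap K (AlgebraicClosure K)
  haveI : Surjective (pullback.fst (pullback.snd p (Spec.map (CommRingCat.ofHom (algebraMap k K))))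
      (Spec.map (CommRingCat.ofHom (algebraMap K (AlgebraicClosure K))))) :=
    MorphismProperty.pullback_fst (P := @Surjective) _ _ inferInstance
  obtain ⟨yb, hyb⟩ := (pullback.fst (pullback.snd p (Spec.map (CommRingCat.ofHom
    (algebraMap k K)))) (Spec.map (CommRingCat.ofHom
      (algebraMap K (AlgebraicClosure K))))).surjective y
  refine ⟨yb, hyb, ?_⟩
  have hxb' : pullback.fst p (Spec.map (CommRingCat.ofHom (algebraMap k (AlgebraicClosure k))))
      ((pullback.fst (pullback.snd p (Spec.map (CommRingCat.ofHom
        (algebraMap k (AlgebraicClosure k)))))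
        (Spec.map (CommRingCat.ofHom (algebraMap (AlgebraicClosure k) (AlgebraicClosure K)))))
        (θ.hom yb)) = pullback.fst p _ y := by
    have h1 := congrArg (fun f => f yb) hθ1
    simp only [Scheme.Hom.comp_apply] at h1
    rw [h1, hyb]
  have hodp' := odpAt_of_odpAt k (AlgebraicClosure k) p _ halg xb₀ _ hxb₀ hxb' hodp
  haveI : LocallyOfFiniteType (pullback.snd p (Spec.map (CommRingCat.ofHom
      (algebraMap k (AlgebraicClosure k))))) :=
    MorphismProperty.pullback_snd (P := @LocallyOfFiniteType) _ _ inferInstance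
  have hasc := odpAt_ascent (AlgebraicClosure k) (AlgebraicClosure K)
    (pullback.snd p (Spec.map (CommRingCat.ofHom (algebraMap k (AlgebraicClosure k)))))
    (θ.hom yb) hodp'
  haveI : LocallyOfFiniteType (pullback.snd (pullback.snd p (Spec.map (CommRingCat.ofHom
      (algebraMap k (AlgebraicClosure k)))))
      (Spec.map (CommRingCat.ofHom (algebraMap (AlgebraicClosure k) (AlgebraicClosure K))))) :=
    MorphismProperty.pullback_snd (P := @LocallyOfFiniteType) _ _ inferInstance
  exact (NodeEtale.odp_iff (AlgebraicClosure K) (pullback.snd _ _) θ.hom (pullback.snd _ _)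
    hθ2 yb).1 hasc

end Groth.Agent.Lib.helper17.NodeAscent
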