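import Mathlib
import Groth.Prelude.Def_Curv2

/-!
# helper17: the normalization of a multicross ring

`IsMC ψ`: `ψ : S → (k[[t]])^(m+1)` is injective with range the tuples with a common constant term.
Then `S` is local (`IsMC.isLocalRing`), its normalization is `(k[[t]])^(m+1)`
(`IsMC.exists_linearEquiv`), `δ(S) = m` (`IsMC.deltaInv_eq`), `S` has `m + 1` minimal primes
(`IsMC.card_minimalPrimes`) and dimension one (`IsMC.ringKrullDim_eq_one`).
-/

set_option autoImplicit false
set_option linter.style.haveILetI false
universe u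

namespace Groth.Agent.Lib.helper17.MulticrossNorm

open IsLocalRing PowerSeries

section basic

variable {k S : Type u} [Field k] [CommRing S] {m : ℕ}
  (ψ : S →+* (Fin (m + 1) → PowerSeries k))

/-- the multicross condition on the range of `ψ` -/
def IsMC : Prop := Function.Injective ψ ∧ ∀ F : Fin (m + 1) → PowerSeries k,
  F ∈ Set.range ψ ↔ ∀ i j : Fin (m + 1), constantCoeff (F i) = constantCoeff (F j)

variable {ψ}

theorem IsMC.exists_eq (h : IsMC ψ) (F : Fin (m + 1) → PowerSeries k)
    (hF : ∀ i j : Fin (m + 1), constantCoeff (F i) = constantCoeff (F j)) : ∃ s, ψ s = F :=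
  (h.2 F).2 hF

theorem IsMC.const_eq (h : IsMC ψ) (s : S) (i j : Fin (m + 1)) :
    constantCoeff (ψ s i) = constantCoeff (ψ s j) :=
  (h.2 (ψ s)).1 ⟨s, rfl⟩ i j

theorem IsMC.exists_of_const_zero (h : IsMC ψ) (F : Fin (m + 1) → PowerSeries k)
    (hF : ∀ i, constantCoeff (F i) = 0) : ∃ s, ψ s = F :=
  h.exists_eq F fun i j => by rw [hF i, hF j]

theorem IsMC.isUnit_of_ne (h : IsMC ψ) (s : S) (hs : constantCoeff (ψ s 0) ≠ 0) : IsUnit s := by
  obtain ⟨t, ht⟩ := h.exists_eq (fun i => (ψ s i)⁻¹) (fun i j => by
    rw [constantCoeff_inv, constantCoeff_inv, h.const_eq s i j])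
  refine IsUnit.of_mul_eq_one t (h.1 ?_)
  rw [map_mul, ht, map_one]
  funext i
  show ψ s i * (ψ s i)⁻¹ = 1
  exact PowerSeries.mul_inv_cancel _ (by rw [h.const_eq s i 0]; exact hs)

theorem IsMC.isUnit_iff (h : IsMC ψ) (s : S) : IsUnit s ↔ constantCoeff (ψ s 0) ≠ 0 := by
  constructor
  · intro hu hs
    have h1 : IsUnit (ψ s 0) := (hu.map ψ).map (Pi.evalRingHom _ 0)
    rw [isUnit_iff_constantCoeff, hs] at h1
    exact not_isUnit_zero h1
  · exact h.isUnit_of_ne s

theorem IsMC.isLocalRing (h : IsMC ψ) : IsLocalRing S := by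
  haveI : Nontrivial S := by
    refine ⟨⟨0, 1, fun h01 => ?_⟩⟩
    have := congrArg (fun s => ψ s 0) h01
    simp at this
  refine IsLocalRing.of_nonunits_add fun a b ha hb => ?_
  rw [mem_nonunits_iff, h.isUnit_iff, not_not] at ha hb ⊢
  rw [map_add, Pi.add_apply, map_add, ha, hb, add_zero]

theorem IsMC.mem_maximalIdeal_iff (h : IsMC ψ) [IsLocalRing S] (s : S) :
    s ∈ maximalIdeal S ↔ ∀ i, constantCoeff (ψ s i) = 0 := by
  rw [mem_maximalIdeal, mem_nonunits_iff, h.isUnit_iff, not_not]
  constructor
  · intro hs i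
    rw [h.const_eq s i 0, hs]
  · intro hs
    exact hs 0

end basic


section xelt

variable {k S : Type u} [Field k] [CommRing S] {m : ℕ}
  {ψ : S →+* (Fin (m + 1) → PowerSeries k)}

theorem IsMC.exists_x (h : IsMC ψ) : ∃ x : S, ψ x = fun _ => X :=
  h.exists_of_const_zero _ fun _ => constantCoeff_X

theorem IsMC.x_mem_nonZeroDivisors (h : IsMC ψ) (x : S) (hx : ψ x = fun _ => X) :
    x ∈ nonZeroDivisors S := by
  rw [mem_nonZeroDivisors_iff_right]
  intro a ha
  apply h.1
  rw [map_zero]
  funext i
  have h1 : ψ (a * x) i = 0 := by rw [ha, map_zero]; rfl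
  rw [map_mul, hx] at h1
  exact (mul_eq_zero.1 h1).resolve_right X_ne_zero

/-- every nonzerodivisor divides a power of `x` -/
theorem IsMC.exists_mul_eq_pow (h : IsMC ψ) (x : S) (hx : ψ x = fun _ => X) (s : S)
    (hs : s ∈ nonZeroDivisors S) : ∃ (N : ℕ) (w : S), s * w = x ^ N := by
  classical
  have hne : ∀ i, ψ s i ≠ 0 := by
    intro i hi
    obtain ⟨v, hv⟩ := h.exists_of_const_zero (Pi.single i X) (fun j => by
      rcases eq_or_ne j i with rfl | hj <;> simp [*])
    have h1 : v * s = 0 := by
      apply h.1
      rw [map_mul, map_zero, hv]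
      funext j
      rcases eq_or_ne j i with rfl | hj
      · simp [hi]
      · simp [hj]
    have h2 : v = 0 := (mem_nonZeroDivisors_iff_right.1 hs) v h1
    have h3 := congrFun hv i
    rw [h2, map_zero, Pi.single_eq_same] at h3
    exact X_ne_zero h3.symm
  have hass : ∀ i, ∃ (a : ℕ) (u : PowerSeries k), ψ s i * u = X ^ a := by
    intro i
    obtain ⟨a, ha⟩ := IsDiscreteValuationRing.associated_pow_irreducible (hne i)
      (X_prime (R := k)).irreducible
    obtain ⟨u, hu⟩ := ha
    exact ⟨a, u, hu⟩
  choose a u hu using hass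
  let N := (∑ i, a i) + 1
  have haN : ∀ i, a i + 1 ≤ N := by
    intro i
    have := Finset.single_le_sum (f := a) (fun j _ => Nat.zero_le _) (Finset.mem_univ i)
    omega
  obtain ⟨w, hw⟩ := h.exists_of_const_zero (fun i => u i * X ^ (N - a i)) (fun i => by
    have : N - a i = (N - a i - 1) + 1 := by have := haN i; omega
    rw [this, pow_succ, ← mul_assoc, map_mul, constantCoeff_X, mul_zero])
  refine ⟨N, w, h.1 ?_⟩
  rw [map_mul, map_pow, hx, hw]
  funext i
  show ψ s i * (u i * X ^ (N - a i)) = X ^ N
  rw [← mul_assoc, hu, ← pow_add]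
  congr 1
  have := haN i
  omega

end xelt

section intclosed

/-- in an integrally closed domain, a root of `p.scaleRoots (ϖ^N)` is divisible by `ϖ^N` -/
theorem dvd_of_scaleRoots_eval_eq_zero {D : Type u} [CommRing D] [IsDomain D]
    [IsIntegrallyClosed D] (q : Polynomial D) (hq : q.Monic) (ϖ : D) (hϖ : ϖ ≠ 0) (β : D)
    (h : (q.scaleRoots ϖ).eval β = 0) : ϖ ∣ β := by
  let K := FractionRing D
  have hϖK : algebraMap D K ϖ ≠ 0 := by
    rw [Ne, map_eq_zero_iff _ (IsFractionRing.injective D K)]
    exact hϖ
  have h1 : Polynomial.eval₂ (algebraMap D K) (algebraMap D K ϖ * (algebraMap D K β / algebraMap D K ϖ))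
      (q.scaleRoots ϖ) = 0 := by
    rw [mul_div_cancel₀ _ hϖK, Polynomial.eval₂_at_apply, h, map_zero]
  rw [Polynomial.scaleRoots_eval₂_mul] at h1
  have h2 : Polynomial.eval₂ (algebraMap D K) (algebraMap D K β / algebraMap D K ϖ) q = 0 :=
    (mul_eq_zero.1 h1).resolve_left (pow_ne_zero _ hϖK)
  have hint : IsIntegral D (algebraMap D K β / algebraMap D K ϖ) := ⟨q, hq, h2⟩
  obtain ⟨y, hy⟩ := IsIntegrallyClosed.algebraMap_eq_of_integral hint
  refine ⟨y, ?_⟩
  apply IsFractionRing.injective D K
  rw [map_mul, hy, mul_div_cancel₀ _ hϖK]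

end intclosed


section norm

variable {k S : Type u} [Field k] [CommRing S] {m : ℕ}
  {ψ : S →+* (Fin (m + 1) → PowerSeries k)}

theorem isIntegral_of_isIdempotentElem {R A : Type*} [CommRing R] [CommRing A] [Algebra R A]
    (e : A) (he : e * e = e) : IsIntegral R e := by
  refine ⟨Polynomial.X * (Polynomial.X - Polynomial.C 1), ?_, ?_⟩
  · exact Polynomial.monic_X.mul (Polynomial.monic_X_sub_C 1)
  · simp [mul_sub, he]

/-- the normalization of a multicross ring is `(k[[t]])^n` -/
theorem IsMC.exists_linearEquiv (h : IsMC ψ) :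
    letI : Algebra S (Fin (m + 1) → PowerSeries k) := ψ.toAlgebra
    ∃ e : (Fin (m + 1) → PowerSeries k) ≃ₗ[S] integralClosure S (FractionRing S),
      ∀ s, e (ψ s) = algebraMap S _ s := by
  classical
  letI : Algebra S (Fin (m + 1) → PowerSeries k) := ψ.toAlgebra
  have hsmul : ∀ (s : S) (p : Fin (m + 1) → PowerSeries k), s • p = ψ s * p := fun s p => rfl
  obtain ⟨x, hx⟩ := h.exists_x
  have hxnz := h.x_mem_nonZeroDivisors x hx
  have hxu : IsUnit (algebraMap S (FractionRing S) x) :=
    IsLocalization.map_units (FractionRing S) (⟨x, hxnz⟩ : nonZeroDivisors S)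
  obtain ⟨xinv, hxinv⟩ := hxu.exists_right_inv
  have hQinj : Function.Injective (algebraMap S (FractionRing S)) :=
    IsFractionRing.injective S (FractionRing S)
  have hcex : ∀ p : Fin (m + 1) → PowerSeries k, ∃ s, ψ s = ψ x * p := by
    intro p
    obtain ⟨s, hs⟩ := h.exists_of_const_zero (fun i => X * p i) (fun i => by
      rw [map_mul, constantCoeff_X, zero_mul])
    refine ⟨s, ?_⟩
    rw [hs, hx]
    rfl
  choose c hc using hcex
  have c_add : ∀ p q, c (p + q) = c p + c q := by
    intro p q
    apply h.1
    rw [map_add, hc, hc, hc, mul_add]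
  have c_mul : ∀ p q, c (p * q) * x = c p * c q := by
    intro p q
    apply h.1
    rw [map_mul, map_mul, hc, hc, hc]
    ring
  have c_one : c 1 = x := by
    apply h.1
    rw [hc, mul_one]
  have c_zero : c 0 = 0 := by
    apply h.1
    rw [hc, mul_zero, map_zero]
  have c_psi : ∀ s, c (ψ s) = x * s := by
    intro s
    apply h.1
    rw [hc, map_mul]
  have c_smul : ∀ (s : S) p, c (s • p) = s * c p := by
    intro s p
    apply h.1
    rw [hc, map_mul, hc, hsmul]
    ring
  let j : (Fin (m + 1) → PowerSeries k) →+* FractionRing S :=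
    { toFun := fun p => algebraMap S (FractionRing S) (c p) * xinv
      map_one' := by
        show algebraMap S (FractionRing S) (c 1) * xinv = 1
        rw [c_one, hxinv]
      map_mul' := by
        intro p q
        show algebraMap S (FractionRing S) (c (p * q)) * xinv =
          algebraMap S (FractionRing S) (c p) * xinv * (algebraMap S (FractionRing S) (c q) * xinv)
        have h1 : algebraMap S (FractionRing S) (c (p * q)) * algebraMap S (FractionRing S) x =
            algebraMap S (FractionRing S) (c p) * algebraMap S (FractionRing S) (c q) := by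
          rw [← map_mul, ← map_mul, c_mul]
        calc algebraMap S (FractionRing S) (c (p * q)) * xinv
            = algebraMap S (FractionRing S) (c (p * q)) * (algebraMap S (FractionRing S) x * xinv)
                * xinv := by rw [hxinv, mul_one]
          _ = (algebraMap S (FractionRing S) (c (p * q)) * algebraMap S (FractionRing S) x)
                * xinv * xinv := by ring
          _ = _ := by rw [h1]; ring
      map_zero' := by
        show algebraMap S (FractionRing S) (c 0) * xinv = 0
        rw [c_zero, map_zero, zero_mul]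
      map_add' := by
        intro p q
        show algebraMap S (FractionRing S) (c (p + q)) * xinv = _
        rw [c_add, map_add, add_mul] }
  have hj : ∀ p, j p = algebraMap S (FractionRing S) (c p) * xinv := fun p => rfl
  have hj_alg : ∀ s, j (ψ s) = algebraMap S (FractionRing S) s := by
    intro s
    rw [hj, c_psi, map_mul, mul_comm (algebraMap S (FractionRing S) x), mul_assoc, hxinv, mul_one]
  let jA : (Fin (m + 1) → PowerSeries k) →ₐ[S] FractionRing S :=
    { j with commutes' := hj_alg }
  have hjA : ∀ p, jA p = j p := fun p => rfl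
  have hj_inj : Function.Injective j := by
    rw [injective_iff_map_eq_zero]
    intro p hp
    rw [hj] at hp
    have h1 : algebraMap S (FractionRing S) (c p) = 0 := by
      have := congrArg (· * algebraMap S (FractionRing S) x) hp
      simp only [zero_mul, mul_assoc] at this
      rw [mul_comm xinv, hxinv, mul_one] at this
      exact this
    have h2 : c p = 0 := hQinj (h1.trans (map_zero _).symm)
    have h3 := hc p
    rw [h2, map_zero, hx] at h3
    funext i
    have h4 := congrFun h3 i
    exact (mul_eq_zero.1 h4.symm).resolve_left X_ne_zero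
  -- every element of the product is integral
  have hPint : ∀ p : Fin (m + 1) → PowerSeries k, IsIntegral S p := by
    intro p
    have hp : p = ∑ i, Pi.single i (p i) := (Finset.univ_sum_single p).symm
    rw [hp]
    refine IsIntegral.sum _ fun i _ => ?_
    obtain ⟨s, hs⟩ := h.exists_eq (fun l => if l = i then p i else C (constantCoeff (p i)))
      (fun a b => by
        by_cases ha : a = i <;> by_cases hb : b = i <;> simp [ha, hb])
    have h1 : (Pi.single i (p i) : Fin (m + 1) → PowerSeries k) =
        algebraMap S (Fin (m + 1) → PowerSeries k) s * Pi.single i 1 := by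
      show _ = ψ s * _
      rw [hs]
      funext l
      by_cases hl : l = i
      · subst hl
        simp
      · simp [hl]
    rw [h1]
    refine IsIntegral.mul isIntegral_algebraMap (isIntegral_of_isIdempotentElem _ ?_)
    funext l
    by_cases hl : l = i
    · subst hl
      simp
    · simp [hl]
  have hint : ∀ p, IsIntegral S (j p) := fun p => (hPint p).map jA
  -- surjectivity onto the integral closure
  have hsurj : ∀ z : FractionRing S, IsIntegral S z → ∃ p, j p = z := by
    intro z hz
    obtain ⟨a, s, rfl⟩ := IsLocalization.exists_mk'_eq (nonZeroDivisors S) z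
    obtain ⟨N, w, hw⟩ := h.exists_mul_eq_pow x hx s s.2
    obtain ⟨q, hq, hqz⟩ := hz
    -- `z * x^N = a * w`
    have h1 : algebraMap S (FractionRing S) (x ^ N) * IsLocalization.mk' (FractionRing S) a s =
        algebraMap S (FractionRing S) (a * w) := by
      rw [← hw, map_mul, map_mul, mul_assoc, mul_comm, mul_assoc,
        mul_comm _ (algebraMap S (FractionRing S) (s : S)), IsLocalization.mk'_spec',
        mul_comm]
    have h2 : Polynomial.aeval (algebraMap S (FractionRing S) (a * w)) (q.scaleRoots (x ^ N)) = 0 := by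
      rw [← h1]
      exact Polynomial.scaleRoots_aeval_eq_zero hqz
    rw [Polynomial.aeval_algebraMap_apply, ← map_zero (algebraMap S (FractionRing S))] at h2
    have h3 : Polynomial.eval (a * w) (q.scaleRoots (x ^ N)) = 0 := by
      have := hQinj h2
      rwa [Polynomial.coe_aeval_eq_eval] at this
    -- componentwise
    have h4 : ∀ i, (X : PowerSeries k) ^ N ∣ ψ (a * w) i := by
      intro i
      let φ : S →+* PowerSeries k := (Pi.evalRingHom (fun _ => PowerSeries k) i).comp ψ
      have h5 : Polynomial.eval (φ (a * w)) ((q.scaleRoots (x ^ N)).map φ) = 0 := by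
        rw [Polynomial.eval_map, Polynomial.eval₂_hom, h3, map_zero]
      rw [Polynomial.map_scaleRoots _ _ _ (by rw [hq.leadingCoeff, map_one]; exact one_ne_zero)]
        at h5
      have h6 : φ (x ^ N) = X ^ N := by
        show ψ (x ^ N) i = X ^ N
        rw [map_pow, hx]
        rfl
      rw [h6] at h5
      exact dvd_of_scaleRoots_eval_eq_zero (q.map φ) (hq.map φ) (X ^ N)
        (pow_ne_zero _ X_ne_zero) _ h5
    choose y hy using h4
    refine ⟨y, ?_⟩
    -- `c y * x^N = (a * w) * x`
    have h7 : c y * x ^ N = (a * w) * x := by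
      apply h.1
      rw [map_mul, map_mul, hc, map_pow, hx]
      funext i
      show X * y i * X ^ N = ψ (a * w) i * X
      rw [hy i]
      ring
    rw [hj]
    have h8 : algebraMap S (FractionRing S) (c y) * algebraMap S (FractionRing S) (x ^ N) =
        algebraMap S (FractionRing S) (x ^ N) * IsLocalization.mk' (FractionRing S) a s *
          algebraMap S (FractionRing S) x := by
      rw [h1, ← map_mul, ← map_mul, h7]
    have hxNu : IsUnit (algebraMap S (FractionRing S) (x ^ N)) := by
      rw [map_pow]
      exact hxu.pow N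
    apply hxNu.mul_left_cancel
    rw [← mul_assoc, mul_comm (algebraMap S (FractionRing S) (x ^ N)), h8, mul_assoc, mul_assoc,
      hxinv, mul_one]
  -- the linear equivalence
  let L : (Fin (m + 1) → PowerSeries k) →ₗ[S] integralClosure S (FractionRing S) :=
    { toFun := fun p => ⟨j p, hint p⟩
      map_add' := fun p q => Subtype.ext (map_add j p q)
      map_smul' := fun s p => Subtype.ext (by
        show j (s • p) = s • j p
        rw [hsmul, map_mul, hj_alg, Algebra.smul_def]) }
  have hLbij : Function.Bijective L := by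
    constructor
    · intro p q hpq
      exact hj_inj (congrArg Subtype.val hpq)
    · rintro ⟨z, hz⟩
      obtain ⟨p, hp⟩ := hsurj z hz
      exact ⟨p, Subtype.ext hp⟩
  refine ⟨LinearEquiv.ofBijective L hLbij, fun s => ?_⟩
  apply Subtype.ext
  show j (ψ s) = _
  rw [hj_alg]
  rfl

end norm


section delta

theorem length_compHom_pi {S k : Type u} [CommRing S] [Field k] (ρ : S →+* k)
    (hρ : Function.Surjective ρ) (m : ℕ) :
    letI : Module S (Fin m → k) := Module.compHom (Fin m → k) ρ
    Module.length S (Fin m → k) = m := by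
  letI : Module S (Fin m → k) := Module.compHom (Fin m → k) ρ
  letI : Algebra S k := ρ.toAlgebra
  haveI : IsScalarTower S k (Fin m → k) := ⟨fun s c v => by
    show (s • c) • v = ρ s • (c • v)
    have h1 : s • c = ρ s * c := rfl
    rw [h1, mul_smul]⟩
  rw [Module.length_eq_of_surjective (R := k) (S := S) (M := Fin m → k) hρ,
    Module.length_eq_finrank, Module.finrank_fin_fun]

variable {k S : Type u} [Field k] [CommRing S] {m : ℕ}
  {ψ : S →+* (Fin (m + 1) → PowerSeries k)}

/-- the δ-invariant of the multicross ring with `m + 1` branches is `m` -/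
theorem IsMC.deltaInv_eq (h : IsMC ψ) : Curv2.deltaInv S = m := by
  classical
  letI : Algebra S (Fin (m + 1) → PowerSeries k) := ψ.toAlgebra
  have hsmul : ∀ (s : S) (p : Fin (m + 1) → PowerSeries k), s • p = ψ s * p := fun s p => rfl
  obtain ⟨e, he⟩ := h.exists_linearEquiv
  unfold Curv2.deltaInv
  -- transport along `e`
  have hmap : (LinearMap.range (Algebra.linearMap S (Fin (m + 1) → PowerSeries k))).map
      (e : (Fin (m + 1) → PowerSeries k) →ₗ[S] integralClosure S (FractionRing S)) =
      LinearMap.range (Algebra.linearMap S (integralClosure S (FractionRing S))) := by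
    ext z
    constructor
    · rintro ⟨p, ⟨s, rfl⟩, rfl⟩
      exact ⟨s, (he s).symm⟩
    · rintro ⟨s, rfl⟩
      exact ⟨ψ s, ⟨s, rfl⟩, he s⟩
  rw [← (Submodule.Quotient.equiv _ _ e hmap).length_eq]
  -- the residue map
  let ρ : S →+* k := (constantCoeff.comp (Pi.evalRingHom (fun _ => PowerSeries k) 0)).comp ψ
  have hρ : ∀ s (i : Fin (m + 1)), constantCoeff (ψ s i) = ρ s := fun s i => h.const_eq s i 0
  have hρsurj : Function.Surjective ρ := by
    intro c
    obtain ⟨s, hs⟩ := h.exists_eq (fun _ => C c) (fun _ _ => rfl)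
    refine ⟨s, ?_⟩
    show constantCoeff (ψ s 0) = c
    rw [hs, constantCoeff_C]
  letI : Module S (Fin m → k) := Module.compHom (Fin m → k) ρ
  have hsmul' : ∀ (s : S) (v : Fin m → k), s • v = ρ s • v := fun s v => rfl
  let lam : (Fin (m + 1) → PowerSeries k) →ₗ[S] (Fin m → k) :=
    { toFun := fun p i => constantCoeff (p i.castSucc) - constantCoeff (p (Fin.last m))
      map_add' := fun p q => by
        funext i
        simp only [Pi.add_apply, map_add]
        ring
      map_smul' := fun s p => by
        funext i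
        rw [hsmul, hsmul', RingHom.id_apply]
        simp only [Pi.mul_apply, map_mul, hρ, Pi.smul_apply, smul_eq_mul]
        ring }
  have hlam : ∀ p i, lam p i = constantCoeff (p i.castSucc) - constantCoeff (p (Fin.last m)) :=
    fun p i => rfl
  have hlamsurj : Function.Surjective lam := by
    intro v
    refine ⟨fun a => if ha : (a : ℕ) < m then C (v ⟨a, ha⟩) else 0, ?_⟩
    funext i
    rw [hlam]
    simp
  have hker : LinearMap.ker lam =
      LinearMap.range (Algebra.linearMap S (Fin (m + 1) → PowerSeries k)) := by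
    ext p
    rw [LinearMap.mem_ker]
    constructor
    · intro hp
      have h1 : ∀ a : Fin (m + 1), constantCoeff (p a) = constantCoeff (p (Fin.last m)) := by
        intro a
        refine Fin.lastCases rfl (fun i => ?_) a
        have := congrFun hp i
        rw [hlam, Pi.zero_apply, sub_eq_zero] at this
        exact this
      obtain ⟨s, hs⟩ := h.exists_eq p (fun a b => by rw [h1 a, h1 b])
      exact ⟨s, hs⟩
    · rintro ⟨s, rfl⟩
      funext i
      rw [hlam]
      show constantCoeff (ψ s _) - constantCoeff (ψ s _) = 0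
      rw [hρ, hρ, sub_self]
  rw [← hker, (LinearMap.quotKerEquivOfSurjective lam hlamsurj).length_eq]
  exact length_compHom_pi ρ hρsurj m

end delta


section minprimes

variable {k S : Type u} [Field k] [CommRing S] {m : ℕ}
  {ψ : S →+* (Fin (m + 1) → PowerSeries k)}

/-- the multicross ring with `m + 1` branches has `m + 1` minimal primes -/
theorem IsMC.card_minimalPrimes (h : IsMC ψ) : ENat.card (minimalPrimes S) = (m + 1 : ℕ) := by
  classical
  let φ : Fin (m + 1) → S →+* PowerSeries k :=
    fun i => (Pi.evalRingHom (fun _ => PowerSeries k) i).comp ψ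
  have hφ : ∀ i s, φ i s = ψ s i := fun i s => rfl
  let P : Fin (m + 1) → Ideal S := fun i => RingHom.ker (φ i)
  have hPprime : ∀ i, (P i).IsPrime := fun i => RingHom.ker_isPrime (φ i)
  have hmemP : ∀ i s, s ∈ P i ↔ ψ s i = 0 := fun i s => by
    show s ∈ RingHom.ker (φ i) ↔ _
    rw [RingHom.mem_ker, hφ]
  -- incomparability
  have hPle : ∀ i j, P i ≤ P j → i = j := by
    intro i j hij
    by_contra hne
    obtain ⟨v, hv⟩ := h.exists_of_const_zero (Pi.single j X) (fun l => by
      rcases eq_or_ne l j with rfl | hl <;> simp [*])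
    have h1 : v ∈ P i := by
      rw [hmemP, hv, Pi.single_eq_of_ne hne]
    have h2 := hij h1
    rw [hmemP, hv, Pi.single_eq_same] at h2
    exact X_ne_zero h2
  -- every prime contains some `P i`
  have hcontains : ∀ Q : Ideal S, Q.IsPrime → ∃ i, P i ≤ Q := by
    intro Q hQ
    by_contra hno
    push Not at hno
    have hex : ∀ i, ∃ a, a ∈ P i ∧ a ∉ Q := fun i => Set.not_subset.1 (hno i)
    choose a ha haQ using hex
    have hprod : ∏ i, a i = 0 := by
      apply h.1
      rw [map_zero, map_prod]
      funext l
      rw [Finset.prod_apply]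
      exact Finset.prod_eq_zero (Finset.mem_univ l) ((hmemP l (a l)).1 (ha l))
    have : ∏ i, a i ∈ Q := by rw [hprod]; exact Q.zero_mem
    obtain ⟨i, -, hi⟩ := (Ideal.IsPrime.prod_mem_iff (hp := hQ)).1 this
    exact haQ i hi
  have hmin : minimalPrimes S = Set.range P := by
    ext Q
    show IsMinimalPrime Q ↔ _
    rw [IsMinimalPrime.iff_minimal]
    constructor
    · intro hQ
      obtain ⟨i, hi⟩ := hcontains Q hQ.1
      exact ⟨i, le_antisymm hi (hQ.2 (hPprime i) hi)⟩
    · rintro ⟨i, rfl⟩
      refine ⟨hPprime i, fun Q hQ hle => ?_⟩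
      obtain ⟨j, hj⟩ := hcontains Q hQ
      have := hPle j i (hj.trans hle)
      subst this
      exact hj
  have hPinj : Function.Injective P := fun i j hij => hPle i j (le_of_eq hij)
  rw [hmin, ENat.card_congr (Equiv.ofInjective P hPinj).symm, ENat.card_eq_coe_fintype_card,
    Fintype.card_fin]

/-- a Noetherian multicross ring has dimension one -/
theorem IsMC.ringKrullDim_eq_one (h : IsMC ψ) [IsNoetherianRing S] : ringKrullDim S = 1 := by
  classical
  haveI := h.isLocalRing
  obtain ⟨x, hx⟩ := h.exists_x
  have hxnz := h.x_mem_nonZeroDivisors x hx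
  have hxm : x ∈ maximalIdeal S := by
    rw [h.mem_maximalIdeal_iff, hx]
    intro i
    exact constantCoeff_X
  have hsq : ∀ a b : S, a ∈ maximalIdeal S → b ∈ maximalIdeal S → a * b ∈ Ideal.span {x} := by
    intro a b ha hb
    rw [h.mem_maximalIdeal_iff] at ha hb
    have ha' : ∀ i, ∃ g : PowerSeries k, ψ a i = X * g := fun i => X_dvd_iff.2 (ha i)
    choose g hg using ha'
    obtain ⟨t, ht⟩ := h.exists_of_const_zero (fun i => g i * ψ b i) (fun i => by
      rw [map_mul, hb i, mul_zero])
    rw [Ideal.mem_span_singleton']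
    refine ⟨t, h.1 ?_⟩
    rw [map_mul, map_mul, ht, hx]
    funext i
    show g i * ψ b i * X = ψ a i * ψ b i
    rw [hg i]; ring
  have hdim := ringKrullDim_quotient_span_singleton_succ_eq_ringKrullDim_of_mem_nonZeroDivisors
    hxnz hxm
  have hne : Ideal.span {x} ≠ ⊤ := by
    intro htop
    have : (1 : S) ∈ maximalIdeal S := by
      have h1 : (1 : S) ∈ Ideal.span {x} := htop ▸ Submodule.mem_top
      exact (Ideal.span_le.mpr (Set.singleton_subset_iff.mpr hxm)) h1
    exact (Ideal.ne_top_iff_one _).mp (IsLocalRing.maximalIdeal.isMaximal S).ne_top this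
  haveI : Nontrivial (S ⧸ Ideal.span {x}) := Ideal.Quotient.nontrivial_iff.mpr hne
  haveI hloc : IsLocalRing (S ⧸ Ideal.span {x}) :=
    IsLocalRing.of_surjective' (Ideal.Quotient.mk (Ideal.span {x})) Ideal.Quotient.mk_surjective
  have hmk : ∀ a : S, Ideal.Quotient.mk (Ideal.span {x}) a ∈ maximalIdeal (S ⧸ Ideal.span {x}) →
      a ∈ maximalIdeal S := by
    intro a ha
    by_contra hna
    have hu : IsUnit a := by
      by_contra hnu
      exact hna ((IsLocalRing.mem_maximalIdeal a).2 hnu)
    exact (IsLocalRing.mem_maximalIdeal _).1 ha (hu.map _)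
  haveI hart : IsArtinianRing (S ⧸ Ideal.span {x}) := by
    rw [isArtinianRing_iff_isNilpotent_maximalIdeal]
    refine ⟨2, ?_⟩
    rw [Ideal.zero_eq_bot, eq_bot_iff, pow_two, Ideal.mul_le]
    intro a ha b hb
    obtain ⟨a, rfl⟩ := Ideal.Quotient.mk_surjective a
    obtain ⟨b, rfl⟩ := Ideal.Quotient.mk_surjective b
    rw [Ideal.mem_bot, ← map_mul, Ideal.Quotient.eq_zero_iff_mem]
    exact hsq a b (hmk a ha) (hmk b hb)
  have h0 : ringKrullDim (S ⧸ Ideal.span {x}) = 0 := by
    haveI : Ring.KrullDimLE 0 (S ⧸ Ideal.span {x}) := isArtinianRing_iff_krullDimLE_zero.1 hart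
    exact ringKrullDimZero_iff_ringKrullDim_eq_zero.1 inferInstance
  rw [← hdim, h0, zero_add]

end minprimes

end Groth.Agent.Lib.helper17.MulticrossNorm
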