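import Mathlib
import Groth.Prelude.Def_CurvBase
import Groth.Agent.Lib.Helper17.OdpAscent
import Groth.Agent.Lib.Helper17.MulticrossNorm
import Groth.Agent.S0547

set_option autoImplicit false
set_option linter.style.haveILetI false
set_option linter.unusedSectionVars false
universe u

namespace Groth.Agent.Lib.helper17.OdpGeneric

open IsLocalRing Groth.Agent.Lib.helper17.MvPSKer Groth.Agent.Lib.helper17.OdpAscent
open Groth.Agent.Lib.helper17.MulticrossNorm

/-- a one-dimensional reduced Noetherian local ring is a field at its non-maximal primes. -/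
theorem isField_localization_atPrime {C : Type u} [CommRing C] [IsLocalRing C]
    [IsNoetherianRing C] [IsReduced C] (hdim : ringKrullDim C = 1) (P : Ideal C) [P.IsPrime]
    (hP : P ≠ maximalIdeal C) : IsField (Localization.AtPrime P) := by
  have hlt : P < maximalIdeal C :=
    lt_of_le_of_ne (IsLocalRing.le_maximalIdeal (Ideal.IsPrime.ne_top ‹_›)) hP
  have h1 : (maximalIdeal C).height = 1 := by
    have h := IsLocalRing.maximalIdeal_height_eq_ringKrullDim (R := C)
    rw [hdim] at h
    exact_mod_cast h
  have hfin : P.height ≠ ⊤ := by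
    have h2 : P.height ≤ 1 := h1 ▸ Ideal.height_mono hlt.le
    exact ne_top_of_le_ne_top (by simp) h2
  haveI : P.FiniteHeight := ⟨Or.inr hfin⟩
  have h2 : P.height < (maximalIdeal C).height := Ideal.height_strict_mono_of_isPrime hlt
  have h3 : P.height = 0 := by
    rw [h1] at h2
    exact Order.lt_one_iff.mp h2
  have h4 : ringKrullDim (Localization.AtPrime P) = 0 := by
    rw [IsLocalization.AtPrime.ringKrullDim_eq_height P, h3]
    rfl
  haveI : IsNoetherianRing (Localization.AtPrime P) :=
    IsLocalization.isNoetherianRing P.primeCompl _ inferInstance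
  haveI : Ring.KrullDimLE 0 (Localization.AtPrime P) := Ring.krullDimLE_iff.mpr (le_of_eq h4)
  haveI : IsArtinianRing (Localization.AtPrime P) :=
    isArtinianRing_iff_isNoetherianRing_krullDimLE_zero.mpr ⟨inferInstance, inferInstance⟩
  exact IsArtinianRing.isField_of_isReduced_of_isLocalRing _

variable (k A : Type u) [Field k] [CommRing A] [IsLocalRing A] [IsNoetherianRing A] [Algebra k A]

theorem isMC_of_odp (e : AdicCompletion (maximalIdeal A) A ≃+*
    (MvPowerSeries (Fin 2) k ⧸ Ideal.span
      {(MvPowerSeries.X 0 * MvPowerSeries.X 1 : MvPowerSeries (Fin 2) k)})) :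
    IsMC (m := 1) ((th k).comp (e : AdicCompletion (maximalIdeal A) A →+* _)) := by
  refine ⟨th_injective.comp e.injective, fun F => ⟨?_, ?_⟩⟩
  · rintro ⟨a, rfl⟩ i j
    obtain ⟨f, hf⟩ := Ideal.Quotient.mk_surjective (e a)
    change PowerSeries.constantCoeff (th k (e a) i) = PowerSeries.constantCoeff (th k (e a) j)
    rw [← hf, th_mk, constantCoeff_theta, constantCoeff_theta]
  · intro hF
    obtain ⟨f, hf⟩ := exists_theta_eq F hF
    refine ⟨e.symm (Ideal.Quotient.mk _ f), ?_⟩
    change th k (e (e.symm (Ideal.Quotient.mk _ f))) = F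
    rw [e.apply_symm_apply, th_mk, hf]

theorem ringKrullDim_eq_one_of_odp (h : Curv2.IsOrdDoublePt k A) : ringKrullDim A = 1 := by
  obtain ⟨e, -⟩ := h
  haveI : IsNoetherianRing (AdicCompletion (maximalIdeal A) A) :=
    Groth.Agent.S0542.result A _ (maximalIdeal A).fg_of_isNoetherianRing
  rw [← Groth.Agent.S0547.result A]
  exact (isMC_of_odp k A e).ringKrullDim_eq_one

theorem isReduced_of_odp (h : Curv2.IsOrdDoublePt k A) : IsReduced A := by
  obtain ⟨e, -⟩ := h
  have hinj : Function.Injective ((th k).comp ((e : AdicCompletion (maximalIdeal A) A →+* _).comp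
      (algebraMap A (AdicCompletion (maximalIdeal A) A)))) := by
    refine th_injective.comp (e.injective.comp ?_)
    haveI : Module.Flat A (AdicCompletion (maximalIdeal A) A) := AdicCompletion.flat_of_isNoetherian _
    haveI : Module.FaithfullyFlat A (AdicCompletion (maximalIdeal A) A) :=
      Module.FaithfullyFlat.of_flat_of_isLocalHom
    exact FaithfulSMul.algebraMap_injective A _
  exact isReduced_of_injective _ hinj

open CategoryTheory AlgebraicGeometry in
/-- a proper generization of a point with reduced one-dimensional Noetherian local ring has a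
field as local ring. -/
theorem isField_stalk_of_specializes {X : Scheme.{u}} {x x₀ : X} (h : x ⤳ x₀) (hne : x ≠ x₀)
    [IsNoetherianRing (X.presheaf.stalk x₀)] [IsReduced (X.presheaf.stalk x₀)]
    (hdim : ringKrullDim (X.presheaf.stalk x₀) = 1) : IsField (X.presheaf.stalk x) := by
  obtain ⟨U, hU, hx₀U, -⟩ := exists_isAffineOpen_mem_and_subset (x := x₀) (U := ⊤) trivial
  have hxU : x ∈ U := h.mem_open U.2 hx₀U
  letI : Algebra Γ(X, U) (X.presheaf.stalk x₀) :=
    TopCat.Presheaf.algebra_section_stalk X.presheaf ⟨x₀, hx₀U⟩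
  letI : Algebra Γ(X, U) (X.presheaf.stalk x) :=
    TopCat.Presheaf.algebra_section_stalk X.presheaf ⟨x, hxU⟩
  haveI L₀ : IsLocalization.AtPrime (X.presheaf.stalk x₀) (hU.primeIdealOf ⟨x₀, hx₀U⟩).asIdeal :=
    hU.isLocalization_stalk ⟨x₀, hx₀U⟩
  haveI L : IsLocalization.AtPrime (X.presheaf.stalk x) (hU.primeIdealOf ⟨x, hxU⟩).asIdeal :=
    hU.isLocalization_stalk ⟨x, hxU⟩
  set p₀ := (hU.primeIdealOf ⟨x₀, hx₀U⟩).asIdeal with hp₀
  set p := (hU.primeIdealOf ⟨x, hxU⟩).asIdeal with hp
  have hle : p ≤ p₀ := by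
    intro a ha
    rw [hp, hU.primeIdealOf_eq_map_closedPoint] at ha
    rw [hp₀, hU.primeIdealOf_eq_map_closedPoint]
    have ha' : (X.presheaf.germ U x hxU).hom a ∈ maximalIdeal (X.presheaf.stalk x) := ha
    show (X.presheaf.germ U x₀ hx₀U).hom a ∈ maximalIdeal (X.presheaf.stalk x₀)
    rw [IsLocalRing.mem_maximalIdeal, mem_nonunits_iff] at ha' ⊢
    intro hu
    apply ha'
    have h1 : (X.presheaf.germ U x hxU).hom a =
        (X.presheaf.stalkSpecializes h).hom ((X.presheaf.germ U x₀ hx₀U).hom a) := by
      rw [← TopCat.Presheaf.germ_stalkSpecializes X.presheaf hx₀U h]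
      rfl
    rw [h1]
    exact hu.map _
  have hpne : p ≠ p₀ := by
    intro heq
    have h1 : hU.primeIdealOf ⟨x, hxU⟩ = hU.primeIdealOf ⟨x₀, hx₀U⟩ := PrimeSpectrum.ext heq
    have h2 := congrArg (fun q => hU.fromSpec q) h1
    simp only [hU.fromSpec_primeIdealOf] at h2
    exact hne h2
  -- the localization at `p₀`
  let C := Localization.AtPrime p₀
  let eC : X.presheaf.stalk x₀ ≃+* C :=
    (IsLocalization.algEquiv p₀.primeCompl (X.presheaf.stalk x₀) C).toRingEquiv
  haveI : IsNoetherianRing C := isNoetherianRing_of_ringEquiv _ eC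
  haveI : IsReduced C := isReduced_of_injective eC.symm.toRingHom eC.symm.injective
  have hdimC : ringKrullDim C = 1 := by rw [← ringKrullDim_eq_of_ringEquiv eC, hdim]
  have hdisj : Disjoint (p₀.primeCompl : Set Γ(X, U)) p := by
    rw [Set.disjoint_left]
    intro a ha hap
    exact ha (hle hap)
  haveI hp' : (p.map (algebraMap Γ(X, U) C)).IsPrime :=
    IsLocalization.isPrime_of_isPrime_disjoint p₀.primeCompl _ p inferInstance hdisj
  have hcomap : (p.map (algebraMap Γ(X, U) C)).comap (algebraMap Γ(X, U) C) = p :=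
    IsLocalization.under_map_of_isPrime_disjoint p₀.primeCompl _ inferInstance hdisj
  have hP'ne : p.map (algebraMap Γ(X, U) C) ≠ maximalIdeal C := by
    intro heq
    apply hpne
    rw [← hcomap, heq]
    exact IsLocalization.AtPrime.under_maximalIdeal C p₀
  have hF := isField_localization_atPrime hdimC (p.map (algebraMap Γ(X, U) C)) hP'ne
  have h1 := IsLocalization.isLocalization_isLocalization_atPrime_isLocalization p₀.primeCompl
    (Localization.AtPrime (p.map (algebraMap Γ(X, U) C))) (p.map (algebraMap Γ(X, U) C))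
  haveI h2 : IsLocalization.AtPrime
      (Localization.AtPrime (p.map (algebraMap Γ(X, U) C))) p := by
    convert h1 using 2
    exact hcomap.symm
  exact (IsLocalization.algEquiv p.primeCompl (X.presheaf.stalk x)
    (Localization.AtPrime (p.map (algebraMap Γ(X, U) C)))).toRingEquiv.toMulEquiv.isField hF

end Groth.Agent.Lib.helper17.OdpGeneric
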