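import Mathlib
import Groth.Prelude.Def_CurvBase
import Groth.Agent.Lib.Helper17.OdpGeneric
import Groth.Agent.Lib.Helper17.NodeAscent
import Groth.Agent.Lib.Helper17.RegSmoothSch
import Groth.Agent.Lib.Helper18.SmoothDescentScheme
import Groth.Agent.Lib.Helper7.GrpPerfect
import Groth.Agent.Lib.Helper5.FieldBCComponents
import Groth.Agent.Lib.Helper5.FieldBCLocalDim

set_option autoImplicit false
set_option linter.style.haveILetI false
universe u

namespace Groth.Agent.Lib.helper17.NodalAscent

open CategoryTheory CategoryTheory.Limits AlgebraicGeometry IsLocalRing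
open Groth.Agent.Lib.helper17.NodeAllPts Groth.Agent.Lib.helper17.OdpGeneric

/-- an at-worst-nodal scheme locally of finite type over a field is smooth at its non-closed
points. -/
theorem exists_smooth_nhd_of_not_isClosed (k : Type u) [Field k] {X : Scheme.{u}}
    (p : X ⟶ Spec (CommRingCat.of k)) [LocallyOfFiniteType p]
    (hX : @Curv2.AtWorstNodal k _ X ⟨p⟩) (x : X) (hx : ¬ IsClosed ({x} : Set X)) :
    ∃ U : X.Opens, x ∈ U ∧ Smooth (U.ι ≫ p) := by
  haveI : JacobsonSpace X := LocallyOfFiniteType.jacobsonSpace p
  obtain ⟨z, hzx, hzc⟩ := nonempty_inter_closedPoints (X := X) (Z := closure {x})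
    ⟨x, subset_closure rfl⟩ isClosed_closure.isLocallyClosed
  have hsp : x ⤳ z := specializes_iff_mem_closure.mpr hzx
  have hzcl : IsClosed ({z} : Set X) := hzc
  have hne : x ≠ z := fun h => hx (h ▸ hzcl)
  rcases hX z hzcl with ⟨U, hzU, hU⟩ | ⟨-, zb, hzb, hodp⟩
  · exact ⟨U, hsp.mem_open U.2 hzU, hU⟩
  · haveI : Flat (Spec.map (CommRingCat.ofHom (algebraMap k (AlgebraicClosure k)))) :=
      Groth.Agent.Lib.helper17.GeomPoint.flat_SpecMap k (AlgebraicClosure k)
    haveI : Flat (pullback.fst p (Spec.map (CommRingCat.ofHom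
        (algebraMap k (AlgebraicClosure k))))) :=
      MorphismProperty.pullback_fst (P := @Flat) _ _ inferInstance
    have hsp' : x ⤳ pullback.fst p (Spec.map (CommRingCat.ofHom
        (algebraMap k (AlgebraicClosure k)))) zb := by
      have : pullback.fst p (Spec.map (CommRingCat.ofHom
        (algebraMap k (AlgebraicClosure k)))) zb = z := hzb
      rw [this]; exact hsp
    obtain ⟨xb, hxb, hxbx⟩ := Flat.generalizingMap (f := pullback.fst p (Spec.map
      (CommRingCat.ofHom (algebraMap k (AlgebraicClosure k))))) hsp'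
    have hxbne : xb ≠ zb := by
      intro h
      apply hne
      rw [← hxbx, h]
      exact hzb
    haveI : LocallyOfFiniteType (pullback.snd p (Spec.map (CommRingCat.ofHom
        (algebraMap k (AlgebraicClosure k))))) :=
      MorphismProperty.pullback_snd (P := @LocallyOfFiniteType) _ _ inferInstance
    haveI : IsLocallyNoetherian (pullback p (Spec.map (CommRingCat.ofHom
        (algebraMap k (AlgebraicClosure k))))) :=
      LocallyOfFiniteType.isLocallyNoetherian (pullback.snd p (Spec.map (CommRingCat.ofHom
        (algebraMap k (AlgebraicClosure k)))))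
    letI iA : Algebra (AlgebraicClosure k) ((pullback p (Spec.map (CommRingCat.ofHom
        (algebraMap k (AlgebraicClosure k))))).presheaf.stalk zb) :=
      @Curv2.stalkAlgebra (AlgebraicClosure k) _ _ ⟨pullback.snd p _⟩ zb
    have hodp' : Curv2.IsOrdDoublePt (AlgebraicClosure k) ((pullback p (Spec.map
        (CommRingCat.ofHom (algebraMap k (AlgebraicClosure k))))).presheaf.stalk zb) := hodp
    haveI := isReduced_of_odp _ _ hodp'
    have hdim := ringKrullDim_eq_one_of_odp _ _ hodp'
    have hF := isField_stalk_of_specializes hxb hxbne hdim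
    haveI := hF.isDomain
    haveI := hF.isPrincipalIdealRing
    have hreg : IsRegularLocalRing ((pullback p (Spec.map (CommRingCat.ofHom
        (algebraMap k (AlgebraicClosure k))))).presheaf.stalk xb) := inferInstance
    haveI : LocallyOfFinitePresentation (pullback.snd p (Spec.map (CommRingCat.ofHom
        (algebraMap k (AlgebraicClosure k))))) := by
      exact LocallyOfFinitePresentation.iff_locallyOfFiniteType.mpr inferInstance
    have hsm : xb ∈ (pullback.snd p (Spec.map (CommRingCat.ofHom
        (algebraMap k (AlgebraicClosure k))))).smoothLocus :=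
      (Groth.Agent.Lib.helper17.RegSmooth.mem_smoothLocus_iff_isRegularLocalRing_of_perfectField
        _ xb).2 hreg
    have hdesc := Groth.Agent.Lib.Helper18.SmoothDescent.formallySmooth_stalk_descent_of_isPullback
      (IsPullback.of_hasPullback p (Spec.map (CommRingCat.ofHom
        (algebraMap k (AlgebraicClosure k))))) xb (Flat.stalkMap _ _) hsm
    rw [hxbx] at hdesc
    haveI : LocallyOfFinitePresentation p := by
      exact LocallyOfFinitePresentation.iff_locallyOfFiniteType.mpr inferInstance
    exact (Groth.Agent.Lib.Helper18.SmoothDescent.exists_smooth_nhd_iff p x).2 hdesc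

/-- smooth neighbourhoods ascend along base change. -/
theorem exists_smooth_nhd_pullback {X S S' : Scheme.{u}} (f : X ⟶ S) (g : S' ⟶ S)
    [LocallyOfFinitePresentation f] (y : ↥(pullback f g))
    (h : ∃ U : X.Opens, pullback.fst f g y ∈ U ∧ Smooth (U.ι ≫ f)) :
    ∃ V : (pullback f g).Opens, y ∈ V ∧ Smooth (V.ι ≫ pullback.snd f g) := by
  obtain ⟨U, hxU, hU⟩ := h
  have h1 := Groth.Agent.Lib.helper7.GrpPerfect.mem_smoothLocus_of_smooth_ι f U hU hxU
  have h2 := Groth.Agent.Lib.helper7.GrpPerfect.mem_smoothLocus_pullback f g y h1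
  haveI : LocallyOfFinitePresentation (pullback.snd f g) :=
    MorphismProperty.pullback_snd (P := @LocallyOfFinitePresentation) _ _ inferInstance
  exact ⟨_, h2, Groth.Agent.Lib.helper7.GrpPerfect.smooth_smoothLocus_ι (pullback.snd f g)⟩

/-- at-worst-nodal singularities ascend along arbitrary field extensions. -/
theorem atWorstNodal_ascent (k K : Type u) [Field k] [Field K] [Algebra k K] {X : Scheme.{u}}
    (p : X ⟶ Spec (CommRingCat.of k)) [LocallyOfFiniteType p]
    (hX : @Curv2.AtWorstNodal k _ X ⟨p⟩) :
    @Curv2.AtWorstNodal K _ (pullback p (Spec.map (CommRingCat.ofHom (algebraMap k K))))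
      ⟨pullback.snd p _⟩ := by
  haveI : LocallyOfFinitePresentation p :=
    LocallyOfFinitePresentation.iff_locallyOfFiniteType.mpr inferInstance
  intro y hy
  by_cases hxc : IsClosed ({pullback.fst p (Spec.map (CommRingCat.ofHom (algebraMap k K))) y} :
      Set X)
  · rcases hX _ hxc with hsm | hnode
    · left
      exact exists_smooth_nhd_pullback p _ y hsm
    · right
      exact Groth.Agent.Lib.helper17.NodeAscent.isNode_ascent k K p y hy hnode
  · left
    exact exists_smooth_nhd_pullback p _ y (exists_smooth_nhd_of_not_isClosed k p hX _ hxc)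

/-- one-dimensionality of the irreducible components ascends along field extensions. -/
theorem dim_irreducibleComponents_ascent (k K : Type u) [Field k] [Field K] [Algebra k K]
    {X : Scheme.{u}} (p : X ⟶ Spec (CommRingCat.of k)) [LocallyOfFiniteType p]
    (hX : ∀ Z ∈ irreducibleComponents X, topologicalKrullDim Z = 1) :
    ∀ Z ∈ irreducibleComponents ↥(pullback p (Spec.map (CommRingCat.ofHom (algebraMap k K)))),
      topologicalKrullDim Z = 1 := by
  intro Z hZ
  obtain ⟨ζ, hζ⟩ := QuasiSober.sober hZ.1 (isClosed_of_mem_irreducibleComponents Z hZ)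
  have hdef := hζ.def
  have hZ' : closure ({ζ} : Set ↥(pullback p (Spec.map (CommRingCat.ofHom
      (algebraMap k K))))) ∈ irreducibleComponents _ := by rw [hdef]; exact hZ
  rw [← hdef]
  letI iX : X.Over (Spec (CommRingCat.of k)) := ⟨p⟩
  haveI : LocallyOfFiniteType (X ↘ Spec (CommRingCat.of k)) := ‹LocallyOfFiniteType p›
  letI iY : (pullback p (Spec.map (CommRingCat.ofHom (algebraMap k K)))).Over
      (Spec (CommRingCat.of K)) := ⟨pullback.snd p _⟩
  haveI : LocallyOfFiniteType ((pullback p (Spec.map (CommRingCat.ofHom (algebraMap k K)))) ↘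
      Spec (CommRingCat.of K)) :=
    MorphismProperty.pullback_snd (P := @LocallyOfFiniteType) _ _ inferInstance
  haveI : Flat (Spec.map (CommRingCat.ofHom (algebraMap k K))) :=
    Groth.Agent.Lib.helper17.GeomPoint.flat_SpecMap k K
  haveI : Flat (pullback.fst p (Spec.map (CommRingCat.ofHom (algebraMap k K)))) :=
    MorphismProperty.pullback_fst (P := @Flat) _ _ inferInstance
  have h1 := Groth.Agent.Lib.helper5.FieldBC.dim_eq_localDim_of_mem_irreducibleComponents K _ ζ hZ'
  have h2 := Groth.Agent.Lib.helper5.FieldBC.localDim_eq_of_isPullback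
    (Field.toIsField k) (Field.toIsField K) (CommRingCat.ofHom (algebraMap k K)) p
    (pullback.snd p _) (pullback.fst p _) (IsPullback.of_hasPullback p _).flip ζ
  have h3 := Groth.Agent.Lib.helper5.FieldBC.closure_map_mem_irreducibleComponents
    (pullback.fst p (Spec.map (CommRingCat.ofHom (algebraMap k K))))
    (Flat.generalizingMap (f := pullback.fst p (Spec.map (CommRingCat.ofHom (algebraMap k K)))))
    ζ hZ'
  have h4 := Groth.Agent.Lib.helper5.FieldBC.dim_eq_localDim_of_mem_irreducibleComponents k X _ h3
  rw [h1, h2, ← h4]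
  exact hX _ h3

end Groth.Agent.Lib.helper17.NodalAscent
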