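import Mathlib
import Groth.Prelude.Def_CurvBase
import Groth.Agent.Lib.Helper17.GorFlat
import Groth.Agent.Lib.Helper17.GorIso
import Groth.Agent.LibObs29d
import Groth.Agent.S0342
import Groth.Agent.S0542

set_option autoImplicit false
set_option linter.style.haveILetI false
set_option linter.unusedSectionVars false
universe u

namespace Groth.Agent.Lib.helper17.OdpGor

open IsLocalRing

/-- Gorenstein descends along flat local homomorphisms. -/
theorem gor_descent (A B : Type u) [CommRing A] [CommRing B] [IsLocalRing A] [IsLocalRing B]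
    [IsNoetherianRing A] [IsNoetherianRing B] [Algebra A B] [IsLocalHom (algebraMap A B)]
    [Module.Flat A B] (h : LocCoh.IsGorensteinLocalRing B) : LocCoh.IsGorensteinLocalRing A :=
  ((Groth.Agent.Lib.helper17.GorFlat.gor_iff_of_flat A B).1 h).1

variable (k : Type u) [Field k]

theorem gor_node : LocCoh.IsGorensteinLocalRing (MvPowerSeries (Fin 2) k ⧸
    Ideal.span {(MvPowerSeries.X 0 * MvPowerSeries.X 1 : MvPowerSeries (Fin 2) k)}) := by
  haveI hreg : IsRegularLocalRing (MvPowerSeries (Fin 2) k) :=
    Groth.Agent.LibObs29.isRegularLocalRing_mvPowerSeries k 2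
  have hG : LocCoh.IsGorensteinLocalRing (MvPowerSeries (Fin 2) k) := Groth.Agent.S0342.result _
  have hf : (MvPowerSeries.X 0 * MvPowerSeries.X 1 : MvPowerSeries (Fin 2) k) ∈
      maximalIdeal (MvPowerSeries (Fin 2) k) := by
    rw [mem_maximalIdeal, mem_nonunits_iff, MvPowerSeries.isUnit_iff_constantCoeff, map_mul,
      MvPowerSeries.constantCoeff_X, zero_mul]
    exact not_isUnit_zero
  have hne : (MvPowerSeries.X 0 * MvPowerSeries.X 1 : MvPowerSeries (Fin 2) k) ≠ 0 := by
    intro h0
    have := congrArg (MvPowerSeries.coeff (Finsupp.single (0 : Fin 2) 1 + Finsupp.single 1 1)) h0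
    rw [MvPowerSeries.X, MvPowerSeries.X, MvPowerSeries.monomial_mul_monomial,
      MvPowerSeries.coeff_monomial_same, map_zero] at this
    simp at this
  have hreg' : IsSMulRegular (MvPowerSeries (Fin 2) k)
      (MvPowerSeries.X 0 * MvPowerSeries.X 1 : MvPowerSeries (Fin 2) k) :=
    (IsRegular.of_ne_zero hne).left.isSMulRegular
  exact (Groth.Agent.Lib.helper17.GorFlat.gor_quot_iff _ _ hf hreg').1 hG

theorem gor_of_odp (A : Type u) [CommRing A] [IsLocalRing A] [IsNoetherianRing A] [Algebra k A]
    (h : Curv2.IsOrdDoublePt k A) : LocCoh.IsGorensteinLocalRing A := by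
  obtain ⟨e, -⟩ := h
  haveI : IsNoetherianRing (AdicCompletion (maximalIdeal A) A) :=
    Groth.Agent.S0542.result A _ (maximalIdeal A).fg_of_isNoetherianRing
  haveI : Module.Flat A (AdicCompletion (maximalIdeal A) A) := AdicCompletion.flat_of_isNoetherian _
  have h1 : LocCoh.IsGorensteinLocalRing (AdicCompletion (maximalIdeal A) A) :=
    Groth.Agent.Lib.helper17.GorIso.isGorensteinLocalRing_of_ringEquiv e (gor_node k)
  exact gor_descent A (AdicCompletion (maximalIdeal A) A) h1

end Groth.Agent.Lib.helper17.OdpGor
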