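import Mathlib
import Groth.Prelude.Def_CurvBase
import Groth.Agent.Lib.Helper17.OdpGor
import Groth.Agent.Lib.Helper17.NodalAscent
import Groth.Agent.Lib.Helper15.Regular

set_option autoImplicit false
set_option linter.style.haveILetI false
set_option linter.unusedSectionVars false
universe u

namespace Groth.Agent.Lib.helper17.NodalGorRed

open CategoryTheory CategoryTheory.Limits AlgebraicGeometry IsLocalRing
open Groth.Agent.Lib.helper17.NodeAllPts Groth.Agent.Lib.helper17.OdpGeneric
open Groth.Agent.Lib.helper17.NodalAscent

section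

variable (Q : ∀ (R : Type u) [CommRing R], Prop)
  (hreg : ∀ (R : Type u) [CommRing R] [IsRegularLocalRing R], Q R)
  (hodp : ∀ (L R : Type u) [Field L] [CommRing R] [IsLocalRing R] [IsNoetherianRing R]
    [Algebra L R], Curv2.IsOrdDoublePt L R → Q R)
  (hdesc : ∀ (A B : Type u) [CommRing A] [CommRing B] [IsLocalRing A] [IsLocalRing B]
    [IsNoetherianRing A] [IsNoetherianRing B] [Algebra A B] [IsLocalHom (algebraMap A B)]
    [Module.Flat A B], Q B → Q A)

include hreg hodp hdesc in
/-- a property of local rings which holds for regular rings and ordinary double points and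
descends along flat local homomorphisms holds for all local rings of an at-worst-nodal scheme. -/
theorem stalk_property (k : Type u) [Field k] {X : Scheme.{u}}
    (p : X ⟶ Spec (CommRingCat.of k)) [LocallyOfFiniteType p]
    (hX : @Curv2.AtWorstNodal k _ X ⟨p⟩) (x : X) : Q (X.presheaf.stalk x) := by
  haveI : LocallyOfFinitePresentation p :=
    LocallyOfFinitePresentation.iff_locallyOfFiniteType.mpr inferInstance
  haveI : IsLocallyNoetherian X := LocallyOfFiniteType.isLocallyNoetherian p
  haveI : LocallyOfFiniteType (pullback.snd p (Spec.map (CommRingCat.ofHom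
      (algebraMap k (AlgebraicClosure k))))) :=
    MorphismProperty.pullback_snd (P := @LocallyOfFiniteType) _ _ inferInstance
  haveI : LocallyOfFinitePresentation (pullback.snd p (Spec.map (CommRingCat.ofHom
      (algebraMap k (AlgebraicClosure k))))) :=
    LocallyOfFinitePresentation.iff_locallyOfFiniteType.mpr inferInstance
  haveI : IsLocallyNoetherian (pullback p (Spec.map (CommRingCat.ofHom
      (algebraMap k (AlgebraicClosure k))))) :=
    LocallyOfFiniteType.isLocallyNoetherian (pullback.snd p (Spec.map (CommRingCat.ofHom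
      (algebraMap k (AlgebraicClosure k)))))
  haveI : Flat (Spec.map (CommRingCat.ofHom (algebraMap k (AlgebraicClosure k)))) :=
    Groth.Agent.Lib.helper17.GeomPoint.flat_SpecMap k (AlgebraicClosure k)
  haveI : Flat (pullback.fst p (Spec.map (CommRingCat.ofHom
      (algebraMap k (AlgebraicClosure k))))) :=
    MorphismProperty.pullback_fst (P := @Flat) _ _ inferInstance
  -- descent from a point of the geometric fibre
  have key : ∀ xb : ↥(pullback p (Spec.map (CommRingCat.ofHom
      (algebraMap k (AlgebraicClosure k))))),
      Q ((pullback p (Spec.map (CommRingCat.ofHom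
        (algebraMap k (AlgebraicClosure k))))).presheaf.stalk xb) →
      Q (X.presheaf.stalk (pullback.fst p (Spec.map (CommRingCat.ofHom
        (algebraMap k (AlgebraicClosure k)))) xb)) := by
    intro xb hxb
    letI : Algebra (X.presheaf.stalk (pullback.fst p (Spec.map (CommRingCat.ofHom
        (algebraMap k (AlgebraicClosure k)))) xb))
        ((pullback p (Spec.map (CommRingCat.ofHom
          (algebraMap k (AlgebraicClosure k))))).presheaf.stalk xb) :=
      ((pullback.fst p (Spec.map (CommRingCat.ofHom
        (algebraMap k (AlgebraicClosure k))))).stalkMap xb).hom.toAlgebra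
    haveI : IsLocalHom (algebraMap (X.presheaf.stalk (pullback.fst p (Spec.map
        (CommRingCat.ofHom (algebraMap k (AlgebraicClosure k)))) xb))
        ((pullback p (Spec.map (CommRingCat.ofHom
          (algebraMap k (AlgebraicClosure k))))).presheaf.stalk xb)) :=
      inferInstanceAs (IsLocalHom ((pullback.fst p (Spec.map (CommRingCat.ofHom
        (algebraMap k (AlgebraicClosure k))))).stalkMap xb).hom)
    haveI : Module.Flat (X.presheaf.stalk (pullback.fst p (Spec.map (CommRingCat.ofHom
        (algebraMap k (AlgebraicClosure k)))) xb))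
        ((pullback p (Spec.map (CommRingCat.ofHom
          (algebraMap k (AlgebraicClosure k))))).presheaf.stalk xb) := Flat.stalkMap _ xb
    exact hdesc _ _ hxb
  have hcases : (∃ U : X.Opens, x ∈ U ∧ Smooth (U.ι ≫ p)) ∨ @Curv2.IsNode k _ X ⟨p⟩ x := by
    by_cases hc : IsClosed ({x} : Set X)
    · exact hX x hc
    · exact Or.inl (exists_smooth_nhd_of_not_isClosed k p hX x hc)
  rcases hcases with hsm | ⟨-, xb, hxb, hodp'⟩
  · haveI : Surjective (Spec.map (CommRingCat.ofHom (algebraMap k (AlgebraicClosure k)))) :=
      Groth.Agent.Lib.helper17.GeomPoint.surjective_SpecMap k (AlgebraicClosure k)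
    haveI : Surjective (pullback.fst p (Spec.map (CommRingCat.ofHom
        (algebraMap k (AlgebraicClosure k))))) :=
      MorphismProperty.pullback_fst (P := @Surjective) _ _ inferInstance
    obtain ⟨xb, rfl⟩ := (pullback.fst p (Spec.map (CommRingCat.ofHom
      (algebraMap k (AlgebraicClosure k))))).surjective x
    obtain ⟨U, hxU, hU⟩ := hsm
    have h1 := Groth.Agent.Lib.helper7.GrpPerfect.mem_smoothLocus_of_smooth_ι p U hU hxU
    have h2 := Groth.Agent.Lib.helper7.GrpPerfect.mem_smoothLocus_pullback p _ xb h1
    haveI := (Groth.Agent.Lib.helper17.RegSmooth.mem_smoothLocus_iff_isRegularLocalRing_of_perfectField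
      _ xb).1 h2
    exact key xb (hreg _)
  · have h3 := key xb (@hodp (AlgebraicClosure k) _ _ _ _ _
      (@Curv2.stalkAlgebra (AlgebraicClosure k) _ _ ⟨pullback.snd p _⟩ xb) hodp')
    have h4 : pullback.fst p (Spec.map (CommRingCat.ofHom
        (algebraMap k (AlgebraicClosure k)))) xb = x := hxb
    rw [h4] at h3
    exact h3

end

/-- the local rings of an at-worst-nodal scheme are Gorenstein. -/
theorem gor_stalk (k : Type u) [Field k] {X : Scheme.{u}}
    (p : X ⟶ Spec (CommRingCat.of k)) [LocallyOfFiniteType p]
    (hX : @Curv2.AtWorstNodal k _ X ⟨p⟩) (x : X) :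
    LocCoh.IsGorensteinLocalRing (X.presheaf.stalk x) :=
  stalk_property (fun R _ => LocCoh.IsGorensteinLocalRing R)
    (fun R _ _ => Groth.Agent.S0342.result R)
    (fun L R _ _ _ _ _ h => Groth.Agent.Lib.helper17.OdpGor.gor_of_odp L R h)
    (fun A B _ _ _ _ _ _ _ _ _ h => Groth.Agent.Lib.helper17.OdpGor.gor_descent A B h) k p hX x

/-- the local rings of an at-worst-nodal scheme are reduced. -/
theorem isReduced_stalk (k : Type u) [Field k] {X : Scheme.{u}}
    (p : X ⟶ Spec (CommRingCat.of k)) [LocallyOfFiniteType p]
    (hX : @Curv2.AtWorstNodal k _ X ⟨p⟩) (x : X) : _root_.IsReduced (X.presheaf.stalk x) :=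
  stalk_property (fun R _ => _root_.IsReduced R)
    (fun R _ _ => by
      haveI := Groth.Agent.Lib.helper15.isDomain_of_isRegularLocalRing R
      infer_instance)
    (fun L R _ _ _ _ _ h => isReduced_of_odp L R h)
    (fun A B _ _ _ _ _ _ _ _ _ h => by
      haveI := h
      haveI : Module.FaithfullyFlat A B := Module.FaithfullyFlat.of_flat_of_isLocalHom
      exact isReduced_of_injective (algebraMap A B) (FaithfulSMul.algebraMap_injective A B))
    k p hX x

theorem isReduced_of_atWorstNodal (k : Type u) [Field k] {X : Scheme.{u}}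
    (p : X ⟶ Spec (CommRingCat.of k)) [LocallyOfFiniteType p]
    (hX : @Curv2.AtWorstNodal k _ X ⟨p⟩) : IsReduced X := by
  haveI := fun x => isReduced_stalk k p hX x
  exact isReduced_of_isReduced_stalk X

/-- an at-worst-nodal scheme locally of finite type over a field is geometrically reduced. -/
theorem geometricallyReduced_of_atWorstNodal (k : Type u) [Field k] {X : Scheme.{u}}
    (p : X ⟶ Spec (CommRingCat.of k)) [LocallyOfFiniteType p]
    (hX : @Curv2.AtWorstNodal k _ X ⟨p⟩) : GeometricallyReduced p := by
  refine ⟨fun K _ y Z fst snd h => ?_⟩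
  let φ : CommRingCat.of k ⟶ CommRingCat.of K := Spec.preimage y
  have hφ : Spec.map φ = y := Spec.map_preimage y
  letI : Algebra k K := φ.hom.toAlgebra
  have hy : y = Spec.map (CommRingCat.ofHom (algebraMap k K)) := hφ.symm
  rw [hy] at h
  haveI : LocallyOfFiniteType (pullback.snd p (Spec.map (CommRingCat.ofHom (algebraMap k K)))) :=
    MorphismProperty.pullback_snd (P := @LocallyOfFiniteType) _ _ inferInstance
  haveI : IsReduced (pullback p (Spec.map (CommRingCat.ofHom (algebraMap k K)))) :=
    isReduced_of_atWorstNodal K (pullback.snd p _) (atWorstNodal_ascent k K p hX)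
  exact isReduced_of_isOpenImmersion h.isoPullback.hom

end Groth.Agent.Lib.helper17.NodalGorRed
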