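import Mathlib
import Groth.Agent.Lib.Helper10.NormalCrit

set_option autoImplicit false
set_option linter.style.haveILetI false
set_option linter.unusedSectionVars false
universe u

namespace Groth.Agent.Lib.helper17.NormalFlat

open IsLocalRing

variable {A : Type u} [CommRing A]

theorem eq_zero_or_eq_zero_of_add_eq_pow [IsLocalRing A] (t : A)
    (htreg : IsSMulRegular A t) (hrad : (Ideal.span {t}).IsRadical) :
    ∀ (n : ℕ) (a b : A), a + b = t ^ n → a * b = 0 → a = 0 ∨ b = 0 := by
  intro n
  induction n with
  | zero =>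
    intro a b hab h0
    rw [pow_zero] at hab
    rcases IsLocalRing.isUnit_or_isUnit_of_add_one hab with ha | hb
    · right
      exact (ha.mul_right_eq_zero).mp h0
    · left
      exact (hb.mul_left_eq_zero).mp h0
  | succ n ih =>
    intro a b hab h0
    have ha2 : a ^ 2 ∈ Ideal.span {t} := by
      have : a ^ 2 = t * (a * t ^ n) := by
        have h1 : a ^ 2 = a * (a + b) - a * b := by ring
        rw [h1, hab, h0, pow_succ]; ring
      rw [this]
      exact Ideal.mul_mem_right _ _ (Ideal.subset_span rfl)
    have ha : a ∈ Ideal.span {t} := hrad ⟨2, ha2⟩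
    obtain ⟨a₁, rfl⟩ := Ideal.mem_span_singleton'.mp ha
    have hb : b = (t ^ n - a₁) * t := by
      have : b = t ^ (n + 1) - a₁ * t := by rw [← hab]; ring
      rw [this, pow_succ]; ring
    have h1 : a₁ + (t ^ n - a₁) = t ^ n := by ring
    have h2 : a₁ * (t ^ n - a₁) = 0 := by
      apply htreg
      apply htreg
      simp only [smul_eq_mul, mul_zero]
      rw [hb] at h0
      rw [← h0]; ring
    rcases ih a₁ (t ^ n - a₁) h1 h2 with h | h
    · left; rw [h, zero_mul]
    · right; rw [hb, h, zero_mul]

theorem isDomain_of_regular_of_radical [IsLocalRing A] [IsNoetherianRing A] (t : A)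
    (htreg : IsSMulRegular A t) (hrad : (Ideal.span {t}).IsRadical)
    (hloc : ∀ (q : Ideal A) [q.IsPrime], t ∉ q → IsDomain (Localization.AtPrime q)) :
    IsDomain A := by
  classical
  haveI : NoZeroDivisors A := by
    refine ⟨fun {x y} hxy => ?_⟩
    by_contra hne
    rw [not_or] at hne
    obtain ⟨hx, hy⟩ := hne
    set I : Ideal A := (Ideal.span {x} : Submodule A A).annihilator with hI
    set J : Ideal A := (I : Submodule A A).annihilator with hJ
    have hIx : ∀ a, a ∈ I ↔ a * x = 0 := fun a => by
      rw [hI, Submodule.mem_annihilator_span_singleton, smul_eq_mul]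
    have hxJ : x ∈ J := by
      rw [hJ, Submodule.mem_annihilator]
      intro a ha
      rw [smul_eq_mul, mul_comm]
      exact (hIx a).1 ha
    have hyI : y ∈ I := (hIx y).2 (by rw [mul_comm]; exact hxy)
    have htrad : t ∈ (I ⊔ J).radical := by
      rw [Ideal.radical_eq_sInf, Ideal.mem_sInf]
      rintro q ⟨hle, hq⟩
      haveI := hq
      by_contra htq
      haveI := hloc q htq
      have hIq : I ≤ q := le_trans le_sup_left hle
      have hJq : J ≤ q := le_trans le_sup_right hle
      have hx1 : algebraMap A (Localization.AtPrime q) x ≠ 0 := by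
        intro h0
        obtain ⟨m, hm⟩ := (IsLocalization.map_eq_zero_iff q.primeCompl _ x).1 h0
        exact m.2 (hIq ((hIx _).2 hm))
      have hkill : ∀ g ∈ I, ∃ m : A, m ∉ q ∧ m * g = 0 := by
        intro g hg
        have h1 : algebraMap A (Localization.AtPrime q) g *
            algebraMap A (Localization.AtPrime q) x = 0 := by
          rw [← map_mul, (hIx g).1 hg, map_zero]
        have h2 : algebraMap A (Localization.AtPrime q) g = 0 :=
          (mul_eq_zero.mp h1).resolve_right hx1
        obtain ⟨m, hm⟩ := (IsLocalization.map_eq_zero_iff q.primeCompl _ g).1 h2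
        exact ⟨m, m.2, hm⟩
      obtain ⟨s, hs⟩ := (isNoetherianRing_iff_ideal_fg A).1 inferInstance I
      choose! mf hmf using hkill
      have hsI : ∀ g ∈ s, g ∈ I := fun g hg => hs ▸ Ideal.subset_span hg
      have hprod : (∏ g ∈ s, mf g) ∉ q := by
        intro hmem
        obtain ⟨g, hg, hgq⟩ := (Ideal.IsPrime.prod_mem_iff).1 hmem
        exact (hmf g (hsI g hg)).1 hgq
      have hprodJ : (∏ g ∈ s, mf g) ∈ J := by
        rw [hJ, ← hs, Submodule.mem_annihilator_span]
        rintro ⟨g, hg⟩
        obtain ⟨c, hc⟩ := Finset.dvd_prod_of_mem mf hg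
        rw [smul_eq_mul, hc, mul_comm (mf g) c, mul_assoc, (hmf g (hsI g hg)).2, mul_zero]
      exact hprod (hJq hprodJ)
    obtain ⟨n, hn⟩ := htrad
    obtain ⟨a, ha, b, hb, hab⟩ := Submodule.mem_sup.1 hn
    have hab0 : a * b = 0 := by
      rw [hJ, Submodule.mem_annihilator] at hb
      have := hb a ha
      rw [smul_eq_mul] at this
      rw [mul_comm]; exact this
    rcases eq_zero_or_eq_zero_of_add_eq_pow t htreg hrad n a b hab hab0 with h | h
    · rw [h, zero_add] at hab
      rw [hab, hJ, Submodule.mem_annihilator] at hb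
      have h1 := hb y hyI
      rw [smul_eq_mul] at h1
      exact hy ((htreg.pow n) (by simpa [smul_eq_mul] using h1))
    · rw [h, add_zero] at hab
      rw [hab] at ha
      have h1 := (hIx _).1 ha
      exact hx ((htreg.pow n) (by simpa [smul_eq_mul] using h1))
  exact NoZeroDivisors.to_isDomain A

theorem isIntegrallyClosed_of_radical [IsDomain A] (t : A) (ht0 : t ≠ 0)
    (hrad : (Ideal.span {t}).IsRadical)
    (hloc : ∀ (q : Ideal A) [q.IsPrime], t ∉ q → IsIntegrallyClosed (Localization.AtPrime q)) :
    IsIntegrallyClosed A := by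
  refine Groth.Agent.Lib.helper10.NormalCrit.isIntegrallyClosed_of_away t ht0 hrad ?_
  intro y hy
  let N : Submodule A (FractionRing A) := LinearMap.range (Algebra.linearMap A (FractionRing A))
  have htrad : t ∈ (N.colon {y}).radical := by
    rw [Ideal.radical_eq_sInf, Ideal.mem_sInf]
    rintro q ⟨hle, hq⟩
    haveI := hq
    by_contra htq
    haveI := hloc q htq
    have hS : q.primeCompl ≤ nonZeroDivisors A := by
      intro a ha
      exact mem_nonZeroDivisors_of_ne_zero (fun h0 => ha (h0 ▸ q.zero_mem))
    let B := Localization.subalgebra.ofField (FractionRing A) q.primeCompl hS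
    haveI : IsIntegrallyClosed B :=
      IsIntegrallyClosed.of_equiv (IsLocalization.algEquiv q.primeCompl
        (Localization.AtPrime q) B).toRingEquiv
    have hyB : IsIntegral B y := hy.tower_top
    obtain ⟨b, hb⟩ := IsIntegrallyClosed.isIntegral_iff.mp hyB
    obtain ⟨a, s, hs, hbs⟩ : ∃ (a s : A) (_ : s ∈ q.primeCompl),
        (b : FractionRing A) = algebraMap A (FractionRing A) a *
          (algebraMap A (FractionRing A) s)⁻¹ := b.2
    have hs0 : algebraMap A (FractionRing A) s ≠ 0 := by
      intro h0
      have := (IsFractionRing.injective A (FractionRing A)) (h0.trans (map_zero _).symm)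
      exact hs (this ▸ q.zero_mem)
    have hsmem : s ∈ N.colon {y} := by
      rw [Submodule.mem_colon_singleton]
      refine ⟨a, ?_⟩
      rw [Algebra.linearMap_apply, Algebra.smul_def, ← hb]
      change _ = _ * (b : FractionRing A)
      rw [hbs]
      field_simp
    exact hs (hle hsmem)
  obtain ⟨k, hk⟩ := htrad
  rw [Submodule.mem_colon_singleton] at hk
  obtain ⟨a, ha⟩ := hk
  refine ⟨a, k, ?_⟩
  rw [Algebra.linearMap_apply] at ha
  rw [ha, Algebra.smul_def, map_pow, mul_comm]

/-- a Noetherian local ring with a regular element `t` such that `A/tA` is reduced and `A_q` is a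
normal domain for all primes `q` not containing `t` is a normal domain. -/
theorem normal_of_regular_of_radical [IsLocalRing A] [IsNoetherianRing A] (t : A)
    (ht0 : t ≠ 0) (htreg : IsSMulRegular A t) (hrad : (Ideal.span {t}).IsRadical)
    (hloc : ∀ (q : Ideal A) [q.IsPrime], t ∉ q →
      IsDomain (Localization.AtPrime q) ∧ IsIntegrallyClosed (Localization.AtPrime q)) :
    IsDomain A ∧ IsIntegrallyClosed A := by
  haveI := isDomain_of_regular_of_radical t htreg hrad (fun q _ hq => (hloc q hq).1)
  exact ⟨inferInstance, isIntegrallyClosed_of_radical t ht0 hrad (fun q _ hq => (hloc q hq).2)⟩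

end Groth.Agent.Lib.helper17.NormalFlat
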