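import Mathlib
import Groth.Prelude.Def_CurvBase
import Groth.Agent.Lib.Helper17.NormalFlat
import Groth.Agent.Lib.Helper17.NodalGorRed
import Groth.Agent.Lib.Helper17.FibreStalk
import Groth.Agent.Lib.Helper17.GorFlat
import Groth.Agent.Lib.Helper3.ResMap

set_option autoImplicit false
set_option linter.style.haveILetI false
set_option linter.unusedSectionVars false
universe u

namespace Groth.Agent.Lib.helper17.NodalNormal

open CategoryTheory CategoryTheory.Limits AlgebraicGeometry IsLocalRing

/-- the local ring of `X` at the image of `q` under `Spec O_{X,x} ⟶ X` is `(O_{X,x})_q`. -/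
theorem nonempty_stalk_fromSpecStalk_equiv {X : Scheme.{u}} (x : X)
    (q : PrimeSpectrum (X.presheaf.stalk x)) :
    Nonempty (X.presheaf.stalk (X.fromSpecStalk x q) ≃+* Localization.AtPrime q.asIdeal) := by
  obtain ⟨U, hU, hxU, -⟩ := exists_isAffineOpen_mem_and_subset (x := x) (U := ⊤) trivial
  letI : Algebra Γ(X, U) (X.presheaf.stalk x) :=
    TopCat.Presheaf.algebra_section_stalk X.presheaf ⟨x, hxU⟩
  haveI L₀ : IsLocalization.AtPrime (X.presheaf.stalk x) (hU.primeIdealOf ⟨x, hxU⟩).asIdeal :=
    hU.isLocalization_stalk ⟨x, hxU⟩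
  let y : PrimeSpectrum Γ(X, U) := Spec.map (X.presheaf.germ U x hxU) q
  have hyx : X.fromSpecStalk x q = hU.fromSpec y := by
    rw [← hU.fromSpecStalk_eq_fromSpecStalk hxU, IsAffineOpen.fromSpecStalk,
      Scheme.Hom.comp_apply]
  have hyU : hU.fromSpec y ∈ U := by
    have : hU.fromSpec y ∈ Set.range hU.fromSpec := ⟨y, rfl⟩
    rw [hU.range_fromSpec] at this
    exact this
  rw [hyx]
  letI : Algebra Γ(X, U) (X.presheaf.stalk (hU.fromSpec y)) :=
    TopCat.Presheaf.algebra_section_stalk X.presheaf ⟨hU.fromSpec y, hyU⟩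
  haveI L₁ : IsLocalization.AtPrime (X.presheaf.stalk (hU.fromSpec y)) y.asIdeal :=
    hU.isLocalization_stalk' y hyU
  have h1 := IsLocalization.isLocalization_isLocalization_atPrime_isLocalization
    (hU.primeIdealOf ⟨x, hxU⟩).asIdeal.primeCompl
    (Localization.AtPrime q.asIdeal) q.asIdeal
  have hcomap : q.asIdeal.comap (algebraMap Γ(X, U) (X.presheaf.stalk x)) = y.asIdeal := rfl
  haveI h2 : IsLocalization.AtPrime (Localization.AtPrime q.asIdeal) y.asIdeal := by
    convert h1 using 2
    exact hcomap.symm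
  exact ⟨(IsLocalization.algEquiv y.asIdeal.primeCompl (X.presheaf.stalk (hU.fromSpec y))
    (Localization.AtPrime q.asIdeal)).toRingEquiv⟩

section tau

variable {R : Type u} [CommRing R] {X : Scheme.{u}} (f : X ⟶ Spec (CommRingCat.of R)) (x : X)

/-- the structure map `R → O_{X,x}`. -/
noncomputable def tau : R →+* X.presheaf.stalk x :=
  (X.presheaf.germ ⊤ x trivial).hom.comp (Coh.toGlobal f)

theorem specMap_tau : X.fromSpecStalk x ≫ f = Spec.map (CommRingCat.ofHom (tau f x)) := by
  have h1 : CommRingCat.ofHom (tau f x) =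
      (Scheme.ΓSpecIso (CommRingCat.of R)).inv ≫ f.appTop ≫ X.presheaf.germ ⊤ x trivial := rfl
  rw [h1]
  conv_lhs => rw [Groth.Agent.Lib.helper3.ResMap.eq_toSpecΓ_comp f]
  rw [Scheme.fromSpecStalk_toSpecΓ_assoc]
  simp only [Spec.map_comp, Category.assoc]

theorem asIdeal_fromSpecStalk (q : PrimeSpectrum (X.presheaf.stalk x)) :
    (f (X.fromSpecStalk x q)).asIdeal = q.asIdeal.comap (tau f x) := by
  have h := congrArg (fun g => g q) (specMap_tau f x)
  simp only [Scheme.Hom.comp_apply] at h
  rw [h]
  rfl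

theorem asIdeal_apply : (f x).asIdeal = (maximalIdeal (X.presheaf.stalk x)).comap (tau f x) := by
  have h := asIdeal_fromSpecStalk f x (closedPoint _)
  rw [Scheme.fromSpecStalk_closedPoint] at h
  exact h

theorem stalkMap_comp_algebraMap :
    (f.stalkMap x).hom.comp (algebraMap R ((Spec.structureSheaf R).presheaf.stalk (f x))) =
      tau f x := by
  have h1 := Scheme.SpecMap_stalkMap_fromSpecStalk (f := f) (x := x)
  rw [specMap_tau, Spec.fromSpecStalk_eq'] at h1
  have h2 : Spec.map (StructureSheaf.toStalk (CommRingCat.of R) (f x) ≫ f.stalkMap x) =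
      Spec.map (CommRingCat.ofHom (tau f x)) := by
    rw [Spec.map_comp]; exact h1
  have h3 := Spec.map_injective h2
  exact congrArg CommRingCat.Hom.hom h3

end tau

/-- a uniformizer of a Dedekind domain at a nonzero prime, taken in the domain itself. -/
theorem exists_uniformizer (R : Type u) [CommRing R] [IsDedekindDomain R] (P : Ideal R)
    [P.IsPrime] (hP : P ≠ ⊥) (O : Type u) [CommRing O] [Algebra R O]
    [IsLocalization.AtPrime O P] :
    ∃ ϖ ∈ P, algebraMap R O ϖ ≠ 0 ∧ ∀ z : O, ¬ IsUnit z → z ∈ Ideal.span {algebraMap R O ϖ} := by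
  haveI : IsLocalRing O := IsLocalization.AtPrime.isLocalRing O P
  haveI : IsDomain O := IsLocalization.isDomain_of_atPrime O P
  haveI : IsDiscreteValuationRing O :=
    IsLocalization.AtPrime.isDiscreteValuationRing_of_dedekind_domain R hP O
  obtain ⟨π', hπ'⟩ := IsDiscreteValuationRing.exists_irreducible O
  have hmax := hπ'.maximalIdeal_eq
  obtain ⟨⟨ϖ, v⟩, hϖv⟩ := IsLocalization.surj P.primeCompl π'
  have hspan : maximalIdeal O = Ideal.span {algebraMap R O ϖ} := by
    rw [hmax, ← hϖv]
    exact (Ideal.span_singleton_mul_right_unit (IsLocalization.map_units _ v) π').symm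
  refine ⟨ϖ, ?_, ?_, ?_⟩
  · rw [← IsLocalization.AtPrime.to_map_mem_maximal_iff O P ϖ, hspan]
    exact Ideal.subset_span rfl
  · intro h
    rw [h] at hspan
    have h1 : maximalIdeal O = ⊥ := by rw [hspan]; simp
    exact (IsDiscreteValuationRing.not_isField O) (IsLocalRing.isField_iff_maximalIdeal_eq.mpr h1)
  · intro z hz
    rw [← hspan]
    exact (mem_maximalIdeal z).2 (mem_nonunits_iff.2 hz)


set_option backward.isDefEq.respectTransparency false in
set_option maxHeartbeats 800000 in
/-- a nodal family over a Dedekind domain whose generic fibre is normal has normal total space. -/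
theorem normal_of_isNodalFamily {R : Type u} [CommRing R] [IsDedekindDomain R]
    {X : Scheme.{u}} (f : X ⟶ Spec (CommRingCat.of R)) (hf : Curv2.IsNodalFamily f)
    (hgen : ∀ x : X, (f.base x).asIdeal = ⊥ →
      IsDomain (X.presheaf.stalk x) ∧ IsIntegrallyClosed (X.presheaf.stalk x)) :
    ∀ x : X, IsDomain (X.presheaf.stalk x) ∧ IsIntegrallyClosed (X.presheaf.stalk x) := by
  intro x
  by_cases hx : (f.base x).asIdeal = ⊥
  · exact hgen x hx
  obtain ⟨hflat, hfp, hfib⟩ := hf
  haveI := hflat
  haveI := hfp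
  haveI : LocallyOfFiniteType f := inferInstance
  haveI : IsLocallyNoetherian X := LocallyOfFiniteType.isLocallyNoetherian f
  haveI : IsNoetherianRing (X.presheaf.stalk x) := inferInstance
  haveI hPmax : (f.base x).asIdeal.IsMaximal := Ideal.IsPrime.isMaximal (f.base x).isPrime hx
  letI alg : Algebra R ((Spec (CommRingCat.of R)).presheaf.stalk (f.base x)) :=
    StructureSheaf.stalkAlgebra R (f.base x)
  haveI hloc : IsLocalization.AtPrime ((Spec (CommRingCat.of R)).presheaf.stalk (f.base x))
      (f.base x).asIdeal := StructureSheaf.IsLocalization.to_stalk R (f.base x)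
  obtain ⟨ϖ, hϖP, hϖ0, hϖspan⟩ := exists_uniformizer R (f.base x).asIdeal hx
    ((Spec (CommRingCat.of R)).presheaf.stalk (f.base x))
  -- the element `t`
  have hτ : ∀ r : R, (f.stalkMap x).hom
      (algebraMap R ((Spec (CommRingCat.of R)).presheaf.stalk (f.base x)) r) = tau f x r :=
    fun r => RingHom.congr_fun (stalkMap_comp_algebraMap f x) r
  haveI : IsDomain ((Spec (CommRingCat.of R)).presheaf.stalk (f.base x)) :=
    IsLocalization.isDomain_of_atPrime _ (f.base x).asIdeal
  haveI : IsDiscreteValuationRing ((Spec (CommRingCat.of R)).presheaf.stalk (f.base x)) :=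
    IsLocalization.AtPrime.isDiscreteValuationRing_of_dedekind_domain R hx _
  have hreg : IsSMulRegular (X.presheaf.stalk x) (tau f x ϖ) := by
    letI : Algebra ((Spec (CommRingCat.of R)).presheaf.stalk (f.base x)) (X.presheaf.stalk x) :=
      (f.stalkMap x).hom.toAlgebra
    haveI : Module.Flat ((Spec (CommRingCat.of R)).presheaf.stalk (f.base x))
      (X.presheaf.stalk x) := Flat.stalkMap f x
    haveI : IsLocalHom (algebraMap ((Spec (CommRingCat.of R)).presheaf.stalk (f.base x))
      (X.presheaf.stalk x)) := inferInstanceAs (IsLocalHom (f.stalkMap x).hom)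
    have := GorFlat.isSMulRegular_map ((Spec (CommRingCat.of R)).presheaf.stalk (f.base x))
      (X.presheaf.stalk x) _ (IsRegular.of_ne_zero hϖ0).left.isSMulRegular
    rw [← hτ]
    exact this
  have ht0 : tau f x ϖ ≠ 0 := by
    intro h
    have := hreg (a₁ := 1) (a₂ := 0) (by simp [h])
    exact one_ne_zero this
  have hmax : maximalIdeal ((Spec (CommRingCat.of R)).presheaf.stalk (f.base x)) =
      Ideal.span {algebraMap R _ ϖ} := by
    apply le_antisymm
    · intro z hz
      exact hϖspan z ((mem_maximalIdeal z).1 hz)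
    · rw [Ideal.span_singleton_le_iff_mem]
      exact (IsLocalization.AtPrime.to_map_mem_maximal_iff _ (f.base x).asIdeal ϖ).2 hϖP
  have hmap : (maximalIdeal ((Spec (CommRingCat.of R)).presheaf.stalk (f.base x))).map
      (f.stalkMap x).hom = Ideal.span {tau f x ϖ} := by
    rw [hmax, Ideal.map_span, Set.image_singleton, hτ]
  have hrad : (Ideal.span {tau f x ϖ}).IsRadical := by
    rw [← hmap, Ideal.isRadical_iff_quotient_reduced]
    obtain ⟨e⟩ := FibreStalk.nonempty_asFiber_stalk_equiv f x
    obtain ⟨hdim, hnod⟩ := hfib (f.base x)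
    haveI : LocallyOfFiniteType (f.fiberToSpecResidueField (f.base x)) :=
      MorphismProperty.pullback_snd (P := @LocallyOfFiniteType) f
        ((Spec (CommRingCat.of R)).fromSpecResidueField (f.base x)) inferInstance
    haveI := NodalGorRed.isReduced_stalk ((Spec (CommRingCat.of R)).residueField (f.base x))
      (f.fiberToSpecResidueField (f.base x)) hnod (f.asFiber x)
    exact isReduced_of_injective e.toRingHom e.injective
  refine NormalFlat.normal_of_regular_of_radical (tau f x ϖ) ht0 hreg hrad ?_
  intro q hq htq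
  obtain ⟨e⟩ := nonempty_stalk_fromSpecStalk_equiv x ⟨q, hq⟩
  have hbot : (f.base (X.fromSpecStalk x ⟨q, hq⟩)).asIdeal = ⊥ := by
    rw [asIdeal_fromSpecStalk]
    by_contra hne
    haveI : (q.comap (tau f x)).IsPrime := inferInstance
    have hm : (q.comap (tau f x)).IsMaximal := Ideal.IsPrime.isMaximal inferInstance hne
    have hle : q.comap (tau f x) ≤ (f.base x).asIdeal := by
      rw [asIdeal_apply]
      exact Ideal.comap_mono (le_maximalIdeal hq.ne_top)
    have heq := hm.eq_of_le (f.base x).isPrime.ne_top hle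
    apply htq
    have : ϖ ∈ q.comap (tau f x) := heq ▸ hϖP
    exact this
  obtain ⟨hd, hic⟩ := hgen _ hbot
  haveI := hd
  haveI := hic
  exact ⟨e.symm.toMulEquiv.isDomain _, IsIntegrallyClosed.of_equiv e⟩

end Groth.Agent.Lib.helper17.NodalNormal
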