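import Mathlib
import Groth.Prelude.Def_EGA41
import Groth.Prelude.Def_CAlgX

/-!
Comparison of the two adic formal smoothness notions of the prelude:
`CAlgX.IsAdicFormallySmooth` (square-zero test ideals, discrete base) and
`EGA41.IsFormallySmoothAdic` (nilpotent test ideals, adic base).
-/

set_option autoImplicit false
universe u

namespace Groth.Agent.Lib.helper17.AdicFS

variable {R S : Type u} [CommRing R] [CommRing S] [Algebra R S]

/-- square-zero lifting implies nilpotent lifting (for maps killing a power of `𝔫`). -/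
theorem exists_lift_of_nilpotent (𝔫 : Ideal S) (h : CAlgX.IsAdicFormallySmooth R S 𝔫)
    (C : Type u) [CommRing C] [Algebra R C] (J : Ideal C) (hJ : IsNilpotent J)
    (u : S →ₐ[R] C ⧸ J) (hu : ∃ k : ℕ, ∀ x ∈ 𝔫 ^ k, u x = 0) :
    ∃ v : S →ₐ[R] C, (Ideal.Quotient.mkₐ R J).comp v = u := by
  revert u
  revert ‹Algebra R C›
  have hJ' := hJ
  revert hJ'
  apply Ideal.IsNilpotent.induction_on (S := C) J hJ
    (P := fun C _ J => IsNilpotent J → ∀ [Algebra R C] (u : S →ₐ[R] C ⧸ J),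
      (∃ k : ℕ, ∀ x ∈ 𝔫 ^ k, u x = 0) → ∃ v : S →ₐ[R] C, (Ideal.Quotient.mkₐ R J).comp v = u)
  · intro C _ I hI _ _ u hu
    exact h C I hI u hu
  · intro C _ I J hIJ h₁ h₂ hJnil _ g hg
    obtain ⟨t, ht⟩ := hJnil
    have hInil : IsNilpotent I := ⟨t, by
      rw [Ideal.zero_eq_bot, eq_bot_iff, ← Ideal.zero_eq_bot, ← ht]
      exact Ideal.pow_right_mono hIJ t⟩
    have hJbar : (J.map (Ideal.Quotient.mk I)) ^ t = ⊥ := by
      rw [← Ideal.map_pow, ht, Ideal.zero_eq_bot, Ideal.map_bot]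
    let e : ((C ⧸ I) ⧸ J.map (Ideal.Quotient.mk I)) ≃ₐ[R] C ⧸ J :=
      { (DoubleQuot.quotQuotEquivQuotSup I J).trans
          (Ideal.quotEquivOfEq (sup_eq_right.mpr hIJ)) with
        commutes' := fun x => rfl }
    obtain ⟨k, hk⟩ := hg
    obtain ⟨g', he⟩ := h₂ ⟨t, hJbar⟩ (e.symm.toAlgHom.comp g) ⟨k, fun x hx => by
      rw [AlgHom.comp_apply, hk x hx, map_zero]⟩
    -- g' kills a power of 𝔫
    have hg' : ∃ k' : ℕ, ∀ x ∈ 𝔫 ^ k', g' x = 0 := by
      have h1 : (𝔫 ^ k).map g'.toRingHom ≤ J.map (Ideal.Quotient.mk I) := by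
        rw [Ideal.map_le_iff_le_comap]
        intro x hx
        rw [Ideal.mem_comap, ← Ideal.Quotient.eq_zero_iff_mem]
        have h2 := congrArg (fun f => f x) he
        simp only [AlgHom.comp_apply] at h2
        rw [hk x hx, map_zero] at h2
        exact h2
      refine ⟨k * t, fun x hx => ?_⟩
      rw [pow_mul] at hx
      have h2 : g'.toRingHom x ∈ Ideal.map g'.toRingHom ((𝔫 ^ k) ^ t) := Ideal.mem_map_of_mem _ hx
      rw [Ideal.map_pow] at h2
      have h3 := Ideal.pow_right_mono h1 t h2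
      rw [hJbar] at h3
      exact h3
    obtain ⟨g'', rfl⟩ := h₁ hInil g' hg'
    replace he := congr_arg e.toAlgHom.comp he
    conv_rhs at he =>
      rw [← AlgHom.comp_assoc, AlgEquiv.comp_symm, AlgHom.id_comp]
    exact ⟨g'', he⟩

/-- `CAlgX` adic formal smoothness implies the `EGA41` notion for every adic topology on the base. -/
theorem isFormallySmoothAdic_of_sqzero (𝔞 : Ideal R) (𝔫 : Ideal S)
    (h : CAlgX.IsAdicFormallySmooth R S 𝔫) : EGA41.IsFormallySmoothAdic R 𝔞 S 𝔫 := by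
  intro C _ _ J hJ _ u hu
  exact exists_lift_of_nilpotent 𝔫 h C J hJ u hu

/-- The `EGA41` notion implies the `CAlgX` one when `𝔞 S ⊆ 𝔫` (test algebras are then automatically
killed by a power of `𝔞`). -/
theorem sqzero_of_isFormallySmoothAdic (𝔞 : Ideal R) (𝔫 : Ideal S)
    (h𝔞 : 𝔞.map (algebraMap R S) ≤ 𝔫)
    (h : EGA41.IsFormallySmoothAdic R 𝔞 S 𝔫) : CAlgX.IsAdicFormallySmooth R S 𝔫 := by
  intro C _ _ J hJ u hu
  obtain ⟨k, hk⟩ := hu
  refine h C J ⟨2, hJ⟩ ⟨k + k, ?_⟩ u ⟨k, hk⟩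
  have h1 : (𝔞 ^ k).map (algebraMap R C) ≤ J := by
    rw [Ideal.map_le_iff_le_comap]
    intro a ha
    rw [Ideal.mem_comap, ← Ideal.Quotient.eq_zero_iff_mem]
    have h2 : algebraMap R S a ∈ 𝔫 ^ k := by
      have : algebraMap R S a ∈ (𝔞 ^ k).map (algebraMap R S) := Ideal.mem_map_of_mem _ ha
      rw [Ideal.map_pow] at this
      exact Ideal.pow_right_mono h𝔞 k this
    have h3 := hk _ h2
    rw [AlgHom.commutes] at h3
    exact h3
  rw [eq_bot_iff, pow_add, Ideal.map_mul, ← hJ, pow_two]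
  exact Ideal.mul_mono h1 h1

end Groth.Agent.Lib.helper17.AdicFS
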