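import Mathlib
import Groth.Prelude.Def_CAlgX

/-!
# helper17: transport of adic formal smoothness

* `isAdicFormallySmooth_of_algEquiv`: along an isomorphism of algebras.
* `isAdicFormallySmooth_of_isLocalization_base`, `isAdicFormallySmooth_restrictScalars_of_isLocalization`:
  for `R → R' → S` with `R'` a localization of `R`, `S` is adic formally smooth over `R` iff over `R'`.
-/

set_option autoImplicit false
set_option linter.unusedSectionVars false
set_option linter.style.haveILetI false

namespace Groth.Agent.Lib.helper17.AdicFSLoc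

universe u

theorem isAdicFormallySmooth_of_algEquiv {R S S' : Type u} [CommRing R] [CommRing S] [CommRing S']
    [Algebra R S] [Algebra R S'] (e : S ≃ₐ[R] S') (𝔫 : Ideal S) (𝔫' : Ideal S')
    (h𝔫 : 𝔫'.map (e.symm : S' →+* S) ≤ 𝔫) (h : CAlgX.IsAdicFormallySmooth R S' 𝔫') :
    CAlgX.IsAdicFormallySmooth R S 𝔫 := by
  intro A _ _ J hJ ψ hψ
  obtain ⟨k, hk⟩ := hψ
  obtain ⟨χ, hχ⟩ := h A J hJ (ψ.comp e.symm.toAlgHom) ⟨k, fun x hx => by
    have h1 : 𝔫' ^ k ≤ (𝔫 ^ k).comap (e.symm : S' →+* S) := by
      rw [← Ideal.map_le_iff_le_comap, Ideal.map_pow]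
      exact Ideal.pow_right_mono h𝔫 k
    exact hk _ (h1 hx)⟩
  refine ⟨χ.comp e.toAlgHom, ?_⟩
  rw [← AlgHom.comp_assoc, hχ]
  ext x
  simp

/-- Restricting the base along a localization `R → R'`. -/
theorem isAdicFormallySmooth_restrictScalars_of_isLocalization {R R' S : Type u} [CommRing R]
    [CommRing R'] [CommRing S] [Algebra R R'] [Algebra R' S] [Algebra R S] [IsScalarTower R R' S]
    (M : Submonoid R) [IsLocalization M R'] (𝔫 : Ideal S)
    (h : CAlgX.IsAdicFormallySmooth R' S 𝔫) : CAlgX.IsAdicFormallySmooth R S 𝔫 := by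
  intro A _ _ J hJ ψ hψ
  -- elements of `M` become units in `A`
  have hunit : ∀ m : M, IsUnit (algebraMap R A m) := by
    intro m
    have h1 : IsUnit (Ideal.Quotient.mk J (algebraMap R A m)) := by
      have h2 : Ideal.Quotient.mk J (algebraMap R A m) = ψ (algebraMap R' S (algebraMap R R' m)) := by
        rw [← IsScalarTower.algebraMap_apply R R' S, ψ.commutes]
        rfl
      rw [h2]
      exact ((IsLocalization.map_units R' m).map _).map _
    have hnil : J ≤ nilradical A := by
      intro x hx
      refine ⟨2, ?_⟩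
      have : x ^ 2 ∈ J ^ 2 := Ideal.pow_mem_pow hx 2
      rwa [hJ, Ideal.mem_bot] at this
    exact (IsNilpotent.isUnit_quotient_mk_iff (I := J) ⟨2, by rw [hJ]; rfl⟩).mp h1
  letI algR'A : Algebra R' A := (IsLocalization.lift (M := M) (g := algebraMap R A) hunit).toAlgebra
  haveI : IsScalarTower R R' A := IsScalarTower.of_algebraMap_eq (fun r => by
    change _ = IsLocalization.lift hunit (algebraMap R R' r)
    rw [IsLocalization.lift_eq])
  let ψ' : S →ₐ[R'] A ⧸ J :=
    { ψ.toRingHom with
      commutes' := fun r' => by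
        have h1 : (ψ.toRingHom.comp (algebraMap R' S)) = (algebraMap R' (A ⧸ J)) := by
          apply IsLocalization.ringHom_ext M
          ext r
          simp only [RingHom.comp_apply]
          rw [← IsScalarTower.algebraMap_apply R R' S, ← IsScalarTower.algebraMap_apply R R' (A ⧸ J)]
          exact ψ.commutes r
        exact RingHom.congr_fun h1 r' }
  obtain ⟨χ, hχ⟩ := h A J hJ ψ' hψ
  refine ⟨χ.restrictScalars R, ?_⟩
  ext x
  exact AlgHom.congr_fun hχ x

/-- Extending the base along a localization `R → R'`. -/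
theorem isAdicFormallySmooth_of_isLocalization_base {R R' S : Type u} [CommRing R]
    [CommRing R'] [CommRing S] [Algebra R R'] [Algebra R' S] [Algebra R S] [IsScalarTower R R' S]
    (M : Submonoid R) [IsLocalization M R'] (𝔫 : Ideal S)
    (h : CAlgX.IsAdicFormallySmooth R S 𝔫) : CAlgX.IsAdicFormallySmooth R' S 𝔫 := by
  intro A _ _ J hJ ψ hψ
  letI : Algebra R A := ((algebraMap R' A).comp (algebraMap R R')).toAlgebra
  haveI : IsScalarTower R R' A := IsScalarTower.of_algebraMap_eq' rfl
  obtain ⟨χ, hχ⟩ := h A J hJ (ψ.restrictScalars R) hψ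
  have hcomm : (χ.toRingHom.comp (algebraMap R' S)) = algebraMap R' A := by
    apply IsLocalization.ringHom_ext M
    ext r
    simp only [RingHom.comp_apply]
    rw [← IsScalarTower.algebraMap_apply R R' S, ← IsScalarTower.algebraMap_apply R R' A]
    exact χ.commutes r
  refine ⟨{ χ.toRingHom with commutes' := fun r' => RingHom.congr_fun hcomm r' }, ?_⟩
  ext x
  exact AlgHom.congr_fun hχ x

end Groth.Agent.Lib.helper17.AdicFSLoc
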