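import Mathlib
import Groth.Prelude.Def_ArtFun2
import Groth.Agent.S12710
import Groth.Agent.S12727
import Groth.Agent.S12707

/-!
# The "sum" map `B ×_k k[ε] → B` of a small extension (helper17)

For a small extension `μ : B → A` with kernel `(t)`, the fibre product `Q = B ×_k k[ε]` carries a second
map `σ : Q → B`, `(b, res b + cε) ↦ b + c̃ t`, and `(q₁, σ)` identifies `Q` with `B ×_A B`.
-/

set_option autoImplicit false
universe u v
open CategoryTheory ArtFun ArtFun.Art

namespace Groth.Agent.Lib.helper17.ArtAct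

variable {Λ : Type u} {k : Type u} [CommRing Λ] [Field k] [Algebra Λ k]

section Tau

variable {B : Art Λ k}

/-- `c ↦ c̃ t` for a lift `c̃` of `c`. -/
noncomputable def tau (t : B) (c : k) : B := Function.surjInv B.res_surjective c * t

lemma tau_res (t : B) (ht : ∀ x ∈ IsLocalRing.maximalIdeal B, x * t = 0) (x : B) :
    tau t (B.res x) = x * t := by
  unfold tau
  have h1 : B.res (Function.surjInv B.res_surjective (B.res x)) = B.res x :=
    Function.surjInv_eq B.res_surjective _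
  have h2 : Function.surjInv B.res_surjective (B.res x) - x ∈ IsLocalRing.maximalIdeal B := by
    rw [Art.mem_maximalIdeal_iff, map_sub, h1, sub_self]
  have h3 := ht _ h2
  rw [sub_mul, sub_eq_zero] at h3
  exact h3

lemma tau_zero (t : B) (ht : ∀ x ∈ IsLocalRing.maximalIdeal B, x * t = 0) : tau t (0 : k) = 0 := by
  have := tau_res t ht 0
  rwa [map_zero, zero_mul] at this

lemma tau_add (t : B) (ht : ∀ x ∈ IsLocalRing.maximalIdeal B, x * t = 0) (c d : k) :
    tau t (c + d) = tau t c + tau t d := by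
  obtain ⟨x, rfl⟩ := B.res_surjective c
  obtain ⟨y, rfl⟩ := B.res_surjective d
  rw [← map_add, tau_res t ht, tau_res t ht, tau_res t ht, add_mul]

lemma mul_tau (t : B) (ht : ∀ x ∈ IsLocalRing.maximalIdeal B, x * t = 0) (b : B) (c : k) :
    b * tau t c = tau t (B.res b * c) := by
  obtain ⟨x, rfl⟩ := B.res_surjective c
  rw [← map_mul, tau_res t ht, tau_res t ht, mul_assoc]

lemma tau_mul_tau (t : B) (ht : ∀ x ∈ IsLocalRing.maximalIdeal B, x * t = 0)
    (htm : t ∈ IsLocalRing.maximalIdeal B) (c d : k) : tau t c * tau t d = 0 := by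
  obtain ⟨x, rfl⟩ := B.res_surjective c
  obtain ⟨y, rfl⟩ := B.res_surjective d
  rw [tau_res t ht, tau_res t ht]
  have : t * t = 0 := ht t htm
  calc x * t * (y * t) = x * y * (t * t) := by ring
    _ = 0 := by rw [this, mul_zero]

lemma res_tau (t : B) (ht : ∀ x ∈ IsLocalRing.maximalIdeal B, x * t = 0)
    (htm : t ∈ IsLocalRing.maximalIdeal B) (c : k) : B.res (tau t c) = 0 := by
  obtain ⟨x, rfl⟩ := B.res_surjective c
  rw [tau_res t ht, map_mul, (Art.mem_maximalIdeal_iff B t).1 htm, mul_zero]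

lemma tau_eq_zero_iff (t : B) (ht : ∀ x ∈ IsLocalRing.maximalIdeal B, x * t = 0) (ht0 : t ≠ 0)
    (c : k) : tau t c = 0 ↔ c = 0 := by
  constructor
  · intro h
    by_contra hc
    obtain ⟨x, rfl⟩ := B.res_surjective c
    rw [tau_res t ht] at h
    have hx : IsUnit x := by
      by_contra hx
      exact hc ((Art.mem_maximalIdeal_iff B x).1 ((IsLocalRing.mem_maximalIdeal x).2 hx))
    exact ht0 ((hx.mul_right_eq_zero).1 h)
  · rintro rfl
    exact tau_zero t ht

end Tau

section Sigma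

variable {Q B : Art Λ k}

/-- the `ε`-coefficient of an element of `k[ε]` -/
def dsnd (x : dual Λ k) : k := TrivSqZeroExt.snd (show TrivSqZeroExt k k from x)
/-- the constant coefficient of an element of `k[ε]` -/
def dfst (x : dual Λ k) : k := TrivSqZeroExt.fst (show TrivSqZeroExt k k from x)

lemma dsnd_one : dsnd (1 : dual Λ k) = 0 := TrivSqZeroExt.snd_one (R := k) (M := k)
lemma dsnd_zero : dsnd (0 : dual Λ k) = 0 := TrivSqZeroExt.snd_zero (R := k) (M := k)
lemma dsnd_add (x y : dual Λ k) : dsnd (x + y) = dsnd x + dsnd y :=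
  TrivSqZeroExt.snd_add (R := k) (M := k) _ _
lemma dsnd_mul (x y : dual Λ k) : dsnd (x * y) = dfst x * dsnd y + dsnd x * dfst y := by
  have := TrivSqZeroExt.snd_mul (R := k) (M := k) (show TrivSqZeroExt k k from x)
    (show TrivSqZeroExt k k from y)
  simp only [smul_eq_mul, MulOpposite.smul_eq_mul_unop, MulOpposite.unop_op] at this
  exact this
lemma dsnd_algebraMap (r : Λ) : dsnd (algebraMap Λ (dual Λ k) r) = 0 := by
  change TrivSqZeroExt.snd (algebraMap Λ (TrivSqZeroExt k k) r) = (0 : k)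
  rw [TrivSqZeroExt.algebraMap_eq_inl', TrivSqZeroExt.snd_inl]
lemma dual_res_apply (x : dual Λ k) : (dual Λ k).res x = dfst x := rfl
lemma dual_ext {x y : dual Λ k} (h1 : dfst x = dfst y) (h2 : dsnd x = dsnd y) : x = y :=
  TrivSqZeroExt.ext (R := k) (M := k) h1 h2

lemma dfst_eq_res (q2 : Q ⟶ dual Λ k) (z : Q) : dfst (q2 z) = Q.res z := by
  have := Art.res_app q2 z
  exact this

/-- The sum map `σ : Q → B`. -/
noncomputable def sigma (q1 : Q ⟶ B) (q2 : Q ⟶ dual Λ k) (t : B)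
    (ht : ∀ x ∈ IsLocalRing.maximalIdeal B, x * t = 0) (htm : t ∈ IsLocalRing.maximalIdeal B) :
    Q ⟶ B :=
  ⟨{ toFun := fun z => q1 z + tau t (dsnd (q2 z))
     map_one' := by
       show q1.toAlgHom 1 + tau t (dsnd (q2.toAlgHom 1)) = 1
       rw [map_one, map_one, dsnd_one, tau_zero t ht, add_zero]
     map_mul' := fun z z' => by
       show q1.toAlgHom (z * z') + tau t (dsnd (q2.toAlgHom (z * z'))) =
         (q1.toAlgHom z + tau t (dsnd (q2.toAlgHom z))) *
           (q1.toAlgHom z' + tau t (dsnd (q2.toAlgHom z')))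
       have e1 : dfst (q2.toAlgHom z) = B.res (q1.toAlgHom z) := by
         rw [Art.res_app q1 z]; exact dfst_eq_res q2 z
       have e2 : dfst (q2.toAlgHom z') = B.res (q1.toAlgHom z') := by
         rw [Art.res_app q1 z']; exact dfst_eq_res q2 z'
       rw [map_mul, map_mul, dsnd_mul, tau_add t ht, e1, e2]
       rw [add_mul, mul_add, mul_add, tau_mul_tau t ht htm, mul_tau t ht,
         mul_comm (tau t _) (q1.toAlgHom z'), mul_tau t ht]
       rw [mul_comm (dsnd (q2.toAlgHom z)) (B.res (q1.toAlgHom z'))]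
       ring
     map_zero' := by
       show q1.toAlgHom 0 + tau t (dsnd (q2.toAlgHom 0)) = 0
       rw [map_zero, map_zero, dsnd_zero, tau_zero t ht, add_zero]
     map_add' := fun z z' => by
       show q1.toAlgHom (z + z') + tau t (dsnd (q2.toAlgHom (z + z'))) =
         (q1.toAlgHom z + tau t (dsnd (q2.toAlgHom z))) +
           (q1.toAlgHom z' + tau t (dsnd (q2.toAlgHom z')))
       rw [map_add, map_add, dsnd_add, tau_add t ht]
       ring
     commutes' := fun r => by
       show q1.toAlgHom (algebraMap Λ Q r) +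
         tau t (dsnd (q2.toAlgHom (algebraMap Λ Q r))) = algebraMap Λ B r
       rw [AlgHom.commutes, AlgHom.commutes, dsnd_algebraMap, tau_zero t ht, add_zero] },
   by
     apply AlgHom.ext
     intro z
     show B.res (q1.toAlgHom z + tau t (dsnd (q2.toAlgHom z))) = Q.res z
     rw [map_add, res_tau t ht htm, add_zero]
     exact Art.res_app q1 z⟩

lemma sigma_apply (q1 : Q ⟶ B) (q2 : Q ⟶ dual Λ k) (t : B)
    (ht : ∀ x ∈ IsLocalRing.maximalIdeal B, x * t = 0) (htm : t ∈ IsLocalRing.maximalIdeal B)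
    (z : Q) : sigma q1 q2 t ht htm z = q1 z + tau t (dsnd (q2 z)) := rfl

end Sigma

section FibreSigma

variable {Q B A : Art Λ k}

lemma map_tau (μ : B ⟶ A) (t : B) (ht : ∀ x ∈ IsLocalRing.maximalIdeal B, x * t = 0)
    (hμt : μ t = 0) (c : k) : μ (tau t c) = 0 := by
  obtain ⟨x, rfl⟩ := B.res_surjective c
  rw [tau_res t ht]
  show μ.toAlgHom (x * t) = 0
  rw [map_mul]
  show μ x * μ t = 0
  rw [hμt, mul_zero]

lemma tau_injective (t : B) (ht : ∀ x ∈ IsLocalRing.maximalIdeal B, x * t = 0) (ht0 : t ≠ 0)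
    {c d : k} (h : tau t c = tau t d) : c = d := by
  have h1 : tau t c = tau t (c - d) + tau t d := by rw [← tau_add t ht, sub_add_cancel]
  rw [h] at h1
  have h2 : tau t (c - d) = 0 := by
    have h3 : tau t (c - d) + tau t d = 0 + tau t d := by rw [zero_add]; exact h1.symm
    exact add_right_cancel h3
  exact sub_eq_zero.1 ((tau_eq_zero_iff t ht ht0 _).1 h2)

theorem isFibreProd_sigma (μ : B ⟶ A) (t : B) (ht0 : t ≠ 0)
    (hker : RingHom.ker μ.toAlgHom = Ideal.span {t})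
    (ht : ∀ x ∈ IsLocalRing.maximalIdeal B, x * t = 0) (htm : t ∈ IsLocalRing.maximalIdeal B)
    (q1 : Q ⟶ B) (q2 : Q ⟶ dual Λ k) (hQ : IsFibreProd q1 q2 (toBase B) (toBase (dual Λ k))) :
    IsFibreProd q1 (sigma q1 q2 t ht htm) μ μ where
  w := by
    have hμt : μ t = 0 := by
      have : t ∈ RingHom.ker μ.toAlgHom := by rw [hker]; exact Ideal.mem_span_singleton_self t
      exact this
    apply Art.hom_ext
    apply AlgHom.ext
    intro z
    show μ (q1 z) = μ.toAlgHom (sigma q1 q2 t ht htm z)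
    rw [sigma_apply, map_add]
    show μ (q1 z) = μ (q1 z) + μ (tau t _)
    rw [map_tau μ t ht hμt, add_zero]
  inj := by
    intro b₁ b₂ h1 h2
    rw [sigma_apply, sigma_apply, h1] at h2
    have h3 := tau_injective t ht ht0 (add_left_cancel h2)
    apply hQ.inj _ _ h1
    apply dual_ext
    · rw [dfst_eq_res, dfst_eq_res, ← Art.res_app q1 b₁, ← Art.res_app q1 b₂, h1]
    · exact h3
  surj := by
    intro b b' hbb'
    have hmem : b' - b ∈ RingHom.ker μ.toAlgHom := by
      rw [RingHom.mem_ker, map_sub]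
      show μ b' - μ b = 0
      rw [hbb', sub_self]
    rw [hker, Ideal.mem_span_singleton'] at hmem
    obtain ⟨x, hx⟩ := hmem
    let d : dual Λ k := ((B.res b, B.res x) : TrivSqZeroExt k k)
    have hd1 : dfst d = B.res b := rfl
    have hd2 : dsnd d = B.res x := rfl
    obtain ⟨q, hq1, hq2⟩ := hQ.surj b d (by
      show B.res b = (dual Λ k).res d
      rw [dual_res_apply, hd1])
    refine ⟨q, hq1, ?_⟩
    rw [sigma_apply, hq1, hq2, hd2, tau_res t ht, hx]
    ring

theorem exists_sigma [IsNoetherianRing Λ] [Module.Finite Λ k] (μ : B ⟶ A) (hμ : IsSmallExt μ) :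
    ∃ (Q : Art Λ k) (q1 : Q ⟶ B) (q2 : Q ⟶ dual Λ k) (σ : Q ⟶ B) (s : B ⟶ Q),
      IsFibreProd q1 q2 (toBase B) (toBase (dual Λ k)) ∧ IsFibreProd q1 σ μ μ ∧
      s ≫ q1 = 𝟙 B ∧ s ≫ σ = 𝟙 B ∧ s ≫ q2 = toBase B ≫ baseToDual := by
  obtain ⟨hsurj, hne, hprin, hm⟩ := hμ
  obtain ⟨t, htgen⟩ := hprin
  have hker : RingHom.ker μ.toAlgHom = Ideal.span {t} := htgen
  have htker : t ∈ RingHom.ker μ.toAlgHom := by rw [hker]; exact Ideal.mem_span_singleton_self t
  have ht0 : t ≠ 0 := by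
    rintro rfl
    apply hne
    rw [hker]
    simp
  have ht : ∀ x ∈ IsLocalRing.maximalIdeal B, x * t = 0 := by
    intro x hx
    have : x * t ∈ IsLocalRing.maximalIdeal B * RingHom.ker μ.toAlgHom := Ideal.mul_mem_mul hx htker
    rw [hm] at this
    exact this
  have htm : t ∈ IsLocalRing.maximalIdeal B := by
    rw [Art.mem_maximalIdeal_iff, ← Art.res_app μ t]
    have : μ t = 0 := htker
    rw [this, map_zero]
  obtain ⟨Q, q1, q2, hQ⟩ := Groth.Agent.S12710.result (toBase B) (toBase (dual Λ k))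
    (dual Λ k).res_surjective
  obtain ⟨s, hs1, hs2⟩ := Groth.Agent.S12727.exists_lift_hom hQ (𝟙 B) (toBase B ≫ baseToDual)
    (by rw [eq_toBase (𝟙 B ≫ toBase B), eq_toBase ((toBase B ≫ baseToDual) ≫ toBase (dual Λ k))])
  refine ⟨Q, q1, q2, sigma q1 q2 t ht htm, s, hQ,
    isFibreProd_sigma μ t ht0 hker ht htm q1 q2 hQ, hs1, ?_, hs2⟩
  apply Art.hom_ext
  apply AlgHom.ext
  intro b
  show sigma q1 q2 t ht htm (s b) = b
  rw [sigma_apply]
  have e1 : q1 (s b) = b := by
    have := congrArg (fun f : B ⟶ B => f b) hs1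
    exact this
  have e2 : q2 (s b) = (baseToDual : base Λ k ⟶ dual Λ k) (toBase B b) := by
    have := congrArg (fun f : B ⟶ dual Λ k => f b) hs2
    exact this
  rw [e1, e2]
  have e3 : dsnd ((baseToDual : base Λ k ⟶ dual Λ k) (toBase B b)) = 0 := by
    show TrivSqZeroExt.snd (algebraMap k (DualNumber k) (B.res b)) = (0 : k)
    rw [TrivSqZeroExt.algebraMap_eq_inl, TrivSqZeroExt.snd_inl]
  rw [e3, tau_zero t ht, add_zero]

end FibreSigma

section Functor

variable (F : Art Λ k ⥤ Type v)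

lemma map_comp_apply {A B C : Art Λ k} (f : A ⟶ B) (g : B ⟶ C) (x : F.obj A) :
    F.map (f ≫ g) x = F.map g (F.map f x) := by
  rw [F.map_comp]; rfl

lemma map_id_apply {A : Art Λ k} (x : F.obj A) : F.map (𝟙 A) x = x :=
  by rw [F.map_id]; rfl

variable {F}

theorem exists_of_cmp_surjective {B A A' A'' : Art Λ k} {p' : B ⟶ A'} {p'' : B ⟶ A''}
    {f' : A' ⟶ A} {f'' : A'' ⟶ A} (h : IsFibreProd p' p'' f' f'')
    (hs : Function.Surjective (cmp F h)) (y' : F.obj A') (y'' : F.obj A'')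
    (hy : F.map f' y' = F.map f'' y'') : ∃ z : F.obj B, F.map p' z = y' ∧ F.map p'' z = y'' := by
  obtain ⟨z, hz⟩ := hs ⟨(y', y''), hy⟩
  exact ⟨z, congrArg (fun w => w.1.1) hz, congrArg (fun w => w.1.2) hz⟩

theorem eq_of_cmp_injective {B A A' A'' : Art Λ k} {p' : B ⟶ A'} {p'' : B ⟶ A''}
    {f' : A' ⟶ A} {f'' : A'' ⟶ A} (h : IsFibreProd p' p'' f' f'')
    (hi : Function.Injective (cmp F h)) (z₁ z₂ : F.obj B) (h1 : F.map p' z₁ = F.map p' z₂)
    (h2 : F.map p'' z₁ = F.map p'' z₂) : z₁ = z₂ :=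
  hi (FibProd.ext h1 h2)

theorem cmp_surjective_of_exists {B A A' A'' : Art Λ k} {p' : B ⟶ A'} {p'' : B ⟶ A''}
    {f' : A' ⟶ A} {f'' : A'' ⟶ A} (h : IsFibreProd p' p'' f' f'')
    (hs : ∀ (y' : F.obj A') (y'' : F.obj A''), F.map f' y' = F.map f'' y'' →
      ∃ z : F.obj B, F.map p' z = y' ∧ F.map p'' z = y'') : Function.Surjective (cmp F h) := by
  rintro ⟨⟨y', y''⟩, hy⟩
  obtain ⟨z, h1, h2⟩ := hs y' y'' hy
  exact ⟨z, FibProd.ext h1 h2⟩

theorem cmp_injective_of_forall {B A A' A'' : Art Λ k} {p' : B ⟶ A'} {p'' : B ⟶ A''}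
    {f' : A' ⟶ A} {f'' : A'' ⟶ A} (h : IsFibreProd p' p'' f' f'')
    (hi : ∀ z₁ z₂ : F.obj B, F.map p' z₁ = F.map p' z₂ → F.map p'' z₁ = F.map p'' z₂ → z₁ = z₂) :
    Function.Injective (cmp F h) := by
  intro z₁ z₂ hz
  exact hi z₁ z₂ (congrArg (fun w => w.1.1) hz) (congrArg (fun w => w.1.2) hz)

end Functor

section HomSetLemmas

variable {R : Type u} [CommRing R] [Algebra Λ R] {resR : R →ₐ[Λ] k}

lemma homSet_map_comp {A B C : Art Λ k} (f : A ⟶ B) (g : B ⟶ C) (φ : HomSet R resR A) :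
    HomSet.map (f ≫ g) φ = HomSet.map g (HomSet.map f φ) :=
  Subtype.ext (AlgHom.ext fun _ => rfl)

lemma homSet_map_id {A : Art Λ k} (φ : HomSet R resR A) : HomSet.map (𝟙 A) φ = φ :=
  Subtype.ext (AlgHom.ext fun _ => rfl)

instance homSet_base_subsingleton : Subsingleton (HomSet R resR (base Λ k)) := by
  constructor
  intro a b
  apply Subtype.ext
  have ha := a.2
  have hb := b.2
  apply AlgHom.ext
  intro x
  have h1 : a.1 x = resR x := congrArg (fun f : R →ₐ[Λ] k => f x) ha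
  have h2 : b.1 x = resR x := congrArg (fun f : R →ₐ[Λ] k => f x) hb
  exact h1.trans h2.symm

lemma family_natural' {F : Art Λ k ⥤ Type v} (ξ : Family R resR F) {A B : Art Λ k} (f : A ⟶ B)
    (φ : HomSet R resR A) : F.map f (ξ.app A φ) = ξ.app B (HomSet.map f φ) := (ξ.natural f φ).symm

end HomSetLemmas

section Natural

variable {Q B A : Art Λ k}

/-- generator data of a small extension -/
theorem exists_gen (μ : B ⟶ A) (hμ : IsSmallExt μ) :
    ∃ t : B, t ≠ 0 ∧ RingHom.ker μ.toAlgHom = Ideal.span {t} ∧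
      (∀ x ∈ IsLocalRing.maximalIdeal B, x * t = 0) ∧ t ∈ IsLocalRing.maximalIdeal B := by
  obtain ⟨hsurj, hne, hprin, hm⟩ := hμ
  obtain ⟨t, htgen⟩ := hprin
  have hker : RingHom.ker μ.toAlgHom = Ideal.span {t} := htgen
  have htker : t ∈ RingHom.ker μ.toAlgHom := by rw [hker]; exact Ideal.mem_span_singleton_self t
  have ht0 : t ≠ 0 := by
    rintro rfl
    apply hne
    rw [hker]
    simp
  have ht : ∀ x ∈ IsLocalRing.maximalIdeal B, x * t = 0 := by
    intro x hx
    have : x * t ∈ IsLocalRing.maximalIdeal B * RingHom.ker μ.toAlgHom := Ideal.mul_mem_mul hx htker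
    rw [hm] at this
    exact this
  have htm : t ∈ IsLocalRing.maximalIdeal B := by
    rw [Art.mem_maximalIdeal_iff, ← Art.res_app μ t]
    have : μ t = 0 := htker
    rw [this, map_zero]
  exact ⟨t, ht0, hker, ht, htm⟩

theorem exists_sigma_t [IsNoetherianRing Λ] [Module.Finite Λ k] (μ : B ⟶ A) (t : B) (ht0 : t ≠ 0)
    (hker : RingHom.ker μ.toAlgHom = Ideal.span {t})
    (ht : ∀ x ∈ IsLocalRing.maximalIdeal B, x * t = 0) (htm : t ∈ IsLocalRing.maximalIdeal B) :
    ∃ (Q : Art Λ k) (q1 : Q ⟶ B) (q2 : Q ⟶ dual Λ k) (s : B ⟶ Q),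
      IsFibreProd q1 q2 (toBase B) (toBase (dual Λ k)) ∧
      IsFibreProd q1 (sigma q1 q2 t ht htm) μ μ ∧
      s ≫ q1 = 𝟙 B ∧ s ≫ sigma q1 q2 t ht htm = 𝟙 B ∧ s ≫ q2 = toBase B ≫ baseToDual := by
  obtain ⟨Q, q1, q2, hQ⟩ := Groth.Agent.S12710.result (toBase B) (toBase (dual Λ k))
    (dual Λ k).res_surjective
  obtain ⟨s, hs1, hs2⟩ := Groth.Agent.S12727.exists_lift_hom hQ (𝟙 B) (toBase B ≫ baseToDual)
    (by rw [eq_toBase (𝟙 B ≫ toBase B), eq_toBase ((toBase B ≫ baseToDual) ≫ toBase (dual Λ k))])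
  refine ⟨Q, q1, q2, s, hQ, isFibreProd_sigma μ t ht0 hker ht htm q1 q2 hQ, hs1, ?_, hs2⟩
  apply Art.hom_ext
  apply AlgHom.ext
  intro b
  show sigma q1 q2 t ht htm (s b) = b
  rw [sigma_apply]
  have e1 : q1 (s b) = b := by
    have := congrArg (fun f : B ⟶ B => f b) hs1
    exact this
  have e2 : q2 (s b) = (baseToDual : base Λ k ⟶ dual Λ k) (toBase B b) := by
    have := congrArg (fun f : B ⟶ dual Λ k => f b) hs2
    exact this
  rw [e1, e2]
  have e3 : dsnd ((baseToDual : base Λ k ⟶ dual Λ k) (toBase B b)) = 0 := by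
    show TrivSqZeroExt.snd (algebraMap k (DualNumber k) (B.res b)) = (0 : k)
    rw [TrivSqZeroExt.algebraMap_eq_inl, TrivSqZeroExt.snd_inl]
  rw [e3, tau_zero t ht, add_zero]

theorem sigma_natural {Q' B' : Art Λ k} (q1 : Q ⟶ B) (q2 : Q ⟶ dual Λ k) (t : B)
    (ht : ∀ x ∈ IsLocalRing.maximalIdeal B, x * t = 0) (htm : t ∈ IsLocalRing.maximalIdeal B)
    (q1' : Q' ⟶ B') (q2' : Q' ⟶ dual Λ k) (t' : B')
    (ht' : ∀ x ∈ IsLocalRing.maximalIdeal B', x * t' = 0) (htm' : t' ∈ IsLocalRing.maximalIdeal B')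
    (g : B ⟶ B') (P : Q ⟶ Q') (h1 : P ≫ q1' = q1 ≫ g) (h2 : P ≫ q2' = q2) (hg : g t = t') :
    P ≫ sigma q1' q2' t' ht' htm' = sigma q1 q2 t ht htm ≫ g := by
  apply Art.hom_ext
  apply AlgHom.ext
  intro z
  show sigma q1' q2' t' ht' htm' (P z) = g.toAlgHom (sigma q1 q2 t ht htm z)
  rw [sigma_apply, sigma_apply, map_add]
  have e1 : q1' (P z) = g (q1 z) := by
    have := congrArg (fun f : Q ⟶ B' => f z) h1
    exact this
  have e2 : q2' (P z) = q2 z := by
    have := congrArg (fun f : Q ⟶ dual Λ k => f z) h2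
    exact this
  rw [e1, e2]
  congr 1
  obtain ⟨x, hx⟩ := B.res_surjective (dsnd (q2 z))
  rw [← hx, tau_res t ht]
  show _ = g.toAlgHom (x * t)
  rw [map_mul]
  show _ = g x * g t
  rw [hg, ← tau_res t' ht', Art.res_app g x]

end Natural

theorem isSmallExt_of_gen {B A : Art Λ k} (μ : B ⟶ A) (hsurj : Function.Surjective μ) (t : B)
    (ht0 : t ≠ 0) (hker : RingHom.ker μ.toAlgHom = Ideal.span {t})
    (ht : ∀ x ∈ IsLocalRing.maximalIdeal B, x * t = 0) : IsSmallExt μ := by
  refine ⟨hsurj, ?_, ⟨t, hker⟩, ?_⟩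
  · rw [hker]
    intro hbot
    apply ht0
    have : t ∈ Ideal.span {t} := Ideal.mem_span_singleton_self t
    rw [hbot] at this
    exact this
  · rw [hker, eq_bot_iff, Ideal.mul_le]
    intro x hx y hy
    rw [Ideal.mem_span_singleton'] at hy
    obtain ⟨a, rfl⟩ := hy
    rw [Ideal.mem_bot]
    calc x * (a * t) = a * (x * t) := by ring
      _ = 0 := by rw [ht x hx, mul_zero]

/-- `ε ∈ k[ε]` -/
def deps : dual Λ k := ((0, 1) : TrivSqZeroExt k k)

theorem isSmallExt_toBase_dual : IsSmallExt (toBase (dual Λ k)) := by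
  have hmul : ∀ x : dual Λ k, x * (deps : dual Λ k) = ((0, dfst x) : TrivSqZeroExt k k) := by
    intro x
    apply dual_ext
    · show dfst (x * deps) = 0
      have : dfst (x * (deps : dual Λ k)) = dfst x * dfst (deps : dual Λ k) :=
        TrivSqZeroExt.fst_mul (R := k) (M := k) _ _
      rw [this]
      show dfst x * 0 = 0
      rw [mul_zero]
    · rw [dsnd_mul]
      show dfst x * 1 + dsnd x * 0 = dfst x
      rw [mul_one, mul_zero, add_zero]
  refine isSmallExt_of_gen (toBase (dual Λ k)) (dual Λ k).res_surjective deps ?_ ?_ ?_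
  · intro h
    have := congrArg dsnd h
    exact one_ne_zero this
  · apply le_antisymm
    · intro x hx
      have hx' : dfst x = 0 := hx
      rw [Ideal.mem_span_singleton']
      let c : dual Λ k := ((dsnd x, 0) : TrivSqZeroExt k k)
      refine ⟨c, ?_⟩
      rw [hmul c]
      exact dual_ext hx'.symm rfl
    · rw [Ideal.span_singleton_le_iff_mem]
      show dfst (deps : dual Λ k) = 0
      rfl
  · intro x hx
    rw [Art.mem_maximalIdeal_iff] at hx
    have hx' : dfst x = 0 := hx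
    rw [hmul, hx']
    rfl

end Groth.Agent.Lib.helper17.ArtAct
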