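import Mathlib
import Groth.Agent.Lib.Helper17.SmoothArtin

/-!
# Flat formally smooth maps of Artinian local rings preserve length
-/

set_option autoImplicit false
set_option linter.style.haveILetI false
universe u v

namespace Groth.Agent.Lib.helper17.ArtinLength

/-- Let `A → B` be a flat, formally smooth homomorphism of Artinian local rings. Then
`length_A A = length_B B`. -/
theorem length_eq_of_flat_formallySmooth_artinian (A : Type u) (B : Type v) [CommRing A] [CommRing B]
    [IsLocalRing A] [IsLocalRing B] [IsArtinianRing A] [IsArtinianRing B] [Algebra A B]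
    [Module.Flat A B] [Algebra.FormallySmooth A B] :
    Module.length A A = Module.length B B := by
  classical
  -- the structure map is local
  have hnilA : IsNilpotent (IsLocalRing.maximalIdeal A) := by
    have h1 := IsLocalRing.jacobson_eq_maximalIdeal (R := A) ⊥ bot_ne_top
    rw [← h1]
    exact IsArtinianRing.isNilpotent_jacobson_bot
  haveI : IsLocalHom (algebraMap A B) := by
    constructor
    intro a ha
    by_contra hna
    have hm : a ∈ IsLocalRing.maximalIdeal A := (IsLocalRing.mem_maximalIdeal a).mpr hna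
    obtain ⟨n, hn⟩ := hnilA
    have : a ^ n = 0 := by
      have : a ^ n ∈ IsLocalRing.maximalIdeal A ^ n := Ideal.pow_mem_pow hm n
      rwa [hn] at this
    have h0 : (algebraMap A B a) ^ n = 0 := by rw [← map_pow, this, map_zero]
    exact not_isUnit_zero (h0 ▸ ha.pow n)
  have hmR : (IsLocalRing.maximalIdeal A).map (algebraMap A B) ≤ IsLocalRing.maximalIdeal B :=
    ((IsLocalRing.local_hom_TFAE (algebraMap A B)).out 0 2 rfl rfl).mp ‹_›
  let e : (IsLocalRing.maximalIdeal A).Fiber B ≃ₐ[A] B ⧸ (IsLocalRing.maximalIdeal A).map (algebraMap A B) :=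
    (Algebra.TensorProduct.congr (.symm <| .ofBijective _
      (Ideal.bijective_algebraMap_quotient_residueField (IsLocalRing.maximalIdeal A))) .refl).trans <|
    (Algebra.TensorProduct.comm _ _ _).trans
    ((Algebra.TensorProduct.quotIdealMapEquivTensorQuot B (IsLocalRing.maximalIdeal A)).symm.restrictScalars _)
  haveI : Nontrivial (B ⧸ (IsLocalRing.maximalIdeal A).map (algebraMap A B)) :=
    Ideal.Quotient.nontrivial_iff.mpr <|
      ne_top_of_le_ne_top (IsLocalRing.maximalIdeal.isMaximal B).ne_top hmR
  haveI : IsLocalRing (B ⧸ (IsLocalRing.maximalIdeal A).map (algebraMap A B)) :=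
    .of_surjective' _ Ideal.Quotient.mk_surjective
  haveI : IsLocalRing ((IsLocalRing.maximalIdeal A).Fiber B) := e.symm.toRingEquiv.isLocalRing
  haveI : IsArtinianRing ((IsLocalRing.maximalIdeal A).Fiber B) :=
    RingEquiv.isArtinianRing e.symm.toRingEquiv
  have hnil : IsNilpotent (IsLocalRing.maximalIdeal ((IsLocalRing.maximalIdeal A).Fiber B)) := by
    have h1 := IsLocalRing.jacobson_eq_maximalIdeal (R := (IsLocalRing.maximalIdeal A).Fiber B) ⊥ bot_ne_top
    rw [← h1]
    exact IsArtinianRing.isNilpotent_jacobson_bot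
  have hbot : IsLocalRing.maximalIdeal ((IsLocalRing.maximalIdeal A).Fiber B) = ⊥ :=
    Groth.Agent.Lib.helper17.SmoothArtin.maximalIdeal_eq_bot_of_formallySmooth
      (k' := (IsLocalRing.maximalIdeal A).ResidueField) hnil
  have hF : IsField ((IsLocalRing.maximalIdeal A).Fiber B) := IsLocalRing.isField_iff_maximalIdeal_eq.mpr hbot
  have hq : IsField (B ⧸ (IsLocalRing.maximalIdeal A).map (algebraMap A B)) := e.symm.toMulEquiv.isField hF
  have H : (IsLocalRing.maximalIdeal A).map (algebraMap A B) = IsLocalRing.maximalIdeal B :=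
    IsLocalRing.eq_maximalIdeal (Ideal.Quotient.maximal_of_isField _ hq)
  -- lengths
  have h1 := IsLocalRing.length_baseChange A B A
  rw [H] at h1
  have h2 : Module.length B (B ⧸ IsLocalRing.maximalIdeal B) = 1 := by
    rw [Module.length_eq_one_iff]
    exact isSimpleModule_iff_quot_maximal.mpr ⟨IsLocalRing.maximalIdeal B, inferInstance, ⟨LinearEquiv.refl _ _⟩⟩
  rw [h2, mul_one] at h1
  rw [← h1]
  exact (TensorProduct.AlgebraTensorModule.rid A B B).length_eq

end Groth.Agent.Lib.helper17.ArtinLength
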