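import Mathlib

/-!
# helper17: flatness over a Dedekind scheme

* `isPrincipalIdealRing_of_regular_of_dim_le_one`, `eq_zero_of_mul_eq_zero_of_notMem_minimalPrimes`
* `eq_bot_of_fromSpecStalk_eq_genericPoint`, `closure_fromSpecStalk_mem_irreducibleComponents`
* `dense_image_of_flat`: flat to an integral scheme: every irreducible component dominates.
* `flat_of_dense_image`: reduced over a Dedekind scheme with all components dominant is flat.
-/


set_option autoImplicit false
set_option linter.style.haveILetI false
universe u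

namespace Groth.Agent.Lib.helper17.DedekindFlat

open CategoryTheory AlgebraicGeometry IsLocalRing TopologicalSpace

/-- a regular local domain of dimension at most one is a principal ideal ring. -/
theorem isPrincipalIdealRing_of_regular_of_dim_le_one (A : Type u) [CommRing A] [IsDomain A]
    [IsRegularLocalRing A] (hdim : ringKrullDim A ≤ 1) : IsPrincipalIdealRing A := by
  classical
  haveI : Ring.KrullDimLE 1 A := (Ring.krullDimLE_iff).mpr hdim
  have hmprinc : (maximalIdeal A).IsPrincipal := by
    have hfg : (maximalIdeal A).FG := IsNoetherian.noetherian _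
    obtain ⟨s, hs, hspan⟩ := Submodule.FG.exists_span_finset_card_eq_spanFinrank hfg
    have h1 : ((maximalIdeal A).spanFinrank : WithBot ℕ∞) ≤ 1 := by
      rw [IsRegularLocalRing.spanFinrank_maximalIdeal]; exact hdim
    have h2 : s.card ≤ 1 := by
      rw [hs]
      exact_mod_cast h1
    rcases Nat.le_one_iff_eq_zero_or_eq_one.mp h2 with h0 | h1'
    · rw [Finset.card_eq_zero] at h0
      subst h0
      refine ⟨0, ?_⟩
      rw [← hspan]
      simp
    · obtain ⟨a, rfl⟩ := Finset.card_eq_one.mp h1'
      refine ⟨a, ?_⟩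
      rw [← hspan]
      simp
  apply IsPrincipalIdealRing.of_prime_ne_bot
  intro P hP hP0
  have hmax : P.IsMaximal := (Ring.krullDimLE_one_iff_of_isPrime_bot.mp inferInstance) P hP0 hP
  rw [IsLocalRing.eq_maximalIdeal hmax]
  exact hmprinc

/-- in a reduced ring, an element killed by something outside all minimal primes is zero. -/
theorem eq_zero_of_mul_eq_zero_of_notMem_minimalPrimes {B : Type u} [CommRing B] [IsReduced B]
    (c b : B) (hc : ∀ p ∈ minimalPrimes B, c ∉ p) (hcb : c * b = 0) : b = 0 := by
  have h1 : b ∈ sInf (minimalPrimes B) := by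
    rw [Ideal.mem_sInf]
    intro p hp
    haveI : p.IsPrime := hp.1.1
    have : c * b ∈ p := by rw [hcb]; exact p.zero_mem
    exact (Ideal.IsPrime.mem_or_mem ‹_› this).resolve_left (hc p hp)
  have h2 : sInf (minimalPrimes B) = (⊥ : Ideal B) := by
    unfold minimalPrimes
    rw [Ideal.sInf_minimalPrimes]
    exact Ideal.radical_eq_iff.mpr (by
      intro z ⟨n, hz⟩
      have hz0 : z ^ n = 0 := hz
      have : IsNilpotent z := ⟨n, hz0⟩
      exact this.eq_zero)
  rw [h2] at h1
  exact h1

/-- the only point of `Spec O_{Y,y}` mapping to the generic point of an integral scheme is the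
zero ideal. -/
theorem eq_bot_of_fromSpecStalk_eq_genericPoint {Y : Scheme.{u}} [IsIntegral Y] (y : Y)
    (q : PrimeSpectrum (Y.presheaf.stalk y))
    (hq : Y.fromSpecStalk y q = genericPoint Y) : q.asIdeal = ⊥ := by
  let q₀ : PrimeSpectrum (Y.presheaf.stalk y) := ⟨⊥, Ideal.isPrime_bot⟩
  have h1 : q₀ ⤳ q := (PrimeSpectrum.le_iff_specializes q₀ q).mp bot_le
  have h2 : Y.fromSpecStalk y q₀ ⤳ genericPoint Y := by
    rw [← hq]
    exact h1.map (Y.fromSpecStalk y).continuous
  have h3 : genericPoint Y ⤳ Y.fromSpecStalk y q₀ :=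
    (genericPoint_spec Y).specializes (by trivial)
  have h4 : Y.fromSpecStalk y q₀ = Y.fromSpecStalk y q := by
    rw [hq]
    exact (h2.antisymm h3).eq
  have h5 : q₀ = q := (Y.fromSpecStalk y).isEmbedding.injective h4
  rw [← h5]

/-- a minimal prime of `O_{X,x}` gives an irreducible component of `X`. -/
theorem closure_fromSpecStalk_mem_irreducibleComponents {X : Scheme.{u}} (x : X)
    (p : PrimeSpectrum (X.presheaf.stalk x)) (hp : p.asIdeal ∈ minimalPrimes (X.presheaf.stalk x)) :
    closure {X.fromSpecStalk x p} ∈ irreducibleComponents (X : Type u) := by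
  refine ⟨isIrreducible_singleton.closure, ?_⟩
  intro Z' hZ' hle
  have hirr : IsIrreducible (closure Z') := hZ'.closure
  obtain ⟨ξ', hξ'⟩ := QuasiSober.sober hirr isClosed_closure
  have hξ : X.fromSpecStalk x p ∈ closure Z' :=
    subset_closure (hle (subset_closure rfl))
  have h1 : ξ' ⤳ X.fromSpecStalk x p := by
    rw [specializes_iff_mem_closure, hξ'.def]
    exact hξ
  have h2 : X.fromSpecStalk x p ⤳ x := by
    have : X.fromSpecStalk x p ∈ Set.range (X.fromSpecStalk x) := ⟨p, rfl⟩
    rw [Scheme.range_fromSpecStalk] at this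
    exact this
  have h3 : ξ' ∈ Set.range (X.fromSpecStalk x) := by
    rw [Scheme.range_fromSpecStalk]
    exact h1.trans h2
  obtain ⟨p', rfl⟩ := h3
  have h4 : p' ⤳ p := (X.fromSpecStalk x).isEmbedding.isInducing.specializes_iff.mp h1
  have h5 : p'.asIdeal ≤ p.asIdeal := (PrimeSpectrum.le_iff_specializes p' p).mpr h4
  have h6 : p.asIdeal ≤ p'.asIdeal := hp.2 ⟨p'.isPrime, bot_le⟩ h5
  have h7 : p' = p := PrimeSpectrum.ext (le_antisymm h5 h6)
  rw [h7] at hξ'
  calc Z' ⊆ closure Z' := subset_closure
    _ = closure {X.fromSpecStalk x p} := hξ'.def.symm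

/-- flat morphisms send generic points of irreducible components to the generic point. -/
theorem dense_image_of_flat {X Y : Scheme.{u}} [IsIntegral Y] (f : X ⟶ Y) [Flat f]
    (Z : Set X) (hZ : Z ∈ irreducibleComponents (X : Type u)) : Dense (f.base '' Z) := by
  have hZirr : IsIrreducible Z := hZ.1
  have hZcl : IsClosed Z := isClosed_of_mem_irreducibleComponents Z hZ
  obtain ⟨ξ, hξ⟩ := QuasiSober.sober hZirr hZcl
  have hη : genericPoint Y ⤳ f.base ξ := (genericPoint_spec Y).specializes (by trivial)
  obtain ⟨ξ', hξ'ξ, hfξ'⟩ := Flat.generalizingMap (f := f) hη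
  have h1 : Z ⊆ closure {ξ'} := by
    rw [← hξ.def]
    exact closure_minimal (Set.singleton_subset_iff.mpr
      (specializes_iff_mem_closure.mp hξ'ξ)) isClosed_closure
  have h2 : closure {ξ'} ⊆ Z := hZ.2 isIrreducible_singleton.closure h1
  have h3 : ξ' ∈ Z := h2 (subset_closure rfl)
  have h4 : genericPoint Y ∈ f.base '' Z := ⟨ξ', h3, hfξ'⟩
  rw [dense_iff_closure_eq, Set.eq_univ_iff_forall]
  intro y
  have : closure {genericPoint Y} ⊆ closure (f.base '' Z) :=
    closure_mono (Set.singleton_subset_iff.mpr h4)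
  apply this
  rw [(genericPoint_spec Y).def]
  trivial

/-- `X` reduced over a Dedekind scheme `Y`, every irreducible component of `X` dominating `Y`:
then `X` is flat over `Y`. -/
theorem flat_of_dense_image {X Y : Scheme.{u}} [IsIntegral Y]
    (hreg : ∀ y : Y, IsRegularLocalRing (Y.presheaf.stalk y)) (hdim : topologicalKrullDim Y ≤ 1)
    (f : X ⟶ Y) [IsReduced X]
    (h : ∀ Z ∈ irreducibleComponents (X : Type u), Dense (f.base '' Z)) : Flat f := by
  apply Flat.of_stalkMap
  intro x
  haveI := hreg (f.base x)
  haveI : IsDomain (Y.presheaf.stalk (f.base x)) := inferInstance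
  have hdimA : ringKrullDim (Y.presheaf.stalk (f.base x)) ≤ 1 := by
    rw [← PrimeSpectrum.topologicalKrullDim_eq_ringKrullDim]
    exact ((Y.fromSpecStalk (f.base x)).isEmbedding.isInducing.topologicalKrullDim_le).trans hdim
  haveI := isPrincipalIdealRing_of_regular_of_dim_le_one _ hdimA
  haveI : IsDedekindDomain (Y.presheaf.stalk (f.base x)) := inferInstance
  letI : Algebra (Y.presheaf.stalk (f.base x)) (X.presheaf.stalk x) :=
    (f.stalkMap x).hom.toAlgebra
  show Module.Flat (Y.presheaf.stalk (f.base x)) (X.presheaf.stalk x)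
  rw [IsDedekindDomain.flat_iff_torsion_eq_bot, Submodule.eq_bot_iff]
  intro b hb
  rw [Submodule.mem_torsion_iff] at hb
  obtain ⟨⟨c, hc⟩, hcb⟩ := hb
  have hcb' : (f.stalkMap x).hom c * b = 0 := hcb
  have hc0 : c ≠ 0 := nonZeroDivisors.ne_zero hc
  haveI : _root_.IsReduced (X.presheaf.stalk x) := inferInstance
  refine eq_zero_of_mul_eq_zero_of_notMem_minimalPrimes _ b ?_ hcb'
  intro p hp hcp
  haveI : p.IsPrime := hp.1.1
  let P : PrimeSpectrum (X.presheaf.stalk x) := ⟨p, inferInstance⟩
  have hcomp := closure_fromSpecStalk_mem_irreducibleComponents x P hp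
  have hdense := h _ hcomp
  have hfξ : f.base (X.fromSpecStalk x P) = genericPoint Y := by
    have h1 : f.base '' closure {X.fromSpecStalk x P} ⊆
        closure {f.base (X.fromSpecStalk x P)} := by
      refine (image_closure_subset_closure_image f.continuous).trans ?_
      rw [Set.image_singleton]
    have h2 : closure {f.base (X.fromSpecStalk x P)} = Set.univ := by
      apply Set.eq_univ_of_univ_subset
      rw [← hdense.closure_eq]
      exact closure_minimal h1 isClosed_closure
    have h3 : IsGenericPoint (f.base (X.fromSpecStalk x P)) (⊤ : Set Y) := h2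
    exact h3.eq (genericPoint_spec Y)
  have hsq : f.base (X.fromSpecStalk x P) =
      Y.fromSpecStalk (f.base x) (Spec.map (f.stalkMap x) P) := by
    have := Scheme.SpecMap_stalkMap_fromSpecStalk (f := f) (x := x)
    have h := congrArg (fun g => g.base P) this
    simp only [Scheme.Hom.comp_base, TopCat.hom_comp, ContinuousMap.comp_apply] at h
    exact h.symm
  rw [hsq] at hfξ
  have hbot := eq_bot_of_fromSpecStalk_eq_genericPoint (f.base x) _ hfξ
  have : c ∈ (Spec.map (f.stalkMap x) P).asIdeal := hcp
  rw [hbot] at this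
  exact hc0 this

end Groth.Agent.Lib.helper17.DedekindFlat
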