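import Mathlib
import Groth.Prelude.Def_CurvBase
import Groth.Prelude.Def_Coh
import Groth.Agent.Lib.Lead.RefHull5
import Groth.Agent.Lib.Helper16.OrdGen
import Groth.Agent.Lib.Helper17.DedekindFlat

/-!
# Flatness over a Dedekind scheme via associated points (helper17)

* `isAssPoint_structureModule_iff`: `x` is an associated point of `O_X` iff `m_x ∈ Ass(O_{X,x})`.
* `isAssociatedPrime_maximalIdeal_of_fromSpecStalk`: an associated prime `P` of `O_{X,x}` gives an
  associated point (the image of `P` under `Spec O_{X,x} → X`).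
* `eq_genericPoint_of_isAssPoint_of_flat`, `flat_of_isAssPoint_imp`: `f : X ⟶ Y` with `Y` a Dedekind
  scheme, `X` locally Noetherian: `f` is flat iff all associated points of `X` map to the generic point.
-/

set_option autoImplicit false
set_option linter.style.haveILetI false
universe u
open CategoryTheory AlgebraicGeometry IsLocalRing

namespace Groth.Agent.Lib.helper17.AssFlat

open Groth.Agent.Lib.helper16

theorem isAssPoint_structureModule_iff {X : Scheme.{u}} (x : X) :
    Curv2.IsAssPoint (Coh.structureModule X) x ↔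
      IsAssociatedPrime (maximalIdeal (X.presheaf.stalk x)) (X.presheaf.stalk x) := by
  obtain ⟨e⟩ := Groth.Agent.Lib.Lead.RH.exists_stalkUnitEquiv (X := X) x
  exact e.isAssociatedPrime_iff

theorem pOf_fromSpecStalk {X : Scheme.{u}} (x : X) (P : PrimeSpectrum (X.presheaf.stalk x))
    (h : X.fromSpecStalk x P ⤳ x) : OrdGen.pOf h = P.asIdeal := by
  set ξ := X.fromSpecStalk x P with hξ
  let P' : PrimeSpectrum (X.presheaf.stalk x) := ⟨OrdGen.pOf h, inferInstance⟩
  have h1 := Scheme.SpecMap_stalkSpecializes_fromSpecStalk (X := X) h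
  have h2 := congrArg (fun g => g.base (closedPoint (X.presheaf.stalk ξ))) h1
  simp only [Scheme.Hom.comp_base, TopCat.hom_comp, ContinuousMap.comp_apply] at h2
  rw [Scheme.fromSpecStalk_closedPoint] at h2
  have h3 : Spec.map (X.presheaf.stalkSpecializes h) (closedPoint (X.presheaf.stalk ξ)) = P' := by
    apply PrimeSpectrum.ext
    ext b
    rw [OrdGen.mem_pOf_iff]
    rfl
  rw [h3] at h2
  have h4 : P' = P := (X.fromSpecStalk x).isEmbedding.injective h2
  exact congrArg PrimeSpectrum.asIdeal h4

/-- an associated prime of `O_{X,x}` gives an associated point of `X`. -/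
theorem isAssociatedPrime_maximalIdeal_of_fromSpecStalk {X : Scheme.{u}} (x : X)
    (P : PrimeSpectrum (X.presheaf.stalk x))
    (hP : IsAssociatedPrime P.asIdeal (X.presheaf.stalk x)) :
    IsAssociatedPrime (maximalIdeal (X.presheaf.stalk (X.fromSpecStalk x P)))
      (X.presheaf.stalk (X.fromSpecStalk x P)) := by
  have h : X.fromSpecStalk x P ⤳ x := by
    have : X.fromSpecStalk x P ∈ Set.range (X.fromSpecStalk x) := ⟨P, rfl⟩
    rwa [Scheme.range_fromSpecStalk] at this
  letI := (X.presheaf.stalkSpecializes h).hom.toAlgebra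
  haveI hloc := OrdGen.isLocalization_stalkSpecializes h
  have hpP := pOf_fromSpecStalk x P h
  haveI : IsLocalizedModule (OrdGen.pOf h).primeCompl
      (Algebra.linearMap (X.presheaf.stalk x) (X.presheaf.stalk (X.fromSpecStalk x P))) :=
    (isLocalizedModule_iff_isLocalization' _ _).mpr hloc
  refine Module.associatedPrimes.mem_associatedPrimes_of_comap_mem_associatedPrimes_of_isLocalizedModule
    (OrdGen.pOf h).primeCompl
    (Algebra.linearMap (X.presheaf.stalk x) (X.presheaf.stalk (X.fromSpecStalk x P)))
    (maximalIdeal (X.presheaf.stalk (X.fromSpecStalk x P))) ?_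
  have hc : (maximalIdeal (X.presheaf.stalk (X.fromSpecStalk x P))).comap
      (algebraMap (X.presheaf.stalk x) (X.presheaf.stalk (X.fromSpecStalk x P))) = P.asIdeal := by
    rw [← hpP]
    ext b
    rw [Ideal.mem_comap, OrdGen.mem_pOf_iff]
    rfl
  rw [hc]
  exact hP

/-- on an integral scheme, a point with zero maximal ideal is the generic point. -/
theorem eq_genericPoint_of_maximalIdeal_eq_bot {Y : Scheme.{u}} [IsIntegral Y] (y : Y)
    (hm : maximalIdeal (Y.presheaf.stalk y) = ⊥) : y = genericPoint Y := by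
  have hs : genericPoint Y ⤳ y := (genericPoint_spec Y).specializes (by trivial)
  have hr : genericPoint Y ∈ Set.range (Y.fromSpecStalk y) := by
    rw [Scheme.range_fromSpecStalk]; exact hs
  obtain ⟨q, hq⟩ := hr
  have hq0 : q.asIdeal = ⊥ := DedekindFlat.eq_bot_of_fromSpecStalk_eq_genericPoint y q hq
  have hqc : q = closedPoint (Y.presheaf.stalk y) := by
    apply PrimeSpectrum.ext
    change q.asIdeal = maximalIdeal _
    rw [hq0, hm]
  rw [← hq, hqc, Scheme.fromSpecStalk_closedPoint]

/-- flat morphisms to an integral scheme send associated points to the generic point. -/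
theorem eq_genericPoint_of_isAssPoint_of_flat {X Y : Scheme.{u}} (f : X ⟶ Y) [IsIntegral Y]
    [Flat f] (x : X) (hx : Curv2.IsAssPoint (Coh.structureModule X) x) :
    f.base x = genericPoint Y := by
  rw [isAssPoint_structureModule_iff] at hx
  apply eq_genericPoint_of_maximalIdeal_eq_bot
  rw [eq_bot_iff]
  intro t ht
  rw [Ideal.mem_bot]
  by_contra ht0
  obtain ⟨hprime, z, hz⟩ := hx
  letI : Algebra (Y.presheaf.stalk (f.base x)) (X.presheaf.stalk x) :=
    (f.stalkMap x).hom.toAlgebra
  haveI : Module.Flat (Y.presheaf.stalk (f.base x)) (X.presheaf.stalk x) := Flat.stalkMap f x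
  haveI : IsDomain (Y.presheaf.stalk (f.base x)) := inferInstance
  have htm : (f.stalkMap x).hom t ∈ maximalIdeal (X.presheaf.stalk x) :=
    ((IsLocalRing.local_hom_TFAE (f.stalkMap x).hom).out 0 2 rfl rfl).mp inferInstance
      (Ideal.mem_map_of_mem _ ht)
  rw [hz] at htm
  obtain ⟨n, hn⟩ := htm
  rw [Submodule.mem_colon_singleton, Submodule.mem_bot, ← map_pow] at hn
  have htn : t ^ n ∈ nonZeroDivisors (Y.presheaf.stalk (f.base x)) :=
    mem_nonZeroDivisors_of_ne_zero (pow_ne_zero n ht0)
  have hreg : IsSMulRegular (X.presheaf.stalk x) (t ^ n) :=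
    Module.Flat.isSMulRegular_of_nonZeroDivisors htn
  have hz0 : z = 0 := by
    apply hreg
    show t ^ n • z = t ^ n • 0
    rw [smul_zero]
    exact hn
  apply hprime.ne_top
  rw [hz, hz0]
  simp

/-- `Y` a Dedekind scheme, `X` locally Noetherian: if all associated points of `X` map to the generic
point of `Y` then `f` is flat. -/
theorem flat_of_isAssPoint_imp {X Y : Scheme.{u}} (f : X ⟶ Y) [IsIntegral Y]
    (hreg : ∀ y : Y, IsRegularLocalRing (Y.presheaf.stalk y)) (hdim : topologicalKrullDim Y ≤ 1)
    [IsLocallyNoetherian X]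
    (h : ∀ x : X, Curv2.IsAssPoint (Coh.structureModule X) x → f.base x = genericPoint Y) :
    Flat f := by
  apply Flat.of_stalkMap
  intro x
  haveI := hreg (f.base x)
  haveI : IsDomain (Y.presheaf.stalk (f.base x)) := inferInstance
  have hdimA : ringKrullDim (Y.presheaf.stalk (f.base x)) ≤ 1 := by
    rw [← PrimeSpectrum.topologicalKrullDim_eq_ringKrullDim]
    exact ((Y.fromSpecStalk (f.base x)).isEmbedding.isInducing.topologicalKrullDim_le).trans hdim
  haveI := DedekindFlat.isPrincipalIdealRing_of_regular_of_dim_le_one _ hdimA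
  haveI : IsDedekindDomain (Y.presheaf.stalk (f.base x)) := inferInstance
  letI : Algebra (Y.presheaf.stalk (f.base x)) (X.presheaf.stalk x) :=
    (f.stalkMap x).hom.toAlgebra
  show Module.Flat (Y.presheaf.stalk (f.base x)) (X.presheaf.stalk x)
  rw [IsDedekindDomain.flat_iff_torsion_eq_bot, Submodule.eq_bot_iff]
  intro b hb
  rw [Submodule.mem_torsion_iff] at hb
  obtain ⟨⟨c, hc⟩, hcb⟩ := hb
  have hcb' : (f.stalkMap x).hom c * b = 0 := hcb
  have hc0 : c ≠ 0 := nonZeroDivisors.ne_zero hc
  by_contra hb0
  obtain ⟨P, hP, hle⟩ :=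
    exists_le_isAssociatedPrime_of_isNoetherianRing (X.presheaf.stalk x) b hb0
  haveI := hP.isPrime
  let P' : PrimeSpectrum (X.presheaf.stalk x) := ⟨P, inferInstance⟩
  have hass : Curv2.IsAssPoint (Coh.structureModule X) (X.fromSpecStalk x P') :=
    (isAssPoint_structureModule_iff _).mpr
      (isAssociatedPrime_maximalIdeal_of_fromSpecStalk x P' hP)
  have hη := h _ hass
  have hsq : f.base (X.fromSpecStalk x P') =
      Y.fromSpecStalk (f.base x) (Spec.map (f.stalkMap x) P') := by
    have := Scheme.SpecMap_stalkMap_fromSpecStalk (f := f) (x := x)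
    have h := congrArg (fun g => g.base P') this
    simp only [Scheme.Hom.comp_base, TopCat.hom_comp, ContinuousMap.comp_apply] at h
    exact h.symm
  rw [hsq] at hη
  have hbot := DedekindFlat.eq_bot_of_fromSpecStalk_eq_genericPoint (f.base x) _ hη
  have hcP : (f.stalkMap x).hom c ∈ P := by
    apply hle
    rw [Submodule.mem_colon_singleton, Submodule.mem_bot]
    exact hcb'
  have : c ∈ (Spec.map (f.stalkMap x) P').asIdeal := hcP
  rw [hbot] at this
  exact hc0 this

end Groth.Agent.Lib.helper17.AssFlat
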