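import Mathlib

/-!
# helper17: `φ_* O_X = O_Y` for a universally closed birational morphism to a normal integral scheme

`φ : X ⟶ Y` a morphism of integral schemes, universally closed, restricting to an isomorphism over
a nonempty open `U ⊆ Y`, and all local rings of `Y` integrally closed. Then `φ.app V` is an
isomorphism for every open `V ⊆ Y`. (No Noetherian hypotheses: the proof uses the valuative
criterion for arbitrary valuation rings and the description of an integrally closed domain as the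
intersection of the valuation rings of its fraction field containing it.)

* `map_genericPoint`, `isIso_stalkMap_of_isIso_morphismRestrict`, `isFractionRing_of_birational`.
* `germ_eq_of_lift`: germs at `ξ` of sections computed through a lift `Spec O ⟶ X` of
  `Spec O_{X,ξ} ⟶ X`.
* `mem_range_of_forall_valuationSubring`: an integrally closed domain is the intersection of the
  valuation subrings of its fraction field containing it (elementwise form).
* `isIntegrallyClosed_sections`.
* `germ_mem_valuationSubring`: the valuative step.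
* `app_surjective_of_cover`: sheaf gluing.
* `isIso_app_of_birational`: the main theorem.
-/

set_option autoImplicit false
set_option linter.style.haveILetI false
universe u

open CategoryTheory AlgebraicGeometry IsLocalRing TopologicalSpace Opposite

namespace Groth.Agent.Lib.helper17.BiratPush

variable {X Y : Scheme.{u}} (φ : X ⟶ Y)

/-- a morphism of integral schemes which is an isomorphism over a nonempty open maps the generic
point to the generic point. -/
theorem map_genericPoint [IsIntegral X] [IsIntegral Y] (U : Y.Opens) (hU : (U : Set Y).Nonempty)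
    [IsIso (φ ∣_ U)] : φ (genericPoint X) = genericPoint Y := by
  have hη : genericPoint Y ∈ U := ((genericPoint_spec Y).mem_open_set_iff U.isOpen).mpr
    (by simpa [Set.univ_inter] using hU)
  have hsurj : Function.Surjective (φ ∣_ U) := (φ ∣_ U).homeomorph.surjective
  obtain ⟨x', hx'⟩ := hsurj ⟨genericPoint Y, hη⟩
  have hx : φ x'.1 = genericPoint Y := by
    rw [← morphismRestrict_base_coe φ U x', hx']
  have h1 : genericPoint X ⤳ x'.1 := (genericPoint_spec X).specializes (by trivial)
  have h2 : φ (genericPoint X) ⤳ genericPoint Y := by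
    rw [← hx]; exact h1.map φ.continuous
  have h3 : genericPoint Y ⤳ φ (genericPoint X) := (genericPoint_spec Y).specializes (by trivial)
  exact (h2.antisymm h3).eq

/-- the stalk maps of `φ` at points over an open on which `φ` restricts to an isomorphism are
isomorphisms. -/
theorem isIso_stalkMap_of_isIso_morphismRestrict (U : Y.Opens) [IsIso (φ ∣_ U)] (x : X)
    (hx : φ x ∈ U) : IsIso (φ.stalkMap x) := by
  have h := morphismRestrictStalkMap φ U ⟨x, hx⟩
  have h1 : IsIso ((φ ∣_ U).stalkMap ⟨x, hx⟩) := inferInstance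
  exact ((MorphismProperty.isomorphisms CommRingCat).arrow_mk_iso_iff h).mp h1

/-- transport of `IsFractionRing Γ(Y, V) K(Y)` along an isomorphism out of the stalk at a point
equal to the generic point. -/
theorem isFractionRing_of_iso_stalk [IsIntegral Y] {V : Y.Opens} (hV : IsAffineOpen V)
    (y : Y) (hy : y = genericPoint Y) (hyV : y ∈ V) (K : CommRingCat.{u})
    (e : Y.presheaf.stalk y ⟶ K) [IsIso e] :
    @IsFractionRing Γ(Y, V) _ K _ (Y.presheaf.germ V y hyV ≫ e).hom.toAlgebra := by
  subst hy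
  haveI : Nonempty V := ⟨⟨_, hyV⟩⟩
  have h := functionField_isFractionRing_of_isAffineOpen Y V hV
  letI alg2 : Algebra Γ(Y, V) K := (Y.presheaf.germ V (genericPoint Y) hyV ≫ e).hom.toAlgebra
  let E : Y.functionField ≃ₐ[Γ(Y, V)] K :=
    { (asIso e).commRingCatIsoToRingEquiv with
      commutes' := fun r => rfl }
  exact IsLocalization.isLocalization_of_algEquiv _ E

theorem isFractionRing_of_birational [IsIntegral X] [IsIntegral Y] (U : Y.Opens)
    (hU : (U : Set Y).Nonempty) [IsIso (φ ∣_ U)] {V : Y.Opens} (hV : IsAffineOpen V)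
    (hξ : φ (genericPoint X) ∈ V) :
    @IsFractionRing Γ(Y, V) _ X.functionField _
      (φ.app V ≫ X.presheaf.germ (φ ⁻¹ᵁ V) (genericPoint X) hξ).hom.toAlgebra := by
  have hgen := map_genericPoint φ U hU
  have hηU : φ (genericPoint X) ∈ U := by
    rw [hgen]
    exact ((genericPoint_spec Y).mem_open_set_iff U.isOpen).mpr
      (by simpa [Set.univ_inter] using hU)
  haveI := isIso_stalkMap_of_isIso_morphismRestrict φ U (genericPoint X) hηU
  have h := isFractionRing_of_iso_stalk hV (φ (genericPoint X)) hgen hξ X.functionField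
    (φ.stalkMap (genericPoint X))
  rw [Scheme.Hom.germ_stalkMap] at h
  exact h

theorem appLE_congr_hom {X Y : Scheme.{u}} {f g : X ⟶ Y} (h : f = g) (U : Y.Opens) (V : X.Opens)
    (e : V ≤ f ⁻¹ᵁ U) (e' : V ≤ g ⁻¹ᵁ U) : f.appLE U V e = g.appLE U V e' := by
  subst h; rfl

/-- if `Spec O ⟶ X` restricts to the canonical `Spec O_{X,ξ} ⟶ X` along `ι : O ⟶ O_{X,ξ}`, then the
germ at `ξ` of a section `t` over `W` is the image under `ι` of the pull-back of `t` to `O`. -/
theorem germ_eq_of_lift {X : Scheme.{u}} (ξ : X) {O : CommRingCat.{u}}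
    (ι : O ⟶ X.presheaf.stalk ξ) (ℓ : Spec O ⟶ X)
    (hfac : Spec.map ι ≫ ℓ = X.fromSpecStalk ξ) (W : X.Opens) (hW : ℓ ⁻¹ᵁ W = ⊤) (hξ : ξ ∈ W) :
    X.presheaf.germ W ξ hξ =
      ℓ.appLE W ⊤ (by rw [hW]) ≫ (Scheme.ΓSpecIso O).hom ≫ ι := by
  have hW' : (⊤ : (Spec (X.presheaf.stalk ξ)).Opens) ≤ (X.fromSpecStalk ξ) ⁻¹ᵁ W := by
    rw [← hfac, Scheme.Hom.comp_preimage, hW]
    exact le_rfl
  have h4 : (X.fromSpecStalk ξ).appLE W ⊤ hW' =
      X.presheaf.germ W ξ hξ ≫ (Scheme.ΓSpecIso (X.presheaf.stalk ξ)).inv := by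
    rw [Scheme.Hom.appLE, Scheme.fromSpecStalk_app hξ, Category.assoc, Category.assoc,
      ← Functor.map_comp]
    have : ((homOfLE le_top : (X.fromSpecStalk ξ) ⁻¹ᵁ W ⟶ ⊤).op ≫ (homOfLE hW').op) = 𝟙 _ := rfl
    rw [this, CategoryTheory.Functor.map_id, Category.comp_id]
  have h1 : (Spec.map ι ≫ ℓ).appLE W ⊤ (by rw [hfac]; exact hW') =
      (X.fromSpecStalk ξ).appLE W ⊤ hW' := appLE_congr_hom hfac _ _ _ _
  have h2 : ℓ.appLE W ⊤ (by rw [hW]) ≫ (Spec.map ι).appLE ⊤ ⊤ le_rfl =
      (Spec.map ι ≫ ℓ).appLE W ⊤ (by rw [hfac]; exact hW') :=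
    Scheme.Hom.appLE_comp_appLE _ _ _ _ _ _ _
  have h3 : (Spec.map ι).appLE ⊤ ⊤ le_rfl = (Spec.map ι).appTop := by
    simp [Scheme.Hom.appLE, Scheme.Hom.appTop]
  have h5 := Scheme.ΓSpecIso_naturality ι
  calc X.presheaf.germ W ξ hξ
      = (X.presheaf.germ W ξ hξ ≫ (Scheme.ΓSpecIso (X.presheaf.stalk ξ)).inv) ≫
          (Scheme.ΓSpecIso (X.presheaf.stalk ξ)).hom := by
        rw [Category.assoc, Iso.inv_hom_id, Category.comp_id]
    _ = (ℓ.appLE W ⊤ (by rw [hW]) ≫ (Spec.map ι).appTop) ≫
          (Scheme.ΓSpecIso (X.presheaf.stalk ξ)).hom := by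
        rw [← h4, ← h1, ← h2, h3]
    _ = ℓ.appLE W ⊤ (by rw [hW]) ≫ (Scheme.ΓSpecIso O).hom ≫ ι := by
        rw [Category.assoc, h5]

/-- for an integrally closed domain `R` with fraction field `K`: an element of `K` lying in every
valuation subring containing the image of `R` lies in the image of `R`. -/
theorem mem_range_of_forall_valuationSubring (R K : Type u) [CommRing R] [IsDomain R] [Field K]
    [Algebra R K] [IsFractionRing R K] [IsIntegrallyClosed R] (τ : K)
    (h : ∀ O : ValuationSubring K, (∀ r : R, algebraMap R K r ∈ O) → τ ∈ O) :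
    ∃ s : R, algebraMap R K s = τ := by
  by_contra hcon
  let R₀ : Subring K := (algebraMap R K).range
  have hτ : τ ∉ R₀ := fun ⟨s, hs⟩ => hcon ⟨s, hs⟩
  haveI : IsIntegrallyClosedIn R₀ K := by
    rw [Subring.isIntegrallyClosedIn_iff]
    intro x hx
    letI : Algebra R R₀ := (algebraMap R K).rangeRestrict.toAlgebra
    haveI : IsScalarTower R R₀ K := IsScalarTower.of_algebraMap_eq (fun _ => rfl)
    haveI : Algebra.IsIntegral R R₀ :=
      Algebra.IsIntegral.of_surjective (Algebra.ofId R R₀) (algebraMap R K).rangeRestrict_surjective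
    have hx' : IsIntegral R x := isIntegral_trans x hx
    obtain ⟨y, hy⟩ := (isIntegrallyClosed_iff K).mp ‹_› hx'
    exact ⟨y, hy⟩
  obtain ⟨O, hO, hτO⟩ := Subring.exists_le_valuationSubring_of_isIntegrallyClosedIn hτ
  exact hτO (h O (fun r => hO ⟨r, rfl⟩))

/-- sections of an integral scheme with integrally closed local rings over a nonempty affine open
form an integrally closed domain. -/
theorem isIntegrallyClosed_sections [IsIntegral Y]
    (hY : ∀ y : Y, IsIntegrallyClosed (Y.presheaf.stalk y)) {V : Y.Opens}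
    (hV : IsAffineOpen V) [Nonempty V] : IsIntegrallyClosed Γ(Y, V) := by
  have hmem : ∀ y : PrimeSpectrum Γ(Y, V), hV.fromSpec y ∈ V := fun y =>
    le_of_eq hV.opensRange_fromSpec (show hV.fromSpec y ∈ hV.fromSpec.opensRange from ⟨y, rfl⟩)
  exact @IsIntegrallyClosed.of_isLocalization_maximal Γ(Y, V) _
    (fun (P : Ideal Γ(Y, V)) [hP : P.IsMaximal] => Y.presheaf.stalk (hV.fromSpec ⟨P, hP.isPrime⟩))
    (fun P hP => inferInstance)
    (fun P hP => TopCat.Presheaf.algebra_section_stalk Y.presheaf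
      ⟨hV.fromSpec ⟨P, hP.isPrime⟩, hmem ⟨P, hP.isPrime⟩⟩)
    (fun P hP => hV.isLocalization_stalk' ⟨P, hP.isPrime⟩ (hmem ⟨P, hP.isPrime⟩))
    inferInstance
    (fun P hP => hY _)

/-- the valuative step: for `φ` universally closed, the germ at the generic point of a section of
`O_X` over `φ⁻¹ V` (`V` affine) lies in every valuation subring of `K(X)` containing the image of
`Γ(Y, V)`. -/
theorem germ_mem_valuationSubring [IsIntegral X] [UniversallyClosed φ] {V : Y.Opens}
    (hV : IsAffineOpen V) (hξ : φ (genericPoint X) ∈ V)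
    (O : ValuationSubring X.functionField)
    (hO : ∀ r : Γ(Y, V),
      (φ.app V ≫ X.presheaf.germ (φ ⁻¹ᵁ V) (genericPoint X) hξ).hom r ∈ O)
    (t : Γ(X, φ ⁻¹ᵁ V)) :
    (X.presheaf.germ (φ ⁻¹ᵁ V) (genericPoint X) hξ).hom t ∈ O := by
  set ξ := genericPoint X with hξdef
  set γ := φ.app V ≫ X.presheaf.germ (φ ⁻¹ᵁ V) ξ hξ with hγ
  let ρ : Γ(Y, V) →+* O := γ.hom.codRestrict O.toSubring hO
  let ι : CommRingCat.of O ⟶ X.presheaf.stalk ξ := CommRingCat.ofHom O.subtype
  have hρι : CommRingCat.ofHom ρ ≫ ι = γ := by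
    ext r; rfl
  have hex : ValuativeCriterion.Existence φ := by
    have h : UniversallyClosed φ := inferInstance
    rw [UniversallyClosed.eq_valuativeCriterion] at h
    exact h.1
  have hsq : CommSq (X.fromSpecStalk ξ) (Spec.map ι) φ
      (Spec.map (CommRingCat.ofHom ρ) ≫ hV.fromSpec) := by
    constructor
    rw [← Category.assoc, ← Spec.map_comp, hρι, hγ, ← Scheme.Hom.germ_stalkMap, Spec.map_comp,
      Category.assoc, ← Scheme.SpecMap_stalkMap_fromSpecStalk,
      ← hV.fromSpecStalk_eq_fromSpecStalk hξ, IsAffineOpen.fromSpecStalk]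
  let Sq : ValuativeCommSq φ :=
    { R := O
      K := X.functionField
      i₁ := X.fromSpecStalk ξ
      i₂ := Spec.map (CommRingCat.ofHom ρ) ≫ hV.fromSpec
      commSq := hsq }
  obtain ⟨⟨ℓ, hl, hr⟩⟩ := (hex Sq).exists_lift
  have hW : ℓ ⁻¹ᵁ (φ ⁻¹ᵁ V) = ⊤ := by
    rw [← Scheme.Hom.comp_preimage, hr, Scheme.Hom.comp_preimage, hV.fromSpec_preimage_self]
    rfl
  have key := germ_eq_of_lift ξ ι ℓ hl (φ ⁻¹ᵁ V) hW hξ
  rw [key]
  exact ((Scheme.ΓSpecIso (CommRingCat.of O)).hom.hom
    ((ℓ.appLE (φ ⁻¹ᵁ V) ⊤ (by rw [hW])).hom t)).2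

theorem app_res_apply {W V : Y.Opens} (h : W ≤ V) (s : Γ(Y, V)) :
    (φ.app W).hom ((Y.presheaf.map (homOfLE h).op).hom s) =
      (X.presheaf.map (homOfLE (show φ ⁻¹ᵁ W ≤ φ ⁻¹ᵁ V from fun _ hx => h hx)).op).hom
        ((φ.app V).hom s) := by
  have := φ.naturality (homOfLE h).op
  exact congrArg (fun f => f.hom s) this

/-- gluing: if `φ^♯` is injective on all opens and surjective on a neighbourhood basis of each point
of `V`, it is surjective on `V`. -/
theorem app_surjective_of_cover (hinj : ∀ W : Y.Opens, Function.Injective (φ.app W).hom)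
    (V : Y.Opens)
    (hcov : ∀ y ∈ V, ∃ V' : Y.Opens, y ∈ V' ∧ V' ≤ V ∧ Function.Surjective (φ.app V').hom) :
    Function.Surjective (φ.app V).hom := by
  intro t
  choose Uf hyU hUV hsurj using hcov
  let U : V → Y.Opens := fun y => Uf y.1 y.2
  have hUle : ∀ y : V, U y ≤ V := fun y => hUV y.1 y.2
  have hle : ∀ y : V, φ ⁻¹ᵁ (U y) ≤ φ ⁻¹ᵁ V := fun y _ hx => hUle y hx
  let tr : ∀ y : V, Γ(X, φ ⁻¹ᵁ (U y)) := fun y => (X.presheaf.map (homOfLE (hle y)).op).hom t
  choose sf hsf using fun y : V => hsurj y.1 y.2 (tr y)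
  have hcompat : TopCat.Presheaf.IsCompatible Y.sheaf.1 U sf := by
    intro i j
    apply hinj (U i ⊓ U j)
    have h1 := app_res_apply φ (inf_le_left : U i ⊓ U j ≤ U i) (sf i)
    have h2 := app_res_apply φ (inf_le_right : U i ⊓ U j ≤ U j) (sf j)
    refine h1.trans (Eq.trans ?_ h2.symm)
    rw [hsf i, hsf j]
    simp only [tr, ← CommRingCat.comp_apply, ← Functor.map_comp]
    rfl
  have hcover : V ≤ iSup U := by
    intro y hy
    exact Opens.mem_iSup.mpr ⟨⟨y, hy⟩, hyU y hy⟩
  obtain ⟨s, hs, -⟩ := Y.sheaf.existsUnique_gluing' U V (fun y => homOfLE (hUle y)) hcover sf hcompat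
  refine ⟨s, ?_⟩
  have hcoverX : φ ⁻¹ᵁ V ≤ iSup (fun y : V => φ ⁻¹ᵁ (U y)) := by
    intro x hx
    exact Opens.mem_iSup.mpr ⟨⟨φ x, hx⟩, hyU (φ x) hx⟩
  refine X.sheaf.eq_of_locally_eq' (fun y : V => φ ⁻¹ᵁ (U y)) (φ ⁻¹ᵁ V)
    (fun y => homOfLE (hle y)) hcoverX _ _ (fun y => ?_)
  have h3 := app_res_apply φ (hUle y) s
  have h4 : (Y.presheaf.map (homOfLE (hUle y)).op).hom s = sf y := hs y
  rw [h4, hsf y] at h3
  exact h3.symm

section main

variable [IsIntegral X] [IsIntegral Y] (U : Y.Opens) (hU : (U : Set Y).Nonempty) [IsIso (φ ∣_ U)]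

include hU in
/-- `φ^♯` is injective on every open. -/
theorem app_injective (W : Y.Opens) : Function.Injective (φ.app W).hom := by
  by_cases hW : (W : Set Y).Nonempty
  · have hgen := map_genericPoint φ U hU
    have hξ : φ (genericPoint X) ∈ W := by
      rw [hgen]
      exact ((genericPoint_spec Y).mem_open_set_iff W.isOpen).mpr
        (by simpa [Set.univ_inter] using hW)
    have hηU : φ (genericPoint X) ∈ U := by
      rw [hgen]
      exact ((genericPoint_spec Y).mem_open_set_iff U.isOpen).mpr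
        (by simpa [Set.univ_inter] using hU)
    haveI := isIso_stalkMap_of_isIso_morphismRestrict φ U (genericPoint X) hηU
    have h1 : Function.Injective
        (Y.presheaf.germ W (φ (genericPoint X)) hξ ≫ φ.stalkMap (genericPoint X)).hom := by
      rw [CommRingCat.hom_comp, RingHom.coe_comp]
      exact ((ConcreteCategory.isIso_iff_bijective (φ.stalkMap (genericPoint X))).mp
        inferInstance).1.comp (germ_injective_of_isIntegral Y _ hξ)
    rw [Scheme.Hom.germ_stalkMap, CommRingCat.hom_comp, RingHom.coe_comp] at h1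
    exact Function.Injective.of_comp h1
  · have hW' : W = ⊥ := by
      ext y
      simp only [Opens.coe_bot, Set.mem_empty_iff_false, iff_false]
      exact fun hy => hW ⟨y, hy⟩
    subst hW'
    intro a b _
    exact Subsingleton.elim a b

include hU in
/-- `φ^♯` is surjective on nonempty affine opens. -/
theorem app_surjective_of_isAffineOpen [UniversallyClosed φ]
    (hY : ∀ y : Y, IsIntegrallyClosed (Y.presheaf.stalk y)) {V : Y.Opens}
    (hV : IsAffineOpen V) (hne : (V : Set Y).Nonempty) : Function.Surjective (φ.app V).hom := by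
  have hgen := map_genericPoint φ U hU
  have hξ : φ (genericPoint X) ∈ V := by
    rw [hgen]
    exact ((genericPoint_spec Y).mem_open_set_iff V.isOpen).mpr
      (by simpa [Set.univ_inter] using hne)
  haveI : Nonempty V := ⟨⟨_, hξ⟩⟩
  letI alg : Algebra Γ(Y, V) X.functionField :=
    (φ.app V ≫ X.presheaf.germ (φ ⁻¹ᵁ V) (genericPoint X) hξ).hom.toAlgebra
  haveI := isFractionRing_of_birational φ U hU hV hξ
  haveI := isIntegrallyClosed_sections hY hV
  intro t
  obtain ⟨s, hs⟩ := mem_range_of_forall_valuationSubring Γ(Y, V) X.functionField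
    ((X.presheaf.germ (φ ⁻¹ᵁ V) (genericPoint X) hξ).hom t)
    (fun O hO => germ_mem_valuationSubring φ hV hξ O hO t)
  refine ⟨s, ?_⟩
  exact germ_injective_of_isIntegral X (genericPoint X) hξ hs

include hU in
/-- **Main theorem**: `O_Y → φ_* O_X` is an isomorphism. -/
theorem isIso_app_of_birational [UniversallyClosed φ]
    (hY : ∀ y : Y, IsIntegrallyClosed (Y.presheaf.stalk y)) (V : Y.Opens) : IsIso (φ.app V) := by
  rw [ConcreteCategory.isIso_iff_bijective]
  refine ⟨app_injective φ U hU V, ?_⟩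
  refine app_surjective_of_cover φ (app_injective φ U hU) V (fun y hy => ?_)
  obtain ⟨_, ⟨V', hV', rfl⟩, hyV', hV'V⟩ :=
    Y.isBasis_affineOpens.exists_subset_of_mem_open hy V.isOpen
  exact ⟨V', hyV', hV'V, app_surjective_of_isAffineOpen φ U hU hY hV' ⟨y, hyV'⟩⟩

end main

end Groth.Agent.Lib.helper17.BiratPush
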