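import Mathlib
import Groth.Agent.Lib.Helper24.HensFormalCat
import Groth.Agent.Lib.Helper24.HensFibre
import Groth.Agent.Lib.Helper24.HensRk
import Groth.Agent.Lib.Helper24.GeomSepAlg
import Groth.Agent.Lib.Helper24.CplFlat

/-!
# Formal fibres of the henselization (helper17)

`R` a Noetherian local ring, `S` a henselization, `C` an `S`-algebra (e.g. the completion of `S`,
which is also the completion of `R`).  For a prime `P'` of `S` over `p` and a finite field extension
`K'` of `κ(P')`, the ring `K' ⊗[κ(P')] P'.Fiber C` is a localization of `L ⊗[κ(p)] p.Fiber C` for a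
suitable finite field extension `L` of `κ(p)`.

* `loc_of_surjective'`: `T → L` a surjection from an artinian reduced ring onto a field (over any
  base ring `k₁`): `Loc Q (A ⊗[k₁] T) → Loc Q (A ⊗[k₁] L)`.
* `artinian_reduced_tensor`: `S ⊗[R] L` is artinian and reduced, `L` a finite field extension of `κ(p)`.
* `fibre_transfer`: the main transfer statement.
-/

set_option autoImplicit false
set_option linter.unusedSectionVars false
set_option linter.style.haveILetI false

noncomputable section

namespace Groth.Agent.Lib.helper17.HensFib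

open TensorProduct IsLocalRing
open Groth.Agent.Lib.Helper24.GeomSepAlg Groth.Agent.Lib.Helper24.FibLoc

universe u

section loc

variable (Q : ∀ (R : Type u) [CommRing R], Prop)
  (hQ : ∀ (R R' : Type u) [CommRing R] [CommRing R'], (R ≃+* R') → Q R → Q R')

include hQ in
/-- `loc_of_surjective` of helper24 over an arbitrary base ring. -/
theorem loc_of_surjective' (k₁ A T L : Type u) [CommRing k₁] [CommRing A] [Algebra k₁ A]
    [CommRing T] [Algebra k₁ T] [IsArtinianRing T] [IsReduced T] [Field L] [Algebra k₁ L]
    (μ : T →ₐ[k₁] L) (hμ : Function.Surjective μ) (h : Loc Q (A ⊗[k₁] T)) :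
    Loc Q (A ⊗[k₁] L) := by
  have hLS := locStable_of_local Q hQ
  haveI : (RingHom.ker μ.toRingHom).IsPrime := RingHom.ker_isPrime _
  set m : Ideal T := RingHom.ker μ.toRingHom with hm
  letI : Algebra T L := μ.toRingHom.toAlgebra
  haveI : IsScalarTower k₁ T L := IsScalarTower.of_algebraMap_eq' (μ.comp_algebraMap).symm
  have hsurj : Function.Surjective (algebraMap T L) := hμ
  haveI := isLocalization_of_artinian_reduced T L hsurj m hm
  letI alg : Algebra (A ⊗[k₁] T) (A ⊗[k₁] L) :=
    (Algebra.TensorProduct.map (AlgHom.id A A) (IsScalarTower.toAlgHom k₁ T L)).toRingHom.toAlgebra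
  haveI : IsScalarTower A (A ⊗[k₁] T) (A ⊗[k₁] L) :=
    IsScalarTower.of_algebraMap_eq' (by
      ext x
      simp [RingHom.algebraMap_toAlgebra])
  have H : (algebraMap (A ⊗[k₁] T) (A ⊗[k₁] L)).comp
      (Algebra.TensorProduct.includeRight (R := k₁) (A := A) (B := T)).toRingHom =
      (Algebra.TensorProduct.includeRight (R := k₁) (A := A) (B := L)).toRingHom.comp
        (algebraMap T L) := by
    ext x
    simp [RingHom.algebraMap_toAlgebra]
  haveI := IsLocalization.tensorProduct_tensorProduct_right k₁ A m.primeCompl L H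
  exact hLS.loc (A ⊗[k₁] T) (A ⊗[k₁] L) (m.primeCompl.map
        (Algebra.TensorProduct.includeRight (R := k₁) (A := A) (B := T))) h

end loc

section fibre

variable (R S : Type u) [CommRing R] [IsLocalRing R] [IsNoetherianRing R] [CommRing S]
  [IsLocalRing S] [Algebra R S] [IsLocalHom (algebraMap R S)] [Hensel.IsHenselization R S]

theorem isReduced_pi {ι : Type*} (B : ι → Type u) [∀ i, CommRing (B i)]
    (h : ∀ i, IsReduced (B i)) : IsReduced (∀ i, B i) := by
  constructor
  intro x hx
  funext i
  obtain ⟨n, hn⟩ := hx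
  exact (h i).eq_zero (x i) ⟨n, by simpa using congrFun hn i⟩

/-- `S ⊗[R] L` is artinian and reduced for a finite field extension `L` of `κ(p)`. -/
theorem artinian_reduced_tensor (p : Ideal R) [p.IsPrime] (L : Type u) [Field L]
    [Algebra p.ResidueField L] [Module.Finite p.ResidueField L] [Algebra R L]
    [IsScalarTower R p.ResidueField L] :
    IsArtinianRing (S ⊗[R] L) ∧ IsReduced (S ⊗[R] L) := by
  classical
  obtain ⟨n, K, _, _, hsep, ⟨e⟩⟩ :=
    Groth.Agent.Lib.Helper24.HensFibre.fibre_of_isHenselization R S p
  let e1 : S ⊗[R] L ≃+* L ⊗[R] S := (Algebra.TensorProduct.comm R S L).toRingEquiv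
  let e2 : L ⊗[p.ResidueField] (p.ResidueField ⊗[R] S) ≃+* L ⊗[R] S :=
    (Algebra.TensorProduct.cancelBaseChange R p.ResidueField L L S).toRingEquiv
  let e3 : L ⊗[p.ResidueField] (p.ResidueField ⊗[R] S) ≃+* L ⊗[p.ResidueField] (∀ i, K i) :=
    (Algebra.TensorProduct.congr (AlgEquiv.refl (R := p.ResidueField) (A₁ := L)) e).toRingEquiv
  let e4 : L ⊗[p.ResidueField] (∀ i, K i) ≃+* (∀ i, L ⊗[p.ResidueField] K i) :=
    (Algebra.TensorProduct.piRight p.ResidueField p.ResidueField L K).toRingEquiv
  let E : S ⊗[R] L ≃+* (∀ i, L ⊗[p.ResidueField] K i) :=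
    ((e1.trans e2.symm).trans e3).trans e4
  have hred : ∀ i, IsReduced (L ⊗[p.ResidueField] K i) := fun i => by
    haveI := hsep i
    exact isReduced_tensor p.ResidueField (K i) L
  have hart : ∀ i, IsArtinianRing (L ⊗[p.ResidueField] K i) := fun i => by
    haveI : Module.Finite (K i) (K i ⊗[p.ResidueField] L) := inferInstance
    haveI : IsArtinianRing (K i ⊗[p.ResidueField] L) := IsArtinianRing.of_finite (K i) _
    exact (Algebra.TensorProduct.comm p.ResidueField (K i) L).toRingEquiv.isArtinianRing
  haveI := hart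
  haveI : IsReduced (∀ i, L ⊗[p.ResidueField] K i) :=
    isReduced_pi (fun i : Fin n => L ⊗[p.ResidueField] K i) hred
  haveI : IsArtinianRing (∀ i, L ⊗[p.ResidueField] K i) := inferInstance
  exact ⟨E.symm.isArtinianRing, isReduced_of_injective E.toRingHom E.injective⟩

end fibre

section main

variable (R S : Type u) [CommRing R] [IsLocalRing R] [IsNoetherianRing R] [CommRing S]
  [IsLocalRing S] [Algebra R S] [IsLocalHom (algebraMap R S)] [Hensel.IsHenselization R S]

open Groth.Agent.Lib.Helper24.IndUnramifiedFibre Groth.Agent.Lib.Helper24.HensFibre in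
theorem isIndUnramified : IsIndUnramified R S := by
  obtain ⟨e⟩ := Groth.Agent.Lib.helper24.Henselization.exists_algEquiv R
    (Groth.Agent.Lib.helper24.Henselization.Hens R) S
  exact isIndUnramified_of_algEquiv e isIndUnramified_Hens

variable (P' : Ideal S) [P'.IsPrime]

/-- The canonical map from the fibre `κ(p) ⊗[R] S` to `κ(P')`. -/
abbrev fibreMap (p : Ideal R) [p.IsPrime] [Algebra p.ResidueField P'.ResidueField]
    [IsScalarTower R p.ResidueField P'.ResidueField] :
    p.ResidueField ⊗[R] S →ₐ[p.ResidueField] P'.ResidueField :=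
  Algebra.TensorProduct.lift (Algebra.ofId _ _) (IsScalarTower.toAlgHom R S P'.ResidueField)
    (fun _ _ => Commute.all _ _)

theorem fibreMap_surjective (p : Ideal R) [p.IsPrime] [Algebra p.ResidueField P'.ResidueField]
    [IsScalarTower R p.ResidueField P'.ResidueField] :
    Function.Surjective (fibreMap R S P' p) := by
  haveI hart : IsArtinianRing (p.ResidueField ⊗[R] S) :=
    (Groth.Agent.Lib.Helper24.HensRk.fibre_isHenselization R S p).1
  set ν := fibreMap R S P' p with hν
  haveI hker : (RingHom.ker ν.toRingHom).IsPrime := RingHom.ker_isPrime _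
  haveI hmax : (RingHom.ker ν.toRingHom).IsMaximal := IsArtinianRing.isMaximal_of_isPrime _
  have hS : ∀ s : S, ν (1 ⊗ₜ s) = algebraMap S P'.ResidueField s := by
    intro s
    simp [hν, fibreMap]
  intro y
  obtain ⟨a, b, hb, rfl⟩ := IsFractionRing.div_surjective (A := S ⧸ P') y
  obtain ⟨a, rfl⟩ := Ideal.Quotient.mk_surjective a
  obtain ⟨b, rfl⟩ := Ideal.Quotient.mk_surjective b
  have hb0 : algebraMap (S ⧸ P') P'.ResidueField (Ideal.Quotient.mk P' b) ≠ 0 := by
    rw [Ne, map_eq_zero_iff _ (IsFractionRing.injective (S ⧸ P') P'.ResidueField)]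
    exact nonZeroDivisors.ne_zero hb
  have hb1 : (1 : p.ResidueField) ⊗ₜ[R] b ∉ RingHom.ker ν.toRingHom := by
    intro hmem
    apply hb0
    have : ν (1 ⊗ₜ b) = 0 := hmem
    rw [hS] at this
    exact this
  obtain ⟨w, i, hi, hw⟩ := hmax.exists_inv hb1
  have hi0 : ν i = 0 := hi
  have hw' : ν w * algebraMap S P'.ResidueField b = 1 := by
    have := congrArg ν hw
    rw [map_add, map_mul, hi0, add_zero, hS, map_one] at this
    exact this
  refine ⟨(1 ⊗ₜ a) * w, ?_⟩
  rw [map_mul, hS]
  have e1 : algebraMap (S ⧸ P') P'.ResidueField (Ideal.Quotient.mk P' a) =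
      algebraMap S P'.ResidueField a := rfl
  have e2 : algebraMap (S ⧸ P') P'.ResidueField (Ideal.Quotient.mk P' b) =
      algebraMap S P'.ResidueField b := rfl
  rw [e1, e2]
  rw [e2] at hb0
  field_simp
  rw [mul_assoc, hw', mul_one]

theorem isIntegral_residueField (p : Ideal R) [p.IsPrime] [Algebra p.ResidueField P'.ResidueField]
    [IsScalarTower R p.ResidueField P'.ResidueField] :
    Algebra.IsIntegral p.ResidueField P'.ResidueField := by
  constructor
  intro y
  obtain ⟨z, rfl⟩ := fibreMap_surjective R S P' p y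
  obtain ⟨T₁, _, _, hfin, _, ψ, ⟨t, rfl⟩⟩ :=
    Groth.Agent.Lib.Helper24.IndUnramifiedFibre.exists_stage R S p (isIndUnramified R S) z
  haveI := hfin
  exact ((Algebra.IsIntegral.isIntegral (R := p.ResidueField) t).map ψ).map (fibreMap R S P' p)


variable (Q : ∀ (R : Type u) [CommRing R], Prop)
  (hQ : ∀ (R R' : Type u) [CommRing R] [CommRing R'], (R ≃+* R') → Q R → Q R')

include hQ in
/-- **Fibres of `S → C` from fibres of `R → C`** (`S` a henselization of `R`). -/
theorem fibre_transfer (C : Type u) [CommRing C] [Algebra S C] [Algebra R C] [IsScalarTower R S C]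
    (h : ∀ (L : Type u) [Field L] [Algebra (P'.under R).ResidueField L],
      Module.Finite (P'.under R).ResidueField L →
        Loc Q (L ⊗[(P'.under R).ResidueField] (P'.under R).Fiber C))
    (K' : Type u) [Field K'] [Algebra P'.ResidueField K'] (hK' : Module.Finite P'.ResidueField K') :
    Loc Q (K' ⊗[P'.ResidueField] P'.Fiber C) := by
  classical
  have hLS := locStable_of_local Q hQ
  set p : Ideal R := P'.under R with hp
  let σ : p.ResidueField →+* P'.ResidueField := Ideal.ResidueField.map p P' (algebraMap R S) rfl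
  letI iκ : Algebra p.ResidueField P'.ResidueField := σ.toAlgebra
  haveI tκ : IsScalarTower R p.ResidueField P'.ResidueField :=
    IsScalarTower.of_algebraMap_eq (fun r => by
      rw [RingHom.algebraMap_toAlgebra, Ideal.ResidueField.map_algebraMap,
        ← IsScalarTower.algebraMap_apply])
  letI iSK : Algebra S K' :=
    ((algebraMap P'.ResidueField K').comp (algebraMap S P'.ResidueField)).toAlgebra
  haveI : IsScalarTower S P'.ResidueField K' := IsScalarTower.of_algebraMap_eq' rfl
  letI iRK : Algebra R K' := ((algebraMap S K').comp (algebraMap R S)).toAlgebra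
  haveI : IsScalarTower R S K' := IsScalarTower.of_algebraMap_eq' rfl
  letI iκK : Algebra p.ResidueField K' :=
    ((algebraMap P'.ResidueField K').comp (algebraMap p.ResidueField P'.ResidueField)).toAlgebra
  haveI : IsScalarTower p.ResidueField P'.ResidueField K' := IsScalarTower.of_algebraMap_eq' rfl
  haveI : IsScalarTower R p.ResidueField K' := IsScalarTower.of_algebraMap_eq (fun r => by
    change algebraMap P'.ResidueField K' (algebraMap S P'.ResidueField (algebraMap R S r)) =
      algebraMap P'.ResidueField K' (algebraMap p.ResidueField P'.ResidueField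
        (algebraMap R p.ResidueField r))
    rw [← IsScalarTower.algebraMap_apply R p.ResidueField P'.ResidueField,
      ← IsScalarTower.algebraMap_apply R S P'.ResidueField])
  haveI hint1 := isIntegral_residueField R S P' p
  haveI := hK'
  haveI : Algebra.IsIntegral P'.ResidueField K' := Algebra.IsIntegral.of_finite _ _
  haveI : Algebra.IsIntegral p.ResidueField K' := Algebra.IsIntegral.trans P'.ResidueField
  let b := Module.finBasis P'.ResidueField K'
  let L : IntermediateField p.ResidueField K' :=
    IntermediateField.adjoin p.ResidueField (Set.range b)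
  haveI : FiniteDimensional p.ResidueField L :=
    IntermediateField.finiteDimensional_adjoin (fun x _ => Algebra.IsIntegral.isIntegral x)
  let μ : S ⊗[R] L →ₐ[S] K' :=
    Algebra.TensorProduct.lift (Algebra.ofId S K') ((L.val).restrictScalars R)
      (fun _ _ => Commute.all _ _)
  have hμ : Function.Surjective μ := by
    have hμt : ∀ (s : S) (l : L), μ (s ⊗ₜ l) = algebraMap S K' s * (l : K') := by
      intro s l
      simp [μ]
    have key : ∀ (z : p.ResidueField ⊗[R] S) (l : L),
        algebraMap P'.ResidueField K' (fibreMap R S P' p z) * (l : K') ∈ μ.range := by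
      intro z
      induction z using TensorProduct.induction_on with
      | zero => intro l; simp
      | tmul c s =>
        intro l
        refine ⟨s ⊗ₜ (c • l), ?_⟩
        rw [AlgHom.toRingHom_eq_coe, RingHom.coe_coe, hμt]
        simp only [fibreMap, Algebra.TensorProduct.lift_tmul, Algebra.ofId_apply,
          IsScalarTower.coe_toAlgHom', map_mul]
        rw [← IsScalarTower.algebraMap_apply p.ResidueField P'.ResidueField K',
          ← IsScalarTower.algebraMap_apply S P'.ResidueField K']
        have : ((c • l : L) : K') = algebraMap p.ResidueField K' c * (l : K') := by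
          rw [IntermediateField.coe_smul, Algebra.smul_def]
        rw [this]
        ring
      | add z₁ z₂ h₁ h₂ =>
        intro l
        rw [map_add, map_add, add_mul]
        exact add_mem (h₁ l) (h₂ l)
    intro x
    have hx : x = ∑ j, b.repr x j • b j := (b.sum_repr x).symm
    have hmem : x ∈ μ.range := by
      rw [hx]
      refine Subalgebra.sum_mem _ (fun j _ => ?_)
      obtain ⟨z, hz⟩ := fibreMap_surjective R S P' p (b.repr x j)
      have hbL : b j ∈ L := IntermediateField.subset_adjoin _ _ (Set.mem_range_self j)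
      have := key z ⟨b j, hbL⟩
      rw [hz] at this
      rw [Algebra.smul_def]
      exact this
    exact hmem
  obtain ⟨hT1, hT2⟩ := artinian_reduced_tensor R S p L
  have h0 := h L inferInstance
  let e_a : L ⊗[p.ResidueField] (p.ResidueField ⊗[R] C) ≃+* L ⊗[R] C :=
    (Algebra.TensorProduct.cancelBaseChange R p.ResidueField L L C).toRingEquiv
  let e_b : L ⊗[R] C ≃+* C ⊗[R] L := (Algebra.TensorProduct.comm R L C).toRingEquiv
  let e_c : C ⊗[S] (S ⊗[R] L) ≃+* C ⊗[R] L :=
    (Algebra.TensorProduct.cancelBaseChange R S C C L).toRingEquiv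
  have h1 : Loc Q (C ⊗[S] (S ⊗[R] L)) := hLS.iso _ _ ((e_a.trans e_b).trans e_c.symm) h0
  have h2 : Loc Q (C ⊗[S] K') := loc_of_surjective' Q hQ S C (S ⊗[R] L) K' μ hμ h1
  let e_d : K' ⊗[P'.ResidueField] (P'.ResidueField ⊗[S] C) ≃+* K' ⊗[S] C :=
    (Algebra.TensorProduct.cancelBaseChange S P'.ResidueField K' K' C).toRingEquiv
  let e_e : K' ⊗[S] C ≃+* C ⊗[S] K' := (Algebra.TensorProduct.comm S K' C).toRingEquiv
  exact hLS.iso _ _ (e_d.trans e_e).symm h2

end main

end Groth.Agent.Lib.helper17.HensFib
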