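import Mathlib
import Groth.Agent.Lib.Helper17.HensFib
import Groth.Agent.Lib.Helper24.HensNormal

/-!
# Formal fibres of the henselization, II (helper17)

`R` a Noetherian local ring, `S` a henselization.
* `cplAlgEquiv : Cpl R ≃ₐ[R] Cpl S`.
* `formalFibre_transfer`: a "locally `Q`" property of all `L ⊗[κ(p)] (formal fibre of R at p)`
  passes to all `K' ⊗[κ(P')] (formal fibre of S at P')`.
* `hasGeomNormalFormalFibres_of_isHenselization`.
-/

set_option autoImplicit false
set_option linter.unusedSectionVars false
set_option linter.style.haveILetI false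

noncomputable section

namespace Groth.Agent.Lib.helper17.HensFib

open TensorProduct IsLocalRing
open Groth.Agent.Lib.Helper24.GeomSepAlg Groth.Agent.Lib.Helper24.FibLoc

universe u

variable (R S : Type u) [CommRing R] [IsLocalRing R] [IsNoetherianRing R] [CommRing S]
  [IsLocalRing S] [Algebra R S] [IsLocalHom (algebraMap R S)] [Hensel.IsHenselization R S]

theorem map_maximalIdeal_le :
    (maximalIdeal R).map (algebraMap R S) ≤ maximalIdeal S :=
  (Groth.Agent.Lib.Helper24.HensRegular.map_maximalIdeal_of_isHenselization R S).le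

/-- The completions of `R` and of its henselization agree. -/
def cplRingEquiv : EGA4.Cpl R ≃+* EGA4.Cpl S :=
  Groth.Agent.Lib.Helper24.CplIso.complEquiv (maximalIdeal R) (maximalIdeal S) (algebraMap R S)
    (map_maximalIdeal_le R S)
    (by
      intro n r hr
      haveI : Module.FaithfullyFlat R S :=
        Groth.Agent.Lib.helper24.Henselization.faithfullyFlat_of_isHenselization R S
      rw [← Groth.Agent.Lib.Helper24.HensRegular.map_maximalIdeal_of_isHenselization R S,
        ← Ideal.map_pow, ← Ideal.mem_comap, Ideal.comap_map_eq_self_of_faithfullyFlat] at hr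
      exact hr)
    (Groth.Agent.Lib.Helper24.HensFormalCat.dense_of_isHenselization R S)

theorem cplRingEquiv_algebraMap (r : R) :
    cplRingEquiv R S (algebraMap R (EGA4.Cpl R) r) = algebraMap R (EGA4.Cpl S) r := by
  have h1 : algebraMap R (EGA4.Cpl R) r = AdicCompletion.of (maximalIdeal R) R r := rfl
  have h2 : algebraMap R (EGA4.Cpl S) r =
      AdicCompletion.of (maximalIdeal S) S (algebraMap R S r) := by
    rw [IsScalarTower.algebraMap_apply R S (EGA4.Cpl S)]
    rfl
  rw [h1, h2]
  exact Groth.Agent.Lib.Helper24.CplFlat.complMap_of _ _ _ (map_maximalIdeal_le R S) r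

/-- The completions of `R` and of its henselization agree, as `R`-algebras. -/
def cplAlgEquiv : EGA4.Cpl R ≃ₐ[R] EGA4.Cpl S :=
  { cplRingEquiv R S with commutes' := cplRingEquiv_algebraMap R S }

variable (Q : ∀ (R : Type u) [CommRing R], Prop)
  (hQ : ∀ (R R' : Type u) [CommRing R] [CommRing R'], (R ≃+* R') → Q R → Q R')

include hQ in
/-- Transfer of geometric local properties of the formal fibres to the henselization. -/
theorem formalFibre_transfer (P' : Ideal S) [P'.IsPrime]
    (h : ∀ (L : Type u) [Field L] [Algebra (P'.under R).ResidueField L],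
      Module.Finite (P'.under R).ResidueField L →
        Loc Q (L ⊗[(P'.under R).ResidueField] EGA4.formalFibre R (P'.under R)))
    (K' : Type u) [Field K'] [Algebra P'.ResidueField K'] (hK' : Module.Finite P'.ResidueField K') :
    Loc Q (K' ⊗[P'.ResidueField] EGA4.formalFibre S P') := by
  have hLS := locStable_of_local Q hQ
  refine fibre_transfer R S P' Q hQ (EGA4.Cpl S) ?_ K' hK'
  intro L _ _ hL
  let e1 : (P'.under R).Fiber (EGA4.Cpl R) ≃ₐ[(P'.under R).ResidueField]
      (P'.under R).Fiber (EGA4.Cpl S) :=
    Algebra.TensorProduct.congr AlgEquiv.refl (cplAlgEquiv R S)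
  let e2 : L ⊗[(P'.under R).ResidueField] (P'.under R).Fiber (EGA4.Cpl R) ≃ₐ[L]
      L ⊗[(P'.under R).ResidueField] (P'.under R).Fiber (EGA4.Cpl S) :=
    Algebra.TensorProduct.congr AlgEquiv.refl e1
  exact hLS.iso _ _ e2.toRingEquiv (h L hL)

/-- The henselization of a Noetherian local ring with geometrically normal formal fibres has
geometrically normal formal fibres. -/
theorem hasGeomNormalFormalFibres_of_isHenselization
    (hR : EGA4.HasGeomNormalFormalFibres R) : EGA4.HasGeomNormalFormalFibres S := by
  intro P' _ K' _ _ hK'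
  exact formalFibre_transfer R S (fun T _ => IsDomain T ∧ IsIntegrallyClosed T)
    (fun _ _ _ _ e h => Groth.Agent.Lib.Helper24.HensNormal.normal_of_ringEquiv e h) P'
    (fun L _ _ hL => hR (P'.under R) L hL) K' hK'


end Groth.Agent.Lib.helper17.HensFib
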