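import Mathlib
import Groth.Prelude
import Groth.Agent.S2125
import Groth.Agent.S9446
import Groth.Agent.Lib.Helper24.IntegralHensel
import Groth.Agent.Lib.Helper24.IndQuasiFiniteDim

/-!
# helper17: the normalization `A' = normRed A` tensored with a henselian ind-étale algebra

`A` a ring with finitely many minimal primes, `A' = CAlg2.normRed A`, `B` a flat `A`-algebra which is
henselian local, ind-quasi-finite (`IndQF`) and ind-smooth.  In `C = A' ⊗[A] B`:
* `minimalPrime_unique`: a proper ideal contains at most one minimal prime of `C`;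
* `existsUnique_maximal_of_prime`: every prime of `C` lies in exactly one maximal ideal;
* `main`: both statements together (minimal primes ↔ maximal ideals of `C`).
Also: `iota : A' ⊗[A] B → B ⊗[A] Q(A_red)` is a localization, `mem_range_of_isIntegral`,
`exists_idempotent_separating` (zero-dimensional rings), `mem_minimalPrimes_of_disjoint_Sig`.
-/

set_option autoImplicit false
set_option linter.style.haveILetI false
universe u

namespace Groth.Agent.Lib.helper17.NormHens

open scoped TensorProduct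
open Groth.Agent.S2125

variable (A : Type u) [CommRing A] (B : Type u) [CommRing B] [Algebra A B]

/-- the inclusion `A' → Q(A_red)` as an `A`-algebra map. -/
noncomputable def jQ : CAlg2.normRed A →ₐ[A] FractionRing (CAlg2.red A) :=
  ((integralClosure (CAlg2.red A) (FractionRing (CAlg2.red A))).val).restrictScalars A

theorem jQ_apply (x : CAlg2.normRed A) : jQ A x = (x : FractionRing (CAlg2.red A)) := rfl

theorem jQ_injective : Function.Injective (jQ A) := Subtype.val_injective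

/-- `A' ⊗[A] B → B ⊗[A] Q(A_red)`. -/
noncomputable def iota :
    (CAlg2.normRed A) ⊗[A] B →ₐ[A] B ⊗[A] FractionRing (CAlg2.red A) :=
  (Algebra.TensorProduct.map (AlgHom.id A B) (jQ A)).comp
    (Algebra.TensorProduct.comm A (CAlg2.normRed A) B).toAlgHom

theorem iota_tmul (x : CAlg2.normRed A) (b : B) :
    iota A B (x ⊗ₜ[A] b) = b ⊗ₜ[A] (x : FractionRing (CAlg2.red A)) := by
  simp [iota, jQ_apply]

theorem iota_injective [Module.Flat A B] : Function.Injective (iota A B) := by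
  have h1 : Function.Injective (Algebra.TensorProduct.map (AlgHom.id A B) (jQ A)) := by
    have := Module.Flat.lTensor_preserves_injective_linearMap (M := B) (jQ A).toLinearMap
      (jQ_injective A)
    intro x y hxy
    apply this
    have h2 : ∀ z : B ⊗[A] CAlg2.normRed A,
        (LinearMap.lTensor B (jQ A).toLinearMap) z =
          Algebra.TensorProduct.map (AlgHom.id A B) (jQ A) z := by
      intro z
      induction z using TensorProduct.induction_on with
      | zero => simp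
      | tmul b x => simp
      | add x y hx hy => rw [map_add, map_add, hx, hy]
    rw [h2, h2, hxy]
  exact h1.comp (Algebra.TensorProduct.comm A (CAlg2.normRed A) B).injective


theorem smul_iota (a : A) (c : (CAlg2.normRed A) ⊗[A] B) : iota A B (a • c) = a • iota A B c :=
  map_smul _ _ _

/-- elements of `Sig A` act invertibly on `Q(A_red)`. -/
theorem exists_smul_eq_Q (s : A) (hs : s ∈ Sig A) (y : FractionRing (CAlg2.red A)) :
    ∃ y' : FractionRing (CAlg2.red A), s • y' = y := by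
  have hu : IsUnit (algebraMap (CAlg2.red A) (FractionRing (CAlg2.red A))
      (Ideal.Quotient.mk (nilradical A) s)) :=
    IsLocalization.map_units (FractionRing (CAlg2.red A))
      (⟨Ideal.Quotient.mk (nilradical A) s, hs⟩ : nonZeroDivisors (CAlg2.red A))
  obtain ⟨u, hu⟩ := hu
  refine ⟨(↑u⁻¹ : FractionRing (CAlg2.red A)) * y, ?_⟩
  rw [← IsScalarTower.algebraMap_smul (CAlg2.red A) s, Algebra.smul_def]
  show algebraMap (CAlg2.red A) (FractionRing (CAlg2.red A)) (Ideal.Quotient.mk (nilradical A) s) *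
    _ = y
  rw [← hu, ← mul_assoc, Units.mul_inv, one_mul]

theorem exists_smul_eq_T (s : A) (hs : s ∈ Sig A) (t : B ⊗[A] FractionRing (CAlg2.red A)) :
    ∃ t' : B ⊗[A] FractionRing (CAlg2.red A), s • t' = t := by
  induction t using TensorProduct.induction_on with
  | zero => exact ⟨0, smul_zero _⟩
  | tmul b y =>
    obtain ⟨y', hy'⟩ := exists_smul_eq_Q A s hs y
    exact ⟨b ⊗ₜ[A] y', by rw [← TensorProduct.tmul_smul, hy']⟩
  | add x y hx hy =>
    obtain ⟨x', hx'⟩ := hx
    obtain ⟨y', hy'⟩ := hy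
    exact ⟨x' + y', by rw [smul_add, hx', hy']⟩

/-- every element of `Q(A_red)` has a denominator in `Sig A` with numerator in `A`. -/
theorem exists_smul_eq_algebraMap_Q (y : FractionRing (CAlg2.red A)) :
    ∃ s ∈ Sig A, ∃ r : A, s • y = algebraMap A (FractionRing (CAlg2.red A)) r := by
  obtain ⟨⟨r', s'⟩, hrs⟩ := IsLocalization.surj (nonZeroDivisors (CAlg2.red A)) y
  obtain ⟨r, rfl⟩ := Ideal.Quotient.mk_surjective r'
  obtain ⟨s, hs⟩ := Ideal.Quotient.mk_surjective (s' : CAlg2.red A)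
  refine ⟨s, ?_, r, ?_⟩
  · show Ideal.Quotient.mk (nilradical A) s ∈ nonZeroDivisors (CAlg2.red A)
    rw [hs]
    exact s'.2
  · rw [← IsScalarTower.algebraMap_smul (CAlg2.red A) s, Algebra.smul_def]
    show algebraMap (CAlg2.red A) (FractionRing (CAlg2.red A))
      (Ideal.Quotient.mk (nilradical A) s) * y = _
    rw [hs, mul_comm]
    simp only at hrs
    rw [hrs, IsScalarTower.algebraMap_apply A (CAlg2.red A) (FractionRing (CAlg2.red A))]
    rfl

theorem exists_smul_mem_range (t : B ⊗[A] FractionRing (CAlg2.red A)) :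
    ∃ s ∈ Sig A, ∃ c : (CAlg2.normRed A) ⊗[A] B, s • t = iota A B c := by
  induction t using TensorProduct.induction_on with
  | zero => exact ⟨1, (Sig A).one_mem, 0, by simp⟩
  | tmul b y =>
    obtain ⟨s, hs, r, hr⟩ := exists_smul_eq_algebraMap_Q A y
    refine ⟨s, hs, (1 : CAlg2.normRed A) ⊗ₜ[A] (r • b), ?_⟩
    rw [iota_tmul, ← TensorProduct.tmul_smul, hr, Algebra.algebraMap_eq_smul_one,
      TensorProduct.tmul_smul, TensorProduct.smul_tmul']
    rfl
  | add x y hx hy =>
    obtain ⟨s, hs, a, ha⟩ := hx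
    obtain ⟨t, ht, b, hb⟩ := hy
    refine ⟨s * t, (Sig A).mul_mem hs ht, t • a + s • b, ?_⟩
    rw [smul_add, mul_smul, smul_comm s t x, ha, mul_smul, hb, map_add, smul_iota, smul_iota]

theorem mem_range_of_isIntegral (hIS : Smoothing.IndSmooth A B)
    (t : B ⊗[A] FractionRing (CAlg2.red A)) (ht : IsIntegral B t) :
    ∃ c : (CAlg2.normRed A) ⊗[A] B, iota A B c = t := by
  obtain ⟨w, hw⟩ := Groth.Agent.S9446.surj_of_indSmooth hIS t ht
  rw [← hw]
  clear hw
  induction w using TensorProduct.induction_on with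
  | zero => exact ⟨0, by simp⟩
  | tmul b x =>
    have hx : IsIntegral (CAlg2.red A) (x : FractionRing (CAlg2.red A)) :=
      IsIntegral.tower_top (R := A) x.2
    refine ⟨(⟨(x : FractionRing (CAlg2.red A)), hx⟩ : CAlg2.normRed A) ⊗ₜ[A] b, ?_⟩
    rw [iota_tmul]
    simp
  | add x y hx hy =>
    obtain ⟨c, hc⟩ := hx
    obtain ⟨d, hd⟩ := hy
    exact ⟨c + d, by rw [map_add, map_add, hc, hd]⟩


section Sig

theorem mem_Sig_of_notMem_minimalPrimes (a : A) (h : ∀ p ∈ minimalPrimes A, a ∉ p) :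
    a ∈ Sig A := by
  show Ideal.Quotient.mk (nilradical A) a ∈ nonZeroDivisors (CAlg2.red A)
  rw [mem_nonZeroDivisors_iff_right]
  intro y hy
  obtain ⟨y, rfl⟩ := Ideal.Quotient.mk_surjective y
  rw [← map_mul, Ideal.Quotient.eq_zero_iff_mem] at hy
  rw [Ideal.Quotient.eq_zero_iff_mem]
  have h1 : nilradical A = sInf (minimalPrimes A) := by
    rw [minimalPrimes, Ideal.sInf_minimalPrimes]
    rfl
  rw [h1, Ideal.mem_sInf] at hy ⊢
  intro p hp
  exact (hp.1.1.mem_or_mem (hy hp)).resolve_right (h p hp)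

theorem mem_minimalPrimes_of_disjoint_Sig (hfin : (minimalPrimes A).Finite) (p : Ideal A)
    [hpp : p.IsPrime] (hp : ∀ s ∈ Sig A, s ∉ p) : p ∈ minimalPrimes A := by
  classical
  have hsub : (p : Set A) ⊆ ⋃ q ∈ (↑hfin.toFinset : Set (Ideal A)), ((id q : Ideal A) : Set A) := by
    intro a ha
    by_contra hcon
    simp only [Set.mem_iUnion, not_exists] at hcon
    refine hp a (mem_Sig_of_notMem_minimalPrimes A a (fun q hq haq => ?_)) ha
    exact hcon q (by simpa using hq) haq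
  obtain ⟨q, hq, hpq⟩ := (Ideal.subset_union_prime (R := A) (s := hfin.toFinset) (f := id) ⊥ ⊥
    (fun i hi _ _ => ((Set.Finite.mem_toFinset hfin).1 hi).1.1)).1 hsub
  have hq' : q ∈ minimalPrimes A := (Set.Finite.mem_toFinset hfin).1 hq
  have h2 : q ≤ p := hq'.2 ⟨hpp, bot_le⟩ hpq
  have h3 : p = q := le_antisymm hpq h2
  rw [h3]
  exact hq'

end Sig

section ZeroDim

theorem exists_pow_eq_pow_succ_mul {R : Type u} [CommRing R]
    (h : ∀ p : Ideal R, p.IsPrime → p.IsMaximal) (x : R) :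
    ∃ (n : ℕ) (y : R), x ^ n = x ^ (n + 1) * y := by
  classical
  let S : Submonoid R :=
    { carrier := {z | ∃ (n : ℕ) (y : R), z = x ^ n * (1 - x * y)}
      one_mem' := ⟨0, 0, by simp⟩
      mul_mem' := by
        rintro a b ⟨n, y, rfl⟩ ⟨m, y', rfl⟩
        exact ⟨n + m, y + y' - x * y * y', by ring⟩ }
  by_cases h0 : (0 : R) ∈ S
  · obtain ⟨n, y, hy⟩ := h0
    refine ⟨n, y, ?_⟩
    have : x ^ n - x ^ (n + 1) * y = 0 := by rw [hy]; ring
    exact sub_eq_zero.1 this
  · exfalso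
    have hdisj : Disjoint ((⊥ : Ideal R) : Set R) (S : Set R) := by
      rw [Set.disjoint_left]
      intro z hz hzS
      rw [SetLike.mem_coe, Ideal.mem_bot] at hz
      exact h0 (hz ▸ hzS)
    obtain ⟨p, hp, -, hpS⟩ := Ideal.exists_le_prime_disjoint (⊥ : Ideal R) S hdisj
    have hxS : x ∈ S := ⟨1, 0, by simp⟩
    have hxp : x ∉ p := fun hx => Set.disjoint_left.1 hpS hx hxS
    have hmax := h p hp
    obtain ⟨y, i, hi, hyi⟩ := hmax.exists_inv hxp
    have h1 : (1 - x * y) ∈ S := ⟨0, y, by simp⟩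
    have h2 : (1 - x * y) ∈ p := by
      have : 1 - x * y = i := by rw [← hyi]; ring
      rw [this]
      exact hi
    exact Set.disjoint_left.1 hpS h2 h1

theorem exists_idempotent_separating {R : Type u} [CommRing R]
    (h : ∀ p : Ideal R, p.IsPrime → p.IsMaximal) (p₁ p₂ : Ideal R) [hp₁ : p₁.IsPrime]
    [hp₂ : p₂.IsPrime] (hne : p₁ ≠ p₂) :
    ∃ e : R, IsIdempotentElem e ∧ e ∈ p₁ ∧ 1 - e ∈ p₂ := by
  have hnle : ¬ p₁ ≤ p₂ := by
    intro hle
    exact hne ((h p₁ hp₁).eq_of_le hp₂.ne_top hle)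
  obtain ⟨x, hx1, hx2⟩ := Set.not_subset.1 hnle
  obtain ⟨n, y, hn⟩ := exists_pow_eq_pow_succ_mul h x
  have hn0 : n ≠ 0 := by
    rintro rfl
    rw [pow_zero, zero_add, pow_one] at hn
    exact hp₁.ne_top (Ideal.eq_top_of_isUnit_mem _ hx1 (IsUnit.of_mul_eq_one y hn.symm))
  have hk : ∀ k : ℕ, x ^ n = x ^ n * (x * y) ^ k := by
    intro k
    induction k with
    | zero => simp
    | succ k ih =>
      have : x ^ n * (x * y) ^ (k + 1) = (x ^ (n + 1) * y) * (x * y) ^ k := by ring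
      rw [this, ← hn]
      exact ih
  have hue : x ^ n * (x ^ n * y ^ n) = x ^ n := by
    have := hk n
    rw [mul_pow] at this
    exact this.symm
  refine ⟨x ^ n * y ^ n, ?_, ?_, ?_⟩
  · show x ^ n * y ^ n * (x ^ n * y ^ n) = x ^ n * y ^ n
    have : x ^ n * y ^ n * (x ^ n * y ^ n) = (x ^ n * (x ^ n * y ^ n)) * y ^ n := by ring
    rw [this, hue]
  · exact Ideal.mul_mem_right _ _ (Ideal.pow_mem_of_mem _ hx1 n (Nat.pos_of_ne_zero hn0))
  · have he2 : x ^ n * y ^ n ∉ p₂ := by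
      intro he
      have : x ^ n ∈ p₂ := by
        rw [← hue]
        exact Ideal.mul_mem_left _ _ he
      exact hx2 (hp₂.mem_of_pow_mem n this)
    have hprod : (x ^ n * y ^ n) * (1 - x ^ n * y ^ n) ∈ p₂ := by
      have : (x ^ n * y ^ n) * (1 - x ^ n * y ^ n) =
          x ^ n * y ^ n - (x ^ n * (x ^ n * y ^ n)) * y ^ n := by ring
      rw [this, hue, sub_self]
      exact p₂.zero_mem
    exact (hp₂.mem_or_mem hprod).resolve_left he2

end ZeroDim


section Abstract

/-- every prime of a ring integral over a henselian local ring lies in exactly one maximal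
ideal. -/
theorem existsUnique_maximal_of_prime' {B C : Type u} [CommRing B] [HenselianLocalRing B]
    [CommRing C] (φ : B →+* C)
    (hφ : ∀ y : C, ∃ p : Polynomial B, p.Monic ∧ Polynomial.eval₂ φ y p = 0)
    (P : Ideal C) [hP : P.IsPrime] :
    ∃! m : Ideal C, m.IsMaximal ∧ P ≤ m := by
  classical
  letI algBQ : Algebra B (C ⧸ P) := ((Ideal.Quotient.mk P).comp φ).toAlgebra
  haveI : Algebra.IsIntegral B (C ⧸ P) := by
    refine ⟨fun x => ?_⟩
    obtain ⟨y, rfl⟩ := Ideal.Quotient.mk_surjective x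
    obtain ⟨p, hp, hpy⟩ := hφ y
    refine ⟨p, hp, ?_⟩
    have h1 := Polynomial.hom_eval₂ p φ (Ideal.Quotient.mk P) y
    rw [hpy, map_zero] at h1
    exact h1.symm
  haveI : IsDomain (C ⧸ P) := Ideal.Quotient.isDomain P
  haveI hloc : IsLocalRing (C ⧸ P) :=
    Groth.Agent.Lib.Helper24.IntegralHensel.isLocalRing_of_isDomain_of_isIntegral B _
  refine ⟨(IsLocalRing.maximalIdeal (C ⧸ P)).comap (Ideal.Quotient.mk P),
    ⟨Ideal.comap_isMaximal_of_surjective _ Ideal.Quotient.mk_surjective, ?_⟩, ?_⟩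
  · intro x hx
    rw [Ideal.mem_comap, Ideal.Quotient.eq_zero_iff_mem.2 hx]
    exact Ideal.zero_mem _
  · rintro m ⟨hm, hPm⟩
    have h1 : m.map (Ideal.Quotient.mk P) ≠ ⊤ := by
      intro htop
      have h2 : (m.map (Ideal.Quotient.mk P)).comap (Ideal.Quotient.mk P) = m := by
        rw [Ideal.comap_map_of_surjective _ Ideal.Quotient.mk_surjective, ← RingHom.ker_eq_comap_bot,
          Ideal.mk_ker, sup_eq_left.2 hPm]
      rw [htop, Ideal.comap_top] at h2
      exact hm.ne_top h2.symm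
    have h3 : m ≤ (IsLocalRing.maximalIdeal (C ⧸ P)).comap (Ideal.Quotient.mk P) := by
      refine le_trans Ideal.le_comap_map (Ideal.comap_mono (IsLocalRing.le_maximalIdeal h1))
    exact hm.eq_of_le (Ideal.comap_ne_top _ (IsLocalRing.maximalIdeal.isMaximal _).ne_top) h3

end Abstract

section Main

/-- the quasi-finiteness hypothesis used for incomparability of primes. -/
def IndQF : Prop :=
  ∀ x : B, ∃ (G : Type u) (_ : CommRing G) (_ : Algebra A G) (_ : Algebra.QuasiFinite A G)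
    (φ : G →ₐ[A] B), x ∈ Set.range φ

theorem smul_one_eq_phi (s : A) :
    s • (1 : (CAlg2.normRed A) ⊗[A] B) = phi A B (algebraMap A B s) := by
  rw [phi_apply, Algebra.algebraMap_eq_smul_one, TensorProduct.tmul_smul]
  rfl

theorem le_of_comap_le (P P' : Ideal ((CAlg2.normRed A) ⊗[A] B)) (hP' : P'.IsPrime)
    (hav : ∀ s ∈ Sig A, s • (1 : (CAlg2.normRed A) ⊗[A] B) ∉ P')
    (hle : P.comap (phi A B) ≤ P'.comap (phi A B)) : P ≤ P' := by
  intro y hy
  have hsm : ∀ (s : A) (y : (CAlg2.normRed A) ⊗[A] B),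
      s • y = (s • (1 : (CAlg2.normRed A) ⊗[A] B)) * y := by
    intro s y
    rw [smul_mul_assoc, one_mul]
  obtain ⟨s, hs, x, hx⟩ := exists_smul_eq_phi A B y
  have h1 : phi A B x ∈ P := by
    rw [← hx, hsm]
    exact Ideal.mul_mem_left _ _ hy
  have h2 : phi A B x ∈ P' := hle h1
  rw [← hx, hsm] at h2
  rcases hP'.mem_or_mem h2 with h | h
  · exact absurd h (hav s hs)
  · exact h

variable {A B}

theorem eq_of_le_of_disjoint (hfin : (minimalPrimes A).Finite) (hQF : IndQF A B)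
    (P P' : Ideal ((CAlg2.normRed A) ⊗[A] B)) (hP : P.IsPrime) (hP' : P'.IsPrime)
    (hav : ∀ s ∈ Sig A, s • (1 : (CAlg2.normRed A) ⊗[A] B) ∉ P)
    (hav' : ∀ s ∈ Sig A, s • (1 : (CAlg2.normRed A) ⊗[A] B) ∉ P')
    (hle : P ≤ P') : P = P' := by
  haveI : (P.comap (phi A B)).IsPrime := Ideal.IsPrime.comap _
  haveI : (P'.comap (phi A B)).IsPrime := Ideal.IsPrime.comap _
  have hq : P.comap (phi A B) ≤ P'.comap (phi A B) := Ideal.comap_mono hle
  have key : P'.comap (phi A B) ≤ P.comap (phi A B) := by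
    by_contra hnle
    have hlt : P.comap (phi A B) < P'.comap (phi A B) := lt_of_le_not_ge hq hnle
    have h1 := Groth.Agent.Lib.Helper24.IndQuasiFiniteDim.under_lt_under_of_ind_quasiFinite A B hQF _ _ hlt
    have hmin : ∀ (P0 : Ideal ((CAlg2.normRed A) ⊗[A] B)), P0.IsPrime →
        (∀ s ∈ Sig A, s • (1 : (CAlg2.normRed A) ⊗[A] B) ∉ P0) →
        ((P0.comap (phi A B)).under A) ∈ minimalPrimes A := by
      intro P0 hP0 hav0
      haveI : (P0.comap (phi A B)).IsPrime := Ideal.IsPrime.comap _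
      haveI : ((P0.comap (phi A B)).under A).IsPrime := Ideal.IsPrime.comap _
      apply mem_minimalPrimes_of_disjoint_Sig A hfin
      intro s hs hsm
      apply hav0 s hs
      rw [smul_one_eq_phi]
      exact hsm
    have hm1 := hmin P hP hav
    have hm2 := hmin P' hP' hav'
    have h2 : (P'.comap (phi A B)).under A ≤ (P.comap (phi A B)).under A :=
      hm2.2 hm1.1 h1.le
    exact absurd h1 (not_lt_of_ge h2)
  exact le_antisymm hle (le_of_comap_le A B P' P hP hav key)


theorem notMem_of_mem_minimalPrimes [Module.Flat A B]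
    (P : Ideal ((CAlg2.normRed A) ⊗[A] B)) (hP : P ∈ minimalPrimes ((CAlg2.normRed A) ⊗[A] B))
    (s : A) (hs : s ∈ Sig A) : s • (1 : (CAlg2.normRed A) ⊗[A] B) ∉ P := by
  intro hsP
  have hnzd : s • (1 : (CAlg2.normRed A) ⊗[A] B) ∈
      nonZeroDivisors ((CAlg2.normRed A) ⊗[A] B) := by
    rw [mem_nonZeroDivisors_iff_right]
    intro y hy
    apply smul_eq_zero_of_mem_Sig A B s hs
    rw [← hy, mul_comm, smul_mul_assoc, one_mul]
  exact Set.disjoint_left.1 (Ideal.disjoint_nonZeroDivisors_of_mem_minimalPrimes hP) hsP hnzd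

/-- (I3), uniqueness: a proper ideal contains at most one minimal prime of `A' ⊗[A] B`. -/
theorem minimalPrime_unique [Module.Flat A B] (hfin : (minimalPrimes A).Finite)
    (hQF : IndQF A B) (hIS : Smoothing.IndSmooth A B)
    (M : Ideal ((CAlg2.normRed A) ⊗[A] B)) (hM : M ≠ ⊤)
    (P₁ P₂ : Ideal ((CAlg2.normRed A) ⊗[A] B))
    (hP₁ : P₁ ∈ minimalPrimes ((CAlg2.normRed A) ⊗[A] B))
    (hP₂ : P₂ ∈ minimalPrimes ((CAlg2.normRed A) ⊗[A] B))
    (h₁ : P₁ ≤ M) (h₂ : P₂ ≤ M) : P₁ = P₂ := by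
  classical
  by_contra hne
  letI algCT : Algebra ((CAlg2.normRed A) ⊗[A] B) (B ⊗[A] FractionRing (CAlg2.red A)) :=
    (iota A B).toRingHom.toAlgebra
  have halg : ∀ c, algebraMap ((CAlg2.normRed A) ⊗[A] B) (B ⊗[A] FractionRing (CAlg2.red A)) c =
      iota A B c := fun c => rfl
  let Msub : Submonoid ((CAlg2.normRed A) ⊗[A] B) :=
    (Sig A).map (algebraMap A ((CAlg2.normRed A) ⊗[A] B))
  have hMsub : ∀ m ∈ Msub, ∃ s ∈ Sig A, m = s • (1 : (CAlg2.normRed A) ⊗[A] B) := by
    rintro m ⟨s, hs, rfl⟩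
    exact ⟨s, hs, Algebra.algebraMap_eq_smul_one s⟩
  haveI hloc : IsLocalization Msub (B ⊗[A] FractionRing (CAlg2.red A)) := by
    rw [isLocalization_iff]
    refine ⟨?_, ?_, ?_⟩
    · rintro ⟨m, hm⟩
      obtain ⟨s, hs, rfl⟩ := hMsub m hm
      obtain ⟨t', ht'⟩ := exists_smul_eq_T A B s hs 1
      refine IsUnit.of_mul_eq_one t' ?_
      rw [halg, smul_iota, map_one, smul_mul_assoc, one_mul, ht']
    · intro t
      obtain ⟨s, hs, c, hc⟩ := exists_smul_mem_range A B t
      refine ⟨(c, ⟨s • 1, ⟨s, hs, Algebra.algebraMap_eq_smul_one s⟩⟩), ?_⟩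
      show t * algebraMap _ _ (s • (1 : (CAlg2.normRed A) ⊗[A] B)) = algebraMap _ _ c
      rw [halg, halg, smul_iota, map_one, mul_smul_comm, mul_one, hc]
    · intro x y hxy
      exact ⟨1, by rw [iota_injective A B hxy]⟩
  have hdisj : ∀ P : Ideal ((CAlg2.normRed A) ⊗[A] B),
      (∀ s ∈ Sig A, s • (1 : (CAlg2.normRed A) ⊗[A] B) ∉ P) →
      Disjoint (Msub : Set ((CAlg2.normRed A) ⊗[A] B)) (P : Set ((CAlg2.normRed A) ⊗[A] B)) := by
    intro P hP
    rw [Set.disjoint_left]
    intro m hm hmP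
    obtain ⟨s, hs, rfl⟩ := hMsub m hm
    exact hP s hs hmP
  have hav₁ := notMem_of_mem_minimalPrimes P₁ hP₁
  have hav₂ := notMem_of_mem_minimalPrimes P₂ hP₂
  -- the primes of `T`
  haveI hp₁ : (P₁.map (algebraMap _ (B ⊗[A] FractionRing (CAlg2.red A)))).IsPrime :=
    IsLocalization.isPrime_of_isPrime_disjoint Msub _ P₁ hP₁.1.1 (hdisj P₁ hav₁)
  haveI hp₂ : (P₂.map (algebraMap _ (B ⊗[A] FractionRing (CAlg2.red A)))).IsPrime :=
    IsLocalization.isPrime_of_isPrime_disjoint Msub _ P₂ hP₂.1.1 (hdisj P₂ hav₂)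
  have hu₁ : (P₁.map (algebraMap _ (B ⊗[A] FractionRing (CAlg2.red A)))).under
      ((CAlg2.normRed A) ⊗[A] B) = P₁ :=
    IsLocalization.under_map_of_isPrime_disjoint Msub _ hP₁.1.1 (hdisj P₁ hav₁)
  have hu₂ : (P₂.map (algebraMap _ (B ⊗[A] FractionRing (CAlg2.red A)))).under
      ((CAlg2.normRed A) ⊗[A] B) = P₂ :=
    IsLocalization.under_map_of_isPrime_disjoint Msub _ hP₂.1.1 (hdisj P₂ hav₂)
  have hne' : P₁.map (algebraMap _ (B ⊗[A] FractionRing (CAlg2.red A))) ≠
      P₂.map (algebraMap _ (B ⊗[A] FractionRing (CAlg2.red A))) := by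
    intro h
    apply hne
    rw [← hu₁, ← hu₂, h]
  -- `T` is zero-dimensional
  have hzero : ∀ p : Ideal (B ⊗[A] FractionRing (CAlg2.red A)), p.IsPrime → p.IsMaximal := by
    intro p hp
    obtain ⟨m, hm, hpm⟩ := Ideal.exists_le_maximal p hp.ne_top
    have hmp : m.IsPrime := hm.isPrime
    have h1 := (IsLocalization.isPrime_iff_isPrime_disjoint Msub _ p).1 hp
    have h2 := (IsLocalization.isPrime_iff_isPrime_disjoint Msub _ m).1 hmp
    have hav : ∀ (J : Ideal ((CAlg2.normRed A) ⊗[A] B)),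
        Disjoint (Msub : Set ((CAlg2.normRed A) ⊗[A] B)) (J : Set ((CAlg2.normRed A) ⊗[A] B)) →
        ∀ s ∈ Sig A, s • (1 : (CAlg2.normRed A) ⊗[A] B) ∉ J := by
      intro J hJ s hs hsJ
      exact Set.disjoint_left.1 hJ ⟨s, hs, Algebra.algebraMap_eq_smul_one s⟩ hsJ
    have h3 : p.under ((CAlg2.normRed A) ⊗[A] B) = m.under ((CAlg2.normRed A) ⊗[A] B) :=
      eq_of_le_of_disjoint hfin hQF _ _ h1.1 h2.1 (hav _ h1.2) (hav _ h2.2)
        (Ideal.comap_mono hpm)
    have h4 : p = m := by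
      rw [← IsLocalization.map_under Msub _ p, ← IsLocalization.map_under Msub _ m, h3]
    rw [h4]
    exact hm
  obtain ⟨e, he, he1, he2⟩ := exists_idempotent_separating hzero _ _ hne'
  -- `e` is integral over `B`
  have hint : IsIntegral B e := by
    refine ⟨Polynomial.X * (Polynomial.X - Polynomial.C 1), ?_, ?_⟩
    · exact Polynomial.monic_X.mul (Polynomial.monic_X_sub_C 1)
    · rw [Polynomial.eval₂_mul, Polynomial.eval₂_sub, Polynomial.eval₂_X, Polynomial.eval₂_C,
        map_one, mul_sub, mul_one, he.eq, sub_self]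
  obtain ⟨c, hc⟩ := mem_range_of_isIntegral A B hIS e hint
  have hc1 : c ∈ P₁ := by
    rw [← hu₁, Ideal.under_def, Ideal.mem_comap, halg, hc]
    exact he1
  have hc2 : 1 - c ∈ P₂ := by
    rw [← hu₂, Ideal.under_def, Ideal.mem_comap, halg, map_sub, map_one, hc]
    exact he2
  apply hM
  rw [Ideal.eq_top_iff_one]
  have : (1 : (CAlg2.normRed A) ⊗[A] B) = c + (1 - c) := by ring
  rw [this]
  exact Ideal.add_mem _ (h₁ hc1) (h₂ hc2)


/-- (I4): every prime of `A' ⊗[A] B` lies in exactly one maximal ideal (`B` henselian). -/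
theorem existsUnique_maximal_of_prime [HenselianLocalRing B]
    (P : Ideal ((CAlg2.normRed A) ⊗[A] B)) [hP : P.IsPrime] :
    ∃! m : Ideal ((CAlg2.normRed A) ⊗[A] B), m.IsMaximal ∧ P ≤ m :=
  existsUnique_maximal_of_prime' (C := (CAlg2.normRed A) ⊗[A] B) (phi A B) (phi_isIntegral A B) P

theorem main [Module.Flat A B] [HenselianLocalRing B] (hfin : (minimalPrimes A).Finite)
    (hQF : IndQF A B) (hIS : Smoothing.IndSmooth A B) :
    (∀ q ∈ minimalPrimes ((CAlg2.normRed A) ⊗[A] B),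
        ∃! m : Ideal ((CAlg2.normRed A) ⊗[A] B), m.IsMaximal ∧ q ≤ m) ∧
      (∀ m : Ideal ((CAlg2.normRed A) ⊗[A] B), m.IsMaximal →
        ∃! q : Ideal ((CAlg2.normRed A) ⊗[A] B),
          q ∈ minimalPrimes ((CAlg2.normRed A) ⊗[A] B) ∧ q ≤ m) := by
  refine ⟨fun q hq => ?_, fun m hm => ?_⟩
  · haveI := hq.1.1
    exact existsUnique_maximal_of_prime q
  · obtain ⟨q, hq, hqm⟩ := Ideal.exists_minimalPrimes_le (bot_le : (⊥ : Ideal _) ≤ m)
    refine ⟨q, ⟨hq, hqm⟩, ?_⟩
    rintro q' ⟨hq', hq'm⟩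
    exact minimalPrime_unique hfin hQF hIS m hm.ne_top q' q hq' hq hq'm hqm

end Main

end Groth.Agent.Lib.helper17.NormHens
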