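import Mathlib
import Groth.Prelude
import Groth.Agent.Lib.Helper17.NormHens
import Groth.Agent.Lib.Helper24.HensIndEtale
import Groth.Agent.Lib.Helper24.HensDim
import Groth.Agent.Lib.Helper24.IndEtaleProps
import Groth.Agent.Lib.Helper24.StrictHensProps

/-!
# helper17: (strict) henselizations are ind-quasi-finite and ind-smooth

`indQF_of_isHenselization`, `indSmooth_of_isHenselization`, `indQF_of_isStrictHenselization`,
`indSmooth_of_isStrictHenselization`: the hypotheses of `NormHens.main` for (strict) henselizations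
(from helper24's construction of the henselization as a union of local-étale algebras).
-/

set_option autoImplicit false
set_option linter.style.haveILetI false
universe u

namespace Groth.Agent.Lib.helper17.NormHens

open scoped TensorProduct
open IsLocalRing

section Transport

variable {A B B' : Type u} [CommRing A] [CommRing B] [CommRing B'] [Algebra A B] [Algebra A B']

theorem IndQF.of_algEquiv (e : B ≃ₐ[A] B') (h : IndQF A B) : IndQF A B' := by
  intro x
  obtain ⟨G, _, _, hG, φ, y, hy⟩ := h (e.symm x)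
  exact ⟨G, inferInstance, inferInstance, hG, e.toAlgHom.comp φ, y, by
    show e (φ y) = x
    rw [hy, AlgEquiv.apply_symm_apply]⟩

theorem indSmooth_of_algEquiv (e : B ≃ₐ[A] B') (h : Smoothing.IndSmooth A B) :
    Smoothing.IndSmooth A B' := by
  intro P _ _ hP f
  obtain ⟨D, _, _, hD, g, k, hk⟩ := h P hP (e.symm.toAlgHom.comp f)
  refine ⟨D, inferInstance, inferInstance, hD, g, e.toAlgHom.comp k, ?_⟩
  rw [AlgHom.comp_assoc, hk]
  ext x
  simp

/-- an ind-étale family gives ind-smoothness. -/
theorem indSmooth_of_family {ι : Type u} (C : ι → Type u) [∀ i, CommRing (C i)]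
    [∀ i, Algebra A (C i)] [∀ i, Algebra.Etale A (C i)] (φ : ∀ i, C i →ₐ[A] B)
    (hobj : ∀ i j, ∃ (k : ι) (ψ₁ : C i →ₐ[A] C k) (ψ₂ : C j →ₐ[A] C k),
      (φ k).comp ψ₁ = φ i ∧ (φ k).comp ψ₂ = φ j)
    (hker : ∀ (i : ι) (x : C i), φ i x = 0 →
      ∃ (j : ι) (ψ : C i →ₐ[A] C j), (φ j).comp ψ = φ i ∧ ψ x = 0)
    (hsurj : ∀ b : B, ∃ (i : ι) (c : C i), φ i c = b) : Smoothing.IndSmooth A B := by
  intro P _ _ hP f
  obtain ⟨i, ψ', hψ'⟩ := Groth.Agent.Lib.Helper24.IndEtaleProps.exists_factor C φ hobj hker hsurj P f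
  exact ⟨C i, inferInstance, inferInstance, inferInstance, ψ', φ i, hψ'⟩

end Transport

section Hens

open Groth.Agent.Lib.helper24.Henselization Groth.Agent.Lib.helper24.Henselization.Idx
  Groth.Agent.Lib.Helper24.HensIndEtale Groth.Agent.Lib.Helper24.HensDim

variable (A : Type u) [CommRing A] [IsLocalRing A]

theorem indQF_Hens : IndQF A (Hens A) := by
  intro x
  obtain ⟨i, y, rfl⟩ := exists_ofH x
  exact ⟨i.G, inferInstance, inferInstance, inferInstance, ofHₐ i, y, rfl⟩

theorem indSmooth_Hens : Smoothing.IndSmooth A (Hens A) :=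
  indSmooth_of_family (fun i : Idx A => i.C) φH hobjH hkerH hsurjH

variable (S : Type u) [CommRing S] [IsLocalRing S] [Algebra A S] [IsLocalHom (algebraMap A S)]
  [Hensel.IsHenselization A S]

theorem indQF_of_isHenselization : IndQF A S := by
  obtain ⟨e⟩ := exists_algEquiv A (Hens A) S
  exact (indQF_Hens A).of_algEquiv e

theorem indSmooth_of_isHenselization : Smoothing.IndSmooth A S := by
  obtain ⟨e⟩ := exists_algEquiv A (Hens A) S
  exact indSmooth_of_algEquiv e (indSmooth_Hens A)

end Hens

section Strict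

open Groth.Agent.Lib.Helper24.StrictHens Groth.Agent.Lib.Helper24.StrictHens.SIdx
  Groth.Agent.Lib.Helper24.HensIndEtale Groth.Agent.Lib.Helper24.HensDim

variable (A : Type u) [CommRing A] [IsLocalRing A]

theorem indQF_SH : IndQF A (SH A) := by
  intro x
  obtain ⟨i, y, rfl⟩ := exists_ofS x
  exact ⟨i.G, inferInstance, inferInstance, inferInstance, ofSₐ i, y, rfl⟩

theorem indSmooth_SH : Smoothing.IndSmooth A (SH A) :=
  indSmooth_of_family (fun i : SIdx A (Ωstd A) => i.C) φS hobj hker hsurj

variable (S : Type u) [CommRing S] [IsLocalRing S] [Algebra A S] [IsLocalHom (algebraMap A S)]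
  [Hensel.IsStrictHenselization A S]

theorem indQF_of_isStrictHenselization : IndQF A S := by
  obtain ⟨e⟩ := exists_algEquiv_SH A S
  exact (indQF_SH A).of_algEquiv e

theorem indSmooth_of_isStrictHenselization : Smoothing.IndSmooth A S := by
  obtain ⟨e⟩ := exists_algEquiv_SH A S
  exact indSmooth_of_algEquiv e (indSmooth_SH A)

end Strict

end Groth.Agent.Lib.helper17.NormHens
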