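import Mathlib
import Groth.Prelude
import Groth.Agent.Lib.Helper17.NormHens2

/-!
# helper17: counting minimal primes of a henselization-like algebra

`A` local, `A' = CAlg2.normRed A`, `B` a local faithfully flat `A`-algebra with `𝔪_A B = 𝔪_B` and
trivial residue extension (`hdense`).
* `comap_psi_isMaximal`, `map_psi_isMaximal`: maximal ideals of `A' ⊗[A] B` ↔ maximal ideals of `A'`.
* `card_minimalPrimes_eq`: if moreover `B` is henselian, ind-quasi-finite and ind-smooth and `A` has
  finitely many minimal primes then `#Min(B) = #Max(A')`.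
* `card_minimalPrimes_eq_top`: if `A` has infinitely many minimal primes so has `B`.
-/

set_option autoImplicit false
set_option linter.unusedSectionVars false
set_option linter.style.haveILetI false
universe u

namespace Groth.Agent.Lib.helper17.NormHens

open scoped TensorProduct
open IsLocalRing Groth.Agent.S2125

section MaxIdeals

variable (A : Type u) [CommRing A] [IsLocalRing A] (B : Type u) [CommRing B] [IsLocalRing B]
  [Algebra A B] [IsLocalHom (algebraMap A B)]

/-- `A' → A' ⊗[A] B`. -/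
abbrev psi : CAlg2.normRed A →+* (CAlg2.normRed A) ⊗[A] B :=
  (Algebra.TensorProduct.includeLeft : CAlg2.normRed A →ₐ[A] (CAlg2.normRed A) ⊗[A] B).toRingHom

theorem psi_apply (x : CAlg2.normRed A) : psi A B x = x ⊗ₜ[A] (1 : B) := rfl


theorem psi_comp_algebraMap (a : A) :
    psi A B (algebraMap A (CAlg2.normRed A) a) = phi A B (algebraMap A B a) := by
  rw [psi_apply, phi_apply, Algebra.algebraMap_eq_smul_one, Algebra.algebraMap_eq_smul_one,
    TensorProduct.smul_tmul]

/-- the contraction to `A'` of a maximal ideal of `A' ⊗[A] B` is maximal. -/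
theorem comap_psi_isMaximal (M : Ideal ((CAlg2.normRed A) ⊗[A] B)) [hM : M.IsMaximal] :
    (M.comap (psi A B)).IsMaximal := by
  haveI : (M.comap (psi A B)).IsPrime := Ideal.IsPrime.comap _
  have h1 : (M.comap (phi A B)).IsMaximal := by
    letI : Algebra B ((CAlg2.normRed A) ⊗[A] B) := (phi A B).toAlgebra
    haveI : Algebra.IsIntegral B ((CAlg2.normRed A) ⊗[A] B) := ⟨phi_isIntegral A B⟩
    exact Ideal.isMaximal_comap_of_isIntegral_of_isMaximal (R := B)
      (S := (CAlg2.normRed A) ⊗[A] B) M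
  have h2 : M.comap (phi A B) = maximalIdeal B := IsLocalRing.eq_maximalIdeal h1
  haveI := isIntegral_normRed A
  apply Ideal.isMaximal_of_isIntegral_of_isMaximal_comap (R := A)
  have h3 : (M.comap (psi A B)).comap (algebraMap A (CAlg2.normRed A)) = maximalIdeal A := by
    ext a
    rw [Ideal.mem_comap, Ideal.mem_comap, psi_comp_algebraMap, ← Ideal.mem_comap, h2,
      ← Ideal.mem_comap, IsLocalRing.maximalIdeal_comap]
  rw [h3]
  exact IsLocalRing.maximalIdeal.isMaximal A

variable {A B}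

/-- for a maximal ideal `m'` of `A'`, `m' (A' ⊗[A] B)` is a maximal ideal contracting to `m'`. -/
theorem map_psi_isMaximal [Module.FaithfullyFlat A B]
    (hmax : (maximalIdeal A).map (algebraMap A B) = maximalIdeal B)
    (hdense : ∀ b : B, ∃ a : A, b - algebraMap A B a ∈ maximalIdeal B)
    (m' : Ideal (CAlg2.normRed A)) [hm' : m'.IsMaximal] :
    (m'.map (psi A B)).IsMaximal ∧ (m'.map (psi A B)).comap (psi A B) = m' := by
  classical
  -- `m'` contracts to the maximal ideal of `A`
  haveI := isIntegral_normRed A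
  have hcontr : m'.comap (algebraMap A (CAlg2.normRed A)) = maximalIdeal A :=
    IsLocalRing.eq_maximalIdeal (Ideal.isMaximal_comap_of_isIntegral_of_isMaximal (R := A) m')
  -- properness
  have hne : m'.map (psi A B) ≠ ⊤ := by
    haveI : Nontrivial (CAlg2.normRed A ⧸ m') := Ideal.Quotient.nontrivial_iff.2 hm'.ne_top
    haveI : Nontrivial ((CAlg2.normRed A ⧸ m') ⊗[A] B) :=
      (Module.FaithfullyFlat.nontrivial_tensorProduct_iff_left (R := A)
        (M := CAlg2.normRed A ⧸ m') (N := B)).2 inferInstance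
    let f : (CAlg2.normRed A) ⊗[A] B →ₐ[A] (CAlg2.normRed A ⧸ m') ⊗[A] B :=
      Algebra.TensorProduct.map (Ideal.Quotient.mkₐ A m') (AlgHom.id A B)
    have hle : m'.map (psi A B) ≤ RingHom.ker f := by
      rw [Ideal.map_le_iff_le_comap]
      intro x hx
      rw [Ideal.mem_comap, RingHom.mem_ker, psi_apply]
      show f (x ⊗ₜ[A] (1 : B)) = 0
      rw [Algebra.TensorProduct.map_tmul]
      have : Ideal.Quotient.mkₐ A m' x = 0 := Ideal.Quotient.eq_zero_iff_mem.2 hx
      rw [this, TensorProduct.zero_tmul]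
    intro htop
    rw [htop, top_le_iff] at hle
    exact RingHom.ker_ne_top _ hle
  have hcomap : (m'.map (psi A B)).comap (psi A B) = m' :=
    (hm'.eq_of_le (Ideal.comap_ne_top _ hne) Ideal.le_comap_map).symm
  refine ⟨?_, hcomap⟩
  -- `x ⊗ μ ∈ m' C` for `μ ∈ 𝔪_A B`
  have hmu : ∀ μ ∈ (maximalIdeal A).map (algebraMap A B), ∀ x : CAlg2.normRed A,
      x ⊗ₜ[A] μ ∈ m'.map (psi A B) := by
    intro μ hμ x
    refine Submodule.span_induction (p := fun μ _ => x ⊗ₜ[A] μ ∈ m'.map (psi A B))
      ?_ ?_ ?_ ?_ hμ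
    · rintro _ ⟨α, hα, rfl⟩
      have h1 : x ⊗ₜ[A] (algebraMap A B α) = psi A B (α • x) := by
        rw [psi_apply, Algebra.algebraMap_eq_smul_one, TensorProduct.tmul_smul,
          TensorProduct.smul_tmul']
      rw [h1]
      apply Ideal.mem_map_of_mem
      rw [Algebra.smul_def]
      apply Ideal.mul_mem_right
      rw [← Ideal.mem_comap, hcontr]
      exact hα
    · rw [TensorProduct.tmul_zero]
      exact Ideal.zero_mem _
    · intro u v _ _ hu hv
      rw [TensorProduct.tmul_add]
      exact Ideal.add_mem _ hu hv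
    · intro s u _ hu
      have h1 : x ⊗ₜ[A] (s • u) = ((1 : CAlg2.normRed A) ⊗ₜ[A] s) * (x ⊗ₜ[A] u) := by
        rw [Algebra.TensorProduct.tmul_mul_tmul, one_mul, smul_eq_mul]
      rw [h1]
      exact Ideal.mul_mem_left _ _ hu
  -- every element is congruent to an element of `ψ(A')`
  have hgen : ∀ y : (CAlg2.normRed A) ⊗[A] B, ∃ x : CAlg2.normRed A,
      y - psi A B x ∈ m'.map (psi A B) := by
    intro y
    induction y using TensorProduct.induction_on with
    | zero => exact ⟨0, by simp⟩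
    | tmul x b =>
      obtain ⟨a, ha⟩ := hdense b
      refine ⟨a • x, ?_⟩
      have h1 : x ⊗ₜ[A] b - psi A B (a • x) = x ⊗ₜ[A] (b - algebraMap A B a) := by
        rw [psi_apply, TensorProduct.tmul_sub, Algebra.algebraMap_eq_smul_one (A := B),
          TensorProduct.tmul_smul, TensorProduct.smul_tmul']
      rw [h1]
      exact hmu _ (hmax ▸ ha) x
    | add y z hy hz =>
      obtain ⟨x, hx⟩ := hy
      obtain ⟨x', hx'⟩ := hz
      refine ⟨x + x', ?_⟩
      have : y + z - psi A B (x + x') = (y - psi A B x) + (z - psi A B x') := by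
        rw [map_add]; ring
      rw [this]
      exact Ideal.add_mem _ hx hx'
  rw [Ideal.isMaximal_iff]
  refine ⟨fun h1 => hne ((Ideal.eq_top_iff_one _).2 h1), ?_⟩
  intro I y hJI hyJ hyI
  obtain ⟨x, hx⟩ := hgen y
  have hxm : x ∉ m' := by
    intro hxm
    apply hyJ
    have : y = (y - psi A B x) + psi A B x := by ring
    rw [this]
    exact Ideal.add_mem _ hx (Ideal.mem_map_of_mem _ hxm)
  obtain ⟨z, i, hi, hzi⟩ := hm'.exists_inv hxm
  -- `1 = z x + i`
  have h1 : (1 : (CAlg2.normRed A) ⊗[A] B) = psi A B z * psi A B x + psi A B i := by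
    rw [← map_mul, ← map_add, hzi, map_one]
  rw [h1]
  refine Ideal.add_mem _ (Ideal.mul_mem_left _ _ ?_) (hJI (Ideal.mem_map_of_mem _ hi))
  have : psi A B x = y + (-1) * (y - psi A B x) := by ring
  rw [this]
  exact Ideal.add_mem _ hyI (Ideal.mul_mem_left _ _ (hJI hx))

end MaxIdeals


section Count

variable {A : Type u} [CommRing A] [IsLocalRing A] {B : Type u} [CommRing B] [IsLocalRing B]
  [Algebra A B] [IsLocalHom (algebraMap A B)]

theorem card_minimalPrimes_eq [Module.FaithfullyFlat A B] [HenselianLocalRing B]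
    (hfin : (minimalPrimes A).Finite) (hQF : IndQF A B) (hIS : Smoothing.IndSmooth A B)
    (hmax : (maximalIdeal A).map (algebraMap A B) = maximalIdeal B)
    (hdense : ∀ b : B, ∃ a : A, b - algebraMap A B a ∈ maximalIdeal B) :
    ENat.card (minimalPrimes B) = ENat.card (MaximalSpectrum (CAlg2.normRed A)) := by
  classical
  have hmain := main (A := A) (B := B) hfin hQF hIS
  rw [← ENat.card_congr (bijOn_minimalPrimes A B).equiv]
  -- the maximal ideal containing a minimal prime
  have hex : ∀ q : minimalPrimes ((CAlg2.normRed A) ⊗[A] B),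
      ∃ m : Ideal ((CAlg2.normRed A) ⊗[A] B), m.IsMaximal ∧ q.1 ≤ m :=
    fun q => (hmain.1 q.1 q.2).exists
  choose Mq hMq using hex
  let F : minimalPrimes ((CAlg2.normRed A) ⊗[A] B) → MaximalSpectrum (CAlg2.normRed A) :=
    fun q => ⟨(Mq q).comap (psi A B), by
      haveI := (hMq q).1
      exact comap_psi_isMaximal A B (Mq q)⟩
  have hMeq : ∀ M : Ideal ((CAlg2.normRed A) ⊗[A] B), M.IsMaximal →
      M = (M.comap (psi A B)).map (psi A B) := by
    intro M hM
    haveI := hM
    haveI := comap_psi_isMaximal A B M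
    have h1 := (map_psi_isMaximal hmax hdense (M.comap (psi A B))).1
    exact (h1.eq_of_le hM.ne_top Ideal.map_comap_le).symm
  refine ENat.card_congr (Equiv.ofBijective F ⟨?_, ?_⟩)
  · intro q₁ q₂ h12
    have h1 : (Mq q₁).comap (psi A B) = (Mq q₂).comap (psi A B) :=
      congrArg MaximalSpectrum.asIdeal h12
    have h2 : Mq q₁ = Mq q₂ := by
      rw [hMeq _ (hMq q₁).1, hMeq _ (hMq q₂).1, h1]
    have h3 := (hmain.2 (Mq q₁) (hMq q₁).1).unique ⟨q₁.2, (hMq q₁).2⟩
      ⟨q₂.2, h2 ▸ (hMq q₂).2⟩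
    exact Subtype.ext h3
  · intro m'
    haveI := m'.isMaximal
    obtain ⟨hJmax, hJc⟩ := map_psi_isMaximal hmax hdense m'.asIdeal
    obtain ⟨q, hq, hqJ⟩ := Ideal.exists_minimalPrimes_le
      (bot_le : (⊥ : Ideal _) ≤ m'.asIdeal.map (psi A B))
    refine ⟨⟨q, hq⟩, ?_⟩
    have h1 : Mq ⟨q, hq⟩ = m'.asIdeal.map (psi A B) :=
      (hmain.1 q hq).unique (hMq ⟨q, hq⟩) ⟨hJmax, hqJ⟩
    apply MaximalSpectrum.ext
    show (Mq ⟨q, hq⟩).comap (psi A B) = m'.asIdeal
    rw [h1, hJc]

theorem card_minimalPrimes_eq_top [Module.FaithfullyFlat A B]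
    (hinf : ¬ (minimalPrimes A).Finite) : ENat.card (minimalPrimes B) = ⊤ := by
  rw [ENat.card_eq_top, Set.infinite_coe_iff]
  intro hfinB
  apply hinf
  refine (hfinB.image (fun q : Ideal B => q.comap (algebraMap A B))).subset ?_
  intro p hp
  haveI := hp.1.1
  obtain ⟨Q, hQ⟩ := PrimeSpectrum.comap_surjective_of_faithfullyFlat (A := A) (B := B) ⟨p, hp.1.1⟩
  obtain ⟨q, hq, hqQ⟩ := Ideal.exists_minimalPrimes_le (bot_le : (⊥ : Ideal B) ≤ Q.asIdeal)
  refine ⟨q, hq, ?_⟩
  haveI := hq.1.1
  have h1 : q.comap (algebraMap A B) ≤ p := by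
    have h2 : Q.asIdeal.comap (algebraMap A B) = p := congrArg PrimeSpectrum.asIdeal hQ
    rw [← h2]
    exact Ideal.comap_mono hqQ
  exact le_antisymm h1 (hp.2 ⟨Ideal.IsPrime.comap _, bot_le⟩ h1)

end Count

end Groth.Agent.Lib.helper17.NormHens
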