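import Mathlib
import Groth.Agent.Lib.Helper24.IndEtaleCancel
import Groth.Agent.Lib.Helper24.HensAtPrime
import Groth.Agent.Lib.Helper24.StrictHensProps
import Groth.Agent.Lib.Helper24.HensIndEtale
import Groth.Agent.Lib.Helper24.FlatOverIndEtale
import Groth.Agent.Lib.Helper24.IndEtaleProps
import Groth.Agent.Lib.Helper24.HensRegular
import Groth.Agent.Lib.Helper24.HensNoeth
import Groth.Agent.Lib.Helper17.FFMin
import Groth.Agent.Lib.Helper17.HensFib3
import Groth.Agent.S9237
import Groth.Agent.S9238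
import Groth.Agent.S9236

/-!
# Purely inseparable residue fields of the normalization and minimal primes of `A^sh` (helper17)

For a local ring `A` with henselization `Ah`, strict henselization `Ash` and an `A`-algebra map
`Ah → Ash`: `Ah → Ash` is ind-étale, flat, local; `q Ash` is radical for primes `q`;
`injOn_iff`: contraction `Min(Ash) → Min(Ah)` is injective iff every minimal prime of `Ash` is
extended from `Ah`; `geom_eq_iff_injOn`, `geom_eq_iff_subsingleton`: numerical criteria;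
`pi_transport`: transport of the "purely inseparable residue field" condition along a ring iso.
-/

set_option autoImplicit false
set_option linter.style.haveILetI false
set_option linter.unusedSectionVars false
universe u

namespace Groth.Agent.Lib.helper17.BranchPI

open IsLocalRing
open scoped TensorProduct

variable (A Ah Ash : Type u) [CommRing A] [IsLocalRing A]
    [CommRing Ah] [IsLocalRing Ah] [Algebra A Ah] [IsLocalHom (algebraMap A Ah)]
    [Hensel.IsHenselization A Ah]
    [CommRing Ash] [IsLocalRing Ash] [Algebra A Ash] [IsLocalHom (algebraMap A Ash)]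
    [Hensel.IsStrictHenselization A Ash] [Algebra Ah Ash] [IsScalarTower A Ah Ash]

theorem isIndEtale_strict : EtPBC.IsIndEtale A Ash := by
  obtain ⟨e⟩ := Groth.Agent.Lib.Helper24.StrictHens.exists_algEquiv_SH A Ash
  exact Groth.Agent.Lib.Helper24.IndEtaleCrit.isIndEtale_of_algEquiv e
    (Groth.Agent.Lib.Helper24.HensIndEtale.isIndEtale_SHens A _)

include A in
theorem isIndEtale_hs : EtPBC.IsIndEtale Ah Ash :=
  Groth.Agent.Lib.Helper24.IndEtaleCancel.isIndEtale_cancel A Ah Ash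
    (Groth.Agent.Lib.Helper24.HensAtPrime.isIndEtale_of_isHenselization A Ah)
    (isIndEtale_strict A Ash)

include A in
theorem flat_hs : Module.Flat Ah Ash := by
  haveI : Module.Flat A Ash :=
    (Groth.Agent.Lib.Helper24.StrictHens.faithfullyFlat_of_isStrictHenselization A Ash).1
  exact Groth.Agent.Lib.Helper24.FlatOverIndEtale.flat_of_isIndEtale
    (Groth.Agent.Lib.Helper24.HensAtPrime.isIndEtale_of_isHenselization A Ah) Ash

include A in
theorem isLocalHom_hs : IsLocalHom (algebraMap Ah Ash) := by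
  refine ((IsLocalRing.local_hom_TFAE (algebraMap Ah Ash)).out 0 2).2 ?_
  rw [← Groth.Agent.Lib.Helper24.HensRegular.map_maximalIdeal_of_isHenselization A Ah,
    Ideal.map_map, ← IsScalarTower.algebraMap_eq]
  exact ((IsLocalRing.local_hom_TFAE (algebraMap A Ash)).out 0 2).1 ‹_›

include A in
theorem isRadical_map (q : Ideal Ah) [hq : q.IsPrime] :
    (q.map (algebraMap Ah Ash)).IsRadical := by
  have h1 : EtPBC.IsIndEtale (Ah ⧸ q) ((Ah ⧸ q) ⊗[Ah] Ash) :=
    Groth.Agent.S0733.result Ah Ash (Ah ⧸ q) (isIndEtale_hs A Ah Ash)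
  haveI : IsDomain (Ah ⧸ q) := Ideal.Quotient.isDomain q
  haveI h2 : IsReduced ((Ah ⧸ q) ⊗[Ah] Ash) :=
    Groth.Agent.Lib.Helper24.IndEtaleProps.isReduced_of_isIndEtale (Ah ⧸ q) _ h1
  let e := Algebra.TensorProduct.quotIdealMapEquivQuotTensor Ash q
  haveI h3 : IsReduced (Ash ⧸ q.map (algebraMap Ah Ash)) :=
    isReduced_of_injective e.toRingEquiv.toRingHom e.injective
  exact (Ideal.isRadical_iff_quotient_reduced _).2 h3

include A in
theorem injOn_iff :
    Set.InjOn (Ideal.comap (algebraMap Ah Ash)) (minimalPrimes Ash) ↔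
      ∀ Q ∈ minimalPrimes Ash, Q = Ideal.map (algebraMap Ah Ash) (Q.comap (algebraMap Ah Ash)) := by
  haveI := flat_hs A Ah Ash
  have hmaps := Groth.Agent.Lib.helper17.FFMin.mapsTo_minimalPrimes_of_flat Ah Ash
  constructor
  · intro hinj Q hQ
    haveI hQp : Q.IsPrime := hQ.1.1
    haveI hqp : (Q.comap (algebraMap Ah Ash)).IsPrime := Ideal.IsPrime.comap _
    have hqmin : Q.comap (algebraMap Ah Ash) ∈ minimalPrimes Ah := hmaps hQ
    have hrad := isRadical_map A Ah Ash (Q.comap (algebraMap Ah Ash))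
    have hIQ : (Q.comap (algebraMap Ah Ash)).map (algebraMap Ah Ash) ≤ Q := Ideal.map_comap_le
    have hall : ∀ Q' ∈ ((Q.comap (algebraMap Ah Ash)).map (algebraMap Ah Ash)).minimalPrimes,
        Q' = Q := by
      intro Q' hQ'
      haveI hQ'p : Q'.IsPrime := hQ'.1.1
      obtain ⟨Q'', hQ'', hQ''Q'⟩ := Ideal.exists_minimalPrimes_le (I := ⊥) (J := Q') bot_le
      haveI := hQ''.1.1
      have h1 : Q''.comap (algebraMap Ah Ash) ≤ Q'.comap (algebraMap Ah Ash) :=
        Ideal.comap_mono hQ''Q'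
      have h0 : Q''.comap (algebraMap Ah Ash) ∈ minimalPrimes Ah := hmaps hQ''
      -- `comap Q'' = q`?  we know `q ≤ comap Q'`
      have hqQ' : Q.comap (algebraMap Ah Ash) ≤ Q'.comap (algebraMap Ah Ash) := by
        rw [← Ideal.map_le_iff_le_comap]
        exact hQ'.1.2
      -- going down: a prime below `Q'` lying over `q`
      haveI : Q'.LiesOver (Q'.under Ah) := ⟨rfl⟩
      obtain ⟨P, hPQ', hPp, hPover⟩ := Ideal.exists_ideal_le_liesOver_of_le Q'
        (p := Q.comap (algebraMap Ah Ash)) (q := Q'.under Ah) hqQ'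
      have hIP : (Q.comap (algebraMap Ah Ash)).map (algebraMap Ah Ash) ≤ P := by
        rw [Ideal.map_le_iff_le_comap]
        exact hPover.over.le
      have hPQ : P = Q' := le_antisymm hPQ' (hQ'.2 ⟨hPp, hIP⟩ hPQ')
      have hcomapQ' : Q'.comap (algebraMap Ah Ash) = Q.comap (algebraMap Ah Ash) := by
        rw [← hPQ]
        exact hPover.over.symm
      -- `Q'` is a minimal prime of `Ash`
      have h2 : Q''.comap (algebraMap Ah Ash) = Q.comap (algebraMap Ah Ash) := by
        refine le_antisymm (hcomapQ' ▸ h1) ?_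
        exact hqmin.2 ⟨h0.1.1, bot_le⟩ (hcomapQ' ▸ h1)
      have h3 : (Q.comap (algebraMap Ah Ash)).map (algebraMap Ah Ash) ≤ Q'' := by
        rw [Ideal.map_le_iff_le_comap, h2]
      have h4 : Q' = Q'' := le_antisymm (hQ'.2 ⟨hQ''.1.1, h3⟩ hQ''Q') hQ''Q'
      have hQ'min : Q' ∈ minimalPrimes Ash := h4 ▸ hQ''
      exact hinj hQ'min hQ hcomapQ'
    have hQmem : Q ∈ ((Q.comap (algebraMap Ah Ash)).map (algebraMap Ah Ash)).minimalPrimes :=
      ⟨⟨hQp, hIQ⟩, fun P hP hPQ => hQ.2 ⟨hP.1, bot_le⟩ hPQ⟩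
    have hset : ((Q.comap (algebraMap Ah Ash)).map (algebraMap Ah Ash)).minimalPrimes = {Q} := by
      ext Q'
      constructor
      · intro h
        exact hall Q' h
      · rintro rfl
        exact hQmem
    have := Ideal.sInf_minimalPrimes (I := (Q.comap (algebraMap Ah Ash)).map (algebraMap Ah Ash))
    rw [hset, sInf_singleton, hrad.radical] at this
    exact this
  · intro h Q₁ h₁ Q₂ h₂ h12
    rw [h Q₁ h₁, h Q₂ h₂, h12]

theorem isNoetherianRing_strict [IsNoetherianRing A] : IsNoetherianRing Ash := by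
  obtain ⟨e⟩ := Groth.Agent.Lib.Helper24.StrictHens.exists_algEquiv_SH A Ash
  haveI : IsNoetherianRing (Groth.Agent.Lib.Helper24.StrictHens.SH A) :=
    Groth.Agent.Lib.Helper24.HensNoeth.isNoetherianRing_SHens
  exact isNoetherianRing_of_ringEquiv _ e.toRingEquiv

include A in
theorem geom_eq_iff_injOn [IsNoetherianRing A] :
    Brnch.numGeomBranches A = Brnch.numBranches A ↔
      Set.InjOn (Ideal.comap (algebraMap Ah Ash)) (minimalPrimes Ash) := by
  classical
  haveI := flat_hs A Ah Ash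
  haveI := isLocalHom_hs A Ah Ash
  haveI : Module.FaithfullyFlat Ah Ash := Module.FaithfullyFlat.of_flat_of_isLocalHom
  haveI : IsNoetherianRing Ash := isNoetherianRing_strict A Ash
  haveI : IsNoetherianRing Ah :=
    Groth.Agent.Lib.helper17.HensFib.isNoetherianRing_of_isHenselization A Ah
  have hmaps := Groth.Agent.Lib.helper17.FFMin.mapsTo_minimalPrimes_of_flat Ah Ash
  have hsurj := Groth.Agent.Lib.helper17.FFMin.surjOn_minimalPrimes_of_faithfullyFlat Ah Ash
  have himg : Ideal.comap (algebraMap Ah Ash) '' (minimalPrimes Ash) = minimalPrimes Ah :=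
    Set.Subset.antisymm (Set.image_subset_iff.2 hmaps) hsurj
  have hfinS : (minimalPrimes Ash).Finite := minimalPrimes.finite_of_isNoetherianRing Ash
  have hfinH : (minimalPrimes Ah).Finite := minimalPrimes.finite_of_isNoetherianRing Ah
  rw [← Groth.Agent.S9237.result A Ah, ← Groth.Agent.S9238.result A Ash,
    ← Set.ncard_image_iff hfinS, himg]
  show (minimalPrimes Ash).encard = (minimalPrimes Ah).encard ↔ _
  rw [← hfinS.cast_ncard_eq, ← hfinH.cast_ncard_eq, Nat.cast_inj]
  exact eq_comm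

theorem geom_eq_iff_subsingleton (A : Type u) [CommRing A] [IsLocalRing A]
    (hfinmin : (minimalPrimes A).Finite) (hfin : Finite (MaximalSpectrum (CAlg2.normRed A))) :
    Brnch.numGeomBranches A = Brnch.numBranches A ↔
      ∀ M : MaximalSpectrum (CAlg2.normRed A), Subsingleton (Brnch.Emb A M) := by
  classical
  unfold Brnch.numGeomBranches Brnch.numBranches
  rw [if_pos hfinmin, if_pos hfinmin]
  constructor
  · intro h M
    have hlt : ENat.card (Σ m' : MaximalSpectrum (CAlg2.normRed A), Brnch.Emb A m') < ⊤ := by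
      rw [h]
      exact ENat.card_lt_top_of_finite
    haveI hfinSig : Finite (Σ m' : MaximalSpectrum (CAlg2.normRed A), Brnch.Emb A m') :=
      ENat.card_lt_top.1 hlt
    have hsurj : Function.Surjective
        (Sigma.fst : (Σ m' : MaximalSpectrum (CAlg2.normRed A), Brnch.Emb A m') → _) := by
      intro M'
      obtain ⟨e⟩ := Groth.Agent.S9236.nonempty_emb A M'
      exact ⟨⟨M', e⟩, rfl⟩
    have hcard : Nat.card (Σ m' : MaximalSpectrum (CAlg2.normRed A), Brnch.Emb A m') ≤
        Nat.card (MaximalSpectrum (CAlg2.normRed A)) := by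
      have h1 := congrArg ENat.toNat h
      rw [ENat.card_eq_coe_natCard, ENat.card_eq_coe_natCard] at h1
      simp only [ENat.toNat_natCast] at h1
      exact h1.le
    have hbij := hsurj.bijective_of_nat_card_le hcard
    refine ⟨fun e₁ e₂ => ?_⟩
    have := hbij.1 (a₁ := ⟨M, e₁⟩) (a₂ := ⟨M, e₂⟩) rfl
    exact eq_of_heq (Sigma.mk.inj this).2
  · intro h
    haveI : ∀ M : MaximalSpectrum (CAlg2.normRed A), Unique (Brnch.Emb A M) := fun M =>
      haveI := h M
      haveI : Nonempty (Brnch.Emb A M) := Groth.Agent.S9236.nonempty_emb A M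
      Classical.choice ((unique_iff_subsingleton_and_nonempty _).2 ⟨inferInstance, inferInstance⟩)
    exact ENat.card_congr (Equiv.sigmaUnique _ _)

theorem pi_transport {A R₁ R₂ : Type u} [CommRing A] [CommRing R₁] [CommRing R₂]
    (f₁ : A →+* R₁) (f₂ : A →+* R₂)
    (Θ : R₁ ≃+* R₂) (hΘ : ∀ a, Θ (f₁ a) = f₂ a) (M₂ : Ideal R₂) [hM₂ : M₂.IsMaximal]
    (h : ∀ x : R₂ ⧸ M₂, ∃ n : ℕ, x ^ (ringExpChar (R₂ ⧸ M₂)) ^ n ∈
      ((Ideal.Quotient.mk M₂).comp f₂).range) :
    ∀ x : R₁ ⧸ M₂.comap (Θ : R₁ →+* R₂), ∃ n : ℕ,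
      x ^ (ringExpChar (R₁ ⧸ M₂.comap (Θ : R₁ →+* R₂))) ^ n ∈
      ((Ideal.Quotient.mk (M₂.comap (Θ : R₁ →+* R₂))).comp f₁).range := by
  haveI hM₁ : (M₂.comap (Θ : R₁ →+* R₂)).IsMaximal :=
    Ideal.comap_isMaximal_of_surjective _ Θ.surjective
  letI : Field (R₂ ⧸ M₂) := Ideal.Quotient.field M₂
  letI : Field (R₁ ⧸ M₂.comap (Θ : R₁ →+* R₂)) := Ideal.Quotient.field _
  have hinj : Function.Injective
      (Ideal.quotientMap M₂ (Θ : R₁ →+* R₂) (le_refl (M₂.comap (Θ : R₁ →+* R₂)))) :=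
    Ideal.quotientMap_injective
  haveI e1 : ExpChar (R₁ ⧸ M₂.comap (Θ : R₁ →+* R₂))
      (ringExpChar (R₁ ⧸ M₂.comap (Θ : R₁ →+* R₂))) := ringExpChar.expChar _
  haveI e2 : ExpChar (R₂ ⧸ M₂) (ringExpChar (R₁ ⧸ M₂.comap (Θ : R₁ →+* R₂))) :=
    expChar_of_injective_ringHom hinj _
  haveI e3 : ExpChar (R₂ ⧸ M₂) (ringExpChar (R₂ ⧸ M₂)) := ringExpChar.expChar _
  have hq : ringExpChar (R₂ ⧸ M₂) = ringExpChar (R₁ ⧸ M₂.comap (Θ : R₁ →+* R₂)) :=
    ExpChar.eq e3 e2
  intro x
  obtain ⟨n, a, ha⟩ := h (Ideal.quotientMap M₂ (Θ : R₁ →+* R₂) le_rfl x)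
  refine ⟨n, a, ?_⟩
  apply hinj
  rw [map_pow, ← hq, ← ha]
  show Ideal.quotientMap M₂ (Θ : R₁ →+* R₂) le_rfl (Ideal.Quotient.mk _ (f₁ a)) =
    Ideal.Quotient.mk M₂ (f₂ a)
  rw [Ideal.quotientMap_mk, ← hΘ]
  rfl

end Groth.Agent.Lib.helper17.BranchPI
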