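import Mathlib
import Groth.Prelude.Def_Found
import Groth.Agent.Lib.Helper24.FlatDepth3
import Groth.Agent.Lib.Helper24.SerreNormal4
import Groth.Agent.Lib.Helper26.Depth5
import Groth.Agent.Lib.Helper24.IntegralHensel
import Groth.Agent.Lib.Helper12.HenselUniv

/-!
# Components of dimension `≥ 2` ascend along flat local homomorphisms (helper17)

* `ringKrullDim_quotient_le_of_strictMono`: `dim T/P ≤ dim U/f⁻¹P` when `Spec T → Spec U` is
  strictly monotone.
* `two_le_dim_of_normal_cover`: `R₀ → S₀` flat local, `R'` a finite `R₀`-algebra which is a normal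
  Noetherian local domain of dimension `≥ 2` with `ker (R₀ → R') ⊆ q ∩ R₀` for a minimal prime `q`
  of `S₀`; then `dim S₀/q ≥ 2`  (depth of `R' ⊗ S₀` is `≥ 2`, minimal primes are associated).
* `two_le_dim_quotient_of_flat`: the same with `R₀` henselian and Nagata, `R'` the normalization of
  `R₀/(q ∩ R₀)`.
-/

set_option autoImplicit false
set_option linter.style.haveILetI false
universe u

namespace Groth.Agent.Lib.helper17.C2Flat

open IsLocalRing
open scoped TensorProduct

theorem ringKrullDim_quotient_le_of_strictMono {U T : Type u} [CommRing U] [CommRing T]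
    (f : U →+* T) (P : Ideal T)
    (hmono : ∀ P₁ P₂ : Ideal T, P₁.IsPrime → P₂.IsPrime → P₁ < P₂ → P₁.comap f < P₂.comap f) :
    ringKrullDim (T ⧸ P) ≤ ringKrullDim (U ⧸ P.comap f) := by
  let g : U ⧸ P.comap f →+* T ⧸ P := Ideal.quotientMap P f le_rfl
  have hg : g.comp (Ideal.Quotient.mk (P.comap f)) = (Ideal.Quotient.mk P).comp f :=
    Ideal.quotientMap_comp_mk le_rfl
  refine Order.krullDim_le_of_strictMono (f := PrimeSpectrum.comap g) ?_
  intro a b hab
  rw [← PrimeSpectrum.asIdeal_lt_asIdeal] at hab ⊢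
  have h1 : a.asIdeal.comap (Ideal.Quotient.mk P) < b.asIdeal.comap (Ideal.Quotient.mk P) :=
    (Ideal.comap_mono hab.le).lt_of_ne (fun h => hab.ne
      (Ideal.comap_injective_of_surjective _ Ideal.Quotient.mk_surjective h))
  have h2 := hmono _ _ (Ideal.comap_isPrime _ _) (Ideal.comap_isPrime _ _) h1
  rw [Ideal.comap_comap, Ideal.comap_comap, ← hg, ← Ideal.comap_comap, ← Ideal.comap_comap] at h2
  refine (Ideal.comap_mono hab.le).lt_of_ne (fun h => h2.ne ?_)
  show Ideal.comap _ (Ideal.comap g a.asIdeal) = Ideal.comap _ (Ideal.comap g b.asIdeal)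
  have h' : Ideal.comap g a.asIdeal = Ideal.comap g b.asIdeal := h
  rw [h']

/-- kernel of `S₀ → R' ⊗ S₀` for flat `S₀`. -/
theorem ker_includeRight_le (R₀ S₀ R' : Type u) [CommRing R₀] [CommRing S₀] [Algebra R₀ S₀]
    [Module.Flat R₀ S₀] [CommRing R'] [Algebra R₀ R'] (q : Ideal S₀)
    (hker : RingHom.ker (algebraMap R₀ R') ≤ q.comap (algebraMap R₀ S₀)) (s : S₀)
    (hs : (1 : R') ⊗ₜ[R₀] s = 0) : s ∈ q := by
  set K : Ideal R₀ := RingHom.ker (algebraMap R₀ R') with hK
  let f : (R₀ ⧸ K) →ₗ[R₀] R' :=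
    Submodule.liftQ K (Algebra.linearMap R₀ R') (fun x hx => hx)
  have hf : Function.Injective f := by
    rw [← LinearMap.ker_eq_bot]
    exact Submodule.ker_liftQ_eq_bot _ _ _ (fun x hx => hx)
  have hinj := Module.Flat.rTensor_preserves_injective_linearMap (M := S₀) f hf
  have h1 : ((1 : R₀ ⧸ K) ⊗ₜ[R₀] s : (R₀ ⧸ K) ⊗[R₀] S₀) = 0 := by
    apply hinj
    rw [LinearMap.rTensor_tmul, map_zero]
    have : f 1 = 1 := by
      show f (Submodule.Quotient.mk 1) = 1
      rw [Submodule.liftQ_apply, Algebra.linearMap_apply, map_one]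
    rw [this, hs]
  have h2 := congrArg (TensorProduct.quotTensorEquivQuotSMul S₀ K) h1
  rw [map_zero] at h2
  have h3 : TensorProduct.quotTensorEquivQuotSMul S₀ K ((1 : R₀ ⧸ K) ⊗ₜ[R₀] s) =
      Submodule.Quotient.mk ((1 : R₀) • s) :=
    TensorProduct.quotTensorEquivQuotSMul_mk_tmul K 1 s
  rw [h3, Submodule.Quotient.mk_eq_zero, one_smul] at h2
  have hle : (K • ⊤ : Submodule R₀ S₀) ≤ q.restrictScalars R₀ := by
    rw [Submodule.smul_le]
    intro k hk m _
    show k • m ∈ q
    rw [Algebra.smul_def]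
    exact q.mul_mem_right _ (hker hk)
  exact hle h2

attribute [local instance] Algebra.TensorProduct.rightAlgebra in
theorem two_le_dim_of_normal_cover (R₀ S₀ R' : Type u) [CommRing R₀] [IsLocalRing R₀]
    [CommRing S₀] [IsLocalRing S₀] [IsNoetherianRing S₀] [Algebra R₀ S₀]
    [IsLocalHom (algebraMap R₀ S₀)] [Module.Flat R₀ S₀]
    [CommRing R'] [IsDomain R'] [IsLocalRing R'] [IsNoetherianRing R'] [IsIntegrallyClosed R']
    [Algebra R₀ R'] [Module.Finite R₀ R']
    (q : Ideal S₀) (hq : q ∈ minimalPrimes S₀)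
    (hker : RingHom.ker (algebraMap R₀ R') ≤ q.comap (algebraMap R₀ S₀))
    (hdim : (2 : WithBot ℕ∞) ≤ ringKrullDim R') :
    (2 : WithBot ℕ∞) ≤ ringKrullDim (S₀ ⧸ q) := by
  classical
  haveI hqp : q.IsPrime := hq.1.1
  -- `S' = R' ⊗ S₀`, finite over `S₀`
  haveI hfin : Module.Finite S₀ (R' ⊗[R₀] S₀) :=
    Module.Finite.equiv (Algebra.TensorProduct.commRight R₀ S₀ R').toLinearEquiv
  haveI hint : Algebra.IsIntegral S₀ (R' ⊗[R₀] S₀) := Algebra.IsIntegral.of_finite S₀ _
  haveI hNS' : IsNoetherianRing (R' ⊗[R₀] S₀) := IsNoetherianRing.of_finite S₀ _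
  -- lying over
  have hkerι : (⊥ : Ideal (R' ⊗[R₀] S₀)).comap (algebraMap S₀ (R' ⊗[R₀] S₀)) ≤ q := by
    intro s hs
    rw [Ideal.mem_comap, Ideal.mem_bot] at hs
    exact ker_includeRight_le R₀ S₀ R' q hker s hs
  obtain ⟨Q', -, hQ'p, hQ'q⟩ := Ideal.exists_ideal_over_prime_of_isIntegral q
    (⊥ : Ideal (R' ⊗[R₀] S₀)) hkerι
  obtain ⟨Q'', hQ''min, hQ''le⟩ := Ideal.exists_minimalPrimes_le (I := ⊥) (J := Q') bot_le
  haveI hQ''p : Q''.IsPrime := hQ''min.1.1
  have hQ''q : Q''.comap (algebraMap S₀ (R' ⊗[R₀] S₀)) = q := by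
    apply le_antisymm
    · rw [← hQ'q]; exact Ideal.comap_mono hQ''le
    · exact hq.2 ⟨Ideal.comap_isPrime _ _, bot_le⟩ (by rw [← hQ'q]; exact Ideal.comap_mono hQ''le)
  -- a maximal ideal
  obtain ⟨n, hnmax, hQ''n⟩ := Ideal.exists_le_maximal Q'' hQ''p.ne_top
  haveI := hnmax
  haveI hnp : n.IsPrime := hnmax.isPrime
  -- `T`
  haveI hNT : IsNoetherianRing (Localization.AtPrime n) :=
    IsLocalization.isNoetherianRing n.primeCompl _ inferInstance
  haveI hflatS' : Module.Flat (R' ⊗[R₀] S₀) (Localization.AtPrime n) :=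
    IsLocalization.flat _ n.primeCompl
  haveI hflatT : Module.Flat R' (Localization.AtPrime n) :=
    Module.Flat.trans R' (R' ⊗[R₀] S₀) (Localization.AtPrime n)
  -- contraction of `n` to `R'` is the maximal ideal
  have hnR' : n.comap (algebraMap R' (R' ⊗[R₀] S₀)) = maximalIdeal R' := by
    haveI h1 : (n.comap (algebraMap S₀ (R' ⊗[R₀] S₀))).IsMaximal :=
      Ideal.isMaximal_comap_of_isIntegral_of_isMaximal (R := S₀) n
    have h2 : n.comap (algebraMap S₀ (R' ⊗[R₀] S₀)) = maximalIdeal S₀ :=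
      IsLocalRing.eq_maximalIdeal h1
    have h3 : (n.comap (algebraMap R' (R' ⊗[R₀] S₀))).comap (algebraMap R₀ R') =
        maximalIdeal R₀ := by
      rw [Ideal.comap_comap, ← IsScalarTower.algebraMap_eq,
        IsScalarTower.algebraMap_eq R₀ S₀ (R' ⊗[R₀] S₀), ← Ideal.comap_comap, h2]
      exact ((IsLocalRing.local_hom_TFAE (algebraMap R₀ S₀)).out 0 4).1 ‹IsLocalHom (algebraMap R₀ S₀)›
    haveI : Algebra.IsIntegral R₀ R' := Algebra.IsIntegral.of_finite R₀ R'
    haveI : (n.comap (algebraMap R' (R' ⊗[R₀] S₀))).IsPrime := Ideal.comap_isPrime _ _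
    have h4 : (n.comap (algebraMap R' (R' ⊗[R₀] S₀))).IsMaximal :=
      Ideal.isMaximal_of_isIntegral_of_isMaximal_comap (R := R₀) _
        (by rw [h3]; exact maximalIdeal.isMaximal R₀)
    exact IsLocalRing.eq_maximalIdeal h4
  haveI hlocT : IsLocalHom (algebraMap R' (Localization.AtPrime n)) := by
    apply ((IsLocalRing.local_hom_TFAE (algebraMap R' (Localization.AtPrime n))).out 0 3).2
    intro x hx
    rw [Ideal.mem_comap, IsScalarTower.algebraMap_apply R' (R' ⊗[R₀] S₀) (Localization.AtPrime n),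
      IsLocalization.AtPrime.to_map_mem_maximal_iff (Localization.AtPrime n) n]
    rw [← hnR'] at hx
    exact hx
  -- depth
  have hd1 : (2 : ℕ∞) ≤ LocCoh.depth R' R' := by
    have := Groth.Agent.Lib.Helper24.SerreNormal.sk_two_of_normal R'
    rw [min_eq_left hdim] at this
    have h' : ((2 : ℕ∞) : WithBot ℕ∞) ≤ ((LocCoh.depth R' R' : ℕ∞) : WithBot ℕ∞) := this
    exact WithBot.coe_le_coe.1 h'
  have hd2 := Groth.Agent.Lib.Helper24.FlatDepth.depth_tensor R' (Localization.AtPrime n)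
    (Localization.AtPrime n) R'
  have hd3 : LocCoh.depth (Localization.AtPrime n) (Localization.AtPrime n) =
      LocCoh.depth (Localization.AtPrime n) ((Localization.AtPrime n) ⊗[R'] R') :=
    Groth.Agent.Lib.helper26.Depth.idealDepth_congr
      (I := maximalIdeal (Localization.AtPrime n))
      (TensorProduct.AlgebraTensorModule.rid R' (Localization.AtPrime n)
        (Localization.AtPrime n)).symm
  have hd4 : (2 : ℕ∞) ≤ LocCoh.depth (Localization.AtPrime n) (Localization.AtPrime n) := by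
    rw [hd3, hd2]
    exact le_trans hd1 le_self_add
  -- the minimal prime `Q'' T`
  have hdisj : Disjoint (n.primeCompl : Set (R' ⊗[R₀] S₀)) (Q'' : Set (R' ⊗[R₀] S₀)) := by
    rw [Set.disjoint_left]
    intro x hx hxQ
    exact hx (hQ''n hxQ)
  have hQTcomap : (Q''.map (algebraMap (R' ⊗[R₀] S₀) (Localization.AtPrime n))).comap
      (algebraMap (R' ⊗[R₀] S₀) (Localization.AtPrime n)) = Q'' :=
    IsLocalization.under_map_of_isPrime_disjoint n.primeCompl _ hQ''p hdisj
  have hQTmin : Q''.map (algebraMap (R' ⊗[R₀] S₀) (Localization.AtPrime n)) ∈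
      minimalPrimes (Localization.AtPrime n) := by
    have := IsLocalization.minimalPrimes_map n.primeCompl (Localization.AtPrime n)
      (⊥ : Ideal (R' ⊗[R₀] S₀))
    rw [Ideal.map_bot] at this
    show _ ∈ (⊥ : Ideal (Localization.AtPrime n)).minimalPrimes
    rw [this]
    rw [Set.mem_preimage, Ideal.under_def, hQTcomap]
    exact hQ''min
  have hQTass : Q''.map (algebraMap (R' ⊗[R₀] S₀) (Localization.AtPrime n)) ∈
      associatedPrimes (Localization.AtPrime n) (Localization.AtPrime n) := by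
    apply Module.associatedPrimes.minimalPrimes_annihilator_subset_associatedPrimes
    have : Module.annihilator (Localization.AtPrime n) (Localization.AtPrime n) = ⊥ :=
      Module.annihilator_eq_bot.2 inferInstance
    rw [this]
    exact hQTmin
  have hd5 := Groth.Agent.Lib.helper26.Depth.depth_le_ringKrullDim_quotient_of_mem_associatedPrimes
    (Localization.AtPrime n) _ hQTass
  have hd6 : (2 : WithBot ℕ∞) ≤ ringKrullDim (Localization.AtPrime n ⧸
      Q''.map (algebraMap (R' ⊗[R₀] S₀) (Localization.AtPrime n))) := by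
    refine le_trans ?_ hd5
    have h' : ((2 : ℕ∞) : WithBot ℕ∞) ≤ ((LocCoh.depth (Localization.AtPrime n)
      (Localization.AtPrime n) : ℕ∞) : WithBot ℕ∞) := WithBot.coe_le_coe.2 hd4
    exact h'
  -- descend the dimension
  let f : S₀ →+* Localization.AtPrime n :=
    (algebraMap (R' ⊗[R₀] S₀) (Localization.AtPrime n)).comp (algebraMap S₀ (R' ⊗[R₀] S₀))
  have hfq : (Q''.map (algebraMap (R' ⊗[R₀] S₀) (Localization.AtPrime n))).comap f = q := by
    rw [← Ideal.comap_comap, hQTcomap, hQ''q]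
  have hmono : ∀ P₁ P₂ : Ideal (Localization.AtPrime n), P₁.IsPrime → P₂.IsPrime → P₁ < P₂ →
      P₁.comap f < P₂.comap f := by
    intro P₁ P₂ hP₁ hP₂ h12
    have h1 : P₁.comap (algebraMap (R' ⊗[R₀] S₀) (Localization.AtPrime n)) <
        P₂.comap (algebraMap (R' ⊗[R₀] S₀) (Localization.AtPrime n)) := by
      refine (Ideal.comap_mono h12.le).lt_of_ne (fun h => h12.ne ?_)
      rw [← IsLocalization.map_under n.primeCompl (Localization.AtPrime n) P₁,
        ← IsLocalization.map_under n.primeCompl (Localization.AtPrime n) P₂,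
        Ideal.under_def, Ideal.under_def, h]
    haveI : (P₁.comap (algebraMap (R' ⊗[R₀] S₀) (Localization.AtPrime n))).IsPrime :=
      Ideal.comap_isPrime _ _
    have h2 := Ideal.IsIntegral.comap_lt_comap (R := S₀) h1
    rw [Ideal.comap_comap, Ideal.comap_comap] at h2
    exact h2
  have h3 := ringKrullDim_quotient_le_of_strictMono f
    (Q''.map (algebraMap (R' ⊗[R₀] S₀) (Localization.AtPrime n))) hmono
  rw [hfq] at h3
  exact le_trans hd6 h3


/-- an injective integral ring map does not lower Krull dimension (going up); copied from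
helper19's `FibreCone2`. -/
theorem ringKrullDim_le_of_isIntegral_of_injective {A B : Type*} [CommRing A] [CommRing B]
    (f : A →+* B) (hf : f.IsIntegral) (hinj : Function.Injective f) :
    ringKrullDim A ≤ ringKrullDim B := by
  algebraize [f]
  have : Algebra.IsIntegral A B := ⟨hf⟩
  have hinj' : Function.Injective (algebraMap A B) := hinj
  unfold ringKrullDim Order.krullDim
  apply iSup_le
  intro l
  obtain ⟨P, -, hP, hPl⟩ := Ideal.exists_ideal_over_prime_of_isIntegral
    (S := B) l.head.asIdeal (⊥ : Ideal B) (by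
      rw [← RingHom.ker_eq_comap_bot, (RingHom.injective_iff_ker_eq_bot _).mp hinj']
      exact bot_le)
  have : P.LiesOver l.head.asIdeal := ⟨hPl.symm⟩
  obtain ⟨L, hL, -, -⟩ := Ideal.exists_ltSeries_of_hasGoingUp l P
  rw [← hL]
  exact le_iSup (fun p : LTSeries (PrimeSpectrum B) => (p.length : WithBot ℕ∞)) L

theorem two_le_dim_quotient_of_flat (R₀ S₀ : Type u) [CommRing R₀] [HenselianLocalRing R₀]
    (hN : CAlg.IsNagata R₀) [CommRing S₀] [IsLocalRing S₀] [IsNoetherianRing S₀] [Algebra R₀ S₀]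
    [IsLocalHom (algebraMap R₀ S₀)] [Module.Flat R₀ S₀]
    (q : Ideal S₀) (hq : q ∈ minimalPrimes S₀)
    (h2 : (2 : WithBot ℕ∞) ≤ ringKrullDim (R₀ ⧸ q.comap (algebraMap R₀ S₀))) :
    (2 : WithBot ℕ∞) ≤ ringKrullDim (S₀ ⧸ q) := by
  classical
  haveI hqp : q.IsPrime := hq.1.1
  haveI hNoeth : IsNoetherianRing R₀ := hN.1
  haveI hpp : (q.comap (algebraMap R₀ S₀)).IsPrime := Ideal.comap_isPrime _ _
  haveI : HenselianLocalRing (R₀ ⧸ q.comap (algebraMap R₀ S₀)) :=
    Groth.Agent.Lib.helper12.henselianLocalRing_quotient _ hpp.ne_top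
  haveI hfin : Module.Finite (R₀ ⧸ q.comap (algebraMap R₀ S₀))
      (integralClosure (R₀ ⧸ q.comap (algebraMap R₀ S₀))
        (FractionRing (R₀ ⧸ q.comap (algebraMap R₀ S₀)))) :=
    hN.2 (q.comap (algebraMap R₀ S₀)) (FractionRing (R₀ ⧸ q.comap (algebraMap R₀ S₀)))
      inferInstance
  haveI : IsLocalRing (integralClosure (R₀ ⧸ q.comap (algebraMap R₀ S₀))
      (FractionRing (R₀ ⧸ q.comap (algebraMap R₀ S₀)))) :=
    Groth.Agent.Lib.Helper24.IntegralHensel.isLocalRing_of_isDomain_of_isIntegral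
      (R₀ ⧸ q.comap (algebraMap R₀ S₀)) _
  haveI : IsNoetherianRing (integralClosure (R₀ ⧸ q.comap (algebraMap R₀ S₀))
      (FractionRing (R₀ ⧸ q.comap (algebraMap R₀ S₀)))) :=
    IsNoetherianRing.of_finite (R₀ ⧸ q.comap (algebraMap R₀ S₀)) _
  haveI : IsIntegrallyClosed (integralClosure (R₀ ⧸ q.comap (algebraMap R₀ S₀))
      (FractionRing (R₀ ⧸ q.comap (algebraMap R₀ S₀)))) :=
    integralClosure.isIntegrallyClosedOfFiniteExtension
      (FractionRing (R₀ ⧸ q.comap (algebraMap R₀ S₀)))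
  haveI : Module.Finite R₀ (integralClosure (R₀ ⧸ q.comap (algebraMap R₀ S₀))
      (FractionRing (R₀ ⧸ q.comap (algebraMap R₀ S₀)))) :=
    Module.Finite.trans (R₀ ⧸ q.comap (algebraMap R₀ S₀)) _
  have hinj : Function.Injective (algebraMap (R₀ ⧸ q.comap (algebraMap R₀ S₀))
      (integralClosure (R₀ ⧸ q.comap (algebraMap R₀ S₀))
        (FractionRing (R₀ ⧸ q.comap (algebraMap R₀ S₀))))) := by
    intro x y hxy
    have := congrArg Subtype.val hxy
    exact IsFractionRing.injective (R₀ ⧸ q.comap (algebraMap R₀ S₀))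
      (FractionRing (R₀ ⧸ q.comap (algebraMap R₀ S₀))) this
  refine two_le_dim_of_normal_cover R₀ S₀ (integralClosure (R₀ ⧸ q.comap (algebraMap R₀ S₀))
    (FractionRing (R₀ ⧸ q.comap (algebraMap R₀ S₀)))) q hq ?_ ?_
  · intro x hx
    rw [RingHom.mem_ker, IsScalarTower.algebraMap_apply R₀ (R₀ ⧸ q.comap (algebraMap R₀ S₀))] at hx
    have h0 := hinj (hx.trans (map_zero _).symm)
    rwa [Ideal.Quotient.algebraMap_eq, Ideal.Quotient.eq_zero_iff_mem] at h0
  · refine le_trans h2 (ringKrullDim_le_of_isIntegral_of_injective _ ?_ hinj)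
    exact Algebra.IsIntegral.isIntegral (R := R₀ ⧸ q.comap (algebraMap R₀ S₀))

end Groth.Agent.Lib.helper17.C2Flat
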