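import Mathlib
import Groth.Agent.Lib.Helper17.CIField7

/-!
# helper17: ideals generated by regular sequences in regular local rings — numeric criterion

* `IsRegGen R I`: `I` is generated by a regular sequence.
* `Num R I`: `μ(I) + dim R/I ≤ dim R`.
* `isRegGen_iff_num`: for `R` regular local and `I` proper these agree.
-/

set_option autoImplicit false
set_option linter.style.haveILetI false

namespace Groth.Agent.Lib.helper17.CINum

universe u

open IsLocalRing RingTheory.Sequence

/-- `I` is generated by a regular sequence. -/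
def IsRegGen (R : Type u) [CommRing R] (I : Ideal R) : Prop :=
  ∃ rs : List R, Ideal.ofList rs = I ∧ IsRegular R rs

/-- the numerical condition `μ(I) + dim R/I ≤ dim R`. -/
def Num (R : Type u) [CommRing R] (I : Ideal R) : Prop :=
  (I.spanFinrank : WithBot ℕ∞) + ringKrullDim (R ⧸ I) ≤ ringKrullDim R

theorem exists_nat_dim (A : Type u) [CommRing A] [IsNoetherianRing A] [IsLocalRing A] :
    ∃ d : ℕ, ringKrullDim A = (d : WithBot ℕ∞) := by
  cases hE : ringKrullDim A with
  | bot => exact absurd hE ringKrullDim_ne_bot
  | coe e =>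
    cases e with
    | top => exact absurd hE ringKrullDim_ne_top
    | coe e => exact ⟨e, rfl⟩

theorem exists_nat_dim_quot' (A : Type u) [CommRing A] [IsNoetherianRing A] [IsLocalRing A]
    (I : Ideal A) (hI : I ≠ ⊤) : ∃ d : ℕ, ringKrullDim (A ⧸ I) = (d : WithBot ℕ∞) := by
  haveI : Nontrivial (A ⧸ I) := Ideal.Quotient.nontrivial_iff.mpr hI
  haveI : IsLocalRing (A ⧸ I) :=
    IsLocalRing.of_surjective' (Ideal.Quotient.mk I) Ideal.Quotient.mk_surjective
  exact exists_nat_dim (A ⧸ I)

theorem num_iff_nat (A : Type u) [CommRing A] [IsNoetherianRing A] [IsLocalRing A]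
    (I : Ideal A) (d e : ℕ) (hd : ringKrullDim A = (d : WithBot ℕ∞))
    (he : ringKrullDim (A ⧸ I) = (e : WithBot ℕ∞)) :
    Num A I ↔ I.spanFinrank + e ≤ d := by
  unfold Num
  rw [hd, he]
  exact_mod_cast Iff.rfl

theorem isRegGen_iff_num (R : Type u) [CommRing R] [IsRegularLocalRing R] (I : Ideal R)
    (hI : I ≠ ⊤) : IsRegGen R I ↔ Num R I := by
  classical
  obtain ⟨d, hd⟩ := exists_nat_dim R
  obtain ⟨e, he⟩ := exists_nat_dim_quot' R I hI
  rw [num_iff_nat R I d e hd he]
  have hIle : I ≤ maximalIdeal R := IsLocalRing.le_maximalIdeal hI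
  constructor
  · rintro ⟨rs, rfl, hreg⟩
    have h1 := ringKrullDim_add_length_eq_ringKrullDim_of_isRegular rs hreg
    rw [hd, he] at h1
    have h2 : e + rs.length = d := by exact_mod_cast h1
    have h3 : (Ideal.ofList rs).spanFinrank ≤ rs.length := by
      have hfin : {x | x ∈ rs}.Finite := List.finite_toSet rs
      refine le_trans (Submodule.spanFinrank_span_le_ncard_of_finite hfin) ?_
      have : {x | x ∈ rs} = ((rs.toFinset : Finset R) : Set R) := by
        rw [List.coe_toFinset]
      rw [this, Set.ncard_coe_finset]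
      exact List.toFinset_card_le rs
    omega
  · intro hnum
    have hfg : I.FG := IsNoetherian.noetherian I
    obtain ⟨s, hcard, hspan⟩ := Submodule.FG.exists_span_finset_card_eq_spanFinrank hfg
    have h1 := ringKrullDim_le_ringKrullDim_quotient_add_spanFinrank I (by
      rw [IsLocalRing.ringJacobson_eq_maximalIdeal]; exact hIle)
    rw [hd, he] at h1
    have h2 : d ≤ e + I.spanFinrank := by exact_mod_cast h1
    have hspan' : Ideal.ofList s.toList = I := by
      rw [← hspan]
      change Ideal.span {x | x ∈ s.toList} = _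
      congr 1
      ext x
      simp
    refine ⟨s.toList, hspan', ?_⟩
    apply Groth.Agent.Lib.helper17.CIField.isRegular_of_dim_quot
    · intro x hx
      rw [Finset.mem_toList] at hx
      exact hIle (hspan ▸ Ideal.subset_span hx)
    · rw [ringKrullDim_eq_of_ringEquiv (Ideal.quotEquivOfEq hspan'), Finset.length_toList, hcard,
        hd, he]
      have : e + I.spanFinrank = d := by omega
      exact_mod_cast this

end Groth.Agent.Lib.helper17.CINum
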