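import Mathlib
import Groth.Agent.Lib.Helper17.CINum1

/-!
# helper17: number of generators of the conormal module equals that of the ideal (local ring)
-/

set_option autoImplicit false
set_option linter.style.haveILetI false

namespace Groth.Agent.Lib.helper17.CINum

universe u

open IsLocalRing RingTheory.Sequence

theorem spanFinrank_cotangent (R : Type u) [CommRing R] [IsLocalRing R] [IsNoetherianRing R]
    (I : Ideal R) (hI : I ≠ ⊤) :
    (⊤ : Submodule (R ⧸ I) I.Cotangent).spanFinrank = I.spanFinrank := by
  classical
  have hIle : I ≤ maximalIdeal R := IsLocalRing.le_maximalIdeal hI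
  have hsurj : Function.Surjective (algebraMap R (R ⧸ I)) := Ideal.Quotient.mk_surjective
  have h1 : (⊤ : Submodule (R ⧸ I) I.Cotangent).spanFinrank =
      (⊤ : Submodule R I.Cotangent).spanFinrank := by
    have := Submodule.spanRank_restrictScalars_eq (R := R) hsurj
      (⊤ : Submodule (R ⧸ I) I.Cotangent)
    rw [Submodule.restrictScalars_top] at this
    unfold Submodule.spanFinrank
    rw [this]
  rw [h1, ← Submodule.spanFinrank_top I]
  have hfgI : (⊤ : Submodule R I).FG := Module.Finite.fg_top
  apply le_antisymm
  · have h2 := Submodule.spanFinrank_map_le_of_fg I.toCotangent hfgI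
    rwa [Submodule.map_top, Ideal.toCotangent_range] at h2
  · have hfgC : (⊤ : Submodule R I.Cotangent).FG := by
      rw [← Ideal.toCotangent_range, ← Submodule.map_top]
      exact hfgI.map _
    obtain ⟨t, htcard, htspan⟩ := Submodule.FG.exists_span_finset_card_eq_spanFinrank hfgC
    let lift : I.Cotangent → I := Function.surjInv I.toCotangent_surjective
    have hlift : ∀ y, I.toCotangent (lift y) = y := Function.surjInv_eq I.toCotangent_surjective
    set N : Submodule R I := Submodule.span R (lift '' (t : Set I.Cotangent)) with hN
    have hmap : N.map I.toCotangent = ⊤ := by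
      rw [hN, Submodule.map_span, ← Set.image_comp]
      have : (I.toCotangent ∘ lift) '' (t : Set I.Cotangent) = (t : Set I.Cotangent) := by
        ext y
        constructor
        · rintro ⟨z, hz, rfl⟩
          simpa [hlift] using hz
        · intro hy
          exact ⟨y, hy, by simp [hlift]⟩
      rw [this, htspan]
    have hle : (⊤ : Submodule R I) ≤ N ⊔ I • (⊤ : Submodule R I) := by
      have hker : LinearMap.ker I.toCotangent = I • (⊤ : Submodule R I) :=
        Submodule.ker_mkQ _
      rw [← hker, ← LinearMap.map_le_map_iff, hmap]
      exact le_top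
    have hNtop : (⊤ : Submodule R I) ≤ N :=
      Submodule.le_of_le_smul_of_le_jacobson_bot hfgI
        (hIle.trans (IsLocalRing.maximalIdeal_le_jacobson _)) hle
    have hNeq : N = ⊤ := top_le_iff.mp hNtop
    rw [← hNeq, hN, ← htcard]
    refine le_trans (Submodule.spanFinrank_span_le_ncard_of_finite
      ((t.finite_toSet).image lift)) ?_
    refine le_trans (Set.ncard_image_le t.finite_toSet) ?_
    rw [Set.ncard_coe_finset]

end Groth.Agent.Lib.helper17.CINum
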