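import Mathlib
import Groth.Agent.Lib.Helper17.CINum2
import Groth.Agent.Lib.Helper15.Regular

/-!
# helper17: the numeric CI condition under quotient by an element of `𝔪 \ 𝔪²`
-/

set_option autoImplicit false
set_option linter.style.haveILetI false

namespace Groth.Agent.Lib.helper17.CINum

universe u

open IsLocalRing RingTheory.Sequence

section

variable {R : Type u} [CommRing R]

open Classical in
/-- exchange lemma for an ideal `K ≤ 𝔪`: an element of `K \ 𝔪²` can replace one element of a
generating set of `K`. -/
lemma exists_erase_span' [IsLocalRing R] (K : Ideal R) (hK : K ≤ maximalIdeal R) (s : Finset R)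
    (hs : Ideal.span (s : Set R) = K) (x : R) (hx : x ∈ K)
    (hx2 : x ∉ maximalIdeal R ^ 2) :
    ∃ y ∈ s, K = Ideal.span {x} ⊔ Ideal.span ((s.erase y : Finset R) : Set R) := by
  classical
  have hxs : x ∈ Ideal.span (s : Set R) := hs ▸ hx
  obtain ⟨a, ha⟩ := (Submodule.mem_span_finset' (R := R) (M := R)).mp hxs
  have hex : ∃ y : s, a y ∉ maximalIdeal R := by
    by_contra hcon
    push Not at hcon
    apply hx2
    rw [← ha, pow_two]
    refine Ideal.sum_mem _ (fun y _ => ?_)
    rw [smul_eq_mul]
    refine Ideal.mul_mem_mul (hcon y) (hK ?_)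
    rw [← hs]
    exact Ideal.subset_span y.2
  obtain ⟨⟨y, hy⟩, hay⟩ := hex
  have hunit : IsUnit (a ⟨y, hy⟩) := by
    by_contra h
    exact hay ((IsLocalRing.mem_maximalIdeal _).mpr h)
  refine ⟨y, hy, le_antisymm ?_ ?_⟩
  · rw [← hs, Ideal.span_le]
    intro z hz
    by_cases hzy : z = y
    · subst hzy
      have key : a ⟨z, hy⟩ * z ∈ Ideal.span {x} ⊔ Ideal.span ((s.erase z : Finset R) : Set R) := by
        have hsum : a ⟨z, hy⟩ * z =
            x - ∑ w ∈ (Finset.univ : Finset s).erase ⟨z, hy⟩, a w • (w : R) := by
          rw [← ha, ← Finset.add_sum_erase _ _ (Finset.mem_univ (⟨z, hy⟩ : s))]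
          simp
        rw [hsum]
        refine Ideal.sub_mem _ (Ideal.mem_sup_left (Ideal.subset_span rfl)) ?_
        refine Ideal.sum_mem _ (fun w hw => ?_)
        rw [smul_eq_mul]
        refine Ideal.mul_mem_left _ _ (Ideal.mem_sup_right (Ideal.subset_span ?_))
        have hwz : (w : R) ≠ z := fun h => (Finset.mem_erase.mp hw).1 (Subtype.ext h)
        exact Finset.mem_coe.mpr (Finset.mem_erase.mpr ⟨hwz, w.2⟩)
      exact (Ideal.unit_mul_mem_iff_mem _ hunit).mp key
    · exact Ideal.mem_sup_right (Ideal.subset_span (Finset.mem_coe.mpr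
        (Finset.mem_erase.mpr ⟨hzy, hz⟩)))
  · refine sup_le ?_ ?_
    · rw [Ideal.span_le]; rintro _ rfl; exact hx
    · rw [← hs]
      exact Ideal.span_mono (by simp)

/-- `μ(K) = μ(K/(x)) + 1` for `x ∈ K \ 𝔪²`. -/
theorem spanFinrank_eq_map_add_one [IsLocalRing R] [IsNoetherianRing R] (K : Ideal R)
    (hK : K ≤ maximalIdeal R) (x : R) (hx : x ∈ K) (hx2 : x ∉ maximalIdeal R ^ 2) :
    K.spanFinrank = (K.map (Ideal.Quotient.mk (Ideal.span {x}))).spanFinrank + 1 := by
  classical
  set π := Ideal.Quotient.mk (Ideal.span {x} : Ideal R) with hπ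
  have hπs : Function.Surjective π := Ideal.Quotient.mk_surjective
  apply le_antisymm
  · -- lift generators
    have hfg : (K.map π).FG := IsNoetherian.noetherian _
    obtain ⟨t, htcard, htspan⟩ := Submodule.FG.exists_span_finset_card_eq_spanFinrank hfg
    let lift : (R ⧸ (Ideal.span {x} : Ideal R)) → R := Function.surjInv hπs
    have hlift : ∀ y, π (lift y) = y := Function.surjInv_eq hπs
    set N : Ideal R := Ideal.span (insert x (lift '' (t : Set _))) with hN
    have hNK : K ≤ N := by
      have h1 : K.map π ≤ N.map π := by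
        rw [← htspan, Ideal.span_le]
        intro y hy
        have : y = π (lift y) := (hlift y).symm
        rw [this]
        exact Ideal.mem_map_of_mem _ (Ideal.subset_span (Set.mem_insert_of_mem _ ⟨y, hy, rfl⟩))
      have h2 : K ≤ (N.map π).comap π := (Ideal.le_comap_map).trans (Ideal.comap_mono h1)
      rw [Ideal.comap_map_of_surjective π hπs, ← RingHom.ker_eq_comap_bot, Ideal.mk_ker] at h2
      refine h2.trans (sup_le le_rfl ?_)
      rw [Ideal.span_le]
      rintro _ rfl
      exact Ideal.subset_span (Set.mem_insert _ _)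
    have hNle : N ≤ K := by
      rw [hN, Ideal.span_le]
      intro z hz
      rcases hz with rfl | ⟨y, hy, rfl⟩
      · exact hx
      · have hy' : y ∈ K.map π := htspan ▸ Ideal.subset_span hy
        obtain ⟨k, hk, hky⟩ := (Ideal.mem_map_iff_of_surjective π hπs).1 hy'
        have h3 : lift y - k ∈ Ideal.span {x} := by
          rw [← Ideal.Quotient.eq_zero_iff_mem, map_sub]
          change π (lift y) - π k = 0
          rw [hlift, hky, sub_self]
        have h4 : lift y = k + (lift y - k) := by ring
        show lift y ∈ K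
        rw [h4]
        refine K.add_mem hk ?_
        exact (Ideal.span_le.2 (by rintro _ rfl; exact hx) : Ideal.span {x} ≤ K) h3
    have hNeq : N = K := le_antisymm hNle hNK
    have hfin : (insert x (lift '' (t : Set _))).Finite :=
      (Set.Finite.image lift t.finite_toSet).insert x
    have h5 : N.spanFinrank ≤ t.card + 1 := by
      refine le_trans (Submodule.spanFinrank_span_le_ncard_of_finite hfin) ?_
      refine le_trans (Set.ncard_insert_le _ _) ?_
      have := Set.ncard_image_le (f := lift) t.finite_toSet
      rw [Set.ncard_coe_finset] at this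
      omega
    rw [hNeq, htcard] at h5
    exact h5
  · have hfg : K.FG := IsNoetherian.noetherian _
    obtain ⟨s, hscard, hsspan⟩ := Submodule.FG.exists_span_finset_card_eq_spanFinrank hfg
    obtain ⟨y, hy, hKeq⟩ := exists_erase_span' K hK s hsspan x hx hx2
    have h1 : K.map π = Ideal.span (π '' ((s.erase y : Finset R) : Set R)) := by
      conv_lhs => rw [hKeq]
      rw [Ideal.map_sup, Ideal.map_span, Ideal.map_span, Set.image_singleton]
      have : π x = 0 := Ideal.Quotient.eq_zero_iff_mem.2 (Ideal.subset_span rfl)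
      rw [this, Ideal.span_singleton_zero, bot_sup_eq]
    rw [h1, ← hscard]
    have hfin : (π '' ((s.erase y : Finset R) : Set R)).Finite :=
      Set.Finite.image _ (Finset.finite_toSet _)
    have h2 := Submodule.spanFinrank_span_le_ncard_of_finite (R := R ⧸ (Ideal.span {x} : Ideal R))
      hfin
    have h3 := Set.ncard_image_le (f := π) (Finset.finite_toSet (s.erase y))
    rw [Set.ncard_coe_finset] at h3
    have h4 : (s.erase y).card + 1 = s.card := Finset.card_erase_add_one hy
    have h5 : (Ideal.span (π '' ((s.erase y : Finset R) : Set R))).spanFinrank ≤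
        (π '' ((s.erase y : Finset R) : Set R)).ncard := h2
    omega

end

end Groth.Agent.Lib.helper17.CINum
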