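import Mathlib
import Groth.Agent.Lib.Helper17.CINum3

/-!
# helper17: the numeric CI condition is invariant under surjections of regular local rings

* `num_of_ringEquiv`
* `num_quot_singleton_iff`
* `num_comap_iff`: `φ : S ↠ R` regular local rings, `I ⊂ R` proper:
  `Num S (φ⁻¹ I) ↔ Num R I`.
-/

set_option autoImplicit false
set_option linter.style.haveILetI false

namespace Groth.Agent.Lib.helper17.CINum

universe u

open IsLocalRing RingTheory.Sequence

theorem num_of_ringEquiv {S R : Type u} [CommRing S] [CommRing R] (e : S ≃+* R) (I : Ideal R) :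
    Num S (I.comap (e : S →+* R)) ↔ Num R I := by
  unfold Num
  have h1 : (I.comap (e : S →+* R)).spanFinrank = I.spanFinrank := by
    have := Ideal.spanFinrank_map_eq_of_ringEquiv e (I.comap (e : S →+* R))
    rw [← this]
    congr 1
    exact Ideal.map_comap_of_surjective _ e.surjective I
  have h2 : ringKrullDim S = ringKrullDim R := ringKrullDim_eq_of_ringEquiv e
  have h3 : ringKrullDim (S ⧸ I.comap (e : S →+* R)) = ringKrullDim (R ⧸ I) :=
    ringKrullDim_eq_of_ringEquiv (Ideal.quotientEquiv _ _ e
      (Ideal.map_comap_of_surjective _ e.surjective I).symm)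
  rw [h1, h2, h3]

theorem num_quot_singleton_iff (S : Type u) [CommRing S] [IsRegularLocalRing S] (x : S)
    (hx : x ∈ maximalIdeal S) (hx2 : x ∉ maximalIdeal S ^ 2)
    [IsRegularLocalRing (S ⧸ (Ideal.span {x} : Ideal S))] (K : Ideal S) (hxK : x ∈ K)
    (hK : K ≠ ⊤) :
    Num S K ↔ Num (S ⧸ (Ideal.span {x} : Ideal S)) (K.map (Ideal.Quotient.mk (Ideal.span {x}))) := by
  haveI : IsDomain S := Groth.Agent.Lib.helper15.isDomain_of_isRegularLocalRing S
  have hKle : K ≤ maximalIdeal S := IsLocalRing.le_maximalIdeal hK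
  have hle : (Ideal.span {x} : Ideal S) ≤ K := Ideal.span_le.2 (by rintro _ rfl; exact hxK)
  have hx0 : x ≠ 0 := by
    rintro rfl
    exact hx2 (Ideal.zero_mem _)
  have hdimS := ringKrullDim_quotient_span_singleton_succ_eq_ringKrullDim_of_mem_nonZeroDivisors
    (mem_nonZeroDivisors_of_ne_zero hx0) hx
  have hK' : K.map (Ideal.Quotient.mk (Ideal.span {x} : Ideal S)) ≠ ⊤ := by
    intro htop
    apply hK
    have := congrArg (Ideal.comap (Ideal.Quotient.mk (Ideal.span {x} : Ideal S))) htop
    rw [Ideal.comap_map_of_surjective _ Ideal.Quotient.mk_surjective, Ideal.comap_top,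
      ← RingHom.ker_eq_comap_bot, Ideal.mk_ker, sup_eq_left.2 hle] at this
    exact this
  obtain ⟨d, hd⟩ := exists_nat_dim S
  obtain ⟨d', hd'⟩ := exists_nat_dim (S ⧸ (Ideal.span {x} : Ideal S))
  obtain ⟨e, he⟩ := exists_nat_dim_quot' S K hK
  have he' : ringKrullDim ((S ⧸ (Ideal.span {x} : Ideal S)) ⧸
      K.map (Ideal.Quotient.mk (Ideal.span {x}))) = (e : WithBot ℕ∞) := by
    rw [ringKrullDim_eq_of_ringEquiv (DoubleQuot.quotQuotEquivQuotOfLE hle), he]
  rw [num_iff_nat S K d e hd he, num_iff_nat _ _ d' e hd' he',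
    spanFinrank_eq_map_add_one K hKle x hxK hx2]
  rw [hd, hd'] at hdimS
  have : d' + 1 = d := by exact_mod_cast hdimS
  omega

theorem num_comap_iff : ∀ (n : ℕ) (S R : Type u) [CommRing S] [CommRing R]
    [IsRegularLocalRing S] [IsRegularLocalRing R] (φ : S →+* R) (_ : Function.Surjective φ)
    (I : Ideal R) (_ : I ≠ ⊤), (maximalIdeal S).spanFinrank = n →
    (Num S (I.comap φ) ↔ Num R I) := by
  intro n
  induction n with
  | zero =>
    intro S R _ _ _ _ φ hφ I hI hn
    have hm : maximalIdeal S = ⊥ := by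
      rwa [Submodule.spanFinrank_eq_zero_iff_eq_bot (IsNoetherian.noetherian _)] at hn
    have hker : RingHom.ker φ = ⊥ := by
      have : RingHom.ker φ ≤ maximalIdeal S :=
        IsLocalRing.le_maximalIdeal (RingHom.ker_ne_top φ)
      rw [hm] at this
      exact le_bot_iff.mp this
    have hinj : Function.Injective φ := (RingHom.injective_iff_ker_eq_bot φ).2 hker
    exact num_of_ringEquiv (RingEquiv.ofBijective φ ⟨hinj, hφ⟩) I
  | succ n ih =>
    intro S R _ _ _ _ φ hφ I hI hn
    by_cases hker : RingHom.ker φ = ⊥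
    · have hinj : Function.Injective φ := (RingHom.injective_iff_ker_eq_bot φ).2 hker
      exact num_of_ringEquiv (RingEquiv.ofBijective φ ⟨hinj, hφ⟩) I
    · -- find `x ∈ ker φ \ 𝔪²`
      have hex : ∃ x ∈ RingHom.ker φ, x ∉ maximalIdeal S ^ 2 := by
        by_contra hcon
        push Not at hcon
        apply hker
        haveI : IsRegularLocalRing (S ⧸ RingHom.ker φ) :=
          IsRegularLocalRing.of_ringEquiv (RingHom.quotientKerEquivOfSurjective hφ).symm
        exact Groth.Agent.Lib.helper15.eq_bot_of_le_sq (RingHom.ker φ) hcon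
      obtain ⟨x, hxker, hx2⟩ := hex
      have hx : x ∈ maximalIdeal S :=
        IsLocalRing.le_maximalIdeal (RingHom.ker_ne_top φ) hxker
      obtain ⟨hreg', hrank⟩ :=
        Groth.Agent.Lib.helper15.isRegularLocalRing_quotient_singleton x hx hx2
      haveI := hreg'
      have hle : (Ideal.span {x} : Ideal S) ≤ RingHom.ker φ :=
        Ideal.span_le.2 (by rintro _ rfl; exact hxker)
      let φ' : S ⧸ (Ideal.span {x} : Ideal S) →+* R :=
        Ideal.Quotient.lift _ φ (fun a ha => hle ha)
      have hφ' : Function.Surjective φ' := by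
        intro r
        obtain ⟨s, rfl⟩ := hφ r
        exact ⟨Ideal.Quotient.mk _ s, by simp [φ']⟩
      have hcomp : φ'.comp (Ideal.Quotient.mk (Ideal.span {x} : Ideal S)) = φ := by
        ext s; simp [φ']
      have hn' : (maximalIdeal (S ⧸ (Ideal.span {x} : Ideal S))).spanFinrank = n := by omega
      have h1 := ih (S ⧸ (Ideal.span {x} : Ideal S)) R φ' hφ' I hI hn'
      have hK : I.comap φ ≠ ⊤ := by
        intro htop
        apply hI
        rw [Ideal.eq_top_iff_one] at htop ⊢
        rw [Ideal.mem_comap, map_one] at htop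
        exact htop
      have hxK : x ∈ I.comap φ := by
        rw [Ideal.mem_comap]
        have : φ x = 0 := hxker
        rw [this]; exact I.zero_mem
      have h2 := num_quot_singleton_iff S x hx hx2 (I.comap φ) hxK hK
      have h3 : (I.comap φ).map (Ideal.Quotient.mk (Ideal.span {x} : Ideal S)) = I.comap φ' := by
        rw [← hcomp, ← Ideal.comap_comap,
          Ideal.map_comap_of_surjective _ Ideal.Quotient.mk_surjective]
      rw [h2, h3, h1]

end Groth.Agent.Lib.helper17.CINum
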