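import Mathlib
import Groth.Agent.Lib.Helper17.CINum4
import Groth.Agent.Lib.Helper24.CplCM
import Groth.Agent.Lib.Helper24.CplQuot
import Groth.Agent.Lib.Helper24.FlatLocalFibre
import Groth.Agent.S0548

/-!
# helper17: the numeric CI condition is invariant under completion

`R` Noetherian local, `R̂ = AdicCompletion 𝔪 R`.
* `spanFinrank_map_cpl`: `μ(I R̂) = μ(I)`.
* `num_cpl_iff`: `Num R̂ (I R̂) ↔ Num R I`.
-/

set_option autoImplicit false
set_option linter.style.haveILetI false

namespace Groth.Agent.Lib.helper17.CINum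

universe u

open IsLocalRing RingTheory.Sequence Groth.Agent.Lib.Helper24.CplCM

section

variable (R : Type u) [CommRing R] [IsLocalRing R] [IsNoetherianRing R]

local notation "R̂" => AdicCompletion (maximalIdeal R) R

instance faithfullyFlat_cpl : Module.FaithfullyFlat R R̂ :=
  Module.FaithfullyFlat.of_flat_of_isLocalHom

theorem spanFinrank_map_cpl (I : Ideal R) :
    (I.map (algebraMap R R̂)).spanFinrank = I.spanFinrank := by
  classical
  have hfgI : I.FG := IsNoetherian.noetherian I
  apply le_antisymm (Ideal.spanFinrank_map_le_of_fg (algebraMap R R̂) hfgI)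
  -- generators of `I R̂`
  have hfg' : (I.map (algebraMap R R̂)).FG := IsNoetherian.noetherian _
  obtain ⟨t, htcard, htspan⟩ := Submodule.FG.exists_span_finset_card_eq_spanFinrank hfg'
  obtain ⟨m, z, hz⟩ := Submodule.fg_iff_exists_fin_generating_family.1 hfgI
  have hzI : ∀ i, z i ∈ I := fun i => hz ▸ Submodule.subset_span ⟨i, rfl⟩
  have hmap : I.map (algebraMap R R̂) = Ideal.span (Set.range fun i => algebraMap R R̂ (z i)) := by
    conv_lhs => rw [← hz]
    show Ideal.map (algebraMap R R̂) (Ideal.span (Set.range z)) = _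
    rw [Ideal.map_span, ← Set.range_comp]
    rfl
  -- coefficients
  have hcoef : ∀ y : R̂, y ∈ I.map (algebraMap R R̂) →
      ∃ w ∈ I, y - algebraMap R R̂ w ∈ maximalIdeal R̂ • I.map (algebraMap R R̂) := by
    intro y hy
    rw [hmap] at hy
    obtain ⟨a, ha⟩ := Ideal.mem_span_range_iff_exists_fun.1 hy
    choose b hb using fun i => Groth.Agent.Lib.Helper24.CplFlat.exists_sub_mem (maximalIdeal R)
      (maximalIdeal R).fg_of_isNoetherianRing 1 (a i)
    refine ⟨∑ i, b i * z i, Ideal.sum_mem _ fun i _ => Ideal.mul_mem_left _ _ (hzI i), ?_⟩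
    rw [← ha, map_sum, ← Finset.sum_sub_distrib]
    refine Submodule.sum_mem _ fun i _ => ?_
    rw [map_mul, ← sub_mul, ← smul_eq_mul]
    refine Submodule.smul_mem_smul ?_ (Ideal.mem_map_of_mem _ (hzI i))
    have := hb i
    rwa [pow_one, map_maximalIdeal_cpl] at this
  choose! w hwI hw using hcoef
  set N : Ideal R := Ideal.span (w '' (t : Set R̂)) with hN
  have hNI : N ≤ I := by
    rw [hN, Ideal.span_le]
    rintro _ ⟨y, hy, rfl⟩
    exact hwI y (htspan ▸ Submodule.subset_span hy)
  have hle : I.map (algebraMap R R̂) ≤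
      N.map (algebraMap R R̂) ⊔ maximalIdeal R̂ • I.map (algebraMap R R̂) := by
    conv_lhs => rw [← htspan]
    rw [Submodule.span_le]
    intro y hy
    have hyI : y ∈ I.map (algebraMap R R̂) := htspan ▸ Submodule.subset_span hy
    have h1 : y = algebraMap R R̂ (w y) + (y - algebraMap R R̂ (w y)) := by ring
    show y ∈ _
    rw [h1]
    refine Submodule.add_mem _ (Submodule.mem_sup_left ?_) (Submodule.mem_sup_right (hw y hyI))
    exact Ideal.mem_map_of_mem _ (Ideal.subset_span ⟨y, hy, rfl⟩)
  have hle' : I.map (algebraMap R R̂) ≤ N.map (algebraMap R R̂) :=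
    Submodule.le_of_le_smul_of_le_jacobson_bot hfg'
      (IsLocalRing.maximalIdeal_le_jacobson _) hle
  have hNeq : N = I := by
    apply le_antisymm hNI
    have h2 := Ideal.comap_mono (f := algebraMap R R̂) hle'
    rwa [Ideal.comap_map_eq_self_of_faithfullyFlat, Ideal.comap_map_eq_self_of_faithfullyFlat]
      at h2
  have h3 : N.spanFinrank ≤ t.card := by
    refine le_trans (Submodule.spanFinrank_span_le_ncard_of_finite
      (Set.Finite.image _ t.finite_toSet)) ?_
    have := Set.ncard_image_le (f := w) t.finite_toSet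
    rwa [Set.ncard_coe_finset] at this
  rw [hNeq, htcard] at h3
  exact h3

theorem num_cpl_iff (I : Ideal R) (hI : I ≠ ⊤) :
    Num R̂ (I.map (algebraMap R R̂)) ↔ Num R I := by
  haveI : Nontrivial (R ⧸ I) := Ideal.Quotient.nontrivial_iff.mpr hI
  haveI : IsLocalRing (R ⧸ I) :=
    IsLocalRing.of_surjective' (Ideal.Quotient.mk I) Ideal.Quotient.mk_surjective
  unfold Num
  have h1 : ringKrullDim R̂ = ringKrullDim R :=
    Groth.Agent.Lib.Helper24.FlatLocalFibre.ringKrullDim_eq_of_flat R R̂ (map_maximalIdeal_cpl R)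
  have h2 : ringKrullDim (R̂ ⧸ I.map (algebraMap R R̂)) = ringKrullDim (R ⧸ I) := by
    rw [ringKrullDim_eq_of_ringEquiv (Groth.Agent.Lib.Helper24.CplQuot.equiv R I)]
    exact Groth.Agent.Lib.Helper24.FlatLocalFibre.ringKrullDim_eq_of_flat (R ⧸ I) _
      (map_maximalIdeal_cpl (R ⧸ I))
  rw [h1, h2, spanFinrank_map_cpl]

end

end Groth.Agent.Lib.helper17.CINum
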