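import Mathlib
import Groth.Agent.LibPS29

/-!
# helper17: uniqueness of maps from a power series ring to a Noetherian local ring

Two ring maps `W⟦X₁..Xₙ⟧ → T` (`T` Noetherian local) agreeing on `W` and on the variables, the
variables going into the maximal ideal, are equal.
-/

set_option autoImplicit false
set_option linter.style.haveILetI false

namespace Groth.Agent.Lib.helper17.CINum

universe u

open IsLocalRing

theorem ps_hom_ext {W T : Type u} [CommRing W] [CommRing T] [IsLocalRing T] [IsNoetherianRing T]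
    (n : ℕ) (g₁ g₂ : MvPowerSeries (Fin n) W →+* T)
    (hC : g₁.comp MvPowerSeries.C = g₂.comp MvPowerSeries.C)
    (hX : ∀ i, g₁ (MvPowerSeries.X i) = g₂ (MvPowerSeries.X i))
    (hm : ∀ i, g₁ (MvPowerSeries.X i) ∈ maximalIdeal T) : g₁ = g₂ := by
  classical
  letI : Algebra W T := (g₁.comp MvPowerSeries.C).toAlgebra
  let G₁ : MvPowerSeries (Fin n) W →ₐ[W] T :=
    { g₁ with
      commutes' := fun a => by
        show g₁ (algebraMap W (MvPowerSeries (Fin n) W) a) = g₁.comp MvPowerSeries.C a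
        rw [MvPowerSeries.algebraMap_apply, Algebra.algebraMap_self, RingHom.id_apply]
        rfl }
  let G₂ : MvPowerSeries (Fin n) W →ₐ[W] T :=
    { g₂ with
      commutes' := fun a => by
        show g₂ (algebraMap W (MvPowerSeries (Fin n) W) a) = g₁.comp MvPowerSeries.C a
        rw [MvPowerSeries.algebraMap_apply, Algebra.algebraMap_self, RingHom.id_apply, hC]
        rfl }
  have key : ∀ (m : ℕ) (s : MvPowerSeries (Fin n) W), g₁ s - g₂ s ∈ maximalIdeal T ^ (m + 1) := by
    intro m s
    let q : T →ₐ[W] T ⧸ maximalIdeal T ^ (m + 1) := Ideal.Quotient.mkₐ W _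
    let z : Fin n → T ⧸ maximalIdeal T ^ (m + 1) := fun i => q (g₁ (MvPowerSeries.X i))
    have hz : ∀ i, z i ^ (m + 1) = 0 := by
      intro i
      show (Ideal.Quotient.mk _ (g₁ (MvPowerSeries.X i))) ^ (m + 1) = 0
      rw [← map_pow, Ideal.Quotient.eq_zero_iff_mem]
      exact Ideal.pow_mem_pow (hm i) _
    have h1 : q.comp G₁ = Groth.Agent.LibPS29.ev z m hz :=
      Groth.Agent.LibPS29.algHom_eq_ev z m hz (q.comp G₁) (fun i => rfl)
    have h2 : q.comp G₂ = Groth.Agent.LibPS29.ev z m hz :=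
      Groth.Agent.LibPS29.algHom_eq_ev z m hz (q.comp G₂) (fun i => by
        show q (g₂ (MvPowerSeries.X i)) = q (g₁ (MvPowerSeries.X i))
        rw [hX i])
    have h3 : q (G₁ s) = q (G₂ s) := by
      have := congrArg (fun F : MvPowerSeries (Fin n) W →ₐ[W] _ => F s) (h1.trans h2.symm)
      exact this
    have h4 : Ideal.Quotient.mk (maximalIdeal T ^ (m + 1)) (g₁ s) =
        Ideal.Quotient.mk (maximalIdeal T ^ (m + 1)) (g₂ s) := h3
    exact (Ideal.Quotient.eq).1 h4
  ext s
  rw [← sub_eq_zero]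
  have hinf : ⨅ m, (maximalIdeal T) ^ m = ⊥ :=
    Ideal.iInf_pow_eq_bot_of_isLocalRing _ (IsLocalRing.maximalIdeal.isMaximal _).ne_top
  have : g₁ s - g₂ s ∈ ⨅ m, (maximalIdeal T) ^ m := by
    rw [Ideal.mem_iInf]
    intro m
    exact Ideal.pow_le_pow_right (Nat.le_succ m) (key m s)
  rw [hinf] at this
  exact this

end Groth.Agent.Lib.helper17.CINum
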