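import Mathlib
import Groth.Agent.Lib.Helper17.CINum5
import Groth.Agent.Lib.Helper17.CINum6
import Groth.Agent.Lib.Helper24.CohenCoeff
import Groth.Agent.Lib.Helper24.CohenPS
import Groth.Agent.Lib.Helper24.CplCatenary
import Groth.Agent.S2456

/-!
# helper17: independence of the presentation for the numeric CI condition — complete case

`R₁, R₂` complete regular local rings surjecting onto the same Noetherian local ring `A`:
`Num R₁ (ker π₁) ↔ Num R₂ (ker π₂)`.  (Common dominating power series ring over a Cohen ring.)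
-/

set_option autoImplicit false
set_option linter.style.haveILetI false

namespace Groth.Agent.Lib.helper17.CINum

universe u

open IsLocalRing

theorem num_iff_of_complete {R₁ R₂ A : Type u} [CommRing R₁] [CommRing R₂] [CommRing A]
    [IsRegularLocalRing R₁] [IsRegularLocalRing R₂]
    [IsAdicComplete (maximalIdeal R₁) R₁] [IsAdicComplete (maximalIdeal R₂) R₂]
    [IsLocalRing A] [IsNoetherianRing A]
    (π₁ : R₁ →+* A) (π₂ : R₂ →+* A) (h₁ : Function.Surjective π₁)
    (h₂ : Function.Surjective π₂) :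
    Num R₁ (RingHom.ker π₁) ↔ Num R₂ (RingHom.ker π₂) := by
  classical
  obtain ⟨W, _, _, hW, hWN, hWc, v₁, e₁, hv₁loc, hv₁⟩ :=
    Groth.Agent.Lib.Helper24.CohenCoeff.exists_coeff_ring R₁
  haveI := hWN
  haveI := hWc
  haveI := hv₁loc
  haveI hπ₁loc : IsLocalHom π₁ := IsLocalHom.of_surjective π₁ h₁
  haveI hπ₂loc : IsLocalHom π₂ := IsLocalHom.of_surjective π₂ h₂
  set J := RingHom.ker π₂ with hJdef
  have hJ : J ≠ ⊤ := RingHom.ker_ne_top π₂
  haveI : Nontrivial (R₂ ⧸ J) := Ideal.Quotient.nontrivial_iff.mpr hJ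
  haveI : IsLocalRing (R₂ ⧸ J) :=
    IsLocalRing.of_surjective' (Ideal.Quotient.mk J) Ideal.Quotient.mk_surjective
  let ē : R₂ ⧸ J ≃+* A := RingHom.quotientKerEquivOfSurjective h₂
  let u' : W →+* R₂ ⧸ J := (ē.symm : A →+* R₂ ⧸ J).comp (π₁.comp v₁)
  haveI : IsLocalHom u' := by
    refine ⟨fun a ha => ?_⟩
    have h1 : IsUnit (ē (u' a)) := ha.map ē
    have h2 : ē (u' a) = π₁ (v₁ a) := by simp [u']
    rw [h2] at h1
    exact hv₁loc.map_nonunit a (hπ₁loc.map_nonunit _ h1)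
  obtain ⟨v₂, hv₂loc, hv₂⟩ := Groth.Agent.S2456.result hW J hJ u'
  haveI := hv₂loc
  have hπv : ∀ a, π₂ (v₂ a) = π₁ (v₁ a) := by
    intro a
    have h1 : Ideal.Quotient.mk J (v₂ a) = u' a := RingHom.congr_fun hv₂ a
    have h2 : ē (Ideal.Quotient.mk J (v₂ a)) = π₂ (v₂ a) :=
      RingHom.quotientKerEquivOfSurjective_apply_mk h₂ (v₂ a)
    rw [← h2, h1]
    simp [u']
  -- generators
  obtain ⟨n₁, x, hx⟩ := Submodule.fg_iff_exists_fin_generating_family.1
    (IsNoetherian.noetherian (maximalIdeal R₁))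
  obtain ⟨n₂, y, hy⟩ := Submodule.fg_iff_exists_fin_generating_family.1
    (IsNoetherian.noetherian (maximalIdeal R₂))
  have hxm : ∀ i, x i ∈ maximalIdeal R₁ := fun i => hx ▸ Submodule.subset_span ⟨i, rfl⟩
  have hym : ∀ j, y j ∈ maximalIdeal R₂ := fun j => hy ▸ Submodule.subset_span ⟨j, rfl⟩
  let l₁ : A → R₁ := Function.surjInv h₁
  have hl₁ : ∀ a, π₁ (l₁ a) = a := Function.surjInv_eq h₁
  let l₂ : A → R₂ := Function.surjInv h₂
  have hl₂ : ∀ a, π₂ (l₂ a) = a := Function.surjInv_eq h₂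
  -- nonunits
  have hnon₁ : ∀ r : R₁, π₁ r ∈ maximalIdeal A → r ∈ maximalIdeal R₁ := by
    intro r hr
    by_contra hcon
    have : IsUnit r := by rwa [mem_maximalIdeal, mem_nonunits_iff, not_not] at hcon
    exact hr (this.map π₁)
  have hnon₂ : ∀ r : R₂, π₂ r ∈ maximalIdeal A → r ∈ maximalIdeal R₂ := by
    intro r hr
    by_contra hcon
    have : IsUnit r := by rwa [mem_maximalIdeal, mem_nonunits_iff, not_not] at hcon
    exact hr (this.map π₂)
  have hmap₁ : ∀ r ∈ maximalIdeal R₁, π₁ r ∈ maximalIdeal A := fun r hr =>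
    map_nonunit π₁ r hr
  have hmap₂ : ∀ r ∈ maximalIdeal R₂, π₂ r ∈ maximalIdeal A := fun r hr =>
    map_nonunit π₂ r hr
  let vals₁ : Fin (n₁ + n₂) → R₁ := Fin.append x (fun j => l₁ (π₂ (y j)))
  let vals₂ : Fin (n₁ + n₂) → R₂ := Fin.append (fun i => l₂ (π₁ (x i))) y
  have hvals₁m : ∀ k, vals₁ k ∈ maximalIdeal R₁ := by
    intro k
    refine Fin.addCases (fun i => ?_) (fun j => ?_) k
    · simp only [vals₁, Fin.append_left]; exact hxm i
    · simp only [vals₁, Fin.append_right]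
      apply hnon₁
      rw [hl₁]
      exact hmap₂ _ (hym j)
  have hvals₂m : ∀ k, vals₂ k ∈ maximalIdeal R₂ := by
    intro k
    refine Fin.addCases (fun i => ?_) (fun j => ?_) k
    · simp only [vals₂, Fin.append_left]
      apply hnon₂
      rw [hl₂]
      exact hmap₁ _ (hxm i)
    · simp only [vals₂, Fin.append_right]; exact hym j
  have hx₁ : maximalIdeal R₁ = (maximalIdeal W).map v₁ ⊔ Ideal.span (Set.range vals₁) := by
    apply le_antisymm
    · refine le_trans ?_ le_sup_right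
      rw [← hx]
      apply Submodule.span_mono
      rintro _ ⟨i, rfl⟩
      exact ⟨Fin.castAdd n₂ i, by simp [vals₁, Fin.append_left]⟩
    · refine sup_le (((IsLocalRing.local_hom_TFAE v₁).out 0 2).mp hv₁loc) ?_
      rw [Ideal.span_le]
      rintro _ ⟨k, rfl⟩
      exact hvals₁m k
  have hx₂ : maximalIdeal R₂ = (maximalIdeal W).map v₂ ⊔ Ideal.span (Set.range vals₂) := by
    apply le_antisymm
    · refine le_trans ?_ le_sup_right
      rw [← hy]
      apply Submodule.span_mono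
      rintro _ ⟨j, rfl⟩
      exact ⟨Fin.natAdd n₁ j, by simp [vals₂, Fin.append_right]⟩
    · refine sup_le (((IsLocalRing.local_hom_TFAE v₂).out 0 2).mp hv₂loc) ?_
      rw [Ideal.span_le]
      rintro _ ⟨k, rfl⟩
      exact hvals₂m k
  have hres₁ : Function.Surjective ((residue R₁).comp v₁) := by
    intro b
    obtain ⟨a, ha⟩ := residue_surjective (e₁.symm b)
    refine ⟨a, ?_⟩
    rw [RingHom.comp_apply, hv₁, ha, RingEquiv.apply_symm_apply]
  have hres₂ : Function.Surjective ((residue R₂).comp v₂) := by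
    intro b
    obtain ⟨r₂, rfl⟩ := residue_surjective b
    obtain ⟨r₁, hr₁⟩ := h₁ (π₂ r₂)
    obtain ⟨a, ha⟩ := hres₁ (residue R₁ r₁)
    refine ⟨a, ?_⟩
    rw [RingHom.comp_apply] at ha ⊢
    rw [← sub_eq_zero, ← map_sub, residue_eq_zero_iff] at ha ⊢
    apply hnon₂
    rw [map_sub, hπv, ← hr₁, ← map_sub]
    exact hmap₁ _ ha
  obtain ⟨f₁, hf₁C, hf₁X, hf₁s, -⟩ :=
    Groth.Agent.Lib.Helper24.CohenPS.exists_ps_surjective v₁ hres₁ (n₁ + n₂) vals₁ hx₁
  obtain ⟨f₂, hf₂C, hf₂X, hf₂s, -⟩ :=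
    Groth.Agent.Lib.Helper24.CohenPS.exists_ps_surjective v₂ hres₂ (n₁ + n₂) vals₂ hx₂
  have hcomm : π₁.comp f₁ = π₂.comp f₂ := by
    apply ps_hom_ext (n₁ + n₂)
    · rw [RingHom.comp_assoc, RingHom.comp_assoc, hf₁C, hf₂C]
      ext a
      exact (hπv a).symm
    · intro k
      rw [RingHom.comp_apply, RingHom.comp_apply, hf₁X, hf₂X]
      refine Fin.addCases (fun i => ?_) (fun j => ?_) k
      · simp only [vals₁, vals₂, Fin.append_left, hl₂]
      · simp only [vals₁, vals₂, Fin.append_right, hl₁]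
    · intro k
      rw [RingHom.comp_apply, hf₁X]
      exact hmap₁ _ (hvals₁m k)
  have hW' : IsField W ∨ CAlg.IsCohenRing W := hW.imp (fun h => h.1) id
  haveI hSreg : IsRegularLocalRing (MvPowerSeries (Fin (n₁ + n₂)) W) :=
    Groth.Agent.Lib.Helper24.CplCatenary.isRegularLocalRing_mvPowerSeries_of_field_or_cohen W hW' _
  have e1 := num_comap_iff _ (MvPowerSeries (Fin (n₁ + n₂)) W) R₁ f₁ hf₁s (RingHom.ker π₁)
    (RingHom.ker_ne_top π₁) rfl
  have e2 := num_comap_iff _ (MvPowerSeries (Fin (n₁ + n₂)) W) R₂ f₂ hf₂s (RingHom.ker π₂)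
    (RingHom.ker_ne_top π₂) rfl
  rw [← e1, ← e2, RingHom.comap_ker, RingHom.comap_ker, hcomm]

end Groth.Agent.Lib.helper17.CINum
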