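import Mathlib
import Groth.Agent.Lib.Helper17.CINum7
import Groth.Agent.Lib.Helper24.CplCM2

/-!
# helper17: independence of the presentation for the numeric CI condition — general case

* `exists_cpl_surjection`: a surjection `π : R ↠ A` of Noetherian local rings induces a surjection
  `R̂ ↠ Â` with kernel `(ker π) R̂`.
* `num_iff_of_surjective`: `R₁, R₂` regular local rings surjecting onto the same Noetherian local
  ring `A`: `Num R₁ (ker π₁) ↔ Num R₂ (ker π₂)`.
* `isRegGen_iff_of_surjective`: same for "generated by a regular sequence".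
-/

set_option autoImplicit false
set_option linter.style.haveILetI false

namespace Groth.Agent.Lib.helper17.CINum

universe u

open IsLocalRing Groth.Agent.Lib.Helper24.CplCM

theorem exists_cpl_surjection {R A : Type u} [CommRing R] [CommRing A] [IsLocalRing R]
    [IsNoetherianRing R] [IsLocalRing A] (π : R →+* A) (hπ : Function.Surjective π) :
    ∃ ψ : AdicCompletion (maximalIdeal R) R →+* AdicCompletion (maximalIdeal A) A,
      Function.Surjective ψ ∧
      RingHom.ker ψ = (RingHom.ker π).map (algebraMap R (AdicCompletion (maximalIdeal R) R)) := by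
  set I := RingHom.ker π with hI
  have hne : I ≠ ⊤ := RingHom.ker_ne_top π
  haveI : Nontrivial (R ⧸ I) := Ideal.Quotient.nontrivial_iff.mpr hne
  haveI : IsLocalRing (R ⧸ I) :=
    IsLocalRing.of_surjective' (Ideal.Quotient.mk I) Ideal.Quotient.mk_surjective
  let e : R ⧸ I ≃+* A := RingHom.quotientKerEquivOfSurjective hπ
  let ê := cplEquivOfRingEquiv e
  refine ⟨ê.toRingHom.comp (Groth.Agent.Lib.Helper24.CplQuot.φ R I), ?_, ?_⟩
  · exact ê.surjective.comp (Groth.Agent.Lib.Helper24.CplQuot.φ_surjective R I)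
  · rw [RingHom.ker_equiv_comp, Groth.Agent.Lib.Helper24.CplQuot.ker_φ]

theorem num_iff_of_surjective {R₁ R₂ A : Type u} [CommRing R₁] [CommRing R₂] [CommRing A]
    [IsRegularLocalRing R₁] [IsRegularLocalRing R₂] [IsLocalRing A] [IsNoetherianRing A]
    (π₁ : R₁ →+* A) (π₂ : R₂ →+* A) (h₁ : Function.Surjective π₁)
    (h₂ : Function.Surjective π₂) :
    Num R₁ (RingHom.ker π₁) ↔ Num R₂ (RingHom.ker π₂) := by
  obtain ⟨ψ₁, hψ₁s, hψ₁k⟩ := exists_cpl_surjection π₁ h₁
  obtain ⟨ψ₂, hψ₂s, hψ₂k⟩ := exists_cpl_surjection π₂ h₂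
  haveI : IsRegularLocalRing (AdicCompletion (maximalIdeal R₁) R₁) :=
    (Groth.Agent.S0548.result R₁).mp inferInstance
  haveI : IsRegularLocalRing (AdicCompletion (maximalIdeal R₂) R₂) :=
    (Groth.Agent.S0548.result R₂).mp inferInstance
  rw [← num_cpl_iff R₁ _ (RingHom.ker_ne_top π₁), ← num_cpl_iff R₂ _ (RingHom.ker_ne_top π₂),
    ← hψ₁k, ← hψ₂k]
  exact num_iff_of_complete ψ₁ ψ₂ hψ₁s hψ₂s

theorem isRegGen_iff_of_surjective {R₁ R₂ A : Type u} [CommRing R₁] [CommRing R₂] [CommRing A]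
    [IsRegularLocalRing R₁] [IsRegularLocalRing R₂] [IsLocalRing A] [IsNoetherianRing A]
    (π₁ : R₁ →+* A) (π₂ : R₂ →+* A) (h₁ : Function.Surjective π₁)
    (h₂ : Function.Surjective π₂) :
    IsRegGen R₁ (RingHom.ker π₁) ↔ IsRegGen R₂ (RingHom.ker π₂) := by
  rw [isRegGen_iff_num R₁ _ (RingHom.ker_ne_top π₁), isRegGen_iff_num R₂ _ (RingHom.ker_ne_top π₂)]
  exact num_iff_of_surjective π₁ π₂ h₁ h₂

end Groth.Agent.Lib.helper17.CINum
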