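import Mathlib
import Groth.Prelude.Def_Pi1
import Groth.Agent.Lib.Helper17.CINum8

/-!
# helper17: complete intersections (completion = regular mod regular sequence) and presentations

* `isRegGen_iff_of_cpl`: `f : R ↠ A`, `g : B ↠ Â` with `R`, `B` regular local:
  `ker f` is generated by a regular sequence iff `ker g` is.
* `isRegGen_ker_of_isCompleteIntersection`: if `A` is a complete intersection then the kernel of
  every surjection from a regular local ring is generated by a regular sequence.
* `isCompleteIntersection_quotient_of_isRegGen`.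
-/

set_option autoImplicit false
set_option linter.style.haveILetI false

namespace Groth.Agent.Lib.helper17.CINum

universe u

open IsLocalRing Groth.Agent.Lib.Helper24.CplCM

theorem isRegGen_iff_of_cpl {R A B : Type u} [CommRing R] [CommRing A] [CommRing B]
    [IsRegularLocalRing R] [IsRegularLocalRing B] [IsLocalRing A] [IsNoetherianRing A]
    (f : R →+* A) (hf : Function.Surjective f)
    (g : B →+* AdicCompletion (maximalIdeal A) A) (hg : Function.Surjective g) :
    IsRegGen R (RingHom.ker f) ↔ IsRegGen B (RingHom.ker g) := by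
  obtain ⟨ψ, hψs, hψk⟩ := exists_cpl_surjection f hf
  haveI : IsRegularLocalRing (AdicCompletion (maximalIdeal R) R) :=
    (Groth.Agent.S0548.result R).mp inferInstance
  rw [isRegGen_iff_num R _ (RingHom.ker_ne_top f), isRegGen_iff_num B _ (RingHom.ker_ne_top g),
    ← num_cpl_iff R _ (RingHom.ker_ne_top f), ← hψk]
  exact num_iff_of_surjective ψ g hψs hg

theorem isRegGen_ker_of_isCompleteIntersection {R A : Type u} [CommRing R] [CommRing A]
    [IsRegularLocalRing R] [IsLocalRing A] [IsNoetherianRing A]
    (f : R →+* A) (hf : Function.Surjective f) (hA : Pi1.IsCompleteIntersection A) :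
    IsRegGen R (RingHom.ker f) := by
  obtain ⟨B, _, hB, rs, hmem, hreg, ⟨e⟩⟩ := hA
  let g : B →+* AdicCompletion (maximalIdeal A) A :=
    (e.symm : _ →+* _).comp (Ideal.Quotient.mk (Ideal.span {r | r ∈ rs}))
  have hg : Function.Surjective g := e.symm.surjective.comp Ideal.Quotient.mk_surjective
  have hker : RingHom.ker g = Ideal.ofList rs := by
    have h1 := RingHom.ker_equiv_comp (Ideal.Quotient.mk (Ideal.span {r | r ∈ rs})) e.symm
    rw [Ideal.mk_ker] at h1
    exact h1
  rw [isRegGen_iff_of_cpl f hf g hg]
  exact ⟨rs, hker.symm, hreg⟩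

theorem isCompleteIntersection_quotient_of_isRegGen {R : Type u} [CommRing R]
    [IsRegularLocalRing R] (I : Ideal R) [IsLocalRing (R ⧸ I)] (h : IsRegGen R I) :
    Pi1.IsCompleteIntersection (R ⧸ I) := by
  obtain ⟨rs, rfl, hreg⟩ := h
  have hne : Ideal.ofList rs ≠ ⊤ := Ideal.Quotient.nontrivial_iff.mp inferInstance
  have hle : Ideal.ofList rs ≤ maximalIdeal R := IsLocalRing.le_maximalIdeal hne
  haveI hBreg : IsRegularLocalRing (AdicCompletion (maximalIdeal R) R) :=
    (Groth.Agent.S0548.result R).mp inferInstance
  have hregB := hreg.of_faithfullyFlat (S := AdicCompletion (maximalIdeal R) R)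
  refine ⟨_, inferInstance, hBreg, _, ?_, hregB, ⟨?_⟩⟩
  · intro r hr
    obtain ⟨a, ha, rfl⟩ := List.mem_map.mp hr
    rw [← map_maximalIdeal_cpl]
    exact Ideal.mem_map_of_mem _ (hle (Ideal.subset_span ha))
  · refine (Groth.Agent.Lib.Helper24.CplQuot.equiv R (Ideal.ofList rs)).symm.trans
      (Ideal.quotEquivOfEq ?_)
    rw [Ideal.map_ofList]

end Groth.Agent.Lib.helper17.CINum
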