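import Mathlib
import Groth.Agent.Lib.Helper17.CINum9
import Groth.Agent.Lib.Helper17.RegSpread2

/-!
# helper17: the complete-intersection locus of a quotient of a regular ring (ring level)

* `ci_of_ringEquiv`, `ci_of_regular`.
* `atPrimeQuotEquiv`: `(S/I)_𝔭 ≃ S_𝔮 / I S_𝔮`.
* `ci_atPrime_iff`: for `S` regular, `(S/I)_𝔭` is CI iff `I S_𝔮` is generated by a regular sequence.
* `exists_open_isRegGen`: this condition is open.
-/

set_option autoImplicit false
set_option linter.style.haveILetI false

namespace Groth.Agent.Lib.helper17.CILocus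

universe u

open IsLocalRing RingTheory.Sequence Groth.Agent.Lib.helper17.CINum Groth.Agent.Lib.Helper24.CplCM

theorem ci_of_ringEquiv {A A' : Type u} [CommRing A] [CommRing A'] [IsLocalRing A]
    [IsLocalRing A'] (e : A ≃+* A') (h : Pi1.IsCompleteIntersection A) :
    Pi1.IsCompleteIntersection A' := by
  obtain ⟨B, _, hB, rs, hmem, hreg, ⟨ε⟩⟩ := h
  exact ⟨B, inferInstance, hB, rs, hmem, hreg, ⟨(cplEquivOfRingEquiv e).symm.trans ε⟩⟩

theorem ci_of_regular (A : Type u) [CommRing A] [IsRegularLocalRing A] :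
    Pi1.IsCompleteIntersection A := by
  haveI hBreg : IsRegularLocalRing (AdicCompletion (maximalIdeal A) A) :=
    (Groth.Agent.S0548.result A).mp inferInstance
  refine ⟨_, inferInstance, hBreg, [], by simp, IsRegular.nil _ _, ⟨?_⟩⟩
  have h0 : Ideal.span {r : AdicCompletion (maximalIdeal A) A | r ∈ ([] : List _)} = ⊥ := by
    simp
  exact (RingEquiv.quotientBot _).symm.trans (Ideal.quotEquivOfEq h0.symm)

section

variable (S : Type u) [CommRing S] (I : Ideal S) (𝔭 : Ideal (S ⧸ I)) [𝔭.IsPrime]

/-- `(S/I)_𝔭 ≃ S_𝔮 / I S_𝔮`, `𝔮` the preimage of `𝔭`. -/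
noncomputable def atPrimeQuotEquiv :
    Localization.AtPrime 𝔭 ≃+*
      (Localization.AtPrime (𝔭.comap (Ideal.Quotient.mk I)) ⧸
        I.map (algebraMap S (Localization.AtPrime (𝔭.comap (Ideal.Quotient.mk I))))) := by
  set Q : Ideal S := 𝔭.comap (Ideal.Quotient.mk I) with hQ
  have hsub : Algebra.algebraMapSubmonoid (S ⧸ I) Q.primeCompl = 𝔭.primeCompl := by
    ext y
    constructor
    · rintro ⟨x, hx, rfl⟩
      exact hx
    · intro hy
      obtain ⟨x, rfl⟩ := Ideal.Quotient.mk_surjective y
      exact ⟨x, hy, rfl⟩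
  haveI : IsLocalization 𝔭.primeCompl
      (Localization.AtPrime Q ⧸ I.map (algebraMap S (Localization.AtPrime Q))) := by
    rw [← hsub]; infer_instance
  exact (IsLocalization.algEquiv 𝔭.primeCompl (Localization.AtPrime 𝔭)
    (Localization.AtPrime Q ⧸ I.map (algebraMap S (Localization.AtPrime Q)))).toRingEquiv

omit [𝔭.IsPrime] in
theorem le_comap : I ≤ 𝔭.comap (Ideal.Quotient.mk I) := by
  intro x hx
  rw [Ideal.mem_comap, Ideal.Quotient.eq_zero_iff_mem.mpr hx]
  exact 𝔭.zero_mem

end

theorem map_ne_top (S : Type u) [CommRing S] (I Q : Ideal S) [Q.IsPrime] (hIQ : I ≤ Q) :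
    I.map (algebraMap S (Localization.AtPrime Q)) ≠ ⊤ := by
  intro htop
  have h1 : I.map (algebraMap S (Localization.AtPrime Q)) ≤ maximalIdeal _ := by
    rw [← Localization.AtPrime.map_eq_maximalIdeal]
    exact Ideal.map_mono hIQ
  rw [htop] at h1
  exact (maximalIdeal.isMaximal _).ne_top (top_le_iff.mp h1)

theorem ci_atPrime_iff (S : Type u) [CommRing S] [IsRegularRing S] (I : Ideal S)
    (𝔭 : Ideal (S ⧸ I)) [𝔭.IsPrime] :
    Pi1.IsCompleteIntersection (Localization.AtPrime 𝔭) ↔
      IsRegGen (Localization.AtPrime (𝔭.comap (Ideal.Quotient.mk I)))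
        (I.map (algebraMap S (Localization.AtPrime (𝔭.comap (Ideal.Quotient.mk I))))) := by
  set Q : Ideal S := 𝔭.comap (Ideal.Quotient.mk I) with hQ
  have hne := map_ne_top S I Q (le_comap S I 𝔭)
  haveI : Nontrivial (Localization.AtPrime Q ⧸ I.map (algebraMap S (Localization.AtPrime Q))) :=
    Ideal.Quotient.nontrivial_iff.mpr hne
  haveI : IsLocalRing (Localization.AtPrime Q ⧸ I.map (algebraMap S (Localization.AtPrime Q))) :=
    IsLocalRing.of_surjective' (Ideal.Quotient.mk _) Ideal.Quotient.mk_surjective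
  haveI : IsRegularLocalRing (Localization.AtPrime Q) := inferInstance
  constructor
  · intro h
    have h1 := ci_of_ringEquiv (atPrimeQuotEquiv S I 𝔭) h
    have h2 := isRegGen_ker_of_isCompleteIntersection
      (Ideal.Quotient.mk (I.map (algebraMap S (Localization.AtPrime Q))))
      Ideal.Quotient.mk_surjective h1
    rwa [Ideal.mk_ker] at h2
  · intro h
    exact ci_of_ringEquiv (atPrimeQuotEquiv S I 𝔭).symm
      (isCompleteIntersection_quotient_of_isRegGen _ h)

theorem exists_open_isRegGen (S : Type u) [CommRing S] [IsNoetherianRing S] (I Q : Ideal S)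
    [Q.IsPrime] (hIQ : I ≤ Q)
    (h : IsRegGen (Localization.AtPrime Q) (I.map (algebraMap S (Localization.AtPrime Q)))) :
    ∃ g : S, g ∉ Q ∧ ∀ (Q' : Ideal S) [Q'.IsPrime], I ≤ Q' → g ∉ Q' →
      IsRegGen (Localization.AtPrime Q') (I.map (algebraMap S (Localization.AtPrime Q'))) := by
  obtain ⟨rs, hrs, hreg⟩ := h
  obtain ⟨g, hg, ks, -, hks, hB⟩ :=
    Groth.Agent.Lib.helper17.RegSpread.spread_regular Q I hIQ rs hreg.toIsWeaklyRegular hrs.symm
  refine ⟨g, hg, ?_⟩
  intro Q' _ hIQ' hgQ'
  obtain ⟨hregB, hIB⟩ := hB (Localization.Away g)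
  have hgu : IsUnit (algebraMap S (Localization.AtPrime Q') g) :=
    IsLocalization.map_units (Localization.AtPrime Q') (⟨g, hgQ'⟩ : Q'.primeCompl)
  let φ : Localization.Away g →+* Localization.AtPrime Q' := IsLocalization.Away.lift g hgu
  letI : Algebra (Localization.Away g) (Localization.AtPrime Q') := φ.toAlgebra
  haveI : IsScalarTower S (Localization.Away g) (Localization.AtPrime Q') :=
    IsScalarTower.of_algebraMap_eq (fun x => (IsLocalization.Away.lift_eq g hgu x).symm)
  haveI hloc : IsLocalization (Q'.primeCompl.map (algebraMap S (Localization.Away g)))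
      (Localization.AtPrime Q') :=
    IsLocalization.isLocalization_of_submonoid_le (Localization.Away g) (Localization.AtPrime Q')
      (Submonoid.powers g) Q'.primeCompl (Submonoid.powers_le.mpr hgQ')
  haveI : Module.Flat (Localization.Away g) (Localization.AtPrime Q') :=
    IsLocalization.flat _ (Q'.primeCompl.map (algebraMap S (Localization.Away g)))
  have hw := hregB.toIsWeaklyRegular.of_flat (S := Localization.AtPrime Q')
  rw [List.map_map] at hw
  have hcomp : (algebraMap (Localization.Away g) (Localization.AtPrime Q')) ∘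
      (algebraMap S (Localization.Away g)) = algebraMap S (Localization.AtPrime Q') := by
    ext x
    exact (IsScalarTower.algebraMap_apply S (Localization.Away g) (Localization.AtPrime Q') x).symm
  rw [hcomp] at hw
  have hgen : I.map (algebraMap S (Localization.AtPrime Q')) =
      Ideal.ofList (ks.map (algebraMap S (Localization.AtPrime Q'))) := by
    rw [IsScalarTower.algebraMap_eq S (Localization.Away g) (Localization.AtPrime Q'),
      ← Ideal.map_map, hIB, Ideal.map_ofList, List.map_map]
    rfl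
  refine ⟨ks.map (algebraMap S (Localization.AtPrime Q')), hgen.symm, ?_⟩
  refine IsRegular.of_isWeaklyRegular_of_mem_maximalIdeal _ ?_ hw
  intro r hr
  obtain ⟨k, hk, rfl⟩ := List.mem_map.mp hr
  rw [IsLocalization.AtPrime.to_map_mem_maximal_iff (Localization.AtPrime Q') Q']
  exact hIQ' (hks k hk)

end Groth.Agent.Lib.helper17.CILocus
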