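import Mathlib
import Groth.Prelude.Def_AlgSpMor5
import Groth.Agent.Lib.Helper5.AlgSpFibreProduct
import Groth.Agent.Lib.Helper11.AlgSpBasic

/-!
# helper17: a tower of étale charts `U → V → W` for a composite `X → Y → Z` of algebraic spaces

`exists_tower`: through any point `x` of `|X|` there are charts `a : h_U → X`, `b : h_V → Y`,
`c : h_W → Z` (representable étale) and `h1 : U → V`, `h2 : V → W` with commuting squares, a point
`u` of `U` over `x`, such that moreover `h_U → X ×_Z h_W` is representable étale.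
-/

set_option autoImplicit false
universe u
open CategoryTheory CategoryTheory.Limits AlgebraicGeometry
open AlgSp

namespace Groth.Agent.Lib.helper17.ChartTower

variable {S : Scheme.{u}}

theorem exists_tower {X Y Z : Sp S} (hX : IsAlgSpace X) (hY : IsAlgSpace Y) (hZ : IsAlgSpace Z)
    (f : X ⟶ Y) (g : Y ⟶ Z) (x : Points X) :
    ∃ (U V W : Over S) (a : (yon S).obj U ⟶ X) (b : (yon S).obj V ⟶ Y) (c : (yon S).obj W ⟶ Z)
      (h1 : U ⟶ V) (h2 : V ⟶ W) (u : ↥U.left),
      RepWith @Etale a ∧ RepWith @Etale b ∧ RepWith @Etale c ∧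
      a ≫ f = (yon S).map h1 ≫ b ∧ b ≫ g = (yon S).map h2 ≫ c ∧ Points.ofPt a u = x ∧
      ∀ hc : a ≫ (f ≫ g) = (yon S).map (h1 ≫ h2) ≫ c,
        RepWith @Etale (pullback.lift a ((yon S).map (h1 ≫ h2)) hc :
          (yon S).obj U ⟶ pullback (f ≫ g) c) := by
  obtain ⟨W, c, hce, hcs⟩ := hZ.atlas
  -- `Y_W = Y ×_Z W`
  have sqY : IsPullback (pullback.fst g c) (pullback.snd g c) g c := IsPullback.of_hasPullback _ _
  have hYW : IsAlgSpace (pullback g c) :=
    Groth.Agent.Lib.helper5.isAlgSpace_of_isPullback hZ.diag hY (IsAlgSpace.yon_obj W) sqY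
  obtain ⟨V, q, hqe, hqs⟩ := hYW.atlas
  obtain ⟨h2, hh2⟩ := (yon S).map_surjective (q ≫ pullback.snd g c)
  have hge : RepWith @Etale (pullback.fst g c) :=
    (RepWith (S := S) @Etale).of_isPullback sqY.flip hce
  have hgs : RepWith @Surjective (pullback.fst g c) :=
    (RepWith (S := S) @Surjective).of_isPullback sqY.flip hcs
  have hbe : RepWith @Etale (q ≫ pullback.fst g c) :=
    (RepWith (S := S) @Etale).comp_mem _ _ hqe hge
  have hbs : RepWith @Surjective (q ≫ pullback.fst g c) :=
    (RepWith (S := S) @Surjective).comp_mem _ _ hqs hgs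
  have hbg : (q ≫ pullback.fst g c) ≫ g = (yon S).map h2 ≫ c := by
    rw [Category.assoc, sqY.w, hh2, Category.assoc]
  -- `X_V = X ×_Y V`
  have sqX : IsPullback (pullback.fst f (q ≫ pullback.fst g c))
      (pullback.snd f (q ≫ pullback.fst g c)) f (q ≫ pullback.fst g c) :=
    IsPullback.of_hasPullback _ _
  have hXV : IsAlgSpace (pullback f (q ≫ pullback.fst g c)) :=
    Groth.Agent.Lib.helper5.isAlgSpace_of_isPullback hY.diag hX (IsAlgSpace.yon_obj V) sqX
  obtain ⟨U, r, hre, hrs⟩ := hXV.atlas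
  obtain ⟨h1, hh1⟩ := (yon S).map_surjective (r ≫ pullback.snd f (q ≫ pullback.fst g c))
  have hfe : RepWith @Etale (pullback.fst f (q ≫ pullback.fst g c)) :=
    (RepWith (S := S) @Etale).of_isPullback sqX.flip hbe
  have hfs : RepWith @Surjective (pullback.fst f (q ≫ pullback.fst g c)) :=
    (RepWith (S := S) @Surjective).of_isPullback sqX.flip hbs
  have hae : RepWith @Etale (r ≫ pullback.fst f (q ≫ pullback.fst g c)) :=
    (RepWith (S := S) @Etale).comp_mem _ _ hre hfe
  have has : RepWith @Surjective (r ≫ pullback.fst f (q ≫ pullback.fst g c)) :=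
    (RepWith (S := S) @Surjective).comp_mem _ _ hrs hfs
  have haf : (r ≫ pullback.fst f (q ≫ pullback.fst g c)) ≫ f =
      (yon S).map h1 ≫ (q ≫ pullback.fst g c) := by
    rw [Category.assoc, sqX.w, hh1, Category.assoc]
  obtain ⟨u, hu⟩ := Groth.Agent.Lib.helper11.surjective_ofPt _ has x
  refine ⟨U, V, W, r ≫ pullback.fst f (q ≫ pullback.fst g c), q ≫ pullback.fst g c, c, h1, h2, u,
    hae, hbe, hce, haf, hbg, hu, ?_⟩
  intro hc
  -- `X_W = X ×_Z W`
  have sqXW : IsPullback (pullback.fst (f ≫ g) c) (pullback.snd (f ≫ g) c) (f ≫ g) c :=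
    IsPullback.of_hasPullback _ _
  have hn : (pullback.fst (f ≫ g) c ≫ f) ≫ g = pullback.snd (f ≫ g) c ≫ c := by
    rw [Category.assoc]; exact sqXW.w
  let n : pullback (f ≫ g) c ⟶ pullback g c := pullback.lift _ _ hn
  have hn1 : n ≫ pullback.fst g c = pullback.fst (f ≫ g) c ≫ f := pullback.lift_fst _ _ _
  have hn2 : n ≫ pullback.snd g c = pullback.snd (f ≫ g) c := pullback.lift_snd _ _ _
  have sqN : IsPullback (pullback.fst (f ≫ g) c) n f (pullback.fst g c) := by
    refine IsPullback.of_bot ?_ hn1.symm sqY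
    rw [hn2]
    exact sqXW
  have hm : pullback.fst f (q ≫ pullback.fst g c) ≫ (f ≫ g) =
      (pullback.snd f (q ≫ pullback.fst g c) ≫ q ≫ pullback.snd g c) ≫ c := by
    rw [← Category.assoc, sqX.w, Category.assoc, Category.assoc, Category.assoc, Category.assoc,
      sqY.w]
  let m : pullback f (q ≫ pullback.fst g c) ⟶ pullback (f ≫ g) c := pullback.lift _ _ hm
  have hm1 : m ≫ pullback.fst (f ≫ g) c = pullback.fst f (q ≫ pullback.fst g c) :=
    pullback.lift_fst _ _ _
  have hm2 : m ≫ pullback.snd (f ≫ g) c =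
      pullback.snd f (q ≫ pullback.fst g c) ≫ q ≫ pullback.snd g c := pullback.lift_snd _ _ _
  have hmn : m ≫ n = pullback.snd f (q ≫ pullback.fst g c) ≫ q := by
    apply pullback.hom_ext
    · rw [Category.assoc, hn1, ← Category.assoc, hm1, sqX.w, Category.assoc]
    · rw [Category.assoc, hn2, hm2, Category.assoc]
  have sqM : IsPullback m (pullback.snd f (q ≫ pullback.fst g c)) n q := by
    refine IsPullback.of_right ?_ hmn sqN
    rw [hm1]
    exact sqX
  have hme : RepWith @Etale m := (RepWith (S := S) @Etale).of_isPullback sqM.flip hqe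
  have he : pullback.lift (r ≫ pullback.fst f (q ≫ pullback.fst g c)) ((yon S).map (h1 ≫ h2)) hc =
      r ≫ m := by
    apply pullback.hom_ext
    · rw [pullback.lift_fst, Category.assoc, hm1]
    · rw [pullback.lift_snd, Category.assoc, hm2, ← Category.assoc, ← hh1, Functor.map_comp, hh2]
  rw [he]
  exact (RepWith (S := S) @Etale).comp_mem _ _ hre hme

end Groth.Agent.Lib.helper17.ChartTower
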