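import Mathlib
import Groth.Agent.Lib.Helper7.OmegaFS2
import Groth.Agent.Lib.Helper13.FFLF2
import Groth.Agent.Lib.Helper16.FLF8

/-!
# Rank of the conormal sheaf of a smooth pair (helper17)

`j : X ⟶ Y` a quasi-compact immersion, `f : Y ⟶ Z`, `(Ω_{Y/Z}, d)`, `(Ω_{X/Z}, d)` universal, `φ` the
conormal map, `c : j^*Ω_{Y/Z} ⟶ Ω_{X/Z}` the canonical map.

* `chart_split`: on a chart where `X/Z` is formally smooth and `Γ(Ω_{X/Z})` is projective,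
  `Γ(j^*Ω_{Y/Z}) ≃ Γ(C_{X/Y}) × Γ(Ω_{X/Z})`.
* `chart_rank`, `isFinLocFree_conormal_and_rank`: for `X/Z` smooth and `Ω_{Y/Z}`, `Ω_{X/Z}` finite locally
  free, `C_{X/Y}` is finite locally free and `rk_{j x} Ω_{Y/Z} = rk_x C_{X/Y} + rk_x Ω_{X/Z}`.
-/

set_option autoImplicit false
set_option linter.style.haveILetI false
set_option linter.unusedSectionVars false
universe u
open CategoryTheory CategoryTheory.Limits AlgebraicGeometry TopologicalSpace Opposite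
open Scheme.Modules TensorProduct KaehlerDifferential

namespace Groth.Agent.Lib.helper17.ConormalRank

open Groth.Agent.Lib.helper8.PullbackUnit Groth.Agent.Lib.helper7 Groth.Agent.Lib.helper7.OmegaChart
  Groth.Agent.Lib.helper7.OmegaSeq4 Groth.Agent.Lib.helper16.FLF Groth.Agent.Lib.helper13.FFLF

section Seq

variable {X Y Z : Scheme.{u}} (f : Y ⟶ Z) (j : X ⟶ Y) [IsImmersion j] [QuasiCompact j]
  {ΩY : Y.Modules} (dY : OmegaSh.Der f ΩY) (hY : OmegaSh.IsUniversal dY)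
  {ΩX : X.Modules} (dX : OmegaSh.Der (j ≫ f) ΩX) (hX : OmegaSh.IsUniversal dX)
  (φ : Omega.conormal j ⟶ (Scheme.Modules.pullback j).obj ΩY)
  (hφ : OmegaSh.IsConormalDiff j dY φ)
  (c : (Scheme.Modules.pullback j).obj ΩY ⟶ ΩX) (hc : OmegaSh.IsDiffCompat j dY dX c)

include hY hX hφ hc in
/-- on a chart where `X/Z` is formally smooth and `Ω_{X/Z}` is projective, the conormal sequence
splits: `Γ(j^*Ω_{Y/Z}) ≃ Γ(C_{X/Y}) × Γ(Ω_{X/Z})`. -/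
theorem chart_split {V : Y.Opens} (hV : IsAffineOpen V) (hU : IsAffineOpen (j ⁻¹ᵁ V))
    (hs : Function.Surjective (j.app V).hom) {W : Z.Opens} (hW : IsAffineOpen W)
    (eVW : V ≤ f ⁻¹ᵁ W)
    (hfs : ((j ≫ f).appLE W (j ⁻¹ᵁ V) (fun _ hx => eVW hx)).hom.FormallySmooth)
    (hproj : Module.Projective Γ(X, j ⁻¹ᵁ V) Γ(ΩX, j ⁻¹ᵁ V)) :
    Nonempty (Γ((Scheme.Modules.pullback j).obj ΩY, j ⁻¹ᵁ V) ≃ₗ[Γ(X, j ⁻¹ᵁ V)]
      Γ(Omega.conormal j, j ⁻¹ᵁ V) × Γ(ΩX, j ⁻¹ᵁ V)) := by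
  obtain ⟨hsurjc, hex⟩ := OmegaSeq2.chart_conormal f j dY hY dX hX φ hφ c hc hV hU hs hW eVW
  have hinj := OmegaFS.chart_conormal_injective f j dY hY φ hφ hV hU hs hW eVW hfs
  have hex' : Function.Exact (linApp φ (j ⁻¹ᵁ V)) (linApp c (j ⁻¹ᵁ V)) := hex
  have hinj' : Function.Injective (linApp φ (j ⁻¹ᵁ V)) := hinj
  have hsurj' : Function.Surjective (linApp c (j ⁻¹ᵁ V)) := hsurjc
  obtain ⟨l, hl⟩ := Module.projective_lifting_property (linApp c (j ⁻¹ᵁ V)) LinearMap.id hsurj'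
  exact ⟨(hex'.splitSurjectiveEquiv hinj' ⟨l, hl⟩).1⟩


include hY hX hφ hc in
/-- chart form of the rank count: sections of `C_{X/Y}` are finite projective and the ranks add up -/
theorem chart_rank {V : Y.Opens} (hV : IsAffineOpen V) (hU : IsAffineOpen (j ⁻¹ᵁ V))
    (hs : Function.Surjective (j.app V).hom) {W : Z.Opens} (hW : IsAffineOpen W)
    (eVW : V ≤ f ⁻¹ᵁ W)
    (hfs : ((j ≫ f).appLE W (j ⁻¹ᵁ V) (fun _ hx => eVW hx)).hom.FormallySmooth)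
    (hΩY : FlatMod.IsFinLocFree ΩY) (hΩX : FlatMod.IsFinLocFree ΩX) :
    (Module.Finite Γ(X, j ⁻¹ᵁ V) Γ(Omega.conormal j, j ⁻¹ᵁ V) ∧
      Module.Projective Γ(X, j ⁻¹ᵁ V) Γ(Omega.conormal j, j ⁻¹ᵁ V)) ∧
    ∀ (x : X), x ∈ j ⁻¹ᵁ V →
      Module.finrank (Y.presheaf.stalk (j x)) (ΩY.presheaf.stalk (j x)) =
        Module.finrank (X.presheaf.stalk x) ((Omega.conormal j).presheaf.stalk x) +
        Module.finrank (X.presheaf.stalk x) (ΩX.presheaf.stalk x) := by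
  have eUV : j ⁻¹ᵁ V ≤ j ⁻¹ᵁ V := le_rfl
  letI algAR := (j.appLE V (j ⁻¹ᵁ V) eUV).hom.toAlgebra
  haveI : ΩY.IsQuasicoherent := OmegaQCoh.isQuasicoherent_of_isUniversal f dY hY
  haveI : ΩX.IsQuasicoherent := OmegaQCoh.isQuasicoherent_of_isUniversal (j ≫ f) dX hX
  haveI : (Omega.conormal j).IsQuasicoherent := OmegaAffine.conormal_qcoh j
  obtain ⟨hQfin, hQproj⟩ := projective_sections_of_isFinLocFree ΩX hΩX hU
  obtain ⟨hMfin, hMproj⟩ := projective_sections_of_isFinLocFree ΩY hΩY hV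
  obtain ⟨e⟩ := chart_split f j dY hY dX hX φ hφ c hc hV hU hs hW eVW hfs hQproj
  have hk : IsBC (algebraMap Γ(Y, V) Γ(X, j ⁻¹ᵁ V)) (ρ j eUV ΩY) := isBC_ρ j hV hU eUV ΩY
  obtain ⟨eP, -⟩ := OmegaSeqAlg.exists_equiv_of_isBC hk
  haveI hPfin : Module.Finite Γ(X, j ⁻¹ᵁ V) Γ((Scheme.Modules.pullback j).obj ΩY, j ⁻¹ᵁ V) :=
    Module.Finite.equiv eP.symm
  haveI hPproj : Module.Projective Γ(X, j ⁻¹ᵁ V)
      Γ((Scheme.Modules.pullback j).obj ΩY, j ⁻¹ᵁ V) := Module.Projective.of_equiv eP.symm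
  let pr : Γ((Scheme.Modules.pullback j).obj ΩY, j ⁻¹ᵁ V) →ₗ[Γ(X, j ⁻¹ᵁ V)]
      Γ(Omega.conormal j, j ⁻¹ᵁ V) :=
    (LinearMap.fst Γ(X, j ⁻¹ᵁ V) Γ(Omega.conormal j, j ⁻¹ᵁ V) Γ(ΩX, j ⁻¹ᵁ V)).comp e.toLinearMap
  let inc : Γ(Omega.conormal j, j ⁻¹ᵁ V) →ₗ[Γ(X, j ⁻¹ᵁ V)]
      Γ((Scheme.Modules.pullback j).obj ΩY, j ⁻¹ᵁ V) :=
    e.symm.toLinearMap.comp
      (LinearMap.inl Γ(X, j ⁻¹ᵁ V) Γ(Omega.conormal j, j ⁻¹ᵁ V) Γ(ΩX, j ⁻¹ᵁ V))
  have hpi : ∀ n, pr (inc n) = n := fun n => by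
    simp [pr, inc]
  have hNfin : Module.Finite Γ(X, j ⁻¹ᵁ V) Γ(Omega.conormal j, j ⁻¹ᵁ V) :=
    Module.Finite.of_surjective pr (fun n => ⟨inc n, hpi n⟩)
  have hNproj : Module.Projective Γ(X, j ⁻¹ᵁ V) Γ(Omega.conormal j, j ⁻¹ᵁ V) :=
    Module.Projective.of_split inc pr (LinearMap.ext hpi)
  refine ⟨⟨hNfin, hNproj⟩, fun x hx => ?_⟩
  have hjx : j x ∈ V := hx
  rw [finrank_stalk_eq_rankAtStalk ΩX hU x hx,
    finrank_stalk_eq_rankAtStalk (Omega.conormal j) hU x hx,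
    finrank_stalk_eq_rankAtStalk ΩY hV (j x) hjx]
  have h4 : Module.rankAtStalk Γ((Scheme.Modules.pullback j).obj ΩY, j ⁻¹ᵁ V)
      (hU.primeIdealOf ⟨x, hx⟩) =
      Module.rankAtStalk Γ(Omega.conormal j, j ⁻¹ᵁ V) (hU.primeIdealOf ⟨x, hx⟩) +
      Module.rankAtStalk Γ(ΩX, j ⁻¹ᵁ V) (hU.primeIdealOf ⟨x, hx⟩) := by
    rw [Module.rankAtStalk_eq_of_equiv e, Module.rankAtStalk_prod]
    rfl
  have h5 : Module.rankAtStalk Γ((Scheme.Modules.pullback j).obj ΩY, j ⁻¹ᵁ V)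
      (hU.primeIdealOf ⟨x, hx⟩) = Module.rankAtStalk Γ(ΩY, V) (hV.primeIdealOf ⟨j x, hjx⟩) := by
    rw [Module.rankAtStalk_eq_of_equiv eP, Module.rankAtStalk_baseChange]
    congr 1
    exact IsAffineOpen.comap_primeIdealOf_appLE V hV (j ⁻¹ᵁ V) hU eUV hx
  rw [← h5, h4]

include hY hX hφ hc in
/-- **The conormal sheaf of a smooth pair**: for `j : X ⟶ Y` a quasi-compact immersion with `X/Z`
smooth and `Ω_{Y/Z}`, `Ω_{X/Z}` finite locally free, `C_{X/Y}` is finite locally free and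
`rk Ω_{Y/Z} = rk C_{X/Y} + rk Ω_{X/Z}` at every point of `X`. -/
theorem isFinLocFree_conormal_and_rank [Smooth (j ≫ f)]
    (hΩY : FlatMod.IsFinLocFree ΩY) (hΩX : FlatMod.IsFinLocFree ΩX) :
    FlatMod.IsFinLocFree (Omega.conormal j) ∧
    ∀ x : X, Module.finrank (Y.presheaf.stalk (j x)) (ΩY.presheaf.stalk (j x)) =
        Module.finrank (X.presheaf.stalk x) ((Omega.conormal j).presheaf.stalk x) +
        Module.finrank (X.presheaf.stalk x) (ΩX.presheaf.stalk x) := by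
  haveI : (Omega.conormal j).IsQuasicoherent := OmegaAffine.conormal_qcoh j
  have key := fun t : OmegaSeq2.ChartJ f j =>
    chart_rank f j dY hY dX hX φ hφ c hc t.1.1.2 t.2.2.1 t.2.2.2 t.1.2.2 t.2.1
      (((j ≫ f).smooth_appLE t.1.2.2 t.2.2.1 (fun _ hx => t.2.1 hx)).formallySmooth) hΩY hΩX
  constructor
  · refine isFinLocFree_of_projective_sections (Omega.conormal j)
      (fun t : OmegaSeq2.ChartJ f j => j ⁻¹ᵁ t.1.1.1) (fun t => t.2.2.1) ?_ (fun t => (key t).1)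
    rw [eq_top_iff]
    intro x _
    obtain ⟨t, ht⟩ := OmegaSeq2.chartJ_cover f j x
    exact Opens.mem_iSup.mpr ⟨t, ht⟩
  · intro x
    obtain ⟨t, ht⟩ := OmegaSeq2.chartJ_cover f j x
    exact (key t).2 x ht

end Seq

end Groth.Agent.Lib.helper17.ConormalRank
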