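import Mathlib
import Groth.Agent.Lib.Helper7.OmegaFS2

/-!
# Converse of the conormal criterion (helper17)

`j : X ⟶ Y` a quasi-compact immersion, `f : Y ⟶ Z`, `φ : C_{X/Y} ⟶ j^*Ω_{Y/Z}` the conormal map.

* `kerCotangentToTensor_injective_of_injective` (receptacle form, converse of helper7's
  `OmegaFS.conormal_injective`): if `φ` is injective on a chart then so is `I/I² → R ⊗ Ω[A/C]`.
* `formallySmooth_of_injective`: if moreover `A/C` is formally smooth and `Ω[R/C]` is projective then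
  `R/C` is formally smooth.
* `chart_formallySmooth`: the chart form for schemes.
-/

set_option autoImplicit false
set_option linter.style.haveILetI false
set_option linter.unusedSectionVars false
universe u
open CategoryTheory CategoryTheory.Limits AlgebraicGeometry TopologicalSpace Opposite
open Scheme.Modules TensorProduct KaehlerDifferential

namespace Groth.Agent.Lib.helper17.ConormalRev

open Groth.Agent.Lib.helper8.PullbackUnit Groth.Agent.Lib.helper7 Groth.Agent.Lib.helper7.OmegaChart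
  Groth.Agent.Lib.helper7.OmegaSeq4

section Alg

variable (C A R : Type u) [CommRing C] [CommRing A] [CommRing R] [Algebra C A] [Algebra A R]
  [Algebra C R] [IsScalarTower C A R] (hsurj : Function.Surjective (algebraMap A R))
  {MY P MI N : Type u} [AddCommGroup MY] [Module A MY]
  [AddCommGroup P] [Module R P] [AddCommGroup MI] [Module A MI] [AddCommGroup N] [Module R N]
  (dY : A →+ MY) (ψY : MY ≃ₗ[A] Ω[A⁄C]) (hψY : ∀ b, ψY (dY b) = D C A b)
  (k : MY →+ P) (hk : IsBC (algebraMap A R) k)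
  (ι : MI →ₗ[A] A) (hιinj : Function.Injective ι)
  (hι : Set.range ι = (RingHom.ker (algebraMap A R) : Set A))
  (q : MI →+ N) (hq : IsBC (algebraMap A R) q)
  (φ : N →ₗ[R] P) (hφ : ∀ m, φ (q m) = k (dY (ι m)))

omit [Algebra C A] [Algebra C R] [IsScalarTower C A R] in
/-- the extension `A → R` (over `A`) -/
noncomputable abbrev ext : Algebra.Extension A R :=
  { Ring := A, σ := Function.surjInv hsurj, algebraMap_σ := Function.surjInv_eq hsurj }

include hι in
theorem ι_mem (m : MI) : ι m ∈ (ext A R hsurj).ker := by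
  change ι m ∈ RingHom.ker (algebraMap A R)
  have : ι m ∈ Set.range ι := ⟨m, rfl⟩
  rw [hι] at this
  exact this

include hsurj hι hq in
/-- `q m = 0` forces `ι m ∈ I²` -/
theorem mem_sq_of_q_eq_zero (m : MI) (hm : q m = 0) :
    ι m ∈ (RingHom.ker (algebraMap A R)) ^ 2 := by
  let E := ext A R hsurj
  let h : MI →+ E.Cotangent :=
    { toFun := fun m => Algebra.Extension.Cotangent.mk (P := E) ⟨ι m, ι_mem A R hsurj ι hι m⟩
      map_zero' := by
        have : (⟨ι 0, ι_mem A R hsurj ι hι 0⟩ : E.ker) = 0 := Subtype.ext (map_zero ι)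
        rw [this, map_zero]
      map_add' := fun x y => by
        have : (⟨ι (x + y), ι_mem A R hsurj ι hι (x + y)⟩ : E.ker) =
            ⟨ι x, ι_mem A R hsurj ι hι x⟩ + ⟨ι y, ι_mem A R hsurj ι hι y⟩ :=
          Subtype.ext (map_add ι x y)
        rw [this, map_add] }
  have hh : ∀ (a : A) (m : MI), h (a • m) = algebraMap A R a • h m := by
    intro a m
    change Algebra.Extension.Cotangent.mk (P := E) ⟨ι (a • m), _⟩ =
      algebraMap A R a • Algebra.Extension.Cotangent.mk (P := E) ⟨ι m, _⟩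
    have : (⟨ι (a • m), ι_mem A R hsurj ι hι (a • m)⟩ : E.ker) =
        a • (⟨ι m, ι_mem A R hsurj ι hι m⟩ : E.ker) := Subtype.ext (_root_.map_smul ι a m)
    rw [this, _root_.map_smul]
    exact (algebraMap_smul R a _).symm
  obtain ⟨g, hg, -⟩ := hq.existsUnique_lift E.Cotangent h hh
  have h0 : h m = 0 := by rw [← hg m, hm, map_zero]
  have h1 := (Algebra.Extension.Cotangent.mk_eq_zero_iff (P := E) _).mp h0
  exact h1

include hsurj hψY hk hι hq hφ in
/-- converse of `OmegaFS.conormal_injective`: if `φ` is injective so is `I/I² → R ⊗ Ω[A/C]`. -/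
theorem kerCotangentToTensor_injective_of_injective (hφinj : Function.Injective φ) :
    Function.Injective (KaehlerDifferential.kerCotangentToTensor C A R) := by
  obtain ⟨e, he⟩ := OmegaSeqAlg.exists_equiv_of_isBC hk
  rw [injective_iff_map_eq_zero]
  intro x hx
  obtain ⟨⟨a, ha⟩, rfl⟩ := Ideal.toCotangent_surjective _ x
  have ha' : a ∈ Set.range ι := by rw [hι]; exact ha
  obtain ⟨m, rfl⟩ := ha'
  rw [KaehlerDifferential.kerCotangentToTensor_toCotangent] at hx
  have h1 : (TensorProduct.AlgebraTensorModule.congr (LinearEquiv.refl R R) ψY) (e (φ (q m))) = 0 := by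
    rw [hφ, he, TensorProduct.AlgebraTensorModule.congr_tmul, hψY]
    exact hx
  have h2 : φ (q m) = 0 := by
    have := (TensorProduct.AlgebraTensorModule.congr (LinearEquiv.refl R R) ψY).injective
      (h1.trans (map_zero _).symm)
    exact e.injective (this.trans (map_zero _).symm)
  have h3 : q m = 0 := hφinj (h2.trans (map_zero _).symm)
  have h4 := mem_sq_of_q_eq_zero A R hsurj ι hι q hq m h3
  exact (Ideal.toCotangent_eq_zero _ _).2 h4

include hsurj hψY hk hι hq hφ in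
/-- if moreover `A` is formally smooth over `C` and `Ω[R/C]` is projective, `R` is formally smooth -/
theorem formallySmooth_of_injective [Algebra.FormallySmooth C A] (hφinj : Function.Injective φ)
    (hproj : Module.Projective R Ω[R⁄C]) : Algebra.FormallySmooth C R := by
  rw [Algebra.formallySmooth_iff]
  refine ⟨hproj, ?_⟩
  rw [← Algebra.FormallySmooth.kerCotangentToTensor_injective_iff (P := A) hsurj]
  exact kerCotangentToTensor_injective_of_injective C A R hsurj dY ψY hψY k hk ι hι q hq φ hφ hφinj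

end Alg

section Seq

variable {X Y Z : Scheme.{u}} (f : Y ⟶ Z) (j : X ⟶ Y) [IsImmersion j] [QuasiCompact j]
  {ΩY : Y.Modules} (dY : OmegaSh.Der f ΩY) (hY : OmegaSh.IsUniversal dY)
  {ΩX : X.Modules} (dX : OmegaSh.Der (j ≫ f) ΩX) (hX : OmegaSh.IsUniversal dX)
  (φ : Omega.conormal j ⟶ (Scheme.Modules.pullback j).obj ΩY)
  (hφ : OmegaSh.IsConormalDiff j dY φ)

include hY hX hφ in
/-- chart form of: `Y/Z` formally smooth, `C_{X/Y} → j^*Ω_{Y/Z}` injective and `Ω_{X/Z}` projective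
imply `X/Z` formally smooth. -/
theorem chart_formallySmooth {V : Y.Opens} (hV : IsAffineOpen V) (hU : IsAffineOpen (j ⁻¹ᵁ V))
    (hs : Function.Surjective (j.app V).hom) {W : Z.Opens} (hW : IsAffineOpen W)
    (eVW : V ≤ f ⁻¹ᵁ W)
    (hfs : (f.appLE W V eVW).hom.FormallySmooth)
    (hinj : Function.Injective (φ.app (j ⁻¹ᵁ V)).hom)
    (hproj : Module.Projective Γ(X, j ⁻¹ᵁ V) Γ(ΩX, j ⁻¹ᵁ V)) :
    ((j ≫ f).appLE W (j ⁻¹ᵁ V) (fun _ hx => eVW hx)).hom.FormallySmooth := by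
  have eUV : j ⁻¹ᵁ V ≤ j ⁻¹ᵁ V := le_rfl
  have eUW : j ⁻¹ᵁ V ≤ (j ≫ f) ⁻¹ᵁ W := fun x hx => eVW (eUV hx)
  letI algCA := (f.appLE W V eVW).hom.toAlgebra
  letI algAR := (j.appLE V (j ⁻¹ᵁ V) eUV).hom.toAlgebra
  letI algCR := ((j ≫ f).appLE W (j ⁻¹ᵁ V) eUW).hom.toAlgebra
  haveI : IsScalarTower Γ(Z, W) Γ(Y, V) Γ(X, j ⁻¹ᵁ V) := IsScalarTower.of_algebraMap_eq' (by
    change ((j ≫ f).appLE W (j ⁻¹ᵁ V) eUW).hom =
      (j.appLE V (j ⁻¹ᵁ V) eUV).hom.comp (f.appLE W V eVW).hom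
    rw [← CommRingCat.hom_comp, Scheme.Hom.appLE_comp_appLE])
  haveI : Algebra.FormallySmooth Γ(Z, W) Γ(Y, V) := hfs
  have happ : j.appLE V (j ⁻¹ᵁ V) eUV = j.app V := (j.app_eq_appLE (U := V)).symm
  have hsurj : Function.Surjective (algebraMap Γ(Y, V) Γ(X, j ⁻¹ᵁ V)) := by
    change Function.Surjective (j.appLE V (j ⁻¹ᵁ V) eUV).hom
    rw [happ]; exact hs
  obtain ⟨ψY, hψY⟩ := OmegaStruct.exists_sectionsEquiv f dY hY hV hW eVW
  obtain ⟨ψX, -⟩ := OmegaStruct.exists_sectionsEquiv (j ≫ f) dX hX hU hW eUW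
  haveI : ΩY.IsQuasicoherent := OmegaQCoh.isQuasicoherent_of_isUniversal f dY hY
  have hk : IsBC (algebraMap Γ(Y, V) Γ(X, j ⁻¹ᵁ V)) (ρ j eUV ΩY) := isBC_ρ j hV hU eUV ΩY
  have hq : IsBC (algebraMap Γ(Y, V) Γ(X, j ⁻¹ᵁ V)) (ρ j eUV (ClSub.idealMod j.ker)) :=
    isBC_ρ j hV hU eUV (ClSub.idealMod j.ker)
  have hι : Set.range (idealSectₗ j.ker V) =
      (RingHom.ker (algebraMap Γ(Y, V) Γ(X, j ⁻¹ᵁ V)) : Set Γ(Y, V)) := by
    change Set.range (OmegaSh.idealSect j.ker V) = _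
    rw [OmegaSeq2.range_idealSect j.ker hV, Scheme.Hom.ker_apply]
    change _ = ((RingHom.ker (j.appLE V (j ⁻¹ᵁ V) eUV).hom : Ideal Γ(Y, V)) : Set Γ(Y, V))
    rw [happ]
  have hφ' : ∀ m, linApp φ (j ⁻¹ᵁ V) (ρ j eUV (ClSub.idealMod j.ker) m) =
      ρ j eUV ΩY (dY.app V (idealSectₗ j.ker V m)) :=
    fun m => OmegaSeq2.conormalDiff_app f j dY φ hφ eUV m
  have hproj' : Module.Projective Γ(X, j ⁻¹ᵁ V) Ω[Γ(X, j ⁻¹ᵁ V)⁄Γ(Z, W)] :=
    Module.Projective.of_equiv ψX
  exact formallySmooth_of_injective Γ(Z, W) Γ(Y, V) Γ(X, j ⁻¹ᵁ V) hsurj (dY.app V) ψY hψY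
    (ρ j eUV ΩY) hk (idealSectₗ j.ker V) hι
    (ρ j eUV (ClSub.idealMod j.ker)) hq (linApp φ (j ⁻¹ᵁ V)) hφ' hinj hproj'

end Seq

end Groth.Agent.Lib.helper17.ConormalRev
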