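import Mathlib
/-!
# Cotangent spaces and fibres of differentials at rational points (helper17)

* `isUnit_algebraMap_end`: elements outside a maximal ideal `q` act invertibly on a module killed by `q`.
* `bridge`: for `g : N → N'` a localization at a maximal ideal `q` (with `O = B_q` local), a `B`-linear
  surjection `ψ : N → T` onto a module killed by `q` descends to an additive surjection
  `N' ⧸ 𝔪_O N' → T` compatible with the `B`-actions.
* `finite_fiber`: `N' ⧸ 𝔪_O N'` is finite over a field `k` mapping onto the residue field of `O`.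
* `core`: for `k → A → B` with `B` Noetherian, `q` a maximal ideal of `B` with `k → B/q` onto, and
  `P ≤ q` a prime with `q ∩ A ⊆ P ∩ A`: the cotangent space `T` of `(B/P)_q` is a `B`-linear quotient of
  `Ω[B⁄A]`, is killed by `q`, and `ht(q/P) ≤ dim_k T`.
-/

set_option autoImplicit false
universe u
open scoped TensorProduct

namespace Groth.Agent.Lib.helper17.CotFibre

/-- elements outside a maximal ideal `q` act invertibly on a module killed by `q` -/
theorem isUnit_algebraMap_end {B T : Type u} [CommRing B] [AddCommGroup T] [Module B T]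
    (q : Ideal B) [hq : q.IsMaximal] (hT : ∀ b ∈ q, ∀ t : T, b • t = 0) (s : B) (hs : s ∉ q) :
    IsUnit (algebraMap B (Module.End B T) s) := by
  obtain ⟨t, i, hi, hti⟩ := hq.exists_inv hs
  have h0 : algebraMap B (Module.End B T) i = 0 := by
    ext v
    simp [hT i hi v]
  have h1 : algebraMap B (Module.End B T) (t * s) = 1 := by
    have : t * s = 1 - i := by rw [← hti]; ring
    rw [this, map_sub, map_one, h0, sub_zero]
  refine ⟨⟨algebraMap B _ s, algebraMap B _ t, ?_, ?_⟩, rfl⟩
  · rw [← map_mul, mul_comm, h1]
  · rw [← map_mul, h1]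

/-- bridge: a surjection from `N` onto a module killed by the maximal ideal `q` descends to the
fibre `N_q / q N_q` of the localization. -/
theorem bridge {B O N N' T : Type u} [CommRing B] [CommRing O] [IsLocalRing O] [Algebra B O]
    (q : Ideal B) [hq : q.IsMaximal] [IsLocalization.AtPrime O q]
    [AddCommGroup N] [Module B N] [AddCommGroup N'] [Module O N'] [Module B N']
    [IsScalarTower B O N']
    (g : N →ₗ[B] N') [IsLocalizedModule q.primeCompl g]
    [AddCommGroup T] [Module B T] (hT : ∀ b ∈ q, ∀ t : T, b • t = 0)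
    (ψ : N →ₗ[B] T) (hψ : Function.Surjective ψ) :
    ∃ θ : (N' ⧸ (IsLocalRing.maximalIdeal O • (⊤ : Submodule O N'))) →+ T,
      Function.Surjective θ ∧ ∀ (b : B) v, θ (algebraMap B O b • v) = b • θ v := by
  have hunit : ∀ s : q.primeCompl, IsUnit (algebraMap B (Module.End B T) s) :=
    fun s => isUnit_algebraMap_end q hT s.1 s.2
  let ψ' : N' →ₗ[B] T := IsLocalizedModule.lift q.primeCompl g ψ hunit
  have hψ' : ∀ n, ψ' (g n) = ψ n := fun n => IsLocalizedModule.lift_apply q.primeCompl g ψ hunit n
  have hsurj' : Function.Surjective ψ' := fun t => by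
    obtain ⟨n, rfl⟩ := hψ t
    exact ⟨g n, hψ' n⟩
  have hkill : ∀ a ∈ IsLocalRing.maximalIdeal O, ∀ n' : N', ψ' (a • n') = 0 := by
    intro a ha n'
    obtain ⟨⟨b, s⟩, hbs⟩ := IsLocalization.surj q.primeCompl a
    have hb : b ∈ q := by
      rw [← IsLocalization.AtPrime.to_map_mem_maximal_iff O q b, ← hbs]
      exact Ideal.mul_mem_right _ _ ha
    have h1 : (s : B) • ψ' (a • n') = 0 := by
      rw [← map_smul, ← algebraMap_smul O (s : B) (a • n'), smul_smul, mul_comm, hbs,
        algebraMap_smul, map_smul, hT b hb]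
    have h2 := (Module.End.isUnit_iff _).mp (hunit s)
    apply h2.1
    rw [map_zero]
    exact h1
  have hle : (IsLocalRing.maximalIdeal O • (⊤ : Submodule O N')).restrictScalars B ≤
      LinearMap.ker ψ' := by
    intro v hv
    rw [Submodule.restrictScalars_mem] at hv
    rw [LinearMap.mem_ker]
    refine Submodule.smul_induction_on hv (fun a ha n' _ => hkill a ha n') ?_
    intro x y hx hy
    rw [map_add, hx, hy, add_zero]
  let θ₀ := Submodule.liftQ _ ψ' hle
  let e := Submodule.Quotient.restrictScalarsEquiv B
    (IsLocalRing.maximalIdeal O • (⊤ : Submodule O N'))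
  refine ⟨(θ₀.comp e.symm.toLinearMap).toAddMonoidHom, ?_, ?_⟩
  · intro t
    obtain ⟨n', rfl⟩ := hsurj' t
    exact ⟨Submodule.Quotient.mk n', rfl⟩
  · intro b v
    induction v using Submodule.Quotient.induction_on with
    | H n' =>
      change ψ' (algebraMap B O b • n') = b • ψ' n'
      rw [algebraMap_smul, map_smul]

/-- finiteness over `k` of the fibre `N'/𝔪N'` when `k → O/𝔪` is onto -/
theorem finite_fiber {k O N' : Type u} [Field k] [CommRing O] [IsLocalRing O] [AddCommGroup N']
    [Module O N'] [Module.Finite O N'] (j : k →+* O)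
    (hj : Function.Surjective ((IsLocalRing.residue O).comp j)) :
    @Module.Finite k (N' ⧸ (IsLocalRing.maximalIdeal O • (⊤ : Submodule O N'))) _ _
      (Module.compHom _ j) := by
  letI : Module k (N' ⧸ (IsLocalRing.maximalIdeal O • (⊤ : Submodule O N'))) := Module.compHom _ j
  obtain ⟨S, hS⟩ := (Module.Finite.fg_top :
    (⊤ : Submodule O (N' ⧸ (IsLocalRing.maximalIdeal O • (⊤ : Submodule O N')))).FG)
  refine ⟨⟨S, ?_⟩⟩
  rw [eq_top_iff]
  intro v hvtop
  clear hvtop
  have hv : v ∈ Submodule.span O (S : Set (N' ⧸ (IsLocalRing.maximalIdeal O • (⊤ : Submodule O N')))) :=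
    hS ▸ Submodule.mem_top
  have hkill : ∀ a ∈ IsLocalRing.maximalIdeal O,
      ∀ w : N' ⧸ (IsLocalRing.maximalIdeal O • (⊤ : Submodule O N')), a • w = 0 := by
    intro a ha w
    induction w using Submodule.Quotient.induction_on with
    | H n' =>
      rw [← Submodule.Quotient.mk_smul, Submodule.Quotient.mk_eq_zero]
      exact Submodule.smul_mem_smul ha Submodule.mem_top
  induction hv using Submodule.span_induction with
  | mem x hx => exact Submodule.subset_span hx
  | zero => exact zero_mem _
  | add x y _ _ hx hy => exact add_mem hx hy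
  | smul a x _ hx =>
    obtain ⟨c, hc⟩ := hj (IsLocalRing.residue O a)
    have hmem : a - j c ∈ IsLocalRing.maximalIdeal O := by
      rw [← Ideal.Quotient.eq_zero_iff_mem, map_sub]
      change IsLocalRing.residue O a - IsLocalRing.residue O (j c) = 0
      rw [sub_eq_zero]
      exact hc.symm
    have h1 : a • x = c • x := by
      change a • x = j c • x
      rw [← sub_eq_zero, ← sub_smul]
      exact hkill _ hmem x
    rw [h1]
    exact Submodule.smul_mem _ _ hx

set_option maxHeartbeats 1000000 in
/-- algebra core: the cotangent space of `(B/P)_q` is a quotient of `Ω_{B/A}` -/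
theorem core (k A B : Type u) [Field k] [CommRing A] [CommRing B] [Algebra k A] [Algebra k B]
    [Algebra A B] [IsScalarTower k A B] [IsNoetherianRing B]
    (q : Ideal B) [hq : q.IsMaximal] (P : Ideal B) [P.IsPrime] (hPq : P ≤ q)
    (hcomap : q.comap (algebraMap A B) ≤ P.comap (algebraMap A B))
    (hk : Function.Surjective (algebraMap k (B ⧸ q)))
    (r : ℕ) (hr : (r : ℕ∞) ≤ (q.map (Ideal.Quotient.mk P)).height) :
    ∃ (T : Type u) (_ : AddCommGroup T) (_ : Module B T) (_ : Module k T)
      (_ : IsScalarTower k B T) (ψ : Ω[B⁄A] →ₗ[B] T),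
      Function.Surjective ψ ∧ (∀ b ∈ q, ∀ t : T, b • t = 0) ∧ r ≤ Module.finrank k T := by
  classical
  set m : Ideal (B ⧸ P) := q.map (Ideal.Quotient.mk P) with hm
  haveI hmmax : m.IsMaximal :=
    Ideal.IsMaximal.map_of_surjective_of_ker_le Ideal.Quotient.mk_surjective (by simpa using hPq)
  let R := Localization.AtPrime m
  let φ : B →+* R := algebraMap B R
  have hφ : ∀ b : B, φ b = algebraMap (B ⧸ P) R (Ideal.Quotient.mk P b) := fun b =>
    IsScalarTower.algebraMap_apply B (B ⧸ P) R b
  have hφmem : ∀ b : B, φ b ∈ IsLocalRing.maximalIdeal R ↔ b ∈ q := by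
    intro b
    rw [hφ, IsLocalization.AtPrime.to_map_mem_maximal_iff R m, hm,
      Ideal.mem_map_iff_of_surjective _ Ideal.Quotient.mk_surjective]
    constructor
    · rintro ⟨b', hb', hbb'⟩
      have : b' - b ∈ P := by
        rw [← Ideal.Quotient.eq_zero_iff_mem, map_sub, hbb', sub_self]
      have h2 : b = b' - (b' - b) := by ring
      rw [h2]
      exact q.sub_mem hb' (hPq this)
    · intro hb
      exact ⟨b, hb, rfl⟩
  -- the evaluation at `q`
  let e : k ≃+* (B ⧸ q) := RingEquiv.ofBijective (algebraMap k (B ⧸ q))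
    ⟨(algebraMap k (B ⧸ q)).injective, hk⟩
  let ev : B →+* k := e.symm.toRingHom.comp (Ideal.Quotient.mk q)
  have hev : ∀ b : B, b - algebraMap k B (ev b) ∈ q := by
    intro b
    rw [← Ideal.Quotient.eq_zero_iff_mem, map_sub, sub_eq_zero]
    have : Ideal.Quotient.mk q (algebraMap k B (ev b)) = e (ev b) := rfl
    rw [this]
    exact (e.apply_symm_apply _).symm
  have hev0 : ∀ b ∈ q, ev b = 0 := by
    intro b hb
    change e.symm (Ideal.Quotient.mk q b) = 0
    rw [Ideal.Quotient.eq_zero_iff_mem.mpr hb, map_zero]
  -- the module structures on the cotangent space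
  let T := IsLocalRing.CotangentSpace R
  have hsmulB : ∀ (b : B) (t : T), b • t = φ b • t := fun b t => (algebraMap_smul R b t).symm
  have hTq : ∀ b ∈ q, ∀ t : T, b • t = 0 := by
    intro b hb t
    rw [hsmulB]
    exact Ideal.Cotangent.smul_eq_zero_of_mem ((hφmem b).mpr hb) t
  have hcong : ∀ (x y : R) (t : T), x - y ∈ IsLocalRing.maximalIdeal R → x • t = y • t := by
    intro x y t hxy
    have h1 : (x - y) • t = 0 := Ideal.Cotangent.smul_eq_zero_of_mem hxy t
    have h2 : (x - y) • t = x • t - y • t := sub_smul x y t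
    exact sub_eq_zero.mp (h2 ▸ h1)
  -- the derivation
  let δ : B → IsLocalRing.maximalIdeal R := fun b =>
    ⟨φ (b - algebraMap k B (ev b)), (hφmem _).mpr (hev b)⟩
  have hδadd : ∀ b b', δ (b + b') = δ b + δ b' := by
    intro b b'
    apply Subtype.ext
    change φ _ = φ _ + φ _
    rw [← map_add]
    congr 1
    rw [map_add, map_add]; ring
  have hδmul : ∀ b b', δ (b * b') = φ b • δ b' + φ (algebraMap k B (ev b')) • δ b := by
    intro b b'
    apply Subtype.ext
    change φ _ = φ b * φ _ + φ _ * φ _
    rw [← map_mul, ← map_mul, ← map_add]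
    congr 1
    rw [map_mul, map_mul]; ring
  have hδalg : ∀ a : A, δ (algebraMap A B a) = 0 := by
    intro a
    apply Subtype.ext
    change φ _ = 0
    have h1 : algebraMap A B a - algebraMap k B (ev (algebraMap A B a)) =
        algebraMap A B (a - algebraMap k A (ev (algebraMap A B a))) := by
      rw [map_sub, ← IsScalarTower.algebraMap_apply k A B]
    have h2 : a - algebraMap k A (ev (algebraMap A B a)) ∈ P.comap (algebraMap A B) := by
      apply hcomap
      rw [Ideal.mem_comap, ← h1]
      exact hev _
    rw [h1]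
    rw [hφ, Ideal.Quotient.eq_zero_iff_mem.mpr (Ideal.mem_comap.mp h2), map_zero]
  let D₀ : B → T := fun b => (IsLocalRing.maximalIdeal R).toCotangent (δ b)
  have hD₀add : ∀ b b', D₀ (b + b') = D₀ b + D₀ b' := by
    intro b b'
    change (IsLocalRing.maximalIdeal R).toCotangent _ = _
    rw [hδadd, map_add]
  have hD₀mul : ∀ b b', D₀ (b * b') = b • D₀ b' + b' • D₀ b := by
    intro b b'
    change (IsLocalRing.maximalIdeal R).toCotangent _ = _
    rw [hδmul, map_add, map_smul, map_smul, hsmulB, hsmulB]
    congr 1
    have : φ (algebraMap k B (ev b')) - φ b' ∈ IsLocalRing.maximalIdeal R := by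
      rw [← map_sub, hφmem, ← neg_sub]
      exact q.neg_mem (hev b')
    exact hcong _ _ _ this
  have hD₀alg : ∀ a : A, D₀ (algebraMap A B a) = 0 := by
    intro a
    change (IsLocalRing.maximalIdeal R).toCotangent _ = _
    rw [hδalg, map_zero]
  let Dl : B →ₗ[A] T :=
    { toFun := D₀
      map_add' := hD₀add
      map_smul' := fun a b => by
        rw [Algebra.smul_def, hD₀mul, hD₀alg, smul_zero, add_zero, RingHom.id_apply,
          algebraMap_smul] }
  let D : Derivation A B T := Derivation.mk' Dl (fun b b' => hD₀mul b b')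
  let ψ : Ω[B⁄A] →ₗ[B] T := D.liftKaehlerDifferential
  have hψD : ∀ b, ψ (KaehlerDifferential.D A B b) = D₀ b := fun b =>
    Derivation.liftKaehlerDifferential_comp_D D b
  refine ⟨T, inferInstance, inferInstance, inferInstance, inferInstance, ψ, ?_, hTq, ?_⟩
  · -- surjectivity
    intro t
    obtain ⟨x, rfl⟩ := (IsLocalRing.maximalIdeal R).toCotangent_surjective t
    obtain ⟨⟨c, s⟩, hcs⟩ := IsLocalization.surj m.primeCompl (x : R)
    obtain ⟨b, rfl⟩ := Ideal.Quotient.mk_surjective c
    obtain ⟨s', hs'⟩ := Ideal.Quotient.mk_surjective (s : B ⧸ P)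
    have hs'q : s' ∉ q := by
      intro h
      apply s.2
      rw [← hs']
      exact Ideal.mem_map_of_mem _ h
    have hbq : b ∈ q := by
      rw [← hφmem, hφ, ← hcs]
      exact Ideal.mul_mem_right _ _ x.2
    have h1 : s' • (IsLocalRing.maximalIdeal R).toCotangent x = D₀ b := by
      rw [hsmulB, ← map_smul]
      change _ = (IsLocalRing.maximalIdeal R).toCotangent (δ b)
      congr 1
      apply Subtype.ext
      change φ s' * (x : R) = φ (b - algebraMap k B (ev b))
      rw [hev0 b hbq, map_zero, sub_zero, mul_comm, hφ, hφ, hs']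
      exact hcs
    obtain ⟨u, hu⟩ := isUnit_algebraMap_end q hTq s' hs'q
    have h2 : (IsLocalRing.maximalIdeal R).toCotangent x = u.inv (D₀ b) := by
      rw [← h1]
      have : s' • (IsLocalRing.maximalIdeal R).toCotangent x =
          u.val ((IsLocalRing.maximalIdeal R).toCotangent x) := by
        rw [hu]; rfl
      rw [this]
      change _ = (u.inv * u.val) _
      rw [u.inv_val]; rfl
    obtain ⟨t', i, hi, hti⟩ := hq.exists_inv hs'q
    refine ⟨t' • KaehlerDifferential.D A B b, ?_⟩
    rw [map_smul, hψD]
    -- t' • D₀ b = toCotangent x since t' s' ≡ 1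
    have h3 : t' • D₀ b = (t' * s') • (IsLocalRing.maximalIdeal R).toCotangent x := by
      rw [mul_smul, h1]
    rw [h3]
    have h4 : t' * s' = 1 - i := by rw [← hti]; ring
    rw [h4, sub_smul, one_smul, hTq i hi, sub_zero]
  · -- the dimension count
    haveI : IsNoetherianRing R := IsLocalization.isNoetherianRing m.primeCompl R inferInstance
    have h1 : ringKrullDim R = m.height := IsLocalization.AtPrime.ringKrullDim_eq_height m R
    have h2 : ringKrullDim R ≤ (IsLocalRing.maximalIdeal R).spanFinrank :=
      ringKrullDim_le_spanFinrank_maximalIdeal R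
    have h3 : (IsLocalRing.maximalIdeal R).spanFinrank =
        Module.finrank (IsLocalRing.ResidueField R) T :=
      IsLocalRing.spanFinrank_maximalIdeal_eq_finrank_cotangentSpace R
    have hsurj : Function.Surjective (algebraMap k (IsLocalRing.ResidueField R)) := by
      intro y
      obtain ⟨c, rfl⟩ := Ideal.algebraMap_residueField_surjective m y
      obtain ⟨b, rfl⟩ := Ideal.Quotient.mk_surjective c
      refine ⟨ev b, ?_⟩
      have e1 : algebraMap (B ⧸ P) m.ResidueField (Ideal.Quotient.mk P b) =
          IsLocalRing.residue R (φ b) := by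
        rw [hφ]; rfl
      have e2 : algebraMap k (IsLocalRing.ResidueField R) (ev b) =
          IsLocalRing.residue R (φ (algebraMap k B (ev b))) := by
        change _ = IsLocalRing.residue R (algebraMap B R (algebraMap k B (ev b)))
        rw [← IsScalarTower.algebraMap_apply k B R]
        rfl
      rw [e1, e2]
      symm
      rw [← sub_eq_zero, ← map_sub, ← map_sub]
      exact (IsLocalRing.residue_eq_zero_iff _).mpr ((hφmem _).mpr (hev b))
    have hbij : Function.Bijective (algebraMap k (IsLocalRing.ResidueField R)) :=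
      ⟨(algebraMap k (IsLocalRing.ResidueField R)).injective, hsurj⟩
    have h4 : Module.rank k T = Module.rank (IsLocalRing.ResidueField R) T := by
      refine rank_eq_of_equiv_equiv (algebraMap k (IsLocalRing.ResidueField R))
        (AddEquiv.refl T) hbij ?_
      intro c t
      change c • t = algebraMap k (IsLocalRing.ResidueField R) c • t
      rw [IsScalarTower.algebraMap_apply k R (IsLocalRing.ResidueField R), algebraMap_smul,
        algebraMap_smul]
    have h5 : Module.finrank k T = Module.finrank (IsLocalRing.ResidueField R) T := by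
      unfold Module.finrank
      rw [h4]
    rw [h5, ← h3]
    have h6 : ((r : ℕ∞) : WithBot ℕ∞) ≤ ((IsLocalRing.maximalIdeal R).spanFinrank : ℕ∞) := by
      refine le_trans ?_ h2
      rw [h1]
      exact_mod_cast hr
    exact_mod_cast h6

end Groth.Agent.Lib.helper17.CotFibre
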