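import Mathlib
import Groth.Agent.Lib.Helper17.NormHens
import Groth.Agent.Lib.Helper12.HenselUniv

/-!
# Branches and completion in dimension one (helper17)

`prime_unique_of_henselian` (elementary): let `D` be a henselian local domain, `t ∈ 𝔪_D`, and
`φ : D → R` a ring map to a local ring such that `φ t` is a non-zero-divisor, `D → R / tᵏ R` is
surjective for all `k`, `tᵏ R ∩ D = tᵏ D`, and the primes of `R` not containing `t` are pairwise
incomparable.  Then `R` has at most one prime not containing `φ t`.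
(Typical use: `D = S/q` for a henselian Noetherian local ring `S` of dimension one and a minimal
prime `q`, `R = Ŝ / q Ŝ`.)
-/

set_option autoImplicit false
set_option linter.style.haveILetI false
universe u

namespace Groth.Agent.Lib.helper17.CplBranch

open IsLocalRing Polynomial

theorem eq_zero_or_eq_one_of_isIdempotentElem {R : Type u} [CommRing R] [IsLocalRing R] (e : R)
    (he : e * e = e) : e = 0 ∨ e = 1 := by
  rcases IsLocalRing.isUnit_or_isUnit_one_sub_self e with h | h
  · right
    have : e * (e - 1) = 0 := by rw [mul_sub, he, mul_one, sub_self]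
    have h2 := (h.mul_right_eq_zero).1 this
    exact sub_eq_zero.1 h2
  · left
    have : (1 - e) * e = 0 := by rw [sub_mul, he, one_mul, sub_self]
    exact (h.mul_right_eq_zero).1 this

theorem prime_unique_of_henselian {D R : Type u} [CommRing D] [IsDomain D] [HenselianLocalRing D]
    [CommRing R] [IsLocalRing R] (φ : D →+* R) (t : D) (ht : t ∈ maximalIdeal D)
    (ha : ∀ x : R, φ t * x = 0 → x = 0)
    (hb : ∀ (k : ℕ) (x : R), ∃ (d : D) (c : R), x = φ d + φ t ^ k * c)
    (hc : ∀ (k : ℕ) (d : D) (c : R), φ d = φ t ^ k * c → ∃ d', d = t ^ k * d')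
    (he : ∀ P₁ P₂ : Ideal R, P₁.IsPrime → P₂.IsPrime → P₁ ≤ P₂ → φ t ∉ P₂ → P₁ = P₂)
    (P₁ P₂ : Ideal R) (hP₁ : P₁.IsPrime) (hP₂ : P₂.IsPrime) (h₁ : φ t ∉ P₁) (h₂ : φ t ∉ P₂) :
    P₁ = P₂ := by
  classical
  by_contra hne
  obtain ⟨τ, hτ⟩ : ∃ τ : R, τ = φ t := ⟨_, rfl⟩
  rw [← hτ] at ha hb hc he h₁ h₂
  have hτnzd : τ ∈ nonZeroDivisors R := by
    rw [mem_nonZeroDivisors_iff]
    exact ⟨ha, fun x hx => ha x (by rw [mul_comm]; exact hx)⟩
  have hpownzd : ∀ n : ℕ, ∀ x : R, τ ^ n * x = 0 → x = 0 := by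
    intro n x hx
    exact ((mem_nonZeroDivisors_iff.1 (pow_mem hτnzd n)).1) x hx
  have hinj : Function.Injective (algebraMap R (Localization.Away τ)) :=
    IsLocalization.injective (Localization.Away τ) (Submonoid.powers_le.2 hτnzd)
  have hdisj : ∀ P : Ideal R, P.IsPrime → τ ∉ P →
      Disjoint (Submonoid.powers τ : Set R) (P : Set R) := by
    intro P hP hτP
    exact (Ideal.disjoint_powers_iff_notMem τ hP.isRadical).2 hτP
  haveI hp₁ : (P₁.map (algebraMap R (Localization.Away τ))).IsPrime :=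
    IsLocalization.isPrime_of_isPrime_disjoint (Submonoid.powers τ) _ P₁ hP₁ (hdisj P₁ hP₁ h₁)
  haveI hp₂ : (P₂.map (algebraMap R (Localization.Away τ))).IsPrime :=
    IsLocalization.isPrime_of_isPrime_disjoint (Submonoid.powers τ) _ P₂ hP₂ (hdisj P₂ hP₂ h₂)
  have hu₁ : (P₁.map (algebraMap R (Localization.Away τ))).comap
      (algebraMap R (Localization.Away τ)) = P₁ :=
    IsLocalization.under_map_of_isPrime_disjoint (Submonoid.powers τ) _ hP₁ (hdisj P₁ hP₁ h₁)
  have hu₂ : (P₂.map (algebraMap R (Localization.Away τ))).comap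
      (algebraMap R (Localization.Away τ)) = P₂ :=
    IsLocalization.under_map_of_isPrime_disjoint (Submonoid.powers τ) _ hP₂ (hdisj P₂ hP₂ h₂)
  have hne' : P₁.map (algebraMap R (Localization.Away τ)) ≠
      P₂.map (algebraMap R (Localization.Away τ)) := by
    intro h
    apply hne
    rw [← hu₁, ← hu₂, h]
  have hzero : ∀ p : Ideal (Localization.Away τ), p.IsPrime → p.IsMaximal := by
    intro p hp
    obtain ⟨m, hm, hpm⟩ := Ideal.exists_le_maximal p hp.ne_top
    have hmp : m.IsPrime := hm.isPrime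
    have h1 := (IsLocalization.isPrime_iff_isPrime_disjoint (Submonoid.powers τ) _ p).1 hp
    have h2 := (IsLocalization.isPrime_iff_isPrime_disjoint (Submonoid.powers τ) _ m).1 hmp
    have hτm : τ ∉ m.under R := by
      intro hmem
      exact Set.disjoint_left.1 h2.2 (Submonoid.mem_powers τ) hmem
    have h3 : p.under R = m.under R :=
      he _ _ h1.1 h2.1 (Ideal.comap_mono hpm) hτm
    have h4 : p = m := by
      rw [← IsLocalization.map_under (Submonoid.powers τ) _ p,
        ← IsLocalization.map_under (Submonoid.powers τ) _ m, h3]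
    rw [h4]
    exact hm
  obtain ⟨e, hee, he1, he2⟩ := NormHens.exists_idempotent_separating hzero _ _ hne'
  obtain ⟨n, b, hb'⟩ := IsLocalization.Away.surj τ e
  -- `b² = τⁿ b`, `b ∈ P₁`, `τⁿ - b ∈ P₂`
  have hbb : b * b = τ ^ n * b := by
    apply hinj
    rw [map_mul, map_mul, map_pow, ← hb']
    have := hee.eq
    linear_combination (algebraMap R (Localization.Away τ) τ ^ n) ^ 2 * this
  have hbP₁ : b ∈ P₁ := by
    rw [← hu₁, Ideal.mem_comap, ← hb']
    exact Ideal.mul_mem_right _ _ he1
  have hbP₂ : τ ^ n - b ∈ P₂ := by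
    rw [← hu₂, Ideal.mem_comap, map_sub, map_pow, ← hb']
    have : algebraMap R (Localization.Away τ) τ ^ n - e * algebraMap R (Localization.Away τ) τ ^ n =
        (1 - e) * algebraMap R (Localization.Away τ) τ ^ n := by ring
    rw [this]
    exact Ideal.mul_mem_right _ _ he2
  -- approximate `b`
  obtain ⟨d, c, hbdc⟩ := hb (2 * n + 1) b
  have hkey : φ (d * d - t ^ n * d) =
      τ ^ (2 * n + 1) * (τ ^ n * c - 2 * φ d * c - τ ^ (2 * n + 1) * c * c) := by
    rw [map_sub, map_mul, map_mul, map_pow, ← hτ]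
    rw [hbdc] at hbb
    linear_combination hbb
  obtain ⟨g', hg'⟩ := hc (2 * n + 1) _ _ hkey
  -- solve `X² - X - t g' = 0`
  have hmonic : (X ^ 2 - (X + C (t * g')) : D[X]).Monic := by
    apply Polynomial.monic_X_pow_sub
    refine lt_of_le_of_lt (Polynomial.degree_add_le _ _) ?_
    rw [max_lt_iff]
    refine ⟨lt_of_le_of_lt Polynomial.degree_X_le ?_, lt_of_le_of_lt Polynomial.degree_C_le ?_⟩
    · norm_num
    · norm_num
  obtain ⟨r₀, hr₀, -⟩ := HenselianLocalRing.is_henselian
    (X ^ 2 - (X + C (t * g')) : D[X]) hmonic (0 : D)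
    (by
      simp only [eval_sub, eval_pow, eval_X, eval_add, eval_C]
      have : (0 : D) ^ 2 - (0 + t * g') = -(t * g') := by ring
      rw [this]
      exact Ideal.neg_mem_iff _ |>.2 (Ideal.mul_mem_right _ _ ht))
    (by
      simp only [derivative_sub, derivative_X_pow, derivative_add, derivative_X, derivative_C,
        eval_sub, eval_mul, eval_pow, eval_X, eval_add, eval_C, eval_one, eval_zero]
      norm_num)
  have hr₀' : r₀ ^ 2 - (r₀ + t * g') = 0 := by
    have := hr₀
    simp only [IsRoot.def, eval_sub, eval_pow, eval_X, eval_add, eval_C] at this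
    linear_combination this
  have hprod : (d - t ^ n * r₀) * (d - t ^ n * (1 - r₀)) = 0 := by
    linear_combination hg' - t ^ (2 * n) * hr₀'
  obtain ⟨r, hr⟩ : ∃ r : D, d = t ^ n * r := by
    rcases mul_eq_zero.1 hprod with h | h
    · exact ⟨r₀, sub_eq_zero.1 h⟩
    · exact ⟨1 - r₀, sub_eq_zero.1 h⟩
  have hbe : b = τ ^ n * (φ r + τ ^ (n + 1) * c) := by
    rw [hbdc, hr, map_mul, map_pow, ← hτ]
    ring
  have hidem : (φ r + τ ^ (n + 1) * c) * (φ r + τ ^ (n + 1) * c) = φ r + τ ^ (n + 1) * c := by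
    have h1 : τ ^ (2 * n) * ((φ r + τ ^ (n + 1) * c) * (φ r + τ ^ (n + 1) * c) -
        (φ r + τ ^ (n + 1) * c)) = 0 := by
      rw [hbe] at hbb
      linear_combination hbb
    exact sub_eq_zero.1 (hpownzd _ _ h1)
  rcases eq_zero_or_eq_one_of_isIdempotentElem _ hidem with h0 | h1
  · rw [h0, mul_zero] at hbe
    rw [hbe, sub_zero] at hbP₂
    exact h₂ (hP₂.mem_of_pow_mem n hbP₂)
  · rw [h1, mul_one] at hbe
    rw [hbe] at hbP₁
    exact h₁ (hP₁.mem_of_pow_mem n hbP₁)

/-- flatness of `T/qT` over `S/q`. -/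
theorem flat_quotient {S T : Type u} [CommRing S] [CommRing T] [Algebra S T] [Module.Flat S T]
    (q : Ideal S) : Module.Flat (S ⧸ q) (T ⧸ q.map (algebraMap S T)) :=
  Module.Flat.of_linearEquiv
    (Algebra.TensorProduct.quotIdealMapEquivQuotTensor T q).toLinearEquiv

theorem prime_unique_of_henselian_flat {S T : Type u} [CommRing S] [HenselianLocalRing S]
    [CommRing T] [IsLocalRing T] [Algebra S T] [Module.Flat S T] [IsLocalHom (algebraMap S T)]
    (q : Ideal S) [hq : q.IsPrime] (t : S) (ht : t ∈ maximalIdeal S) (htq : t ∉ q)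
    (hb : ∀ (k : ℕ) (x : T), ∃ s : S, x - algebraMap S T s ∈
      Ideal.span {algebraMap S T t ^ k} ⊔ q.map (algebraMap S T))
    (he : ∀ Q₁ Q₂ : Ideal T, Q₁.IsPrime → Q₂.IsPrime → Q₁ ≤ Q₂ → algebraMap S T t ∉ Q₂ → Q₁ = Q₂)
    (Q₁ Q₂ : Ideal T) (hQ₁ : Q₁.IsPrime) (hQ₂ : Q₂.IsPrime)
    (h₁ : q.map (algebraMap S T) ≤ Q₁) (h₂ : q.map (algebraMap S T) ≤ Q₂)
    (ht₁ : algebraMap S T t ∉ Q₁) (ht₂ : algebraMap S T t ∉ Q₂) : Q₁ = Q₂ := by
  classical
  haveI hFF : Module.FaithfullyFlat S T := Module.FaithfullyFlat.of_flat_of_isLocalHom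
  have hqtop : q.map (algebraMap S T) ≠ ⊤ := by
    intro h
    have h1 : q.map (algebraMap S T) ≤ maximalIdeal T := by
      rw [Ideal.map_le_iff_le_comap]
      intro x hx
      have hxm : x ∈ maximalIdeal S := IsLocalRing.le_maximalIdeal hq.ne_top hx
      exact (IsLocalRing.mem_maximalIdeal _).2 (fun hu =>
        (IsLocalRing.mem_maximalIdeal _).1 hxm (isUnit_of_map_unit (algebraMap S T) x hu))
    rw [h] at h1
    exact (maximalIdeal.isMaximal T).ne_top (top_le_iff.1 h1)
  haveI : IsDomain (S ⧸ q) := Ideal.Quotient.isDomain q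
  haveI : HenselianLocalRing (S ⧸ q) :=
    Groth.Agent.Lib.helper12.henselianLocalRing_quotient q hq.ne_top
  haveI : Nontrivial (T ⧸ q.map (algebraMap S T)) := Ideal.Quotient.nontrivial_iff.2 hqtop
  haveI : IsLocalRing (T ⧸ q.map (algebraMap S T)) :=
    IsLocalRing.of_surjective' (Ideal.Quotient.mk _) Ideal.Quotient.mk_surjective
  haveI := flat_quotient (T := T) q
  have hφ : ∀ s : S, algebraMap (S ⧸ q) (T ⧸ q.map (algebraMap S T)) (Ideal.Quotient.mk q s) =
      Ideal.Quotient.mk _ (algebraMap S T s) := fun s => rfl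
  have htm : Ideal.Quotient.mk q t ∈ maximalIdeal (S ⧸ q) := by
    rw [IsLocalRing.mem_maximalIdeal, mem_nonunits_iff]
    intro hu
    haveI : IsLocalHom (Ideal.Quotient.mk q) :=
      IsLocalHom.of_surjective _ Ideal.Quotient.mk_surjective
    exact (IsLocalRing.mem_maximalIdeal _).1 ht (isUnit_of_map_unit (Ideal.Quotient.mk q) t hu)
  have ht0 : Ideal.Quotient.mk q t ≠ 0 := by
    rw [Ne, Ideal.Quotient.eq_zero_iff_mem]
    exact htq
  have key := prime_unique_of_henselian
    (algebraMap (S ⧸ q) (T ⧸ q.map (algebraMap S T))) (Ideal.Quotient.mk q t) htm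
    (by
      intro x hx
      have hreg : IsSMulRegular (S ⧸ q) (Ideal.Quotient.mk q t) :=
        IsSMulRegular.of_ne_zero ht0
      have h2 := hreg.of_flat (S := T ⧸ q.map (algebraMap S T))
      exact h2.right_eq_zero_of_smul (by rw [smul_eq_mul]; exact hx))
    (by
      intro k x
      obtain ⟨x, rfl⟩ := Ideal.Quotient.mk_surjective x
      obtain ⟨s, hs⟩ := hb k x
      obtain ⟨y, hy, z, hz, hyz⟩ := Submodule.mem_sup.1 hs
      obtain ⟨c, rfl⟩ := Ideal.mem_span_singleton'.1 hy
      refine ⟨Ideal.Quotient.mk q s, Ideal.Quotient.mk _ c, ?_⟩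
      rw [hφ, hφ, ← map_pow, ← map_mul, ← map_add, Ideal.Quotient.mk_eq_mk_iff_sub_mem]
      have : x - (algebraMap S T s + algebraMap S T t ^ k * c) = z := by
        linear_combination -hyz
      rw [this]
      exact hz)
    (by
      intro k d c hdc
      obtain ⟨d, rfl⟩ := Ideal.Quotient.mk_surjective d
      obtain ⟨c, rfl⟩ := Ideal.Quotient.mk_surjective c
      rw [hφ, hφ, ← map_pow, ← map_mul, Ideal.Quotient.mk_eq_mk_iff_sub_mem] at hdc
      have h1 : algebraMap S T d ∈ (Ideal.span {t ^ k} ⊔ q).map (algebraMap S T) := by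
        rw [Ideal.map_sup, Ideal.map_span, Set.image_singleton, map_pow]
        have : algebraMap S T d = algebraMap S T t ^ k * c +
            (algebraMap S T d - algebraMap S T t ^ k * c) := by ring
        rw [this]
        exact Ideal.add_mem _
          (Ideal.mem_sup_left (Ideal.mul_mem_right _ _ (Ideal.subset_span rfl)))
          (Ideal.mem_sup_right hdc)
      have h2 : d ∈ Ideal.span {t ^ k} ⊔ q := by
        have := Ideal.comap_map_eq_self_of_faithfullyFlat (B := T) (Ideal.span {t ^ k} ⊔ q)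
        rw [← this]
        exact h1
      obtain ⟨y, hy, z, hz, hyz⟩ := Submodule.mem_sup.1 h2
      obtain ⟨d', rfl⟩ := Ideal.mem_span_singleton'.1 hy
      refine ⟨Ideal.Quotient.mk q d', ?_⟩
      rw [← map_pow, ← map_mul, Ideal.Quotient.mk_eq_mk_iff_sub_mem, ← hyz]
      have : d' * t ^ k + z - t ^ k * d' = z := by ring
      rw [this]
      exact hz)
    (by
      intro P₁ P₂ hP₁ hP₂ hle htP
      have h := he (P₁.comap (Ideal.Quotient.mk _)) (P₂.comap (Ideal.Quotient.mk _))
        (Ideal.IsPrime.comap _) (Ideal.IsPrime.comap _) (Ideal.comap_mono hle)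
        (by
          rw [Ideal.mem_comap]
          exact htP)
      rw [← Ideal.map_comap_of_surjective _ Ideal.Quotient.mk_surjective P₁,
        ← Ideal.map_comap_of_surjective _ Ideal.Quotient.mk_surjective P₂, h])
    (Q₁.map (Ideal.Quotient.mk _)) (Q₂.map (Ideal.Quotient.mk _))
    (Ideal.map_isPrime_of_surjective Ideal.Quotient.mk_surjective
      (by rw [Ideal.mk_ker]; exact h₁))
    (Ideal.map_isPrime_of_surjective Ideal.Quotient.mk_surjective
      (by rw [Ideal.mk_ker]; exact h₂))
    (by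
      rw [hφ]
      intro hmem
      have : algebraMap S T t ∈ (Q₁.map (Ideal.Quotient.mk (q.map (algebraMap S T)))).comap
          (Ideal.Quotient.mk _) := hmem
      rw [Ideal.comap_map_of_surjective _ Ideal.Quotient.mk_surjective,
        ← RingHom.ker_eq_comap_bot, Ideal.mk_ker, sup_eq_left.2 h₁] at this
      exact ht₁ this)
    (by
      rw [hφ]
      intro hmem
      have : algebraMap S T t ∈ (Q₂.map (Ideal.Quotient.mk (q.map (algebraMap S T)))).comap
          (Ideal.Quotient.mk _) := hmem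
      rw [Ideal.comap_map_of_surjective _ Ideal.Quotient.mk_surjective,
        ← RingHom.ker_eq_comap_bot, Ideal.mk_ker, sup_eq_left.2 h₂] at this
      exact ht₂ this)
  have h3 := congrArg (Ideal.comap (Ideal.Quotient.mk (q.map (algebraMap S T)))) key
  rw [Ideal.comap_map_of_surjective _ Ideal.Quotient.mk_surjective,
    Ideal.comap_map_of_surjective _ Ideal.Quotient.mk_surjective,
    ← RingHom.ker_eq_comap_bot, Ideal.mk_ker, sup_eq_left.2 h₁, sup_eq_left.2 h₂] at h3
  exact h3

theorem false_of_chain {R : Type u} [CommRing R] (h : ringKrullDim R ≤ 1) (P₁ P₂ P₃ : Ideal R)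
    (h₁ : P₁.IsPrime) (h₂ : P₂.IsPrime) (h₃ : P₃.IsPrime) (h12 : P₁ < P₂) (h23 : P₂ < P₃) :
    False := by
  let s : LTSeries (PrimeSpectrum R) :=
    ((RelSeries.singleton _ (⟨P₁, h₁⟩ : PrimeSpectrum R)).snoc ⟨P₂, h₂⟩ (by
      show (⟨P₁, h₁⟩ : PrimeSpectrum R) < ⟨P₂, h₂⟩
      exact h12)).snoc ⟨P₃, h₃⟩ (by
      rw [RelSeries.last_snoc]
      show (⟨P₂, h₂⟩ : PrimeSpectrum R) < ⟨P₃, h₃⟩
      exact h23)
  have h1 : (s.length : WithBot ℕ∞) ≤ ringKrullDim R := Order.LTSeries.length_le_krullDim s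
  have h2 : s.length = 2 := rfl
  rw [h2] at h1
  have h3 : ((2 : ℕ) : WithBot ℕ∞) ≤ ((1 : ℕ) : WithBot ℕ∞) := by
    refine h1.trans ?_
    exact_mod_cast h
  have h4 : (2 : ℕ) ≤ 1 := by exact_mod_cast h3
  omega

/-- a flat local "dense" extension `S → T` of a henselian Noetherian local ring of dimension `≤ 1`
with `dim T ≤ 1` is injective on spectra. -/
theorem comap_injective_of_dim_le_one {S T : Type u} [CommRing S] [HenselianLocalRing S]
    [IsNoetherianRing S]
    [CommRing T] [IsLocalRing T] [Algebra S T] [Module.Flat S T] [IsLocalHom (algebraMap S T)]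
    (hdimS : ringKrullDim S ≤ 1) (hdimT : ringKrullDim T ≤ 1)
    (hdense : ∀ (r : ℕ) (x : T), ∃ s : S, x - algebraMap S T s ∈
      (maximalIdeal S ^ r).map (algebraMap S T))
    (Q₁ Q₂ : Ideal T) (hQ₁ : Q₁.IsPrime) (hQ₂ : Q₂.IsPrime)
    (h : Q₁.comap (algebraMap S T) = Q₂.comap (algebraMap S T)) : Q₁ = Q₂ := by
  classical
  have hmapm : (maximalIdeal S).map (algebraMap S T) ≤ maximalIdeal T :=
    ((IsLocalRing.local_hom_TFAE (algebraMap S T)).out 0 2).1 ‹IsLocalHom (algebraMap S T)›
  by_cases hqm : Q₁.comap (algebraMap S T) = maximalIdeal S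
  · -- both are the maximal ideal
    have hmT : maximalIdeal T ≤ (maximalIdeal S).map (algebraMap S T) := by
      intro x hx
      obtain ⟨s, hs⟩ := hdense 1 x
      rw [pow_one] at hs
      have hsm : s ∈ maximalIdeal S := by
        by_contra hns
        have hu : IsUnit s := by
          by_contra h'
          exact hns h'
        have hu' : IsUnit (algebraMap S T s) := hu.map _
        have : algebraMap S T s ∈ maximalIdeal T := by
          have h2 : algebraMap S T s = x - (x - algebraMap S T s) := by ring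
          rw [h2]
          exact Ideal.sub_mem _ hx (hmapm hs)
        exact (IsLocalRing.mem_maximalIdeal _).1 this hu'
      have h2 : x = (x - algebraMap S T s) + algebraMap S T s := by ring
      rw [h2]
      exact Ideal.add_mem _ hs (Ideal.mem_map_of_mem _ hsm)
    have e1 : Q₁ = maximalIdeal T := by
      refine le_antisymm (IsLocalRing.le_maximalIdeal hQ₁.ne_top) (hmT.trans ?_)
      rw [Ideal.map_le_iff_le_comap, hqm]
    have e2 : Q₂ = maximalIdeal T := by
      refine le_antisymm (IsLocalRing.le_maximalIdeal hQ₂.ne_top) (hmT.trans ?_)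
      rw [Ideal.map_le_iff_le_comap, ← h, hqm]
    rw [e1, e2]
  · haveI hq : (Q₁.comap (algebraMap S T)).IsPrime := Ideal.IsPrime.comap _
    have hlt : Q₁.comap (algebraMap S T) < maximalIdeal S :=
      lt_of_le_of_ne (IsLocalRing.le_maximalIdeal hq.ne_top) hqm
    obtain ⟨t, htm, htq⟩ := Set.exists_of_ssubset hlt
    have hψt : algebraMap S T t ∈ maximalIdeal T := hmapm (Ideal.mem_map_of_mem _ htm)
    refine prime_unique_of_henselian_flat (Q₁.comap (algebraMap S T)) t htm htq ?_ ?_
      Q₁ Q₂ hQ₁ hQ₂ ?_ ?_ ?_ ?_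
    · intro k x
      have hrad : maximalIdeal S ≤ (Ideal.span {t ^ k} ⊔ Q₁.comap (algebraMap S T)).radical := by
        rw [Ideal.radical_eq_sInf]
        refine le_sInf ?_
        rintro P ⟨hP, hPp⟩
        by_contra hnle
        have hP1 : Q₁.comap (algebraMap S T) < P := by
          refine lt_of_le_of_ne (le_trans le_sup_right hP) ?_
          intro heq
          apply htq
          rw [heq]
          exact hPp.mem_of_pow_mem k (hP (Ideal.mem_sup_left (Ideal.subset_span rfl)))
        have hP2 : P < maximalIdeal S :=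
          lt_of_le_of_ne (IsLocalRing.le_maximalIdeal hPp.ne_top) (fun heq => hnle heq.ge)
        exact false_of_chain hdimS _ _ _ hq hPp (maximalIdeal.isMaximal S).isPrime hP1 hP2
      obtain ⟨r, hr⟩ := Ideal.exists_pow_le_of_le_radical_of_fg hrad
        (maximalIdeal S).fg_of_isNoetherianRing
      obtain ⟨s, hs⟩ := hdense r x
      refine ⟨s, ?_⟩
      have := Ideal.map_mono (f := algebraMap S T) hr hs
      rwa [Ideal.map_sup, Ideal.map_span, Set.image_singleton, map_pow] at this
    · intro P₁ P₂ hP₁ hP₂ hle htP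
      by_contra hne
      have h12 : P₁ < P₂ := lt_of_le_of_ne hle hne
      have h23 : P₂ < maximalIdeal T :=
        lt_of_le_of_ne (IsLocalRing.le_maximalIdeal hP₂.ne_top) (fun heq => htP (heq ▸ hψt))
      exact false_of_chain hdimT _ _ _ hP₁ hP₂ (maximalIdeal.isMaximal T).isPrime h12 h23
    · rw [Ideal.map_le_iff_le_comap]
    · rw [Ideal.map_le_iff_le_comap, h]
    · intro hmem
      exact htq hmem
    · intro hmem
      apply htq
      rw [h]
      exact hmem

end Groth.Agent.Lib.helper17.CplBranch
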