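import Mathlib
import Groth.Agent.Lib.Helper17.CplBranch
import Groth.Agent.Lib.Helper17.HensFib2
import Groth.Agent.Lib.Helper17.HensFib3
import Groth.Agent.Lib.Helper24.UniCpl1
import Groth.Agent.Lib.Helper24.FormalEquidimLoc
import Groth.Agent.Lib.Helper24.HensDim
import Groth.Agent.Lib.Helper24.CplFlat
import Groth.Agent.S0547
import Groth.Agent.S9237
import Groth.Agent.S9240

/-!
# Branches of a one-dimensional Noetherian local ring and of its completion (helper17)

* `comap_injective`: for `A` Noetherian local of dimension one with henselization `S`, the map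
  `Spec Â → Spec S` is injective.
* `isHenselization_self`: a henselian local ring is its own henselization.
* `numBranches_completion_eq`: `numBranches Â = numBranches A` in dimension one.
* `encard_minimalPrimes_completion`: `#Min(Â) = numBranches A` in dimension one.
-/

set_option autoImplicit false
set_option linter.style.haveILetI false
universe u

namespace Groth.Agent.Lib.helper17.CplBranch

open IsLocalRing

theorem isHenselization_self (B : Type u) [CommRing B] [IsLocalRing B] [hH : HenselianLocalRing B]
    [IsLocalHom (algebraMap B B)] : Hensel.IsHenselization B B :=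
  { henselian := hH
    universal := fun T _ _ f _ => ⟨f, by
      show f.comp (algebraMap _ _) = f
      rw [Algebra.algebraMap_self, RingHom.comp_id], fun g' hg' => by
      have hg'' : g'.comp (algebraMap B B) = f := hg'
      rw [Algebra.algebraMap_self, RingHom.comp_id] at hg''
      exact hg''⟩ }

theorem comap_injective (A S : Type u) [CommRing A] [IsLocalRing A]
    [IsNoetherianRing A] [CommRing S] [IsLocalRing S] [Algebra A S] [IsLocalHom (algebraMap A S)]
    [Hensel.IsHenselization A S] (ψ : S →+* AdicCompletion (IsLocalRing.maximalIdeal A) A)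
    (hψ : ψ.comp (algebraMap A S) = algebraMap A (AdicCompletion (IsLocalRing.maximalIdeal A) A))
    (hdim : ringKrullDim A = 1)
    (Q₁ Q₂ : Ideal (AdicCompletion (IsLocalRing.maximalIdeal A) A)) (hQ₁ : Q₁.IsPrime)
    (hQ₂ : Q₂.IsPrime) (h : Q₁.comap ψ = Q₂.comap ψ) : Q₁ = Q₂ := by
  classical
  haveI hNS : IsNoetherianRing S :=
    Groth.Agent.Lib.helper17.HensFib.isNoetherianRing_of_isHenselization A S
  let e := Groth.Agent.Lib.helper17.HensFib.cplRingEquiv A S
  let can : S →+* AdicCompletion (IsLocalRing.maximalIdeal A) A :=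
    (e.symm : EGA4.Cpl S →+* EGA4.Cpl A).comp (algebraMap S (EGA4.Cpl S))
  have hcan : can.comp (algebraMap A S) =
      algebraMap A (AdicCompletion (IsLocalRing.maximalIdeal A) A) := by
    refine RingHom.ext (fun a => ?_)
    change e.symm (algebraMap S (EGA4.Cpl S) (algebraMap A S a)) = _
    rw [RingEquiv.symm_apply_eq]
    have := Groth.Agent.Lib.helper17.HensFib.cplRingEquiv_algebraMap A S a
    rw [IsScalarTower.algebraMap_apply A S (EGA4.Cpl S)] at this
    exact this.symm
  haveI : IsAdicComplete
      (IsLocalRing.maximalIdeal (AdicCompletion (IsLocalRing.maximalIdeal A) A))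
      (AdicCompletion (IsLocalRing.maximalIdeal A) A) :=
    Groth.Agent.Lib.Helper24.FormalEquidimLoc.isAdicComplete_cpl A
  haveI : HenselianLocalRing (AdicCompletion (IsLocalRing.maximalIdeal A) A) :=
    Groth.Agent.Lib.Helper24.UniCpl.henselianLocalRing_of_isAdicComplete _
  have hlocA : IsLocalHom (algebraMap A (AdicCompletion (IsLocalRing.maximalIdeal A) A)) :=
    inferInstance
  obtain ⟨g, -, huniq⟩ := Hensel.IsHenselization.universal (R := A) (S := S)
    (AdicCompletion (IsLocalRing.maximalIdeal A) A)
    (algebraMap A (AdicCompletion (IsLocalRing.maximalIdeal A) A)) hlocA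
  have hψc : ψ = can := (huniq ψ hψ).trans (huniq can hcan).symm
  subst hψc
  letI : Algebra S (AdicCompletion (IsLocalRing.maximalIdeal A) A) := can.toAlgebra
  let el : EGA4.Cpl S ≃ₗ[S] AdicCompletion (IsLocalRing.maximalIdeal A) A :=
    { e.symm.toAddEquiv with
      map_smul' := fun s y => by
        change e.symm (s • y) = can s * e.symm y
        rw [Algebra.smul_def, map_mul]
        rfl }
  haveI : Module.Flat S (EGA4.Cpl S) := inferInstance
  haveI hflat : Module.Flat S (AdicCompletion (IsLocalRing.maximalIdeal A) A) :=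
    Module.Flat.of_linearEquiv el.symm
  haveI hloc : IsLocalHom (algebraMap S (AdicCompletion (IsLocalRing.maximalIdeal A) A)) := by
    change IsLocalHom can
    haveI : IsLocalHom (algebraMap S (EGA4.Cpl S)) := inferInstance
    haveI : IsLocalHom (e.symm : EGA4.Cpl S →+* EGA4.Cpl A) := inferInstance
    exact RingHom.isLocalHom_comp _ _
  haveI hHS : HenselianLocalRing S := Hensel.IsHenselization.henselian A
  have hdimS : ringKrullDim S ≤ 1 := by
    rw [Groth.Agent.Lib.Helper24.HensDim.ringKrullDim_of_isHenselization A S, hdim]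
  have hdimT : ringKrullDim (AdicCompletion (IsLocalRing.maximalIdeal A) A) ≤ 1 := by
    rw [Groth.Agent.S0547.result, hdim]
  have hmAS : (maximalIdeal A).map (algebraMap A S) ≤ maximalIdeal S :=
    ((IsLocalRing.local_hom_TFAE (algebraMap A S)).out 0 2).1 ‹IsLocalHom (algebraMap A S)›
  refine comap_injective_of_dim_le_one (S := S)
    (T := AdicCompletion (IsLocalRing.maximalIdeal A) A) hdimS hdimT ?_ Q₁ Q₂ hQ₁ hQ₂ h
  intro r x
  obtain ⟨a, ha⟩ := Groth.Agent.Lib.Helper24.CplFlat.exists_sub_mem (maximalIdeal A)
    (maximalIdeal A).fg_of_isNoetherianRing r x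
  refine ⟨algebraMap A S a, ?_⟩
  have h1 : can (algebraMap A S a) =
      algebraMap A (AdicCompletion (IsLocalRing.maximalIdeal A) A) a := by
    rw [← hcan]; rfl
  have h2 : (maximalIdeal A ^ r).map (algebraMap A (AdicCompletion (maximalIdeal A) A)) ≤
      (maximalIdeal S ^ r).map (algebraMap S (AdicCompletion (maximalIdeal A) A)) := by
    rw [← hcan, ← Ideal.map_map]
    refine Ideal.map_mono ?_
    rw [Ideal.map_pow]
    exact Ideal.pow_right_mono hmAS r
  show x - can (algebraMap A S a) ∈ _
  rw [h1]
  exact h2 ha

theorem henselian_cpl (A : Type u) [CommRing A] [IsLocalRing A] [IsNoetherianRing A] :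
    HenselianLocalRing (AdicCompletion (IsLocalRing.maximalIdeal A) A) := by
  haveI : IsAdicComplete
      (IsLocalRing.maximalIdeal (AdicCompletion (IsLocalRing.maximalIdeal A) A))
      (AdicCompletion (IsLocalRing.maximalIdeal A) A) :=
    Groth.Agent.Lib.Helper24.FormalEquidimLoc.isAdicComplete_cpl A
  exact Groth.Agent.Lib.Helper24.UniCpl.henselianLocalRing_of_isAdicComplete _

theorem encard_minimalPrimes_completion (A : Type u) [CommRing A] [IsLocalRing A]
    [IsNoetherianRing A] (hdim : ringKrullDim A = 1) :
    ENat.card (minimalPrimes (AdicCompletion (IsLocalRing.maximalIdeal A) A)) =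
      Brnch.numBranches A := by
  classical
  haveI := henselian_cpl A
  have hlocA : IsLocalHom (algebraMap A (AdicCompletion (IsLocalRing.maximalIdeal A) A)) :=
    inferInstance
  obtain ⟨ψ, hψ, -⟩ := Hensel.IsHenselization.universal (R := A)
    (S := Groth.Agent.Lib.helper24.Henselization.Hens A)
    (AdicCompletion (IsLocalRing.maximalIdeal A) A)
    (algebraMap A (AdicCompletion (IsLocalRing.maximalIdeal A) A)) hlocA
  obtain ⟨hmaps, hsurj⟩ := Groth.Agent.S9240.result A _ ψ hψ
  rw [← Groth.Agent.S9237.result A (Groth.Agent.Lib.helper24.Henselization.Hens A)]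
  have himg : Ideal.comap ψ '' (minimalPrimes (AdicCompletion (IsLocalRing.maximalIdeal A) A)) =
      minimalPrimes (Groth.Agent.Lib.helper24.Henselization.Hens A) :=
    Set.Subset.antisymm (Set.image_subset_iff.2 hmaps) hsurj
  have hinj : Set.InjOn (Ideal.comap ψ)
      (minimalPrimes (AdicCompletion (IsLocalRing.maximalIdeal A) A)) := by
    intro Q₁ h₁ Q₂ h₂ h
    exact comap_injective A _ ψ hψ hdim Q₁ Q₂ h₁.1.1 h₂.1.1 h
  show (minimalPrimes (AdicCompletion (IsLocalRing.maximalIdeal A) A)).encard =
    (minimalPrimes (Groth.Agent.Lib.helper24.Henselization.Hens A)).encard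
  rw [← himg, hinj.encard_image]

theorem numBranches_cpl (A : Type u) [CommRing A] [IsLocalRing A] [IsNoetherianRing A] :
    Brnch.numBranches (AdicCompletion (IsLocalRing.maximalIdeal A) A) =
      ENat.card (minimalPrimes (AdicCompletion (IsLocalRing.maximalIdeal A) A)) := by
  haveI := henselian_cpl A
  haveI hidloc : IsLocalHom (algebraMap (AdicCompletion (IsLocalRing.maximalIdeal A) A)
      (AdicCompletion (IsLocalRing.maximalIdeal A) A)) := by
    rw [Algebra.algebraMap_self]
    infer_instance
  haveI := isHenselization_self (AdicCompletion (IsLocalRing.maximalIdeal A) A)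
  exact (Groth.Agent.S9237.result (AdicCompletion (IsLocalRing.maximalIdeal A) A)
      (AdicCompletion (IsLocalRing.maximalIdeal A) A)).symm

theorem numBranches_completion_eq (A : Type u) [CommRing A] [IsLocalRing A]
    [IsNoetherianRing A] (hdim : ringKrullDim A = 1) :
    Brnch.numBranches (AdicCompletion (IsLocalRing.maximalIdeal A) A) = Brnch.numBranches A := by
  rw [numBranches_cpl, encard_minimalPrimes_completion A hdim]

end Groth.Agent.Lib.helper17.CplBranch
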