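import Mathlib

/-!
# helper17: the closed fibre of `A → Â` (completion of a Noetherian local ring)

* `tmul_eq_zero_of_mem_smul_top`
* `isField_tensor_adicCompletion`: for a field `L` over `A` killed by `m_A`, `L ⊗[A] Â` is a field.
* `isField_tensor_adicCompletion'`: same, for any algebra structure on `Â` equal to the standard one.
* `isField_localization_atPrime_of_isField`.
-/

set_option autoImplicit false
set_option linter.style.haveILetI false
universe u

open IsLocalRing TensorProduct

namespace Groth.Agent.Lib.helper17.CplFibre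

theorem tmul_eq_zero_of_mem_smul_top {A : Type u} [CommRing A] (I : Ideal A) {L M : Type u}
    [AddCommGroup L] [Module A L] [AddCommGroup M] [Module A M]
    (hL : ∀ a ∈ I, ∀ l : L, a • l = 0) (l : L) (t : M)
    (ht : t ∈ I • (⊤ : Submodule A M)) : l ⊗ₜ[A] t = 0 := by
  induction ht using Submodule.smul_induction_on' with
  | smul a ha m _ =>
    rw [TensorProduct.tmul_smul, TensorProduct.smul_tmul', hL a ha, TensorProduct.zero_tmul]
  | add x _ y _ hx hy => rw [TensorProduct.tmul_add, hx, hy, add_zero]

theorem isField_tensor_adicCompletion (A L : Type u) [CommRing A] [IsLocalRing A]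
    [IsNoetherianRing A] [Field L] [Algebra A L]
    (hL : maximalIdeal A ≤ RingHom.ker (algebraMap A L)) :
    IsField (L ⊗[A] AdicCompletion (maximalIdeal A) A) := by
  set I := maximalIdeal A with hI
  have hfg : I.FG := I.fg_of_isNoetherianRing
  have hkill : ∀ a ∈ I, ∀ l : L, a • l = 0 := by
    intro a ha l
    rw [Algebra.smul_def, RingHom.mem_ker.mp (hL ha), zero_mul]
  have key : ∀ t : L ⊗[A] AdicCompletion I A, ∃ l : L, t = l ⊗ₜ 1 := by
    intro t
    induction t with
    | zero => exact ⟨0, by simp⟩
    | tmul l x =>
      obtain ⟨r, hr⟩ := Ideal.Quotient.mk_surjective (AdicCompletion.evalₐ I 1 x)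
      have h1 : x - (algebraMap A (AdicCompletion I A)) r ∈
          I • (⊤ : Submodule A (AdicCompletion I A)) := by
        have h2 : x - (algebraMap A (AdicCompletion I A)) r ∈
            I ^ 1 • (⊤ : Submodule A (AdicCompletion I A)) := by
          rw [AdicCompletion.algebraMap_apply, AdicCompletion.pow_smul_top_eq_ker_eval hfg,
            LinearMap.mem_ker, ← AdicCompletion.factor_evalₐ_eq_eval _ _ (by simp), map_sub,
            AdicCompletion.evalₐ_of, ← hr, Algebra.algebraMap_self, RingHom.id_apply, sub_self,
            map_zero]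
        simpa using h2
      have h3 := tmul_eq_zero_of_mem_smul_top I hkill l _ h1
      rw [TensorProduct.tmul_sub, sub_eq_zero] at h3
      refine ⟨r • l, ?_⟩
      rw [h3, Algebra.algebraMap_eq_smul_one, TensorProduct.tmul_smul, TensorProduct.smul_tmul']
    | add x y hx hy =>
      obtain ⟨l1, rfl⟩ := hx
      obtain ⟨l2, rfl⟩ := hy
      exact ⟨l1 + l2, by rw [TensorProduct.add_tmul]⟩
  let ι : L →+* L ⊗[A] AdicCompletion I A := Algebra.TensorProduct.includeLeftRingHom
  have hsurj : Function.Surjective ι := fun t => by
    obtain ⟨l, rfl⟩ := key t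
    exact ⟨l, rfl⟩
  haveI : Module.FaithfullyFlat A (AdicCompletion I A) :=
    Module.FaithfullyFlat.of_flat_of_isLocalHom
  haveI : Nontrivial (L ⊗[A] AdicCompletion I A) :=
    Module.FaithfullyFlat.rTensor_nontrivial A (AdicCompletion I A) L
  exact MulEquiv.isField (Field.toIsField L)
    (RingEquiv.ofBijective ι ⟨ι.injective, hsurj⟩).symm.toMulEquiv

theorem isField_tensor_adicCompletion' (A L : Type u) [CommRing A] [IsLocalRing A]
    [IsNoetherianRing A] [Field L] [Algebra A L]
    (hL : maximalIdeal A ≤ RingHom.ker (algebraMap A L))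
    (alg : Algebra A (AdicCompletion (maximalIdeal A) A))
    (h : alg = @AdicCompletion.instAlgebra A A _ _ (maximalIdeal A) (Algebra.id A)) :
    IsField (@TensorProduct A _ L (AdicCompletion (maximalIdeal A) A) _ _ _ alg.toModule) := by
  subst h
  exact isField_tensor_adicCompletion A L hL

theorem isField_localization_atPrime_of_isField (F : Type u) [CommRing F] (hF : IsField F)
    (q : Ideal F) [q.IsPrime] : IsField (Localization.AtPrime q) := by
  letI := hF.toField
  have hq : q = ⊥ := Ideal.eq_bot_of_prime q
  have hu : ∀ x : F, x ∈ q.primeCompl → IsUnit x := by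
    intro x hx
    have : x ≠ 0 := fun h => hx (by rw [h]; exact q.zero_mem)
    exact this.isUnit
  let e : F ≃ₐ[F] Localization.AtPrime q := IsLocalization.atUnits F q.primeCompl hu
  exact MulEquiv.isField hF e.symm.toMulEquiv

end Groth.Agent.Lib.helper17.CplFibre
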