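import Mathlib
import Groth.Agent.Lib.Helper17.CplFibre
import Groth.Agent.Lib.Helper17.FieldBC
import Groth.Agent.Lib.Helper24.FlatLocalFibre
import Groth.Agent.S0542

/-!
# helper17: base change of a scheme over a Noetherian local ring `A` to the completion `Â`

For `f : X ⟶ Spec A` and `y` a point of `Y = X ×_A Â` over the closed point of `Spec Â`, with image
`x` in `X`:
* `map_maximalIdeal_stalkMap_fst`: `m_x O_{Y,y} = m_y`.
* `isRegularLocalRing_stalk_iff`: (for `f` locally of finite type) `O_{Y,y}` is regular iff
  `O_{X,x}` is.
-/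

set_option autoImplicit false
set_option linter.style.haveILetI false
universe u

open CategoryTheory CategoryTheory.Limits AlgebraicGeometry IsLocalRing TensorProduct

namespace Groth.Agent.Lib.helper17.CplFibre

variable (A : Type u) [CommRing A] [IsLocalRing A] [IsNoetherianRing A]
  {X : Scheme.{u}} (f : X ⟶ Spec (CommRingCat.of A))

/-- the completion map as a morphism of schemes. -/
noncomputable abbrev cplMap : Spec (CommRingCat.of (AdicCompletion (maximalIdeal A) A)) ⟶
    Spec (CommRingCat.of A) :=
  Spec.map (CommRingCat.ofHom (algebraMap A (AdicCompletion (maximalIdeal A) A)))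

set_option backward.isDefEq.respectTransparency false in
theorem apply_fst_eq_closedPoint (y : ↥(pullback f (cplMap A)))
    (hy : (pullback.snd f (cplMap A)) y = closedPoint (AdicCompletion (maximalIdeal A) A)) :
    f ((pullback.fst f (cplMap A)) y) = closedPoint A := by
  have h1 : f ((pullback.fst f (cplMap A)) y) = (cplMap A) ((pullback.snd f (cplMap A)) y) := by
    rw [← Scheme.Hom.comp_apply, ← Scheme.Hom.comp_apply, pullback.condition]
  rw [h1, hy]
  exact IsLocalRing.comap_closedPoint (algebraMap A (AdicCompletion (maximalIdeal A) A))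

set_option backward.isDefEq.respectTransparency false in
theorem map_maximalIdeal_stalkMap_fst (y : ↥(pullback f (cplMap A)))
    (hy : (pullback.snd f (cplMap A)) y = closedPoint (AdicCompletion (maximalIdeal A) A)) :
    (maximalIdeal (X.presheaf.stalk ((pullback.fst f (cplMap A)) y))).map
      ((pullback.fst f (cplMap A)).stalkMap y).hom =
      maximalIdeal ((pullback f (cplMap A)).presheaf.stalk y) := by
  have hc : IsPullback (pullback.fst f (cplMap A)) (pullback.snd f (cplMap A)) f (cplMap A) :=
    IsPullback.of_hasPullback _ _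
  let ψ : CommRingCat.of A ⟶ X.residueField ((pullback.fst f (cplMap A)) y) :=
    Spec.preimage (X.fromSpecResidueField ((pullback.fst f (cplMap A)) y) ≫ f)
  have hψ : X.fromSpecResidueField ((pullback.fst f (cplMap A)) y) ≫ f = Spec.map ψ :=
    (Spec.map_preimage _).symm
  obtain ⟨q, hq, ⟨e⟩⟩ :=
    Groth.Agent.Lib.helper17.FieldBC.exists_fibRing_equiv_localization hc y ψ hψ
  letI : Algebra A (X.residueField ((pullback.fst f (cplMap A)) y)) := ψ.hom.toAlgebra
  have hL : maximalIdeal A ≤
      RingHom.ker (algebraMap A (X.residueField ((pullback.fst f (cplMap A)) y))) := by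
    intro a ha
    rw [RingHom.mem_ker]
    let pt : Spec (X.residueField ((pullback.fst f (cplMap A)) y)) :=
      closedPoint (X.residueField ((pullback.fst f (cplMap A)) y))
    have h1 : (Spec.map ψ) pt = closedPoint A := by
      rw [← hψ, Scheme.Hom.comp_apply, Scheme.fromSpecResidueField_apply]
      exact apply_fst_eq_closedPoint A f y hy
    have h2 : a ∈ ((Spec.map ψ) pt).asIdeal := by rw [h1]; exact ha
    have h3 : ψ.hom a ∈ pt.asIdeal := h2
    have h4 : pt.asIdeal = ⊥ := Ideal.eq_bot_of_prime _
    rw [h4] at h3
    exact h3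
  have hF := isField_tensor_adicCompletion' A (X.residueField ((pullback.fst f (cplMap A)) y)) hL
    (CommRingCat.ofHom (algebraMap A (AdicCompletion (maximalIdeal A) A))).hom.toAlgebra
    (Algebra.algebra_ext _ _ (fun r => rfl))
  have hF2 := isField_localization_atPrime_of_isField _ hF q
  have hF3 : IsField (Groth.Agent.Lib.helper17.FibreStalk.FibRing (pullback.fst f (cplMap A)) y) :=
    MulEquiv.isField hF2 e.toMulEquiv
  have hmax := Ideal.Quotient.maximal_of_isField _ hF3
  exact IsLocalRing.eq_maximalIdeal hmax

set_option backward.isDefEq.respectTransparency false in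
theorem isRegularLocalRing_stalk_iff [LocallyOfFiniteType f] (y : ↥(pullback f (cplMap A)))
    (hy : (pullback.snd f (cplMap A)) y = closedPoint (AdicCompletion (maximalIdeal A) A)) :
    IsRegularLocalRing ((pullback f (cplMap A)).presheaf.stalk y) ↔
      IsRegularLocalRing (X.presheaf.stalk ((pullback.fst f (cplMap A)) y)) := by
  haveI : IsLocallyNoetherian X := LocallyOfFiniteType.isLocallyNoetherian f
  haveI hN : IsNoetherianRing (AdicCompletion (maximalIdeal A) A) :=
    Groth.Agent.S0542.result A _ (maximalIdeal A).fg_of_isNoetherianRing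
  haveI : LocallyOfFiniteType (pullback.snd f (cplMap A)) := inferInstance
  haveI : IsLocallyNoetherian (pullback f (cplMap A)) :=
    LocallyOfFiniteType.isLocallyNoetherian (pullback.snd f (cplMap A))
  haveI hflatφ : Flat (cplMap A) := by
    rw [HasRingHomProperty.Spec_iff (P := @Flat)]
    exact RingHom.flat_algebraMap_iff.mpr inferInstance
  haveI : Flat (pullback.fst f (cplMap A)) := inferInstance
  letI := ((pullback.fst f (cplMap A)).stalkMap y).hom.toAlgebra
  haveI : Module.Flat (X.presheaf.stalk ((pullback.fst f (cplMap A)) y))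
      ((pullback f (cplMap A)).presheaf.stalk y) := Flat.stalkMap (pullback.fst f (cplMap A)) y
  haveI : IsLocalHom (algebraMap (X.presheaf.stalk ((pullback.fst f (cplMap A)) y))
      ((pullback f (cplMap A)).presheaf.stalk y)) :=
    inferInstanceAs (IsLocalHom ((pullback.fst f (cplMap A)).stalkMap y).hom)
  have hm : (maximalIdeal (X.presheaf.stalk ((pullback.fst f (cplMap A)) y))).map
      (algebraMap (X.presheaf.stalk ((pullback.fst f (cplMap A)) y))
        ((pullback f (cplMap A)).presheaf.stalk y)) =
      maximalIdeal ((pullback f (cplMap A)).presheaf.stalk y) :=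
    map_maximalIdeal_stalkMap_fst A f y hy
  have hdim := Groth.Agent.Lib.Helper24.FlatLocalFibre.ringKrullDim_eq_of_flat _ _ hm
  exact (Groth.Agent.Lib.Helper24.FlatCotangent.isRegularLocalRing_iff_of_flat _ _ hm hdim).symm

end Groth.Agent.Lib.helper17.CplFibre
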