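import Mathlib
import Groth.Prelude.Def_Pi1
import Groth.Agent.Lib.Helper17.FibreDim
import Groth.Agent.Lib.Helper17.RegSmooth
import Groth.Agent.Lib.Helper17.DedekindFlat
import Groth.Agent.Lib.Helper17.NodalNormal
import Groth.Agent.Lib.Helper19.CohenK4
import Groth.Agent.Lib.Helper24.SerreNormal4
import Groth.Agent.Lib.Helper24.RegularAscent
import Groth.Agent.Lib.Helper24.HensDepth
import Groth.Agent.S0602

/-!
# helper17: normality of the total space of a flat family of reduced curves over a normal base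

Stalkwise Serre criterion. For `f : C ⟶ S` flat, `S` integral, locally Noetherian and normal,
`C` locally Noetherian, fibres reduced of dimension `≤ 1`, generic fibre with regular local rings:
* `isRegularLocalRing_stalk_of_smooth_field`: local rings of a scheme smooth over a field are regular.
* `isRegularLocalRing_stalk_fiber_of_smooth`: same for a fibre `f.fiber s` with
  `f.fiberToSpecResidueField s` smooth.
* `eq_genericPoint_of_dim_stalk_le_zero`: in an integral scheme, `dim O_{Y,y} = 0` forces `y` generic.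
* `dim_le_zero_or_one_le_depth`: a reduced Noetherian local ring is a field or has depth `≥ 1`.
* `sk_two_stalk`: `min 2 (dim O_{C,x}) ≤ depth O_{C,x}`.
* `regular_stalk_of_dim_le_one`: `dim O_{C,x} ≤ 1 ⇒ O_{C,x}` regular.
* `isNormalScheme_of_flat_reduced_curves`: `C` is normal.
-/

set_option autoImplicit false
set_option linter.style.haveILetI false
universe u

open CategoryTheory AlgebraicGeometry IsLocalRing

namespace Groth.Agent.Lib.helper17.CurveFamNormal

open Groth.Agent.Lib.helper17.FibreStalk Groth.Agent.Lib.helper17.FibreDim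

set_option backward.isDefEq.respectTransparency false in
/-- local rings of a scheme smooth over a field are regular. -/
theorem isRegularLocalRing_stalk_of_smooth_field {K : Type u} [Field K] {X : Scheme.{u}}
    (g : X ⟶ Spec (CommRingCat.of K)) [Smooth g] (x : X) :
    IsRegularLocalRing (X.presheaf.stalk x) := by
  have : IsLocallyNoetherian X := LocallyOfFiniteType.isLocallyNoetherian g
  have hx : x ∈ g.smoothLocus := by rw [g.smoothLocus_eq_top]; trivial
  rw [Scheme.Hom.mem_smoothLocus] at hx
  algebraize [(g.stalkMap x).hom]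
  let K' := (Spec.structureSheaf K).presheaf.stalk (g x)
  let e : K ≃ₐ[K] K' := IsLocalization.atUnits _ (g x).asIdeal.primeCompl
      (fun y hy ↦ by aesop (add simp IsUnit.mem_submonoid_iff))
  let : Field K' := (e.toRingEquiv.symm.isField (Field.toIsField K)).toField
  let : Field ((Spec (.of K)).presheaf.stalk (g x)) := this
  have : Algebra.FormallySmooth ((Spec (.of K)).presheaf.stalk (g x)) (X.presheaf.stalk x) := hx
  exact Groth.Agent.Lib.helper19.CohenK.isRegularLocalRing_of_isAdicFormallySmooth_field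
    ((Spec (.of K)).presheaf.stalk (g x)) (X.presheaf.stalk x)
    (Groth.Agent.Lib.helper17.RegSmooth.isAdicFormallySmooth_of_formallySmooth _ _ _)

/-- local rings of a fibre which is smooth over the residue field are regular. -/
theorem isRegularLocalRing_stalk_fiber_of_smooth {C S : Scheme.{u}} (f : C ⟶ S) (s : S)
    (hsm : Smooth (f.fiberToSpecResidueField s)) (z : f.fiber s) :
    IsRegularLocalRing ((f.fiber s).presheaf.stalk z) := by
  haveI := hsm
  exact isRegularLocalRing_stalk_of_smooth_field (K := S.residueField s)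
    (f.fiberToSpecResidueField s) z

/-- a point of an integral scheme whose local ring has dimension `0` is the generic point. -/
theorem eq_genericPoint_of_dim_stalk_le_zero {Y : Scheme.{u}} [IsIntegral Y] (y : Y)
    (h : ringKrullDim (Y.presheaf.stalk y) ≤ 0) : y = genericPoint Y := by
  have hs : genericPoint Y ⤳ y := (genericPoint_spec Y).specializes (by trivial)
  have hr : genericPoint Y ∈ Set.range (Y.fromSpecStalk y) := by
    rw [Scheme.range_fromSpecStalk]; exact hs
  obtain ⟨q, hq⟩ := hr
  have hq0 : q.asIdeal = ⊥ :=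
    Groth.Agent.Lib.helper17.DedekindFlat.eq_bot_of_fromSpecStalk_eq_genericPoint y q hq
  have hm : maximalIdeal (Y.presheaf.stalk y) = ⊥ :=
    Groth.Agent.S0602.maxIdeal_eq_bot_of_reduced_of_dim h
  have hqc : q = closedPoint (Y.presheaf.stalk y) := by
    apply PrimeSpectrum.ext
    change q.asIdeal = maximalIdeal _
    rw [hq0, hm]
  rw [← hq, hqc, Scheme.fromSpecStalk_closedPoint]

theorem arith (dA dF : WithBot ℕ∞) (eA eF : ℕ∞) (hF1 : dF ≤ 1)
    (hA : min 2 dA ≤ eA) (hF : dF ≤ 0 ∨ 1 ≤ eF) :
    min 2 (dA + dF) ≤ ((eA + eF : ℕ∞) : WithBot ℕ∞) := by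
  have h0 : (0 : WithBot ℕ∞) ≤ (eF : WithBot ℕ∞) := by exact_mod_cast (zero_le : (0 : ℕ∞) ≤ eF)
  have hdF : dF ≤ (eF : WithBot ℕ∞) := by
    rcases hF with h | h
    · exact h.trans h0
    · exact hF1.trans (by exact_mod_cast h)
  rw [WithBot.coe_add]
  rcases min_le_iff.mp hA with h | h
  · exact min_le_iff.mpr (Or.inl (h.trans (le_add_of_nonneg_right h0)))
  · exact min_le_iff.mpr (Or.inr (add_le_add h hdF))

theorem arith2 (a b : WithBot ℕ∞) (ha : 0 ≤ a) (hb : 0 ≤ b) (h : a + b ≤ 1) (hb' : ¬ b ≤ 0) :
    a ≤ 0 := by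
  lift a to ℕ∞ using (by rintro rfl; simp at ha)
  lift b to ℕ∞ using (by rintro rfl; simp at hb)
  have h' : a + b ≤ 1 := by exact_mod_cast h
  have hb'' : ¬ b ≤ 0 := fun hh => hb' (by exact_mod_cast hh)
  have hb1 : 1 ≤ b := by
    rw [Order.one_le_iff_ne_zero]
    intro h0; exact hb'' (by rw [h0])
  have : a ≤ 0 := by
    by_contra ha0
    have ha1 : 1 ≤ a := by
      rw [Order.one_le_iff_ne_zero]
      intro h0; exact ha0 (by rw [h0])
    have h2 : (1 : ℕ∞) + 1 ≤ a + b := add_le_add ha1 hb1
    have h3 : (1 : ℕ∞) + 1 ≤ 1 := h2.trans h'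
    norm_num at h3
  exact_mod_cast this

/-- a reduced Noetherian local ring has dimension `0` or positive depth. -/
theorem dim_le_zero_or_one_le_depth (F : Type u) [CommRing F] [IsLocalRing F] [IsNoetherianRing F]
    [IsReduced F] : ringKrullDim F ≤ 0 ∨ 1 ≤ LocCoh.depth F F := by
  by_cases h : ∀ r ∈ maximalIdeal F, ¬ IsSMulRegular F r
  · left
    rw [Groth.Agent.S0602.krullDim_of_maxIdeal_eq_bot
      (Groth.Agent.S0602.maxIdeal_eq_bot_of_no_regular h)]
  · right
    push Not at h
    obtain ⟨r, hr, hreg⟩ := h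
    exact Groth.Agent.S0602.one_le_idealDepth (maximalIdeal F) r hr hreg

theorem ringKrullDim_stalk_le_top (Y : Scheme.{u}) (y : Y) :
    ringKrullDim (Y.presheaf.stalk y) ≤ topologicalKrullDim Y := by
  rw [← PrimeSpectrum.topologicalKrullDim_eq_ringKrullDim]
  exact (Y.fromSpecStalk y).isEmbedding.isInducing.topologicalKrullDim_le

section

variable {S C : Scheme.{u}} (f : C ⟶ S) (x : C)

/-- `(S_2)` at a point of the total space. -/
theorem sk_two_stalk [IsLocallyNoetherian S] [IsLocallyNoetherian C] [Flat f]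
    (hS : Pi1.IsNormalScheme S) [IsReduced (f.fiber (f x))]
    (hdim : topologicalKrullDim ↥(f.fiber (f x)) ≤ 1) :
    min 2 (ringKrullDim (C.presheaf.stalk x)) ≤
      ((LocCoh.depth (C.presheaf.stalk x) (C.presheaf.stalk x) : ℕ∞) : WithBot ℕ∞) := by
  obtain ⟨hd, hic⟩ := hS (f x)
  haveI := isNoetherianRing_fiberStalk f x
  rw [dim_stalk_eq f x (Flat.stalkMap f x), depth_stalk_eq f x (Flat.stalkMap f x)]
  refine arith _ _ _ _ ((ringKrullDim_stalk_le_top _ _).trans hdim)
    (Groth.Agent.Lib.Helper24.SerreNormal.sk_two_of_normal (S.presheaf.stalk (f x)))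
    (dim_le_zero_or_one_le_depth _)

/-- transport along `f x = s`. -/
theorem isRegularLocalRing_asFiber_of_eq {s : S} (h : f x = s)
    (H : ∀ z : f.fiber s, IsRegularLocalRing ((f.fiber s).presheaf.stalk z)) :
    IsRegularLocalRing ((f.fiber (f x)).presheaf.stalk (f.asFiber x)) := by
  subst h
  exact H _

/-- `(R_1)` at a point of the total space. -/
theorem regular_stalk_of_dim_le_one [IsIntegral S] [IsLocallyNoetherian S] [IsLocallyNoetherian C]
    [Flat f] (hS : Pi1.IsNormalScheme S) [IsReduced (f.fiber (f x))]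
    (hgen : ∀ z : f.fiber (genericPoint S),
      IsRegularLocalRing ((f.fiber (genericPoint S)).presheaf.stalk z))
    (hx : ringKrullDim (C.presheaf.stalk x) ≤ 1) :
    IsRegularLocalRing (C.presheaf.stalk x) := by
  obtain ⟨hd, hic⟩ := hS (f x)
  haveI := isNoetherianRing_fiberStalk f x
  have hdimeq := dim_stalk_eq f x (Flat.stalkMap f x)
  set F := (f.fiber (f x)).presheaf.stalk (f.asFiber x) with hF
  have h0A : (0 : WithBot ℕ∞) ≤ ringKrullDim (S.presheaf.stalk (f x)) :=
    ringKrullDim_nonneg_of_nontrivial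
  have h0F : (0 : WithBot ℕ∞) ≤ ringKrullDim F := ringKrullDim_nonneg_of_nontrivial
  rw [hdimeq] at hx
  -- the base is regular
  haveI hAreg : IsRegularLocalRing (S.presheaf.stalk (f x)) :=
    Groth.Agent.Lib.Helper24.SerreNormal.regular_of_normal_dim_le_one _
      ((le_add_of_nonneg_right h0F).trans hx)
  -- the fibre is regular
  have hFreg : IsRegularLocalRing F := by
    by_cases hm : maximalIdeal F = ⊥
    · exact Groth.Agent.S0602.regular_of_maxIdeal_eq_bot hm
    · have hF1 : ¬ ringKrullDim F ≤ 0 := fun h =>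
        hm (Groth.Agent.S0602.maxIdeal_eq_bot_of_reduced_of_dim h)
      have hA0 : ringKrullDim (S.presheaf.stalk (f x)) ≤ 0 := arith2 _ _ h0A h0F hx hF1
      exact isRegularLocalRing_asFiber_of_eq f x
        (eq_genericPoint_of_dim_stalk_le_zero (f x) hA0) hgen
  obtain ⟨e⟩ := nonempty_asFiber_stalk_equiv f x
  haveI hFib : IsRegularLocalRing (FibRing f x) := IsRegularLocalRing.of_ringEquiv e.symm
  have hfl := Flat.stalkMap f x
  algebraize [(f.stalkMap x).hom]
  haveI : IsLocalHom (algebraMap (S.presheaf.stalk (f x)) (C.presheaf.stalk x)) :=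
    inferInstanceAs (IsLocalHom (f.stalkMap x).hom)
  haveI : IsRegularLocalRing (C.presheaf.stalk x ⧸ (maximalIdeal (S.presheaf.stalk (f x))).map
      (algebraMap (S.presheaf.stalk (f x)) (C.presheaf.stalk x))) := hFib
  exact Groth.Agent.Lib.Helper24.RegularAscent.isRegularLocalRing_of_flat_of_fibre
    (S.presheaf.stalk (f x)) (C.presheaf.stalk x)

/-- **Normality of the total space**: `S` integral, locally Noetherian, normal; `f : C ⟶ S` flat with
`C` locally Noetherian, reduced fibres of dimension `≤ 1`, and regular local rings on the generic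
fibre. Then `C` is normal. -/
theorem isNormalScheme_of_flat_reduced_curves [IsIntegral S] [IsLocallyNoetherian S]
    [IsLocallyNoetherian C] [Flat f] (hS : Pi1.IsNormalScheme S)
    (hred : ∀ s : S, IsReduced (f.fiber s))
    (hdim : ∀ s : S, topologicalKrullDim ↥(f.fiber s) ≤ 1)
    (hgen : ∀ z : f.fiber (genericPoint S),
      IsRegularLocalRing ((f.fiber (genericPoint S)).presheaf.stalk z)) :
    Pi1.IsNormalScheme C := by
  intro c
  apply Groth.Agent.Lib.Helper24.SerreNormal.normal_of_local (C.presheaf.stalk c)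
  · intro q hq hht
    obtain ⟨e⟩ := Groth.Agent.Lib.helper17.NodalNormal.nonempty_stalk_fromSpecStalk_equiv c ⟨q, hq⟩
    haveI := hred (f (C.fromSpecStalk c ⟨q, hq⟩))
    have h1 : ringKrullDim (C.presheaf.stalk (C.fromSpecStalk c ⟨q, hq⟩)) ≤ 1 := by
      rw [ringKrullDim_eq_of_ringEquiv e,
        IsLocalization.AtPrime.ringKrullDim_eq_height q (Localization.AtPrime q)]
      exact_mod_cast hht
    haveI := regular_stalk_of_dim_le_one f (C.fromSpecStalk c ⟨q, hq⟩) hS hgen h1
    exact IsRegularLocalRing.of_ringEquiv e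
  · rw [Groth.Agent.Lib.Helper24.HensDepth.hasSk_iff_skAt]
    intro q hq
    obtain ⟨e⟩ := Groth.Agent.Lib.helper17.NodalNormal.nonempty_stalk_fromSpecStalk_equiv c ⟨q, hq⟩
    haveI := hred (f (C.fromSpecStalk c ⟨q, hq⟩))
    have h2 := sk_two_stalk f (C.fromSpecStalk c ⟨q, hq⟩) hS (hdim _)
    unfold Groth.Agent.Lib.Helper24.HensDepth.SkAt
    rw [Module.supportDim_self_eq_ringKrullDim]
    rw [ringKrullDim_eq_of_ringEquiv e,
      ← Groth.Agent.Lib.Helper24.FlatDepth.depth_eq_of_ringEquiv e] at h2
    exact h2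

end

end Groth.Agent.Lib.helper17.CurveFamNormal
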