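import Mathlib
import Groth.Agent.Lib.Helper17.CurveFamNormal
import Groth.Agent.Lib.Helper9.UnramConn

/-!
# helper17: the total space of a family of curves with smooth generic fibre is integral

* `isIntegral_of_curveFamily`: `S` integral locally Noetherian normal, `f : C ⟶ S` flat, locally of
  finite presentation, geometrically reduced and geometrically connected with fibres of dimension
  one and smooth generic fibre: `C` is normal and integral.
-/

set_option autoImplicit false
set_option linter.style.haveILetI false
universe u

open CategoryTheory AlgebraicGeometry IsLocalRing TopologicalSpace Opposite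

namespace Groth.Agent.Lib.helper17.CurveFamNormal

/-- the total space of a flat family of geometrically reduced, geometrically connected
curves over an integral locally Noetherian normal base with smooth generic fibre is normal and
integral. -/
theorem isIntegral_of_curveFamily {S C : Scheme.{u}} [IsIntegral S] [IsLocallyNoetherian S]
    (hS : Pi1.IsNormalScheme S) (f : C ⟶ S) [Flat f] [LocallyOfFinitePresentation f]
    [GeometricallyReduced f] [GeometricallyConnected f]
    (hdim : ∀ s : ↥S, topologicalKrullDim ↥(f.fiber s) = 1)
    (hsm : Smooth (f.fiberToSpecResidueField (genericPoint ↥S))) :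
    Pi1.IsNormalScheme C ∧ IsIntegral C := by
  haveI : IsLocallyNoetherian C := LocallyOfFiniteType.isLocallyNoetherian f
  have hN : Pi1.IsNormalScheme C := isNormalScheme_of_flat_reduced_curves f hS
    (fun s => inferInstance) (fun s => (hdim s).le)
    (fun z => isRegularLocalRing_stalk_fiber_of_smooth f (genericPoint ↥S) hsm z)
  refine ⟨hN, ?_⟩
  haveI : ConnectedSpace C := GeometricallyConnected.connectedSpace f f.isOpenMap
  exact Groth.Agent.Lib.helper9.UnramGeom.isIntegral_of_connected_of_isDomain_stalk
    (fun y => (hN y).1)

end Groth.Agent.Lib.helper17.CurveFamNormal
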