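import Mathlib

/-!
# Finiteness of fibres of maps between one-dimensional irreducible spaces (helper17)

* `subsingleton_of_isIrreducible_isClosed_ne_univ`: in a T0 space of Krull dimension `≤ 1`, a proper
  irreducible closed subset is a single point.
* `finite_of_isClosed_ne_univ`: in a Noetherian such space proper closed subsets are finite.
* `finite_preimage_singleton`: a closed continuous surjection from such an irreducible space onto a
  T0 space with at least two points has finite fibres.
-/

set_option autoImplicit false
open TopologicalSpace

namespace Groth.Agent.Lib.helper17.CurveFinite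

theorem subsingleton_of_isIrreducible_isClosed_ne_univ {Z : Type*} [TopologicalSpace Z]
    [T0Space Z] [IrreducibleSpace Z] (hdim : topologicalKrullDim Z ≤ 1) (T : Set Z)
    (hT : IsIrreducible T) (hTc : IsClosed T) (hne : T ≠ Set.univ) : T.Subsingleton := by
  intro t₁ h₁ t₂ h₂
  by_contra hne12
  -- one of the closures is strictly smaller than T
  have key : ∀ t ∈ T, closure ({t} : Set Z) ≠ T → False := by
    intro t ht hct
    let a : IrreducibleCloseds Z := ⟨closure {t}, isIrreducible_singleton.closure, isClosed_closure⟩
    let b : IrreducibleCloseds Z := ⟨T, hT, hTc⟩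
    let c : IrreducibleCloseds Z := ⟨Set.univ, (IrreducibleSpace.isIrreducible_univ Z), isClosed_univ⟩
    have hab : a < b := by
      refine lt_of_le_of_ne ?_ ?_
      · show closure {t} ⊆ T
        exact hTc.closure_subset_iff.mpr (Set.singleton_subset_iff.mpr ht)
      · intro h
        exact hct (congrArg (fun x : IrreducibleCloseds Z => (x : Set Z)) h)
    have hbc : b < c := by
      refine lt_of_le_of_ne ?_ ?_
      · show T ⊆ Set.univ
        exact Set.subset_univ _
      · intro h
        exact hne (congrArg (fun x : IrreducibleCloseds Z => (x : Set Z)) h)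
    let l : LTSeries (IrreducibleCloseds Z) :=
      ((RelSeries.singleton _ c).cons b (by simpa using hbc)).cons a (by simpa using hab)
    have hl : l.length = 2 := by simp [l]
    have h2 : (2 : WithBot ℕ∞) ≤ topologicalKrullDim Z := by
      have := Order.LTSeries.length_le_krullDim l
      rw [hl] at this
      exact_mod_cast this
    have h3 : (2 : WithBot ℕ∞) ≤ 1 := h2.trans hdim
    exact absurd h3 (by decide)
  by_cases hc1 : closure ({t₁} : Set Z) = T
  · by_cases hc2 : closure ({t₂} : Set Z) = T
    · have : Inseparable t₁ t₂ := by
        rw [inseparable_iff_closure_eq, hc1, hc2]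
      exact hne12 this.eq
    · exact key t₂ h₂ hc2
  · exact key t₁ h₁ hc1

theorem finite_of_isClosed_ne_univ {Z : Type*} [TopologicalSpace Z] [T0Space Z]
    [IrreducibleSpace Z] [NoetherianSpace Z] (hdim : topologicalKrullDim Z ≤ 1) (T : Set Z)
    (hTc : IsClosed T) (hne : T ≠ Set.univ) : T.Finite := by
  obtain ⟨S, hSf, hSc, hSi, rfl⟩ := NoetherianSpace.exists_finite_set_isClosed_irreducible hTc
  refine Set.Finite.sUnion hSf fun t ht => ?_
  refine (subsingleton_of_isIrreducible_isClosed_ne_univ hdim t (hSi t ht) (hSc t ht) ?_).finite
  intro h
  apply hne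
  apply Set.eq_univ_of_univ_subset
  rw [← h]
  exact Set.subset_sUnion_of_mem ht

theorem finite_preimage_singleton {Z C : Type*} [TopologicalSpace Z] [TopologicalSpace C]
    [T0Space Z] [IrreducibleSpace Z] [NoetherianSpace Z] (hdim : topologicalKrullDim Z ≤ 1)
    [Nontrivial C] (π : Z → C) (hπ : Continuous π) (hcl : IsClosedMap π)
    (hsurj : Function.Surjective π) (c : C) : (π ⁻¹' {c}).Finite := by
  by_cases hT : π ⁻¹' (closure {c}) = Set.univ
  · -- `c` is generic; the fibre consists of generic points of `Z`
    apply Set.Subsingleton.finite
    have hgen : ∀ z ∈ π ⁻¹' {c}, closure ({z} : Set Z) = Set.univ := by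
      intro z hz
      by_contra hzne
      have hsub := subsingleton_of_isIrreducible_isClosed_ne_univ hdim (closure {z})
        isIrreducible_singleton.closure isClosed_closure hzne
      have hz1 : closure ({z} : Set Z) = {z} :=
        Set.Subsingleton.eq_singleton_of_mem hsub (subset_closure rfl)
      have hcl1 : IsClosed (π '' {z}) := hcl _ (hz1 ▸ isClosed_closure)
      rw [Set.image_singleton, show π z = c from hz] at hcl1
      have hcu : ({c} : Set C) = Set.univ := by
        rw [← hcl1.closure_eq]
        apply Set.eq_univ_of_univ_subset
        rw [← Set.image_univ_of_surjective hsurj, ← hT]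
        exact Set.image_preimage_subset _ _
      obtain ⟨c', hc'⟩ := exists_ne c
      have : c' ∈ ({c} : Set C) := hcu ▸ Set.mem_univ c'
      exact hc' this
    intro z₁ h₁ z₂ h₂
    have : Inseparable z₁ z₂ := by
      rw [inseparable_iff_closure_eq, hgen z₁ h₁, hgen z₂ h₂]
    exact this.eq
  · have hfin := finite_of_isClosed_ne_univ hdim _ (isClosed_closure.preimage hπ) hT
    exact hfin.subset (Set.preimage_mono subset_closure)

end Groth.Agent.Lib.helper17.CurveFinite
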