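import Mathlib
import Groth.Prelude.Def_Curv2
import Groth.Agent.Lib.Helper17.CplBranch

/-!
# Invariance of the δ-invariant under "dense" or "ind-smooth" flat local extensions (helper17)

* `deltaInv_eq_of_iso`: if `A → B` is flat local with `m_A B = m_B`, `B ⊗ Frac A = Frac B` and
  `B ⊗ N(A) → N(B ⊗ Frac A)` surjective, then `δ(B) = δ(A)`.
* `isLocalization_away_iff_isFractionRing`, `isFractionRing_tensor`: in dimension `≤ 1` the total
  fraction ring is `A[1/t]` for any nonzerodivisor `t` in the maximal ideal.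
* `exists_nonZeroDivisor_mem_maximalIdeal`.
* `dvd_of_scaleRoots_eval_eq_zero`, `hd_integralClosure`, `contraction_of_faithfullyFlat`,
  `toIntegralClosure_surjective_of_dense`: the approximation argument showing that
  `B ⊗ N(A)` is integrally closed in `B ⊗ Frac A` when `A/t^k → B/t^k` is surjective for all `k`.
* `deltaInv_eq_of_surj`, `deltaInv_eq_of_dense`: the two packaged forms.
-/

set_option autoImplicit false
set_option linter.style.haveILetI false
universe u

namespace Groth.Agent.Lib.helper17.DeltaBC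


open IsLocalRing
open scoped TensorProduct

theorem deltaInv_eq_of_iso (A B : Type u) [CommRing A] [IsLocalRing A] [CommRing B] [IsLocalRing B]
    [Algebra A B] [IsLocalHom (algebraMap A B)] [Module.Flat A B]
    (hm : (maximalIdeal A).map (algebraMap A B) = maximalIdeal B)
    (hfrac : IsFractionRing B (B ⊗[A] FractionRing A))
    (hsurj : Function.Surjective (TensorProduct.toIntegralClosure A B (FractionRing A))) :
    Curv2.deltaInv B = Curv2.deltaInv A := by
  classical
  have hbij : Function.Bijective (TensorProduct.toIntegralClosure A B (FractionRing A)) :=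
    ⟨TensorProduct.toIntegralClosure_injective_of_flat, hsurj⟩
  -- the iso `B ⊗ N(A) ≃ N(B)`
  let e₀ : (B ⊗[A] FractionRing A) ≃ₐ[B] FractionRing B :=
    (FractionRing.algEquiv B (B ⊗[A] FractionRing A)).symm
  let Ξ : B ⊗[A] integralClosure A (FractionRing A) ≃ₐ[B] integralClosure B (FractionRing B) :=
    (AlgEquiv.ofBijective _ hbij).trans e₀.mapIntegralClosure
  -- right exactness
  let f : A →ₗ[A] integralClosure A (FractionRing A) :=
    Algebra.linearMap A (integralClosure A (FractionRing A))
  have hex : Function.Exact f (LinearMap.range f).mkQ := LinearMap.exact_map_mkQ_range f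
  have hexB : Function.Exact (f.baseChange B) ((LinearMap.range f).mkQ.baseChange B) :=
    lTensor_exact B hex (Submodule.mkQ_surjective _)
  have hsurjB : Function.Surjective ((LinearMap.range f).mkQ.baseChange B) :=
    LinearMap.lTensor_surjective B (Submodule.mkQ_surjective _)
  let e1 := hexB.linearEquivOfSurjective hsurjB
  have hrange : LinearMap.range (f.baseChange B) =
      LinearMap.range (Algebra.linearMap B (B ⊗[A] integralClosure A (FractionRing A))) := by
    apply le_antisymm
    · rintro _ ⟨x, rfl⟩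
      induction x using TensorProduct.induction_on with
      | zero => simp
      | tmul b a =>
        refine ⟨a • b, ?_⟩
        simp only [Algebra.linearMap_apply, LinearMap.baseChange_tmul, f]
        rw [Algebra.TensorProduct.algebraMap_apply, Algebra.algebraMap_self, RingHom.id_apply,
          Algebra.algebraMap_eq_smul_one, TensorProduct.tmul_smul, TensorProduct.smul_tmul']
      | add x y hx hy =>
        rw [map_add]
        exact Submodule.add_mem _ hx hy
    · rintro _ ⟨b, rfl⟩
      refine ⟨b ⊗ₜ[A] (1 : A), ?_⟩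
      simp only [Algebra.linearMap_apply, LinearMap.baseChange_tmul, f, map_one]
      rfl
  have hmapΞ : (LinearMap.range (Algebra.linearMap B (integralClosure B (FractionRing B)))).map
      (Ξ.symm.toLinearEquiv : integralClosure B (FractionRing B) →ₗ[B] _) =
      LinearMap.range (Algebra.linearMap B (B ⊗[A] integralClosure A (FractionRing A))) := by
    ext y
    constructor
    · rintro ⟨_, ⟨b, rfl⟩, rfl⟩
      refine ⟨b, ?_⟩
      simp
    · rintro ⟨b, rfl⟩
      refine ⟨algebraMap B _ b, ⟨b, rfl⟩, ?_⟩
      simp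
  let e2 := Submodule.Quotient.equiv _ _ Ξ.symm.toLinearEquiv hmapΞ
  let e3 := Submodule.quotEquivOfEq _ _ hrange.symm
  unfold Curv2.deltaInv
  rw [(e2.trans (e3.trans e1)).length_eq, IsLocalRing.length_baseChange, hm]
  haveI : IsSimpleModule B (B ⧸ maximalIdeal B) :=
    isSimpleModule_iff_quot_maximal.2 ⟨maximalIdeal B, inferInstance, ⟨LinearEquiv.refl _ _⟩⟩
  rw [Module.length_eq_one (R := B) (M := B ⧸ maximalIdeal B), mul_one]



open IsLocalRing
open scoped TensorProduct

theorem isLocalization_away_iff_isFractionRing {R : Type u} [CommRing R] [IsLocalRing R]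
    (hdim : ringKrullDim R ≤ 1) (t : R) (ht : t ∈ maximalIdeal R) (htn : t ∈ nonZeroDivisors R)
    (K : Type u) [CommRing K] [Algebra R K] :
    IsLocalization (Submonoid.powers t) K ↔ IsFractionRing R K := by
  refine IsLocalization.iff_of_le_of_exists_dvd _ (nonZeroDivisors R)
    (Submonoid.powers_le.2 htn) (fun n hn => ?_)
  have hrad : t ∈ (Ideal.span {n}).radical := by
    rw [Ideal.radical_eq_sInf, Ideal.mem_sInf]
    rintro P ⟨hnP, hP⟩
    have hnP' : n ∈ P := hnP (Ideal.subset_span rfl)
    by_cases hPm : P = maximalIdeal R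
    · rw [hPm]; exact ht
    · exfalso
      obtain ⟨P', hP', hP'P⟩ := Ideal.exists_minimalPrimes_le (I := ⊥) (J := P) bot_le
      by_cases heq : P' = P
      · rw [heq] at hP'
        exact Set.disjoint_left.1 (Ideal.disjoint_nonZeroDivisors_of_mem_minimalPrimes hP')
          hnP' hn
      · exact CplBranch.false_of_chain hdim P' P (maximalIdeal R) hP'.1.1 hP
          (maximalIdeal.isMaximal R).isPrime (lt_of_le_of_ne hP'P heq)
          (lt_of_le_of_ne (IsLocalRing.le_maximalIdeal hP.ne_top) hPm)
  obtain ⟨N, hN⟩ := hrad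
  exact ⟨t ^ N, ⟨N, rfl⟩, Ideal.mem_span_singleton.1 hN⟩

theorem isFractionRing_tensor (A B : Type u) [CommRing A] [IsLocalRing A] [CommRing B]
    [IsLocalRing B] [Algebra A B] [IsLocalHom (algebraMap A B)] [Module.Flat A B]
    (hdimA : ringKrullDim A ≤ 1) (hdimB : ringKrullDim B ≤ 1) (t : A)
    (ht : t ∈ maximalIdeal A) (htn : t ∈ nonZeroDivisors A) :
    IsFractionRing B (B ⊗[A] FractionRing A) := by
  haveI h1 : IsLocalization (Submonoid.powers t) (FractionRing A) :=
    (isLocalization_away_iff_isFractionRing hdimA t ht htn _).2 inferInstance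
  have h2 : IsLocalization (Algebra.algebraMapSubmonoid B (Submonoid.powers t))
      (B ⊗[A] FractionRing A) := inferInstance
  have h3 : Algebra.algebraMapSubmonoid B (Submonoid.powers t) =
      Submonoid.powers (algebraMap A B t) := by
    unfold Algebra.algebraMapSubmonoid
    rw [Submonoid.map_powers]
  rw [h3] at h2
  have hmapm : (maximalIdeal A).map (algebraMap A B) ≤ maximalIdeal B :=
    ((IsLocalRing.local_hom_TFAE (algebraMap A B)).out 0 2).1 ‹IsLocalHom (algebraMap A B)›
  have ht' : algebraMap A B t ∈ maximalIdeal B := hmapm (Ideal.mem_map_of_mem _ ht)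
  have htn' : algebraMap A B t ∈ nonZeroDivisors B := by
    have hreg : IsSMulRegular A t := by
      intro x y hxy
      simp only [smul_eq_mul] at hxy
      exact (mul_cancel_left_mem_nonZeroDivisors htn).1 hxy
    have h4 := hreg.of_flat (S := B)
    rw [mem_nonZeroDivisors_iff]
    refine ⟨fun x hx => h4.right_eq_zero_of_smul (by rw [smul_eq_mul]; exact hx),
      fun x hx => h4.right_eq_zero_of_smul (by rw [smul_eq_mul, mul_comm]; exact hx)⟩
  exact (isLocalization_away_iff_isFractionRing hdimB _ ht' htn' _).1 h2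



open IsLocalRing

theorem exists_nonZeroDivisor_mem_maximalIdeal (A : Type u) [CommRing A] [IsLocalRing A]
    [IsNoetherianRing A] [IsReduced A] (hdim : ringKrullDim A = 1) :
    ∃ t ∈ maximalIdeal A, t ∈ nonZeroDivisors A := by
  classical
  have hfin : (minimalPrimes A).Finite := minimalPrimes.finite_of_isNoetherianRing A
  -- the maximal ideal is not a minimal prime
  have hnotmin : maximalIdeal A ∉ minimalPrimes A := by
    intro hmin
    have h1 : ((1 : ℕ) : WithBot ℕ∞) ≤ ringKrullDim A := by rw [hdim]; rfl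
    obtain ⟨l, hl⟩ := Order.le_krullDim_iff.1 h1
    have h2 : l ⟨0, by omega⟩ < l ⟨1, by omega⟩ := l.strictMono (by simp [Fin.lt_def])
    have h3 : (l ⟨1, by omega⟩).asIdeal ≤ maximalIdeal A :=
      IsLocalRing.le_maximalIdeal (l ⟨1, by omega⟩).isPrime.ne_top
    have h4 : (l ⟨0, by omega⟩).asIdeal < maximalIdeal A := lt_of_lt_of_le h2 h3
    have h5 := hmin.2 ⟨(l ⟨0, by omega⟩).isPrime, bot_le⟩ h4.le
    exact absurd h5 (not_le_of_gt h4)
  have hnot : ¬ ((maximalIdeal A : Set A) ⊆ ⋃ p ∈ (hfin.toFinset : Set (Ideal A)), (p : Set A)) := by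
    intro h
    rw [Ideal.subset_union_prime (R := A) (f := fun p : Ideal A => p) ⊥ ⊥
      (fun p hp _ _ => ((hfin.mem_toFinset).1 hp).1.1)] at h
    obtain ⟨p, hp, hmp⟩ := h
    have hp' : p ∈ minimalPrimes A := (hfin.mem_toFinset).1 hp
    have : p = maximalIdeal A :=
      le_antisymm (IsLocalRing.le_maximalIdeal hp'.1.1.ne_top) hmp
    exact hnotmin (this ▸ hp')
  obtain ⟨t, htm, htn⟩ := Set.not_subset.1 hnot
  refine ⟨t, htm, ?_⟩
  have ht : ∀ p ∈ minimalPrimes A, t ∉ p := by
    intro p hp htp
    apply htn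
    simp only [Set.mem_iUnion]
    exact ⟨p, (hfin.mem_toFinset).2 hp, htp⟩
  have key : ∀ y : A, t * y = 0 → y = 0 := by
    intro y hy
    have h1 : y ∈ sInf (minimalPrimes A) := by
      rw [Ideal.mem_sInf]
      intro p hp
      have : t * y ∈ p := by rw [hy]; exact p.zero_mem
      exact (hp.1.1.mem_or_mem this).resolve_left (ht p hp)
    have h2 : sInf (minimalPrimes A) = nilradical A := by
      rw [minimalPrimes, Ideal.sInf_minimalPrimes]
      rfl
    rw [h2, nilradical_eq_zero] at h1
    exact h1
  rw [mem_nonZeroDivisors_iff]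
  exact ⟨key, fun y hy => key y (by rw [mul_comm]; exact hy)⟩



open Polynomial

/-- normality passes to a "dense, faithfully flat" extension (approximation argument). -/
theorem dvd_of_scaleRoots_eval_eq_zero {A' C : Type u} [CommRing A'] [CommRing C] (φ : A' →+* C)
    (t : A')
    (hb : ∀ (k : ℕ) (c : C), ∃ (a : A') (c' : C), c = φ a + φ t ^ k * c')
    (hc : ∀ (j : ℕ) (a : A') (c : C), φ a = φ t ^ j * c → ∃ a', a = t ^ j * a')
    (hd : ∀ (n : ℕ) (p : A'[X]) (a e : A'), p.Monic → 0 < p.natDegree →
      (p.scaleRoots (t ^ n)).eval a = t ^ (n * p.natDegree) * e → ∃ a', a = t ^ n * a')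
    (n : ℕ) (q : C[X]) (hq : q.Monic) (hq0 : 0 < q.natDegree) (c : C)
    (hqc : (q.scaleRoots (φ t ^ n)).eval c = 0) :
    ∃ c', c = φ t ^ n * c' := by
  classical
  obtain ⟨k, hk⟩ : ∃ k, k = n * q.natDegree + n := ⟨_, rfl⟩
  obtain ⟨a, c', hac⟩ := hb k c
  -- lift `q` modulo `t ^ k`
  have hψsurj : Function.Surjective
      ((Ideal.Quotient.mk (Ideal.span {φ t ^ k})).comp φ) := by
    intro y
    obtain ⟨y, rfl⟩ := Ideal.Quotient.mk_surjective y
    obtain ⟨a₁, c₁, h1⟩ := hb k y
    refine ⟨a₁, ?_⟩
    rw [RingHom.comp_apply, Ideal.Quotient.mk_eq_mk_iff_sub_mem, h1]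
    have : φ a₁ - (φ a₁ + φ t ^ k * c₁) = -(φ t ^ k * c₁) := by ring
    rw [this]
    exact Ideal.neg_mem_iff _ |>.2 (Ideal.mul_mem_right _ _ (Ideal.subset_span rfl))
  have hπc : Ideal.Quotient.mk (Ideal.span {φ t ^ k}) c =
      (Ideal.Quotient.mk (Ideal.span {φ t ^ k})).comp φ a := by
    rw [RingHom.comp_apply, Ideal.Quotient.mk_eq_mk_iff_sub_mem, hac]
    have : φ a + φ t ^ k * c' - φ a = φ t ^ k * c' := by ring
    rw [this]
    exact Ideal.mul_mem_right _ _ (Ideal.subset_span rfl)
  have hmem : ∀ E : A', (Ideal.Quotient.mk (Ideal.span {φ t ^ k})).comp φ E = 0 →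
      ∃ e', E = t ^ k * e' := by
    intro E hE
    rw [RingHom.comp_apply, Ideal.Quotient.eq_zero_iff_mem, Ideal.mem_span_singleton'] at hE
    obtain ⟨c₂, hc₂⟩ := hE
    exact hc k E c₂ (by rw [← hc₂, mul_comm])
  obtain ⟨p, hp1, hp2, hp3⟩ := Polynomial.lifts_and_natDegree_eq_and_monic
    (p := q.map (Ideal.Quotient.mk (Ideal.span {φ t ^ k})))
    (Polynomial.mem_lifts_of_surjective hψsurj _) (hq.map _)
  rcases subsingleton_or_nontrivial (C ⧸ Ideal.span {φ t ^ k}) with hs | hnt
  · -- degenerate case: `φ t` is a unit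
    have h1 : (1 : C) ∈ Ideal.span {φ t ^ k} := by
      rw [← Ideal.Quotient.eq_zero_iff_mem]
      exact Subsingleton.elim _ _
    obtain ⟨u, hu⟩ := Ideal.mem_span_singleton'.1 h1
    refine ⟨φ t ^ (n * q.natDegree) * u * c, ?_⟩
    have : φ t ^ n * (φ t ^ (n * q.natDegree) * u * c) = (u * φ t ^ k) * c := by
      rw [hk]; ring
    rw [this, hu, one_mul]
  have hEzero : (Ideal.Quotient.mk (Ideal.span {φ t ^ k})).comp φ
      ((p.scaleRoots (t ^ n)).eval a) = 0 := by
    rw [← Polynomial.eval_map_apply, Polynomial.map_scaleRoots _ _ _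
      (by rw [hp3.leadingCoeff, map_one]; exact one_ne_zero), hp1, ← hπc]
    have h2 : ((Ideal.Quotient.mk (Ideal.span {φ t ^ k})).comp φ) (t ^ n) =
        Ideal.Quotient.mk (Ideal.span {φ t ^ k}) (φ t ^ n) := by
      rw [RingHom.comp_apply, map_pow]
    rw [h2, ← Polynomial.map_scaleRoots _ _ _
        (by rw [hq.leadingCoeff, map_one]; exact one_ne_zero),
      Polynomial.eval_map_apply, hqc, map_zero]
  obtain ⟨e', he'⟩ := hmem _ hEzero
  have hpdeg : p.natDegree = q.natDegree := by
    rw [hp2]
    exact hq.natDegree_map _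
  obtain ⟨a', ha'⟩ := hd n p a (t ^ n * e') hp3 (hpdeg ▸ hq0) (by
    rw [he', hk, hpdeg]
    ring)
  refine ⟨φ a' + φ t ^ (n * q.natDegree) * c', ?_⟩
  rw [hac, ha', hk, map_mul, map_pow]
  ring



open Polynomial

/-- the integral closure of `A` in its total fraction ring is "integrally closed with respect to
`t`-denominators". -/
theorem hd_integralClosure (A : Type u) [CommRing A] (t : A) (ht : t ∈ nonZeroDivisors A)
    (n : ℕ) (p : (integralClosure A (FractionRing A))[X])
    (a e : integralClosure A (FractionRing A)) (hp : p.Monic) (hp0 : 0 < p.natDegree)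
    (h : (p.scaleRoots (algebraMap A (integralClosure A (FractionRing A)) t ^ n)).eval a =
      algebraMap A (integralClosure A (FractionRing A)) t ^ (n * p.natDegree) * e) :
    ∃ a', a = algebraMap A (integralClosure A (FractionRing A)) t ^ n * a' := by
  classical
  have hu : IsUnit (algebraMap A (FractionRing A) t) :=
    IsLocalization.map_units (FractionRing A) (⟨t, ht⟩ : nonZeroDivisors A)
  obtain ⟨u, hu⟩ := hu
  -- notation
  let f : integralClosure A (FractionRing A) →+* FractionRing A :=
    (integralClosure A (FractionRing A)).val.toRingHom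
  have hft : f (algebraMap A (integralClosure A (FractionRing A)) t) = (u : FractionRing A) := by
    rw [hu]; rfl
  let y : FractionRing A := (↑(u⁻¹ ^ n) : FractionRing A) * f a
  have hy : f a = f (algebraMap A (integralClosure A (FractionRing A)) t ^ n) * y := by
    rw [map_pow, hft]
    simp only [y]
    rw [← mul_assoc, ← Units.val_pow_eq_pow_val, ← Units.val_mul, ← mul_pow, mul_inv_cancel,
      one_pow, Units.val_one, one_mul]
  -- evaluate
  have h1 : eval₂ f (f a) (p.scaleRoots (algebraMap A (integralClosure A (FractionRing A)) t ^ n))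
      = f (algebraMap A (integralClosure A (FractionRing A)) t ^ (n * p.natDegree) * e) := by
    rw [← h, Polynomial.eval₂_at_apply]
  rw [hy, Polynomial.scaleRoots_eval₂_mul, map_mul, map_pow, map_pow, hft, ← pow_mul] at h1
  have h2 : eval₂ f y p = f e := by
    have hunit : IsUnit ((u : FractionRing A) ^ (n * p.natDegree)) := (u.isUnit).pow _
    exact hunit.mul_left_cancel h1
  -- `y` is integral over the integral closure, hence over `A`
  have hyint : IsIntegral (integralClosure A (FractionRing A)) y := by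
    refine ⟨p - C e, ?_, ?_⟩
    · refine Polynomial.Monic.sub_of_left hp ?_
      exact lt_of_le_of_lt Polynomial.degree_C_le (Polynomial.natDegree_pos_iff_degree_pos.1 hp0)
    · rw [Polynomial.eval₂_sub, Polynomial.eval₂_C]
      show eval₂ f y p - f e = 0
      rw [h2, sub_self]
  have hyA : IsIntegral A y := isIntegral_trans (A := integralClosure A (FractionRing A)) y hyint
  refine ⟨⟨y, hyA⟩, ?_⟩
  apply Subtype.ext
  show f a = f (algebraMap A (integralClosure A (FractionRing A)) t ^ n * ⟨y, hyA⟩)
  rw [map_mul]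
  exact hy



open Polynomial
open scoped TensorProduct

theorem contraction_of_faithfullyFlat (A B N : Type u) [CommRing A] [CommRing B] [Algebra A B]
    [Module.FaithfullyFlat A B] [AddCommGroup N] [Module A N] (s : A) (a : N) (c : B ⊗[A] N)
    (h : (1 : B) ⊗ₜ[A] a = s • c) : ∃ a', a = s • a' := by
  let P : Submodule A N := LinearMap.range (LinearMap.lsmul A N s)
  have hkill : ∀ z : B ⊗[A] (N ⧸ P), s • z = 0 := by
    intro z
    induction z using TensorProduct.induction_on with
    | zero => exact smul_zero _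
    | tmul b m =>
      obtain ⟨n, rfl⟩ := P.mkQ_surjective m
      rw [← TensorProduct.tmul_smul, ← map_smul]
      have : P.mkQ (s • n) = 0 := by
        rw [Submodule.mkQ_apply, Submodule.Quotient.mk_eq_zero]
        exact ⟨n, rfl⟩
      rw [this, TensorProduct.tmul_zero]
    | add x y hx hy => rw [smul_add, hx, hy, add_zero]
  have h1 : (P.mkQ.lTensor B) ((1 : B) ⊗ₜ[A] a) = 0 := by
    rw [h, map_smul]
    exact hkill _
  rw [LinearMap.lTensor_tmul] at h1
  have h2 : P.mkQ a = 0 := by
    have hinj := Module.FaithfullyFlat.tensorProduct_mk_injective (A := A) (B := B) (N ⧸ P)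
    apply hinj
    rw [TensorProduct.mk_apply, h1, map_zero]
  rw [Submodule.mkQ_apply, Submodule.Quotient.mk_eq_zero] at h2
  obtain ⟨a', ha'⟩ := h2
  exact ⟨a', ha'.symm⟩


theorem toIntegralClosure_surjective_of_dense (A B : Type u) [CommRing A] [CommRing B]
    [Algebra A B] [Module.FaithfullyFlat A B] (t : A) (ht : t ∈ nonZeroDivisors A)
    [IsLocalization (Submonoid.powers t) (FractionRing A)]
    (hdense : ∀ (k : ℕ) (b : B), ∃ (a : A) (b' : B),
      b = algebraMap A B a + algebraMap A B t ^ k * b') :
    Function.Surjective (TensorProduct.toIntegralClosure A B (FractionRing A)) := by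
  classical
  -- notation
  let t' : integralClosure A (FractionRing A) := algebraMap A _ t
  let φ : integralClosure A (FractionRing A) →+* B ⊗[A] integralClosure A (FractionRing A) :=
    (Algebra.TensorProduct.includeRight (R := A) (A := B)
      (B := integralClosure A (FractionRing A))).toRingHom
  let j : B ⊗[A] integralClosure A (FractionRing A) →ₐ[B] B ⊗[A] FractionRing A :=
    Algebra.TensorProduct.map (.id B B) (integralClosure A (FractionRing A)).val
  have hjinj : Function.Injective j :=
    Module.Flat.lTensor_preserves_injective_linearMap (M := B)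
      (integralClosure A (FractionRing A)).val.toLinearMap Subtype.val_injective
  have hφt : ∀ k : ℕ, φ t' ^ k = algebraMap B (B ⊗[A] integralClosure A (FractionRing A))
      (algebraMap A B t ^ k) := by
    intro k
    rw [← map_pow, ← map_pow, ← map_pow]
    show (1 : B) ⊗ₜ[A] (algebraMap A (integralClosure A (FractionRing A)) (t ^ k)) = _
    rw [Algebra.TensorProduct.algebraMap_apply, Algebra.algebraMap_self, RingHom.id_apply,
      Algebra.algebraMap_eq_smul_one, Algebra.algebraMap_eq_smul_one (A := B), TensorProduct.tmul_smul,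
      TensorProduct.smul_tmul']
  have hφt' : ∀ (k : ℕ) (c : B ⊗[A] integralClosure A (FractionRing A)),
      φ t' ^ k * c = (t ^ k) • c := by
    intro k c
    rw [hφt, ← map_pow, ← IsScalarTower.algebraMap_apply, ← Algebra.smul_def]
  -- the three hypotheses of the approximation lemma
  have hb : ∀ (k : ℕ) (c : B ⊗[A] integralClosure A (FractionRing A)),
      ∃ (a : integralClosure A (FractionRing A)) (c' : B ⊗[A] integralClosure A (FractionRing A)),
        c = φ a + φ t' ^ k * c' := by
    intro k c
    induction c using TensorProduct.induction_on with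
    | zero => exact ⟨0, 0, by simp⟩
    | tmul b m =>
      obtain ⟨a₀, b', hb'⟩ := hdense k b
      refine ⟨a₀ • m, b' ⊗ₜ[A] m, ?_⟩
      rw [hφt, hb', TensorProduct.add_tmul]
      congr 1
      · show _ = (1 : B) ⊗ₜ[A] (a₀ • m)
        rw [TensorProduct.tmul_smul, TensorProduct.smul_tmul', Algebra.algebraMap_eq_smul_one]
      · rw [Algebra.TensorProduct.algebraMap_apply, Algebra.algebraMap_self, RingHom.id_apply,
          Algebra.TensorProduct.tmul_mul_tmul, one_mul]
    | add x y hx hy =>
      obtain ⟨a₁, c₁, h1⟩ := hx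
      obtain ⟨a₂, c₂, h2⟩ := hy
      refine ⟨a₁ + a₂, c₁ + c₂, ?_⟩
      rw [h1, h2, map_add]
      ring
  have hc : ∀ (i : ℕ) (a : integralClosure A (FractionRing A))
      (c : B ⊗[A] integralClosure A (FractionRing A)), φ a = φ t' ^ i * c →
      ∃ a', a = t' ^ i * a' := by
    intro i a c h
    rw [hφt'] at h
    obtain ⟨a', ha'⟩ := contraction_of_faithfullyFlat A B _ (t ^ i) a c h
    refine ⟨a', ?_⟩
    rw [ha', Algebra.smul_def, map_pow]
  have hd := hd_integralClosure A t ht
  -- main argument
  rintro ⟨x, hx⟩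
  rcases subsingleton_or_nontrivial (B ⊗[A] integralClosure A (FractionRing A)) with hs | hnt
  · haveI : Subsingleton (B ⊗[A] FractionRing A) := by
      refine subsingleton_of_zero_eq_one ?_
      rw [← map_zero j, ← map_one j]
      congr 1
      exact Subsingleton.elim _ _
    exact ⟨0, Subsingleton.elim _ _⟩
  obtain ⟨q₀, hq₀, hq₀x⟩ := hx
  haveI : Nontrivial B :=
    (algebraMap B (B ⊗[A] integralClosure A (FractionRing A))).domain_nontrivial
  -- clear denominators
  haveI hloc : IsLocalization (Algebra.algebraMapSubmonoid B (Submonoid.powers t))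
      (B ⊗[A] FractionRing A) := inferInstance
  obtain ⟨⟨b, s⟩, hbs⟩ := IsLocalization.surj
    (Algebra.algebraMapSubmonoid B (Submonoid.powers t)) x
  obtain ⟨_, ⟨n, rfl⟩, hs⟩ := s.2
  simp only at hbs
  rw [← hs, map_pow] at hbs
  -- the polynomial
  let q : (B ⊗[A] integralClosure A (FractionRing A))[X] :=
    (q₀ * X).map (algebraMap B (B ⊗[A] integralClosure A (FractionRing A)))
  have hqmonic : q.Monic := (hq₀.mul monic_X).map _
  have hqdeg : 0 < q.natDegree := by
    rw [(hq₀.mul monic_X).natDegree_map, hq₀.natDegree_mul monic_X, natDegree_X]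
    omega
  let c : B ⊗[A] integralClosure A (FractionRing A) := algebraMap B _ b
  have hjc : j c = j (φ t' ^ n) * x := by
    rw [hφt, mul_comm]
    simp only [c, AlgHom.commutes]
    rw [← hbs, map_pow]
  have hqx : eval₂ j.toRingHom x q = 0 := by
    simp only [q]
    rw [Polynomial.eval₂_map]
    have : j.toRingHom.comp
        (algebraMap B (B ⊗[A] integralClosure A (FractionRing A))) =
        algebraMap B (B ⊗[A] FractionRing A) := by
      ext y
      simp
    rw [this, Polynomial.eval₂_mul, hq₀x, zero_mul]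
  have hqc : (q.scaleRoots (φ t' ^ n)).eval c = 0 := by
    apply hjinj
    rw [map_zero]
    have h1 := Polynomial.scaleRoots_eval₂_mul (p := q) j.toRingHom x
      (φ t' ^ n)
    rw [hqx, mul_zero] at h1
    rw [← h1]
    show j.toRingHom _ = _
    rw [← Polynomial.eval₂_at_apply]
    congr 1
  obtain ⟨c', hc'⟩ := dvd_of_scaleRoots_eval_eq_zero φ t' hb hc hd n q hqmonic hqdeg c hqc
  refine ⟨c', ?_⟩
  apply Subtype.ext
  show j c' = x
  have hunit : IsUnit (j (φ t' ^ n)) := by
    rw [hφt]
    simp only [AlgHom.commutes]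
    exact IsLocalization.map_units (B ⊗[A] FractionRing A)
      (⟨algebraMap A B t ^ n, ⟨t ^ n, ⟨n, rfl⟩, by rw [map_pow]⟩⟩ :
        Algebra.algebraMapSubmonoid B (Submonoid.powers t))
  apply hunit.mul_left_cancel
  rw [← hjc, hc', map_mul]


theorem maximalIdeal_le_radical_span {R : Type u} [CommRing R] [IsLocalRing R]
    (hdim : ringKrullDim R ≤ 1) (n : R) (hn : n ∈ nonZeroDivisors R) :
    maximalIdeal R ≤ (Ideal.span {n}).radical := by
  intro t ht
  rw [Ideal.radical_eq_sInf, Ideal.mem_sInf]
  rintro P ⟨hnP, hP⟩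
  have hnP' : n ∈ P := hnP (Ideal.subset_span rfl)
  by_cases hPm : P = maximalIdeal R
  · rw [hPm]; exact ht
  · exfalso
    obtain ⟨P', hP', hP'P⟩ := Ideal.exists_minimalPrimes_le (I := ⊥) (J := P) bot_le
    by_cases heq : P' = P
    · rw [heq] at hP'
      exact Set.disjoint_left.1 (Ideal.disjoint_nonZeroDivisors_of_mem_minimalPrimes hP')
        hnP' hn
    · exact CplBranch.false_of_chain hdim P' P (maximalIdeal R) hP'.1.1 hP
        (maximalIdeal.isMaximal R).isPrime (lt_of_le_of_ne hP'P heq)
        (lt_of_le_of_ne (IsLocalRing.le_maximalIdeal hP.ne_top) hPm)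

/-- packaged form 1: surjectivity of the comparison map is given. -/
theorem deltaInv_eq_of_surj (A B : Type u) [CommRing A] [IsLocalRing A] [CommRing B]
    [IsLocalRing B] [Algebra A B] [IsLocalHom (algebraMap A B)] [Module.Flat A B]
    (hdimA : ringKrullDim A ≤ 1) (hdimB : ringKrullDim B ≤ 1) (t : A)
    (ht : t ∈ maximalIdeal A) (htn : t ∈ nonZeroDivisors A)
    (hm : (maximalIdeal A).map (algebraMap A B) = maximalIdeal B)
    (hsurj : Function.Surjective (TensorProduct.toIntegralClosure A B (FractionRing A))) :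
    Curv2.deltaInv B = Curv2.deltaInv A :=
  deltaInv_eq_of_iso A B hm (isFractionRing_tensor A B hdimA hdimB t ht htn) hsurj

/-- packaged form 2: `A → B` has dense image for the `m_A`-adic topology. -/
theorem deltaInv_eq_of_dense (A B : Type u) [CommRing A] [IsLocalRing A] [IsNoetherianRing A]
    [CommRing B] [IsLocalRing B] [Algebra A B] [IsLocalHom (algebraMap A B)] [Module.Flat A B]
    (hdimA : ringKrullDim A ≤ 1) (hdimB : ringKrullDim B ≤ 1) (t : A)
    (ht : t ∈ maximalIdeal A) (htn : t ∈ nonZeroDivisors A)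
    (hm : (maximalIdeal A).map (algebraMap A B) = maximalIdeal B)
    (hdense : ∀ (r : ℕ) (b : B), ∃ a : A,
      b - algebraMap A B a ∈ (maximalIdeal A ^ r).map (algebraMap A B)) :
    Curv2.deltaInv B = Curv2.deltaInv A := by
  haveI : Module.FaithfullyFlat A B := Module.FaithfullyFlat.of_flat_of_isLocalHom
  haveI h1 : IsLocalization (Submonoid.powers t) (FractionRing A) :=
    (isLocalization_away_iff_isFractionRing hdimA t ht htn _).2 inferInstance
  refine deltaInv_eq_of_surj A B hdimA hdimB t ht htn hm
    (toIntegralClosure_surjective_of_dense A B t htn ?_)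
  intro k b
  have hrad : maximalIdeal A ≤ (Ideal.span {t ^ k}).radical :=
    maximalIdeal_le_radical_span hdimA (t ^ k) (pow_mem htn k)
  obtain ⟨r, hr⟩ := Ideal.exists_pow_le_of_le_radical_of_fg hrad
    (maximalIdeal A).fg_of_isNoetherianRing
  obtain ⟨a, ha⟩ := hdense r b
  have h2 := Ideal.map_mono (f := algebraMap A B) hr ha
  rw [Ideal.map_span, Set.image_singleton, map_pow, Ideal.mem_span_singleton'] at h2
  obtain ⟨b', hb'⟩ := h2
  refine ⟨a, b', ?_⟩
  rw [mul_comm, hb']
  ring

end Groth.Agent.Lib.helper17.DeltaBC
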