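import Mathlib
import Groth.Prelude.Def_Curv2
import Groth.Agent.Lib.Helper17.DeltaBC

set_option autoImplicit false
set_option linter.style.haveILetI false
universe u

namespace Groth.Agent.Lib.helper17.DeltaLe

open IsLocalRing
open scoped TensorProduct

/-- the δ-invariant can only go up along a flat local homomorphism identifying total fraction
rings -/
theorem deltaInv_le_of_flat (A B : Type u) [CommRing A] [IsLocalRing A] [CommRing B] [IsLocalRing B]
    [Algebra A B] [IsLocalHom (algebraMap A B)] [Module.Flat A B]
    (hfrac : IsFractionRing B (B ⊗[A] FractionRing A)) :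
    Curv2.deltaInv A ≤ Curv2.deltaInv B := by
  classical
  have hinj : Function.Injective (TensorProduct.toIntegralClosure A B (FractionRing A)) :=
    TensorProduct.toIntegralClosure_injective_of_flat
  let e₀ : (B ⊗[A] FractionRing A) ≃ₐ[B] FractionRing B :=
    (FractionRing.algEquiv B (B ⊗[A] FractionRing A)).symm
  let Ξ : B ⊗[A] integralClosure A (FractionRing A) →ₐ[B] integralClosure B (FractionRing B) :=
    (e₀.mapIntegralClosure : _ →ₐ[B] _).comp (TensorProduct.toIntegralClosure A B (FractionRing A))
  have hΞ : Function.Injective Ξ := e₀.mapIntegralClosure.injective.comp hinj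
  -- right exactness
  let f : A →ₗ[A] integralClosure A (FractionRing A) :=
    Algebra.linearMap A (integralClosure A (FractionRing A))
  have hex : Function.Exact f (LinearMap.range f).mkQ := LinearMap.exact_map_mkQ_range f
  have hexB : Function.Exact (f.baseChange B) ((LinearMap.range f).mkQ.baseChange B) :=
    lTensor_exact B hex (Submodule.mkQ_surjective _)
  have hsurjB : Function.Surjective ((LinearMap.range f).mkQ.baseChange B) :=
    LinearMap.lTensor_surjective B (Submodule.mkQ_surjective _)
  let e1 := hexB.linearEquivOfSurjective hsurjB
  have hrange : LinearMap.range (f.baseChange B) =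
      LinearMap.range (Algebra.linearMap B (B ⊗[A] integralClosure A (FractionRing A))) := by
    apply le_antisymm
    · rintro _ ⟨x, rfl⟩
      induction x using TensorProduct.induction_on with
      | zero => simp
      | tmul b a =>
        refine ⟨a • b, ?_⟩
        simp only [Algebra.linearMap_apply, LinearMap.baseChange_tmul, f]
        rw [Algebra.TensorProduct.algebraMap_apply, Algebra.algebraMap_self, RingHom.id_apply,
          Algebra.algebraMap_eq_smul_one, TensorProduct.tmul_smul, TensorProduct.smul_tmul']
      | add x y hx hy =>
        rw [map_add]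
        exact Submodule.add_mem _ hx hy
    · rintro _ ⟨b, rfl⟩
      refine ⟨b ⊗ₜ[A] (1 : A), ?_⟩
      simp only [Algebra.linearMap_apply, LinearMap.baseChange_tmul, f, map_one]
      rfl
  let e3 := Submodule.quotEquivOfEq _ _ hrange.symm
  -- the induced map on the quotients is injective
  have hPQ : LinearMap.range (Algebra.linearMap B (B ⊗[A] integralClosure A (FractionRing A))) ≤
      (LinearMap.range (Algebra.linearMap B (integralClosure B (FractionRing B)))).comap
        Ξ.toLinearMap := by
    rintro _ ⟨b, rfl⟩
    exact ⟨b, (Ξ.commutes b).symm⟩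
  have hg : Function.Injective (Submodule.mapQ _ _ Ξ.toLinearMap hPQ) := by
    rw [injective_iff_map_eq_zero]
    intro x hx
    induction x using Submodule.Quotient.induction_on with
    | H z =>
      rw [Submodule.mapQ_apply, Submodule.Quotient.mk_eq_zero] at hx
      obtain ⟨b, hb⟩ := hx
      rw [Submodule.Quotient.mk_eq_zero]
      refine ⟨b, hΞ ?_⟩
      rw [Algebra.linearMap_apply, AlgHom.commutes]
      exact hb
  have h1 := Module.length_le_of_injective _ hg
  have hpos : (1 : ℕ∞) ≤ Module.length B (B ⧸ (maximalIdeal A).map (algebraMap A B)) := by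
    rw [Order.one_le_iff_pos, Module.length_pos_iff]
    exact Ideal.Quotient.nontrivial_iff.2 (map_maximalIdeal_lt_top (algebraMap A B)).ne
  unfold Curv2.deltaInv
  calc Module.length A (↥(integralClosure A (FractionRing A)) ⧸ LinearMap.range f)
      ≤ Module.length A (↥(integralClosure A (FractionRing A)) ⧸ LinearMap.range f) *
        Module.length B (B ⧸ (maximalIdeal A).map (algebraMap A B)) :=
        le_mul_of_one_le_right' hpos
    _ = Module.length B (B ⊗[A] (↥(integralClosure A (FractionRing A)) ⧸ LinearMap.range f)) :=
        (IsLocalRing.length_baseChange A B _).symm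
    _ = _ := (e3.trans e1).length_eq.symm
    _ ≤ _ := h1

end Groth.Agent.Lib.helper17.DeltaLe
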