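import Mathlib
import Groth.Prelude.Def_CurvBase
import Groth.Agent.Lib.Helper17.NodalNormal
import Groth.Agent.Lib.Helper17.FibreStalk

/-!
# helper17: flatness over a Dedekind base from reduced closed fibres and a dense generic fibre

* `isSMulRegular_of_reduced_quotient`: ring-level core.
* `isNilpotent_of_dense`: if the points over the zero ideal are dense, torsion is nilpotent.
* `flat_of_reduced_fibres_of_dense`: `X` locally Noetherian over a Dedekind domain, closed fibres
  reduced, generic fibre dense; then `X` is flat.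
-/

set_option autoImplicit false
set_option linter.style.haveILetI false
universe u

namespace Groth.Agent.Lib.helper17.DvrFlat

open CategoryTheory CategoryTheory.Limits AlgebraicGeometry IsLocalRing TopologicalSpace
open Groth.Agent.Lib.helper17.NodalNormal

/-- ring-level core: `p` in the maximal ideal of a Noetherian local ring `B`, `B/(p)` reduced, and
`p`-power torsion is nilpotent; then `p` is a nonzerodivisor. -/
theorem isSMulRegular_of_reduced_quotient {B : Type u} [CommRing B] [IsLocalRing B]
    [IsNoetherianRing B] (p : B) (hp : p ∈ maximalIdeal B)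
    (hred : IsReduced (B ⧸ Ideal.span {p}))
    (hnil : ∀ (t : B) (n : ℕ), p ^ n * t = 0 → IsNilpotent t) : IsSMulRegular B p := by
  have key : ∀ k : ℕ, ∀ t : B, (∃ n : ℕ, p ^ n * t = 0) → t ∈ Ideal.span {p} ^ k := by
    intro k
    induction k with
    | zero => intro t _; simp
    | succ k ih =>
      intro t ⟨n, hn⟩
      have h1 : IsNilpotent (Ideal.Quotient.mk (Ideal.span {p}) t) := (hnil t n hn).map _
      have h2 : Ideal.Quotient.mk (Ideal.span {p}) t = 0 := h1.eq_zero
      rw [Ideal.Quotient.eq_zero_iff_mem, Ideal.mem_span_singleton'] at h2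
      obtain ⟨b, hb⟩ := h2
      have hb' : ∃ m : ℕ, p ^ m * b = 0 := ⟨n + 1, by rw [pow_succ, mul_assoc, mul_comm p b, hb, hn]⟩
      have h3 := ih b hb'
      rw [pow_succ, ← hb]
      exact Ideal.mul_mem_mul h3 (Ideal.subset_span rfl)
  have hne : Ideal.span {p} ≠ ⊤ := by
    intro h
    have : Ideal.span {p} ≤ maximalIdeal B := (Ideal.span_singleton_le_iff_mem _).2 hp
    rw [h] at this
    exact (maximalIdeal.isMaximal B).ne_top (top_le_iff.mp this)
  have hz : ∀ t : B, p * t = 0 → t = 0 := by
    intro t ht
    have h1 : t ∈ ⨅ k : ℕ, Ideal.span {p} ^ k := by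
      rw [Ideal.mem_iInf]
      intro k
      exact key k t ⟨1, by rw [pow_one]; exact ht⟩
    rw [Ideal.iInf_pow_eq_bot_of_isLocalRing _ hne] at h1
    exact h1
  intro a b hab
  have : p * (a - b) = 0 := by
    have h : p • a = p • b := hab
    rw [smul_eq_mul, smul_eq_mul] at h
    rw [mul_sub, h, sub_self]
  exact sub_eq_zero.mp (hz _ this)

/-- `tau f y r` is the germ at `y` of the global function `Coh.toGlobal f r`. -/
theorem tau_apply {R : Type u} [CommRing R] {X : Scheme.{u}} (f : X ⟶ Spec (CommRingCat.of R))
    (y : X) (r : R) : tau f y r = X.presheaf.germ ⊤ y trivial (Coh.toGlobal f r) := rfl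

/-- over a point lying over the zero ideal, nonzero elements of the base ring become units. -/
theorem isUnit_tau_of_asIdeal_eq_bot {R : Type u} [CommRing R] {X : Scheme.{u}}
    (f : X ⟶ Spec (CommRingCat.of R)) (y : X) (hy : (f.base y).asIdeal = ⊥) (r : R) (hr : r ≠ 0) :
    IsUnit (tau f y r) := by
  by_contra hnu
  have h1 : tau f y r ∈ maximalIdeal (X.presheaf.stalk y) := (mem_maximalIdeal _).2 hnu
  have h2 : r ∈ (f.base y).asIdeal := by
    rw [asIdeal_apply]
    exact h1
  rw [hy] at h2
  exact hr h2

/-- if the points over the zero ideal are dense in `X`, then `r`-power torsion in the local rings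
of `X` is nilpotent (`r ≠ 0`). -/
theorem isNilpotent_of_dense {R : Type u} [CommRing R] {X : Scheme.{u}}
    (f : X ⟶ Spec (CommRingCat.of R))
    (hdense : Dense {y : X | (f.base y).asIdeal = ⊥}) (r : R) (hr : r ≠ 0) (x : X)
    (t : X.presheaf.stalk x) (n : ℕ) (ht : tau f x r ^ n * t = 0) : IsNilpotent t := by
  obtain ⟨U, hxU, a, rfl⟩ := X.presheaf.exists_germ_eq t
  set g : Γ(X, ⊤) := Coh.toGlobal f r with hg
  have h1 : X.presheaf.germ U x hxU ((X.presheaf.map (homOfLE (le_top : U ≤ ⊤)).op g) ^ n * a) =
      X.presheaf.germ U x hxU 0 := by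
    rw [map_mul, map_pow, map_zero, ← ht, tau_apply]
    congr 2
    exact TopCat.Presheaf.germ_res_apply X.presheaf (homOfLE (le_top : U ≤ ⊤)) x hxU g
  obtain ⟨W, hxW, hW, hWU, hWU2, hres⟩ :=
    TopCat.Presheaf.germ_eq_of_isBasis X.isBasis_affineOpens X.presheaf x hxU hxU h1
  rw [map_zero] at hres
  set a' : Γ(X, W) := X.presheaf.map (homOfLE hWU).op a with ha'
  set g' : Γ(X, W) := X.presheaf.map (homOfLE (le_top : W ≤ ⊤)).op g with hg'
  have hres' : g' ^ n * a' = 0 := by
    rw [← hres, map_mul, map_pow, ha', hg']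
    congr 2
    rw [← ConcreteCategory.comp_apply, ← Functor.map_comp]
    rfl
  have hbot : X.basicOpen a' = ⊥ := by
    by_contra hne
    have hne' : (X.basicOpen a' : Set X).Nonempty := by
      rw [Set.nonempty_iff_ne_empty]
      intro h
      apply hne
      ext z
      simp only [Opens.coe_bot, h]
    obtain ⟨y, hyb, hyη⟩ := hdense.inter_open_nonempty _ (X.basicOpen a').isOpen hne'
    have hyW : y ∈ W := X.basicOpen_le a' hyb
    have hu1 : IsUnit (X.presheaf.germ W y hyW a') := (X.mem_basicOpen a' y hyW).mp hyb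
    have hu2 : IsUnit (X.presheaf.germ W y hyW g') := by
      have : X.presheaf.germ W y hyW g' = tau f y r := by
        rw [tau_apply, hg']
        exact TopCat.Presheaf.germ_res_apply X.presheaf (homOfLE (le_top : W ≤ ⊤)) y hyW g
      rw [this]
      exact isUnit_tau_of_asIdeal_eq_bot f y hyη r hr
    have h0 : X.presheaf.germ W y hyW (g' ^ n * a') = 0 := by rw [hres', map_zero]
    rw [map_mul, map_pow] at h0
    have : IsUnit (0 : X.presheaf.stalk y) := h0 ▸ (hu2.pow n).mul hu1
    exact not_isUnit_zero this
  have hnil : IsNilpotent a' :=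
    (Scheme.isNilpotent_iff_basicOpen_eq_bot_of_isCompact (U := W) hW.isCompact a').mpr hbot
  have : X.presheaf.germ U x hxU a = X.presheaf.germ W x hxW a' := by
    rw [ha']
    exact (TopCat.Presheaf.germ_res_apply X.presheaf (homOfLE hWU) x hxW a).symm
  rw [this]
  exact hnil.map _

set_option backward.isDefEq.respectTransparency false in
set_option maxHeartbeats 800000 in
/-- `X` locally Noetherian over a Dedekind domain with reduced closed fibres and dense generic
fibre is flat. -/
theorem flat_of_reduced_fibres_of_dense {R : Type u} [CommRing R] [IsDedekindDomain R]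
    {X : Scheme.{u}} (f : X ⟶ Spec (CommRingCat.of R)) [IsLocallyNoetherian X]
    (hred : ∀ s : Spec (CommRingCat.of R), s.asIdeal ≠ ⊥ → IsReduced (f.fiber s))
    (hdense : Dense {y : X | (f.base y).asIdeal = ⊥}) : Flat f := by
  apply Flat.of_stalkMap
  intro x
  haveI : IsNoetherianRing (X.presheaf.stalk x) := inferInstance
  letI alg : Algebra R ((Spec (CommRingCat.of R)).presheaf.stalk (f.base x)) :=
    StructureSheaf.stalkAlgebra R (f.base x)
  haveI hloc : IsLocalization.AtPrime ((Spec (CommRingCat.of R)).presheaf.stalk (f.base x))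
      (f.base x).asIdeal := StructureSheaf.IsLocalization.to_stalk R (f.base x)
  haveI : IsDomain ((Spec (CommRingCat.of R)).presheaf.stalk (f.base x)) :=
    IsLocalization.isDomain_of_atPrime _ (f.base x).asIdeal
  haveI : IsDedekindDomain ((Spec (CommRingCat.of R)).presheaf.stalk (f.base x)) :=
    IsLocalization.isDedekindDomain R (f.base x).asIdeal.primeCompl_le_nonZeroDivisors _
  have hτ : ∀ r : R, (f.stalkMap x).hom
      (algebraMap R ((Spec (CommRingCat.of R)).presheaf.stalk (f.base x)) r) = tau f x r :=
    fun r => RingHom.congr_fun (stalkMap_comp_algebraMap f x) r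
  letI : Algebra ((Spec (CommRingCat.of R)).presheaf.stalk (f.base x)) (X.presheaf.stalk x) :=
    (f.stalkMap x).hom.toAlgebra
  show Module.Flat ((Spec (CommRingCat.of R)).presheaf.stalk (f.base x)) (X.presheaf.stalk x)
  rw [IsDedekindDomain.flat_iff_torsion_eq_bot, Submodule.eq_bot_iff]
  intro b hb
  rw [Submodule.mem_torsion_iff] at hb
  obtain ⟨⟨c, hc⟩, hcb⟩ := hb
  have hcb' : (f.stalkMap x).hom c * b = 0 := hcb
  have hc0 : c ≠ 0 := nonZeroDivisors.ne_zero hc
  -- the key claim: images of nonzero elements of `R` are nonzerodivisors on the stalk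
  have key : ∀ r : R, r ≠ 0 → IsSMulRegular (X.presheaf.stalk x) (tau f x r) := by
    intro r hr0
    by_cases hx : (f.base x).asIdeal = ⊥
    · exact (isUnit_tau_of_asIdeal_eq_bot f x hx r hr0).isSMulRegular _
    haveI hPmax : (f.base x).asIdeal.IsMaximal := Ideal.IsPrime.isMaximal (f.base x).isPrime hx
    obtain ⟨ϖ, hϖP, hϖ0, hϖspan⟩ := exists_uniformizer R (f.base x).asIdeal hx
      ((Spec (CommRingCat.of R)).presheaf.stalk (f.base x))
    haveI : IsDiscreteValuationRing ((Spec (CommRingCat.of R)).presheaf.stalk (f.base x)) :=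
      IsLocalization.AtPrime.isDiscreteValuationRing_of_dedekind_domain R hx _
    have hmax : maximalIdeal ((Spec (CommRingCat.of R)).presheaf.stalk (f.base x)) =
        Ideal.span {algebraMap R _ ϖ} := by
      apply le_antisymm
      · intro z hz
        exact hϖspan z ((mem_maximalIdeal z).1 hz)
      · rw [Ideal.span_singleton_le_iff_mem]
        exact (IsLocalization.AtPrime.to_map_mem_maximal_iff _ (f.base x).asIdeal ϖ).2 hϖP
    have hmap : (maximalIdeal ((Spec (CommRingCat.of R)).presheaf.stalk (f.base x))).map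
        (f.stalkMap x).hom = Ideal.span {tau f x ϖ} := by
      rw [hmax, Ideal.map_span, Set.image_singleton, hτ]
    have hϖne : ϖ ≠ 0 := by
      rintro rfl
      exact hϖ0 (map_zero _)
    -- `tau ϖ` is regular
    have hreg : IsSMulRegular (X.presheaf.stalk x) (tau f x ϖ) := by
      apply isSMulRegular_of_reduced_quotient
      · have : ϖ ∈ (maximalIdeal (X.presheaf.stalk x)).comap (tau f x) := by
          rw [← asIdeal_apply]; exact hϖP
        exact this
      · rw [← hmap]
        obtain ⟨e⟩ := FibreStalk.nonempty_asFiber_stalk_equiv f x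
        haveI := hred (f.base x) hx
        haveI : _root_.IsReduced ((f.fiber (f.base x)).presheaf.stalk (f.asFiber x)) :=
          inferInstance
        exact isReduced_of_injective e.toRingHom e.injective
      · intro t n ht
        exact isNilpotent_of_dense f hdense ϖ hϖne x t n ht
    -- decompose `r`
    have hirr : Irreducible (algebraMap R ((Spec (CommRingCat.of R)).presheaf.stalk (f.base x)) ϖ) :=
      (IsDiscreteValuationRing.irreducible_iff_uniformizer _).mpr hmax
    have hr0' : algebraMap R ((Spec (CommRingCat.of R)).presheaf.stalk (f.base x)) r ≠ 0 := by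
      intro h
      exact hr0 ((IsLocalization.to_map_eq_zero_iff _
        (f.base x).asIdeal.primeCompl_le_nonZeroDivisors).mp h)
    obtain ⟨n, u, hu⟩ := IsDiscreteValuationRing.eq_unit_mul_pow_irreducible hr0' hirr
    have hdec : tau f x r = (f.stalkMap x).hom (u : _) * tau f x ϖ ^ n := by
      rw [← hτ, hu, map_mul, map_pow, hτ]
    rw [hdec]
    exact ((u.isUnit.map (f.stalkMap x).hom).isSMulRegular _).mul (hreg.pow n)
  obtain ⟨⟨r, v⟩, hrv⟩ := IsLocalization.surj (f.base x).asIdeal.primeCompl c
  have hr0 : r ≠ 0 := by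
    rintro rfl
    rw [map_zero] at hrv
    have hv : IsUnit (algebraMap R ((Spec (CommRingCat.of R)).presheaf.stalk (f.base x)) v) :=
      IsLocalization.map_units _ v
    exact hc0 (hv.mul_left_eq_zero.mp hrv)
  have h1 : tau f x r * b = 0 := by
    rw [← hτ, ← hrv, map_mul, mul_comm ((f.stalkMap x).hom c), mul_assoc, hcb', mul_zero]
  have h2 : tau f x r • b = tau f x r • (0 : X.presheaf.stalk x) := by
    rw [smul_eq_mul, smul_eq_mul, h1, mul_zero]
  exact key r hr0 h2

end Groth.Agent.Lib.helper17.DvrFlat
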