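import Mathlib
import Groth.Prelude.Def_Exal2

/-!
Extensions of a local ring `B` by a simple `B`-module `L` (helper17).
`X : Exal.Ext A B L`.  The middle ring is local, Noetherian when `B` is, and some power of its maximal
ideal meets the kernel trivially.  Also: a morphism of extensions is an equivalence.
-/

set_option autoImplicit false
universe u v

namespace Groth.Agent.Lib.helper17.ExalSimple

open IsLocalRing

section general

variable {A : Type u} {B L : Type v} [CommRing A] [CommRing B] [Algebra A B] [AddCommGroup L] [Module B L]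

lemma proj_incl (X : Exal.Ext A B L) (z : L) : X.proj (X.incl z) = 0 :=
  (X.isExtension.exact _).2 ⟨z, rfl⟩

lemma incl_mul_incl (X : Exal.Ext A B L) (z w : L) : X.incl z * X.incl w = 0 := by
  rw [X.isExtension.mul_incl, proj_incl, zero_smul, map_zero]

lemma incl_eq_zero_iff (X : Exal.Ext A B L) (z : L) : X.incl z = 0 ↔ z = 0 := by
  constructor
  · intro h
    apply X.isExtension.incl_injective
    rw [h, map_zero]
  · rintro rfl
    exact map_zero _

lemma mem_ker_iff (X : Exal.Ext A B L) (x : X.E) :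
    x ∈ RingHom.ker (X.proj : X.E →+* B) ↔ ∃ z, X.incl z = x :=
  X.isExtension.exact x

/-- a morphism of extensions is an equivalence. -/
noncomputable def equivOfHom (X Y : Exal.Ext A B L) (Φ : X.E →ₐ[A] Y.E)
    (h1 : ∀ x, Y.proj (Φ x) = X.proj x) (h2 : ∀ z, Φ (X.incl z) = Y.incl z) : X.Equiv Y where
  toAlgEquiv := AlgEquiv.ofBijective Φ (by
    constructor
    · rw [injective_iff_map_eq_zero]
      intro x hx
      have hx0 : X.proj x = 0 := by rw [← h1, hx, map_zero]
      obtain ⟨z, rfl⟩ := (X.isExtension.exact x).1 hx0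
      rw [h2, incl_eq_zero_iff] at hx
      rw [hx, map_zero]
    · intro y
      obtain ⟨x₀, hx₀⟩ := X.isExtension.proj_surjective (Y.proj y)
      have : Y.proj (y - Φ x₀) = 0 := by rw [map_sub, h1, hx₀, sub_self]
      obtain ⟨z, hz⟩ := (Y.isExtension.exact _).1 this
      refine ⟨x₀ + X.incl z, ?_⟩
      rw [map_add, h2, hz]
      ring)
  proj_apply := fun x => h1 x
  apply_incl := fun z => h2 z

lemma isUnit_of_proj (X : Exal.Ext A B L) (e : X.E) (h : IsUnit (X.proj e)) : IsUnit e := by
  obtain ⟨r, hr⟩ := h.exists_right_inv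
  obtain ⟨e', rfl⟩ := X.isExtension.proj_surjective r
  have h1 : X.proj (e * e' - 1) = 0 := by rw [map_sub, map_mul, hr, map_one, sub_self]
  obtain ⟨z, hz⟩ := (X.isExtension.exact _).1 h1
  have h2 : e * (e' * (1 - X.incl z)) = 1 := by
    have : e * e' = 1 + X.incl z := by rw [hz]; ring
    rw [← mul_assoc, this]
    have h3 := incl_mul_incl X z z
    linear_combination -h3
  exact IsUnit.of_mul_eq_one _ h2

instance (X : Exal.Ext A B L) : IsLocalHom (X.proj : X.E →+* B) := ⟨fun e h => isUnit_of_proj X e h⟩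

lemma nontrivial_E [Nontrivial B] (X : Exal.Ext A B L) : Nontrivial X.E := by
  refine ⟨⟨0, 1, fun h => ?_⟩⟩
  have := congrArg X.proj h
  rw [map_zero, map_one] at this
  exact zero_ne_one this

lemma isLocalRing_E [IsLocalRing B] (X : Exal.Ext A B L) : IsLocalRing X.E :=
  haveI := nontrivial_E X
  RingHom.domain_isLocalRing (X.proj : X.E →+* B)

lemma mem_maximalIdeal_E [IsLocalRing B] (X : Exal.Ext A B L) [IsLocalRing X.E] (e : X.E) :
    e ∈ maximalIdeal X.E ↔ X.proj e ∈ maximalIdeal B := by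
  rw [mem_maximalIdeal, mem_maximalIdeal, mem_nonunits_iff, mem_nonunits_iff]
  exact not_congr ⟨fun h => h.map X.proj, fun h => isUnit_of_proj X e h⟩

lemma map_proj_maximalIdeal [IsLocalRing B] (X : Exal.Ext A B L) [IsLocalRing X.E] :
    (maximalIdeal X.E).map (X.proj : X.E →+* B) = maximalIdeal B := by
  apply le_antisymm
  · rw [Ideal.map_le_iff_le_comap]
    intro e he
    exact (mem_maximalIdeal_E X e).1 he
  · intro r hr
    obtain ⟨e, rfl⟩ := X.isExtension.proj_surjective r
    exact Ideal.mem_map_of_mem _ ((mem_maximalIdeal_E X e).2 hr)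

lemma map_proj_maximalIdeal_pow [IsLocalRing B] (X : Exal.Ext A B L) [IsLocalRing X.E] (n : ℕ) :
    (maximalIdeal X.E ^ n).map (X.proj : X.E →+* B) = maximalIdeal B ^ n := by
  rw [Ideal.map_pow, map_proj_maximalIdeal]

/-- elements of `m_B^n` lift to `m_E^n`. -/
lemma exists_mem_pow_proj_eq [IsLocalRing B] (X : Exal.Ext A B L) [IsLocalRing X.E] (n : ℕ)
    (b : B) (hb : b ∈ maximalIdeal B ^ n) : ∃ a ∈ maximalIdeal X.E ^ n, X.proj a = b := by
  rw [← map_proj_maximalIdeal_pow X n] at hb
  exact (Ideal.mem_map_iff_of_surjective (X.proj : X.E →+* B) X.isExtension.proj_surjective).1 hb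

lemma proj_mem_pow [IsLocalRing B] (X : Exal.Ext A B L) [IsLocalRing X.E] (n : ℕ)
    (a : X.E) (ha : a ∈ maximalIdeal X.E ^ n) : X.proj a ∈ maximalIdeal B ^ n := by
  rw [← map_proj_maximalIdeal_pow X n]
  exact Ideal.mem_map_of_mem _ ha

end general

section simple

variable {A : Type u} {B L : Type v} [CommRing A] [CommRing B] [Algebra A B] [AddCommGroup L] [Module B L]
  [IsLocalRing B] [IsSimpleModule B L]

lemma maximal_smul (b : B) (hb : b ∈ maximalIdeal B) (z : L) : b • z = 0 := by
  by_cases hz : z = 0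
  · rw [hz, smul_zero]
  · have h1 := IsSimpleModule.ker_toSpanSingleton_isMaximal B hz
    have h2 : LinearMap.ker (LinearMap.toSpanSingleton B L z) = maximalIdeal B :=
      IsLocalRing.eq_maximalIdeal h1
    have h3 : b ∈ LinearMap.ker (LinearMap.toSpanSingleton B L z) := by rw [h2]; exact hb
    exact h3

lemma exists_smul_eq (z : L) (hz : z ≠ 0) (w : L) : ∃ b : B, b • z = w :=
  IsSimpleModule.toSpanSingleton_surjective B hz w

variable (X : Exal.Ext A B L)

lemma maximal_mul_incl [IsLocalRing X.E] (e : X.E) (he : e ∈ maximalIdeal X.E) (z : L) :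
    e * X.incl z = 0 := by
  rw [X.isExtension.mul_incl, maximal_smul _ ((mem_maximalIdeal_E X e).1 he), map_zero]

/-- a nonzero ideal inside the kernel is the whole kernel. -/
lemma ker_le_of_le_ker (J : Ideal X.E) (hJ : J ≤ RingHom.ker (X.proj : X.E →+* B)) (hne : J ≠ ⊥) :
    RingHom.ker (X.proj : X.E →+* B) ≤ J := by
  obtain ⟨x, hxJ, hx0⟩ := Submodule.exists_mem_ne_zero_of_ne_bot hne
  obtain ⟨z, rfl⟩ := (X.isExtension.exact x).1 (hJ hxJ)
  have hz : z ≠ 0 := by
    rintro rfl
    exact hx0 (map_zero _)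
  intro y hy
  obtain ⟨w, rfl⟩ := (X.isExtension.exact y).1 hy
  obtain ⟨b, rfl⟩ := exists_smul_eq (B := B) z hz w
  obtain ⟨e, rfl⟩ := X.isExtension.proj_surjective b
  rw [← X.isExtension.mul_incl]
  exact Ideal.mul_mem_left _ _ hxJ

lemma ker_fg : (RingHom.ker (X.proj : X.E →+* B)).FG := by
  haveI := IsSimpleModule.nontrivial B L
  obtain ⟨z, hz⟩ := exists_ne (0 : L)
  refine ⟨{X.incl z}, ?_⟩
  have h1 : Ideal.span {X.incl z} ≤ RingHom.ker (X.proj : X.E →+* B) := by
    rw [Ideal.span_singleton_le_iff_mem]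
    exact proj_incl X z
  have h2 : Ideal.span {X.incl z} ≠ ⊥ := by
    intro h
    rw [Ideal.span_singleton_eq_bot, incl_eq_zero_iff] at h
    exact hz h
  rw [Finset.coe_singleton]
  exact le_antisymm h1 (ker_le_of_le_ker X _ h1 h2)

lemma isNoetherianRing_E [IsNoetherianRing B] : IsNoetherianRing X.E := by
  rw [isNoetherianRing_iff_ideal_fg]
  intro J
  apply Ideal.fg_of_fg_map_of_fg_inf_ker_of_surjective (f := (X.proj : X.E →+* B))
    ((isNoetherianRing_iff_ideal_fg B).1 inferInstance _) _ X.isExtension.proj_surjective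
  by_cases h : J ⊓ RingHom.ker (X.proj : X.E →+* B) = ⊥
  · rw [h]
    exact Submodule.fg_bot
  · have h2 : J ⊓ RingHom.ker (X.proj : X.E →+* B) = RingHom.ker (X.proj : X.E →+* B) :=
      le_antisymm inf_le_right (ker_le_of_le_ker X _ inf_le_right h)
    rw [h2]
    exact ker_fg X

/-- some power of the maximal ideal meets the kernel trivially. -/
lemma exists_pow_inf_ker_eq_bot [IsNoetherianRing B] [IsLocalRing X.E] :
    ∃ n : ℕ, maximalIdeal X.E ^ n ⊓ RingHom.ker (X.proj : X.E →+* B) = ⊥ := by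
  haveI := isNoetherianRing_E X
  haveI := IsSimpleModule.nontrivial B L
  obtain ⟨z, hz⟩ := exists_ne (0 : L)
  by_contra hcon
  push Not at hcon
  have h1 : X.incl z ∈ ⨅ i, maximalIdeal X.E ^ i := by
    rw [Ideal.mem_iInf]
    intro n
    exact (ker_le_of_le_ker X _ inf_le_right (hcon n) (proj_incl X z)).1
  rw [Ideal.iInf_pow_eq_bot_of_isLocalRing _ (maximalIdeal.isMaximal X.E).ne_top, Ideal.mem_bot,
    incl_eq_zero_iff] at h1
  exact hz h1

lemma pow_inf_ker_eq_bot_of_le [IsLocalRing X.E] {n n' : ℕ} (hnn : n ≤ n')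
    (h : maximalIdeal X.E ^ n ⊓ RingHom.ker (X.proj : X.E →+* B) = ⊥) :
    maximalIdeal X.E ^ n' ⊓ RingHom.ker (X.proj : X.E →+* B) = ⊥ := by
  rw [← le_bot_iff, ← h]
  exact inf_le_inf_right _ (Ideal.pow_le_pow_right hnn)

lemma one_le_of_pow_inf_ker_eq_bot [IsLocalRing X.E] {n : ℕ}
    (h : maximalIdeal X.E ^ n ⊓ RingHom.ker (X.proj : X.E →+* B) = ⊥) : 1 ≤ n := by
  haveI := IsSimpleModule.nontrivial B L
  obtain ⟨z, hz⟩ := exists_ne (0 : L)
  by_contra hn
  have hn0 : n = 0 := by omega
  rw [hn0, pow_zero, Ideal.one_eq_top, top_inf_eq] at h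
  have : X.incl z ∈ RingHom.ker (X.proj : X.E →+* B) := proj_incl X z
  rw [h, Ideal.mem_bot, incl_eq_zero_iff] at this
  exact hz this

/-- consequence: an element of `m_E^n` in the kernel vanishes. -/
lemma eq_zero_of_mem_pow_of_proj [IsLocalRing X.E] {n : ℕ}
    (h : maximalIdeal X.E ^ n ⊓ RingHom.ker (X.proj : X.E →+* B) = ⊥) (x : X.E)
    (hx : x ∈ maximalIdeal X.E ^ n) (hp : X.proj x = 0) : x = 0 := by
  have : x ∈ maximalIdeal X.E ^ n ⊓ RingHom.ker (X.proj : X.E →+* B) := ⟨hx, hp⟩
  rw [h, Ideal.mem_bot] at this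
  exact this

end simple

section completion
variable {R : Type u} [CommRing R] [IsLocalRing R] [IsNoetherianRing R]

lemma evalₐ_eq_zero_iff (n : ℕ) (b : AdicCompletion (maximalIdeal R) R) :
    AdicCompletion.evalₐ (maximalIdeal R) n b = 0 ↔
      b ∈ maximalIdeal (AdicCompletion (maximalIdeal R) R) ^ n := by
  rw [AdicCompletion.maximalIdeal_eq_map, ← Ideal.map_pow, ← Submodule.restrictScalars_mem R,
    ← Ideal.smul_top_eq_map,
    AdicCompletion.pow_smul_top_eq_ker_eval (maximalIdeal R).fg_of_isNoetherianRing, LinearMap.mem_ker]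
  have h1 : (maximalIdeal R ^ n • ⊤ : Ideal R) = maximalIdeal R ^ n := by ext x; simp
  constructor
  · intro h
    rw [← AdicCompletion.factor_evalₐ_eq_eval _ b h1.ge, h, map_zero]
  · intro h
    rw [← AdicCompletion.factor_eval_eq_evalₐ _ b h1.le, h, map_zero]

omit [IsNoetherianRing R] in
lemma evalₐ_algebraMap (n : ℕ) (r : R) :
    AdicCompletion.evalₐ (maximalIdeal R) n (algebraMap R (AdicCompletion (maximalIdeal R) R) r) =
      Ideal.Quotient.mk (maximalIdeal R ^ n) r := by
  rw [AlgHom.commutes]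
  rfl

lemma mem_pow_of_algebraMap_mem (n : ℕ) (r : R)
    (h : algebraMap R (AdicCompletion (maximalIdeal R) R) r ∈
      maximalIdeal (AdicCompletion (maximalIdeal R) R) ^ n) : r ∈ maximalIdeal R ^ n := by
  rw [← evalₐ_eq_zero_iff, evalₐ_algebraMap, Ideal.Quotient.eq_zero_iff_mem] at h
  exact h

lemma algebraMap_mem_pow (n : ℕ) (r : R) (h : r ∈ maximalIdeal R ^ n) :
    algebraMap R (AdicCompletion (maximalIdeal R) R) r ∈
      maximalIdeal (AdicCompletion (maximalIdeal R) R) ^ n := by
  rw [← evalₐ_eq_zero_iff, evalₐ_algebraMap, Ideal.Quotient.eq_zero_iff_mem]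
  exact h

lemma exists_sub_algebraMap_mem (n : ℕ) (b : AdicCompletion (maximalIdeal R) R) :
    ∃ r : R, b - algebraMap R (AdicCompletion (maximalIdeal R) R) r ∈
      maximalIdeal (AdicCompletion (maximalIdeal R) R) ^ n := by
  obtain ⟨r, hr⟩ := Ideal.Quotient.mk_surjective (AdicCompletion.evalₐ (maximalIdeal R) n b)
  refine ⟨r, ?_⟩
  rw [← evalₐ_eq_zero_iff, map_sub, evalₐ_algebraMap, hr, sub_self]

end completion

section simpleHat

variable {R : Type u} [CommRing R] [IsLocalRing R] [IsNoetherianRing R]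
  (L : Type u) [AddCommGroup L] [Module (AdicCompletion (maximalIdeal R) R) L] [Module R L]
  [IsScalarTower R (AdicCompletion (maximalIdeal R) R) L] [IsSimpleModule R L]

/-- a simple `R`-module with a compatible module structure over the completion is simple over the
completion. -/
lemma isSimpleModule_hat : IsSimpleModule (AdicCompletion (maximalIdeal R) R) L := by
  haveI := IsSimpleModule.nontrivial R L
  refine { eq_bot_or_eq_top := fun N => ?_ }
  rcases eq_bot_or_eq_top (N.restrictScalars R) with h | h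
  · left
    exact (Submodule.restrictScalars_eq_bot_iff _ _ _).1 h
  · right
    exact (Submodule.restrictScalars_eq_top_iff _ _ _).1 h

end simpleHat

end Groth.Agent.Lib.helper17.ExalSimple
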