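import Mathlib
import Groth.Agent.Lib.Helper17.CMComp
import Groth.Agent.Lib.Helper17.GorFlat

/-!
# helper17: Gorenstein closed fibres in towers of local homomorphisms `A → B → C`

`gor_fibre_comp`: if `B/m_A B` and `C/m_B C` are Gorenstein and `C/m_A C` is Noetherian (with
`B → C` flat) then `C/m_A C` is Gorenstein.  `gor_fibre_of_comp`: the converse.
-/

set_option autoImplicit false
set_option linter.style.haveILetI false
set_option linter.unusedSectionVars false
universe u
open IsLocalRing TensorProduct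

namespace Groth.Agent.Lib.helper17.GorComp

open Groth.Agent.Lib.helper17.CMComp Groth.Agent.Lib.helper17.GorIso

variable (A B C : Type u) [CommRing A] [CommRing B] [CommRing C]
  [Algebra A B] [Algebra B C] [Algebra A C] [IsScalarTower A B C]
  [IsLocalRing A] [IsLocalRing B] [IsLocalRing C]
  [IsLocalHom (algebraMap A B)] [IsLocalHom (algebraMap B C)] [Module.Flat B C]

/-- If `B/m_A B` and `C/m_B C` are Gorenstein and `C/m_A C` is Noetherian then `C/m_A C` is
Gorenstein. -/
theorem gor_fibre_comp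
    (hB : LocCoh.IsGorensteinLocalRing (B ⧸ (maximalIdeal A).map (algebraMap A B)))
    (hC : LocCoh.IsGorensteinLocalRing (C ⧸ (maximalIdeal B).map (algebraMap B C)))
    (hN : IsNoetherianRing (C ⧸ (maximalIdeal A).map (algebraMap A C))) :
    LocCoh.IsGorensteinLocalRing (C ⧸ (maximalIdeal A).map (algebraMap A C)) := by
  haveI : IsNoetherianRing (C ⧸ (IB A B).map (algebraMap B C)) :=
    isNoetherianRing_of_ringEquiv _ (e1 A B C).symm
  haveI : IsNoetherianRing (B ⧸ IB A B) := by
    haveI := hB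
    exact inferInstanceAs (IsNoetherianRing (B ⧸ (maximalIdeal A).map (algebraMap A B)))
  haveI := Groth.Agent.Lib.Helper24.FlatQuot.flat_quotient B C (IB A B)
  haveI := Groth.Agent.Lib.Helper24.FlatQuot.isLocalHom_quotient B C (IB A B) (IB_ne_top A B)
  have h1 : LocCoh.IsGorensteinLocalRing ((C ⧸ (IB A B).map (algebraMap B C)) ⧸
      (maximalIdeal (B ⧸ IB A B)).map
        (algebraMap (B ⧸ IB A B) (C ⧸ (IB A B).map (algebraMap B C)))) :=
    isGorensteinLocalRing_of_ringEquiv (e2 A B C) hC
  have h2 := (Groth.Agent.Lib.helper17.GorFlat.gor_iff_of_flat (B ⧸ IB A B)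
    (C ⧸ (IB A B).map (algebraMap B C))).mpr ⟨hB, h1⟩
  exact isGorensteinLocalRing_of_ringEquiv (e1 A B C).symm h2

/-- If `C/m_A C` is Gorenstein and `B/m_A B` is Noetherian, then `B/m_A B` and `C/m_B C` are
Gorenstein. -/
theorem gor_fibre_of_comp
    (hAC : LocCoh.IsGorensteinLocalRing (C ⧸ (maximalIdeal A).map (algebraMap A C)))
    (hN : IsNoetherianRing (B ⧸ (maximalIdeal A).map (algebraMap A B))) :
    LocCoh.IsGorensteinLocalRing (B ⧸ (maximalIdeal A).map (algebraMap A B)) ∧
      LocCoh.IsGorensteinLocalRing (C ⧸ (maximalIdeal B).map (algebraMap B C)) := by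
  have h0 : LocCoh.IsGorensteinLocalRing (C ⧸ (IB A B).map (algebraMap B C)) :=
    isGorensteinLocalRing_of_ringEquiv (e1 A B C) hAC
  haveI : IsNoetherianRing (C ⧸ (IB A B).map (algebraMap B C)) := by
    haveI := h0; infer_instance
  haveI : IsNoetherianRing (B ⧸ IB A B) := hN
  haveI := Groth.Agent.Lib.Helper24.FlatQuot.flat_quotient B C (IB A B)
  haveI := Groth.Agent.Lib.Helper24.FlatQuot.isLocalHom_quotient B C (IB A B) (IB_ne_top A B)
  obtain ⟨h1, h2⟩ := (Groth.Agent.Lib.helper17.GorFlat.gor_iff_of_flat (B ⧸ IB A B)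
    (C ⧸ (IB A B).map (algebraMap B C))).mp h0
  exact ⟨h1, isGorensteinLocalRing_of_ringEquiv (e2 A B C).symm h2⟩

end Groth.Agent.Lib.helper17.GorComp
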