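import Mathlib
import Groth.Prelude.Def_Dual3
import Groth.Agent.Lib.Helper17.GorComp
import Groth.Agent.Lib.Helper17.EtaleStalk
import Groth.Agent.Lib.Helper24.NoethLimit
import Groth.Agent.Lib.Helper24.FlatOverIndEtale

/-!
# helper17: `Dual3.IsGorensteinAt` is étale local on the source and on the target

No Noetherian hypotheses.

* `ringS`: tower `A → B → C` of local homomorphisms with `B → C` flat, essentially of finite type,
  `m_B C = m_C`: `(A → C flat ∧ C/m_A C Gorenstein) ↔ (A → B flat ∧ B/m_A B Gorenstein)`.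
* `ringT`: tower with `A → B` flat, essentially of finite type, unramified, `m_A B = m_B`:
  `(A → C flat ∧ C/m_A C Gorenstein) ↔ (B → C flat ∧ C/m_B C Gorenstein)`.
* `isGorensteinAt_iff`: `IsGorensteinAt f x` in terms of `O_{X,x}/m_{f x} O_{X,x}`.
* `isGorensteinAt_comp_etale_left`, `isGorensteinAt_comp_etale_right`.
-/

set_option autoImplicit false
set_option linter.style.haveILetI false
universe u
open CategoryTheory AlgebraicGeometry IsLocalRing

namespace Groth.Agent.Lib.helper17.GorAtEtale

open Groth.Agent.Lib.helper17.GorIso Groth.Agent.Lib.helper17.GorComp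
  Groth.Agent.Lib.helper17.CMComp

section Ring

variable {A B C : Type u} [CommRing A] [CommRing B] [CommRing C]
  [IsLocalRing A] [IsLocalRing B] [IsLocalRing C]

theorem ringS (α : A →+* B) (β : B →+* C) [IsLocalHom α] [IsLocalHom β] (hβ : β.Flat)
    (hft : β.EssFiniteType) (hmax : (maximalIdeal B).map β = maximalIdeal C) :
    ((β.comp α).Flat ∧ LocCoh.IsGorensteinLocalRing (C ⧸ (maximalIdeal A).map (β.comp α))) ↔
      (α.Flat ∧ LocCoh.IsGorensteinLocalRing (B ⧸ (maximalIdeal A).map α)) := by
  letI := α.toAlgebra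
  letI := β.toAlgebra
  letI := (β.comp α).toAlgebra
  haveI : IsScalarTower A B C := IsScalarTower.of_algebraMap_eq' rfl
  haveI : IsLocalHom (algebraMap A B) := ‹IsLocalHom α›
  haveI : IsLocalHom (algebraMap B C) := ‹IsLocalHom β›
  haveI : Module.Flat B C := hβ
  haveI : Algebra.EssFiniteType B C := hft
  haveI : Module.FaithfullyFlat B C := Module.FaithfullyFlat.of_flat_of_isLocalHom
  have hfield : LocCoh.IsGorensteinLocalRing (C ⧸ (maximalIdeal B).map (algebraMap B C)) := by
    apply Groth.Agent.Lib.helper17.EtaleStalk.gor_of_isField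
    have : (maximalIdeal B).map (algebraMap B C) = maximalIdeal C := hmax
    rw [this, ← Ideal.Quotient.maximal_ideal_iff_isField_quotient]
    infer_instance
  change (Module.Flat A C ∧ LocCoh.IsGorensteinLocalRing
      (C ⧸ (maximalIdeal A).map (algebraMap A C))) ↔
    (Module.Flat A B ∧ LocCoh.IsGorensteinLocalRing (B ⧸ (maximalIdeal A).map (algebraMap A B)))
  constructor
  · rintro ⟨hfl, hG⟩
    haveI := hfl
    haveI : IsNoetherianRing (C ⧸ (IB A B).map (algebraMap B C)) := by
      haveI : IsNoetherianRing (C ⧸ (maximalIdeal A).map (algebraMap A C)) := by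
        haveI := hG; infer_instance
      exact isNoetherianRing_of_ringEquiv _ (e1 A B C).symm
    haveI := Groth.Agent.Lib.Helper24.FlatQuot.flat_quotient B C (IB A B)
    haveI := Groth.Agent.Lib.Helper24.FlatQuot.isLocalHom_quotient B C (IB A B) (IB_ne_top A B)
    haveI : Module.FaithfullyFlat (B ⧸ IB A B) (C ⧸ (IB A B).map (algebraMap B C)) :=
      Module.FaithfullyFlat.of_flat_of_isLocalHom
    have hN : IsNoetherianRing (B ⧸ IB A B) :=
      Groth.Agent.Lib.Helper24.NoethLimit.isNoetherianRing_of_faithfullyFlat _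
        (C ⧸ (IB A B).map (algebraMap B C))
    exact ⟨flat_of_comp_of_faithfullyFlat A B C, (gor_fibre_of_comp A B C hG hN).1⟩
  · rintro ⟨hfl, hG⟩
    haveI := hfl
    haveI : IsNoetherianRing (B ⧸ IB A B) := by
      haveI := hG
      exact inferInstanceAs (IsNoetherianRing (B ⧸ (maximalIdeal A).map (algebraMap A B)))
    haveI : IsNoetherianRing (C ⧸ (IB A B).map (algebraMap B C)) :=
      Algebra.EssFiniteType.isNoetherianRing (B ⧸ IB A B) _
    have hN : IsNoetherianRing (C ⧸ (maximalIdeal A).map (algebraMap A C)) :=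
      isNoetherianRing_of_ringEquiv _ (e1 A B C)
    exact ⟨Module.Flat.trans A B C, gor_fibre_comp A B C hG hfield hN⟩

theorem ringT (α : A →+* B) (β : B →+* C) [IsLocalHom α] [IsLocalHom β] (hα : α.Flat)
    (hft : α.EssFiniteType) (hun : α.FormallyUnramified)
    (hmax : (maximalIdeal A).map α = maximalIdeal B) :
    ((β.comp α).Flat ∧ LocCoh.IsGorensteinLocalRing (C ⧸ (maximalIdeal A).map (β.comp α))) ↔
      (β.Flat ∧ LocCoh.IsGorensteinLocalRing (C ⧸ (maximalIdeal B).map β)) := by
  have hI : (maximalIdeal A).map (β.comp α) = (maximalIdeal B).map β := by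
    rw [← Ideal.map_map, hmax]
  have hG : LocCoh.IsGorensteinLocalRing (C ⧸ (maximalIdeal A).map (β.comp α)) ↔
      LocCoh.IsGorensteinLocalRing (C ⧸ (maximalIdeal B).map β) :=
    isGorensteinLocalRing_iff_of_ringEquiv (Ideal.quotEquivOfEq hI)
  rw [hG]
  refine and_congr_left fun _ => ?_
  letI := α.toAlgebra
  letI := β.toAlgebra
  letI := (β.comp α).toAlgebra
  haveI : IsScalarTower A B C := IsScalarTower.of_algebraMap_eq' rfl
  haveI : Module.Flat A B := hα
  haveI : Algebra.EssFiniteType A B := hft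
  haveI : Algebra.FormallyUnramified A B := hun
  change Module.Flat A C ↔ Module.Flat B C
  constructor
  · intro h
    haveI := h
    exact Groth.Agent.Lib.Helper24.FlatOverIndEtale.flat_of_unramified A B C
  · intro h
    haveI := h
    exact Module.Flat.trans A B C

end Ring


section Scheme

open Groth.Agent.Lib.helper17.FibreStalk Groth.Agent.Lib.helper17.EtaleStalk

theorem isGorensteinAt_iff {X Y : Scheme.{u}} (f : X ⟶ Y) (x : X) :
    Dual3.IsGorensteinAt f x ↔ (f.stalkMap x).hom.Flat ∧
      LocCoh.IsGorensteinLocalRing (X.presheaf.stalk x ⧸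
        (maximalIdeal (Y.presheaf.stalk (f x))).map (f.stalkMap x).hom) := by
  obtain ⟨e⟩ := nonempty_asFiber_stalk_equiv f x
  unfold Dual3.IsGorensteinAt
  rw [isGorensteinLocalRing_iff_of_ringEquiv e]

theorem isGorensteinAt_comp_etale_left {W U V : Scheme.{u}} (g : W ⟶ U) [Etale g] (h : U ⟶ V)
    (w : W) : Dual3.IsGorensteinAt (g ≫ h) w ↔ Dual3.IsGorensteinAt h (g w) := by
  rw [isGorensteinAt_iff, isGorensteinAt_iff]
  have hcomp : ((g ≫ h).stalkMap w).hom = (g.stalkMap w).hom.comp (h.stalkMap (g w)).hom := by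
    rw [Scheme.Hom.stalkMap_comp]; rfl
  rw [hcomp]
  exact ringS (h.stalkMap (g w)).hom (g.stalkMap w).hom (Flat.stalkMap g w)
    (LocallyOfFiniteType.stalkMap g w) (map_maximalIdeal_of_unramified g w)

theorem isGorensteinAt_comp_etale_right {W T V : Scheme.{u}} (m : W ⟶ T) (k : T ⟶ V) [Etale k]
    (w : W) : Dual3.IsGorensteinAt (m ≫ k) w ↔ Dual3.IsGorensteinAt m w := by
  rw [isGorensteinAt_iff, isGorensteinAt_iff]
  have hcomp : ((m ≫ k).stalkMap w).hom = (m.stalkMap w).hom.comp (k.stalkMap (m w)).hom := by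
    rw [Scheme.Hom.stalkMap_comp]; rfl
  rw [hcomp]
  exact ringT (k.stalkMap (m w)).hom (m.stalkMap w).hom (Flat.stalkMap k (m w))
    (LocallyOfFiniteType.stalkMap k (m w)) (FormallyUnramified.stalkMap k (m w))
    (map_maximalIdeal_of_unramified k (m w))

/-- flatness of the stalk map is étale local on the source. -/
theorem flat_stalkMap_comp_etale_left {W U V : Scheme.{u}} (g : W ⟶ U) [Etale g] (h : U ⟶ V)
    (w : W) : ((g ≫ h).stalkMap w).hom.Flat ↔ (h.stalkMap (g w)).hom.Flat := by
  have hcomp : ((g ≫ h).stalkMap w).hom = (g.stalkMap w).hom.comp (h.stalkMap (g w)).hom := by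
    rw [Scheme.Hom.stalkMap_comp]; rfl
  rw [hcomp]
  letI := (h.stalkMap (g w)).hom.toAlgebra
  letI := (g.stalkMap w).hom.toAlgebra
  letI := ((g.stalkMap w).hom.comp (h.stalkMap (g w)).hom).toAlgebra
  haveI : IsScalarTower (V.presheaf.stalk (h (g w))) (U.presheaf.stalk (g w))
      (W.presheaf.stalk w) := IsScalarTower.of_algebraMap_eq' rfl
  haveI : IsLocalHom (algebraMap (U.presheaf.stalk (g w)) (W.presheaf.stalk w)) :=
    inferInstanceAs (IsLocalHom (g.stalkMap w).hom)
  haveI : Module.Flat (U.presheaf.stalk (g w)) (W.presheaf.stalk w) := Flat.stalkMap g w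
  haveI : Module.FaithfullyFlat (U.presheaf.stalk (g w)) (W.presheaf.stalk w) :=
    Module.FaithfullyFlat.of_flat_of_isLocalHom
  change Module.Flat (V.presheaf.stalk (h (g w))) (W.presheaf.stalk w) ↔
    Module.Flat (V.presheaf.stalk (h (g w))) (U.presheaf.stalk (g w))
  constructor
  · intro hfl
    exact flat_of_comp_of_faithfullyFlat _ (U.presheaf.stalk (g w)) (W.presheaf.stalk w)
  · intro hfl
    exact Module.Flat.trans _ (U.presheaf.stalk (g w)) (W.presheaf.stalk w)

/-- flatness of the stalk map is étale local on the target. -/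
theorem flat_stalkMap_comp_etale_right {W T V : Scheme.{u}} (m : W ⟶ T) (k : T ⟶ V) [Etale k]
    (w : W) : ((m ≫ k).stalkMap w).hom.Flat ↔ (m.stalkMap w).hom.Flat := by
  have hcomp : ((m ≫ k).stalkMap w).hom = (m.stalkMap w).hom.comp (k.stalkMap (m w)).hom := by
    rw [Scheme.Hom.stalkMap_comp]; rfl
  rw [hcomp]
  letI := (k.stalkMap (m w)).hom.toAlgebra
  letI := (m.stalkMap w).hom.toAlgebra
  letI := ((m.stalkMap w).hom.comp (k.stalkMap (m w)).hom).toAlgebra
  haveI : IsScalarTower (V.presheaf.stalk (k (m w))) (T.presheaf.stalk (m w))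
      (W.presheaf.stalk w) := IsScalarTower.of_algebraMap_eq' rfl
  haveI : Module.Flat (V.presheaf.stalk (k (m w))) (T.presheaf.stalk (m w)) :=
    Flat.stalkMap k (m w)
  haveI : Algebra.EssFiniteType (V.presheaf.stalk (k (m w))) (T.presheaf.stalk (m w)) :=
    LocallyOfFiniteType.stalkMap k (m w)
  haveI : Algebra.FormallyUnramified (V.presheaf.stalk (k (m w))) (T.presheaf.stalk (m w)) :=
    FormallyUnramified.stalkMap k (m w)
  change Module.Flat (V.presheaf.stalk (k (m w))) (W.presheaf.stalk w) ↔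
    Module.Flat (T.presheaf.stalk (m w)) (W.presheaf.stalk w)
  constructor
  · intro hfl
    exact Groth.Agent.Lib.Helper24.FlatOverIndEtale.flat_of_unramified
      (V.presheaf.stalk (k (m w))) (T.presheaf.stalk (m w)) (W.presheaf.stalk w)
  · intro hfl
    exact Module.Flat.trans _ (T.presheaf.stalk (m w)) (W.presheaf.stalk w)

end Scheme

end Groth.Agent.Lib.helper17.GorAtEtale
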