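import Mathlib
import Groth.Agent.Lib.Helper17.GorFlat
import Groth.Agent.Lib.Helper17.EtaleStalk
import Groth.Agent.Lib.Helper17.CMComp
import Groth.Agent.Lib.Helper24.NoethLimit
import Groth.Agent.Lib.Helper24.FlatOverIndEtale
import Groth.Agent.Lib.Helper24.HensNoeth
import Groth.Agent.Lib.Helper24.StrictHensProps
import Groth.Agent.S5072
import Groth.Agent.S0537
import Groth.Agent.S12237

/-!
# helper17: Gorenstein homomorphisms and strict henselization

`ψ : O' → O` a local homomorphism of local rings, `R'`, `R` strict henselizations and `φ : R' → R`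
a compatible local homomorphism.  Then `ψ` is flat with Gorenstein closed fibre iff `φ` is.
No Noetherian hypotheses.
-/

set_option autoImplicit false
set_option linter.style.haveILetI false
universe u
open IsLocalRing TensorProduct

namespace Groth.Agent.Lib.helper17.GorStrictHens

open Groth.Agent.Lib.helper17.GorIso Groth.Agent.Lib.Helper24.StrictHens

section Quot

variable (B C : Type u) [CommRing B] [CommRing C] [Algebra B C] [IsLocalRing B] [IsLocalRing C]
  [IsLocalHom (algebraMap B C)] [Module.Flat B C] (I : Ideal B)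

/-- `C/IC` is Gorenstein iff `B/I` and `C/m_B C` are (`B → C` flat local, quotients Noetherian). -/
theorem gor_quot_flat' (hI : I ≠ ⊤) [IsNoetherianRing (B ⧸ I)]
    [IsNoetherianRing (C ⧸ I.map (algebraMap B C))] :
    LocCoh.IsGorensteinLocalRing (C ⧸ I.map (algebraMap B C)) ↔
      LocCoh.IsGorensteinLocalRing (B ⧸ I) ∧
        LocCoh.IsGorensteinLocalRing (C ⧸ (maximalIdeal B).map (algebraMap B C)) := by
  haveI : Nontrivial (B ⧸ I) := Ideal.Quotient.nontrivial_iff.mpr hI
  haveI : IsLocalRing (B ⧸ I) :=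
    IsLocalRing.of_surjective' (Ideal.Quotient.mk _) Ideal.Quotient.mk_surjective
  have hIC : I.map (algebraMap B C) ≠ ⊤ := Groth.Agent.Lib.Helper24.FlatQuot.map_ne_top B C I hI
  haveI : Nontrivial (C ⧸ I.map (algebraMap B C)) := Ideal.Quotient.nontrivial_iff.mpr hIC
  haveI : IsLocalRing (C ⧸ I.map (algebraMap B C)) :=
    IsLocalRing.of_surjective' (Ideal.Quotient.mk _) Ideal.Quotient.mk_surjective
  haveI := Groth.Agent.Lib.Helper24.FlatQuot.flat_quotient B C I
  haveI := Groth.Agent.Lib.Helper24.FlatQuot.isLocalHom_quotient B C I hI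
  have hmax : maximalIdeal (B ⧸ I) = (maximalIdeal B).map (Ideal.Quotient.mk I) := by
    symm
    apply IsLocalRing.eq_maximalIdeal
    refine Ideal.IsMaximal.map_of_surjective_of_ker_le Ideal.Quotient.mk_surjective ?_
    rw [Ideal.mk_ker]
    exact IsLocalRing.le_maximalIdeal hI
  have hmap : (maximalIdeal (B ⧸ I)).map
        (algebraMap (B ⧸ I) (C ⧸ I.map (algebraMap B C))) =
      ((maximalIdeal B).map (algebraMap B C)).map
        (Ideal.Quotient.mk (I.map (algebraMap B C))) := by
    rw [hmax, Ideal.map_map, Ideal.map_map]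
    rfl
  have hle : I.map (algebraMap B C) ≤ (maximalIdeal B).map (algebraMap B C) :=
    Ideal.map_mono (IsLocalRing.le_maximalIdeal hI)
  let e2 : ((C ⧸ I.map (algebraMap B C)) ⧸ (maximalIdeal (B ⧸ I)).map
        (algebraMap (B ⧸ I) (C ⧸ I.map (algebraMap B C)))) ≃+*
      (C ⧸ (maximalIdeal B).map (algebraMap B C)) :=
    (Ideal.quotEquivOfEq hmap).trans (DoubleQuot.quotQuotEquivQuotOfLE hle)
  rw [Groth.Agent.Lib.helper17.GorFlat.gor_iff_of_flat (B ⧸ I) (C ⧸ I.map (algebraMap B C)),
    isGorensteinLocalRing_iff_of_ringEquiv e2]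

end Quot

section SH

variable (O R : Type u) [CommRing O] [CommRing R] [IsLocalRing O] [IsLocalRing R] [Algebra O R]
  [IsLocalHom (algebraMap O R)] [Hensel.IsStrictHenselization O R] (I : Ideal O)

theorem gor_field_fibre :
    LocCoh.IsGorensteinLocalRing (R ⧸ (maximalIdeal O).map (algebraMap O R)) := by
  apply Groth.Agent.Lib.helper17.EtaleStalk.gor_of_isField
  rw [map_maximalIdeal_of_isStrictHenselization O R,
    ← Ideal.Quotient.maximal_ideal_iff_isField_quotient]
  infer_instance

/-- `R/IR` is isomorphic to any strict henselization of `O/I`. -/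
theorem nonempty_quot_equiv (hI : I ≠ ⊤) (T : Type u) [CommRing T] [IsLocalRing T]
    [IsLocalRing (O ⧸ I)] [Algebra (O ⧸ I) T] [IsLocalHom (algebraMap (O ⧸ I) T)]
    [Hensel.IsStrictHenselization (O ⧸ I) T] :
    Nonempty ((R ⧸ I.map (algebraMap O R)) ≃+* T) := by
  haveI : Module.Flat O R := (faithfullyFlat_of_isStrictHenselization O R).toFlat
  have hIR : I.map (algebraMap O R) ≠ ⊤ := Groth.Agent.Lib.Helper24.FlatQuot.map_ne_top O R I hI
  haveI : Nontrivial (R ⧸ I.map (algebraMap O R)) := Ideal.Quotient.nontrivial_iff.mpr hIR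
  haveI : IsLocalRing (R ⧸ I.map (algebraMap O R)) :=
    IsLocalRing.of_surjective' (Ideal.Quotient.mk _) Ideal.Quotient.mk_surjective
  let e1 : (R ⧸ I.map (algebraMap O R)) ≃ₐ[O ⧸ I] (O ⧸ I) ⊗[O] R :=
    Algebra.TensorProduct.quotIdealMapEquivQuotTensor R I
  haveI : IsLocalRing ((O ⧸ I) ⊗[O] R) := e1.toRingEquiv.isLocalRing
  obtain ⟨q, hq, ⟨e3⟩⟩ := Groth.Agent.S5072.result O (O ⧸ I) R T
  have hqm : q = maximalIdeal ((O ⧸ I) ⊗[O] R) := IsLocalRing.eq_maximalIdeal hq
  have hu : ∀ x : (O ⧸ I) ⊗[O] R, x ∈ q.primeCompl → IsUnit x := by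
    intro x hx
    have : x ∉ maximalIdeal ((O ⧸ I) ⊗[O] R) := by rw [← hqm]; exact hx
    simpa [IsLocalRing.mem_maximalIdeal] using this
  let e2 : (O ⧸ I) ⊗[O] R ≃ₐ[(O ⧸ I) ⊗[O] R] Localization.AtPrime q :=
    IsLocalization.atUnits _ q.primeCompl hu
  exact ⟨e1.toRingEquiv.trans (e2.toRingEquiv.trans e3.toRingEquiv)⟩

/-- `R/IR` is Gorenstein when `O/I` is. -/
theorem gor_quot_of_gor (hI : I ≠ ⊤) (h : LocCoh.IsGorensteinLocalRing (O ⧸ I)) :
    LocCoh.IsGorensteinLocalRing (R ⧸ I.map (algebraMap O R)) := by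
  haveI : Nontrivial (O ⧸ I) := Ideal.Quotient.nontrivial_iff.mpr hI
  haveI : IsLocalRing (O ⧸ I) :=
    IsLocalRing.of_surjective' (Ideal.Quotient.mk _) Ideal.Quotient.mk_surjective
  obtain ⟨T, _, _, _, _, hT⟩ := Groth.Agent.S0537.result (O ⧸ I)
  obtain ⟨e⟩ := nonempty_quot_equiv O R I hI T
  haveI : IsNoetherianRing (O ⧸ I) := by haveI := h; infer_instance
  haveI : IsNoetherianRing T :=
    (Groth.Agent.Lib.Helper24.HensNoeth.isNoetherianRing_iff_of_isStrictHenselization
      (O ⧸ I) T).1 inferInstance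
  haveI : Module.Flat (O ⧸ I) T := (faithfullyFlat_of_isStrictHenselization (O ⧸ I) T).toFlat
  have hGT : LocCoh.IsGorensteinLocalRing T :=
    (Groth.Agent.Lib.helper17.GorFlat.gor_iff_of_flat (O ⧸ I) T).2 ⟨h, gor_field_fibre (O ⧸ I) T⟩
  exact isGorensteinLocalRing_of_ringEquiv e hGT

/-- `O/I` is Gorenstein when `R/IR` is. -/
theorem gor_of_gor_quot (hI : I ≠ ⊤)
    (h : LocCoh.IsGorensteinLocalRing (R ⧸ I.map (algebraMap O R))) :
    LocCoh.IsGorensteinLocalRing (O ⧸ I) := by
  haveI : Module.Flat O R := (faithfullyFlat_of_isStrictHenselization O R).toFlat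
  haveI : Nontrivial (O ⧸ I) := Ideal.Quotient.nontrivial_iff.mpr hI
  haveI : IsLocalRing (O ⧸ I) :=
    IsLocalRing.of_surjective' (Ideal.Quotient.mk _) Ideal.Quotient.mk_surjective
  have hIR : I.map (algebraMap O R) ≠ ⊤ := Groth.Agent.Lib.Helper24.FlatQuot.map_ne_top O R I hI
  haveI : Nontrivial (R ⧸ I.map (algebraMap O R)) := Ideal.Quotient.nontrivial_iff.mpr hIR
  haveI : IsLocalRing (R ⧸ I.map (algebraMap O R)) :=
    IsLocalRing.of_surjective' (Ideal.Quotient.mk _) Ideal.Quotient.mk_surjective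
  haveI := Groth.Agent.Lib.Helper24.FlatQuot.flat_quotient O R I
  haveI := Groth.Agent.Lib.Helper24.FlatQuot.isLocalHom_quotient O R I hI
  haveI : Module.FaithfullyFlat (O ⧸ I) (R ⧸ I.map (algebraMap O R)) :=
    Module.FaithfullyFlat.of_flat_of_isLocalHom
  haveI : IsNoetherianRing (R ⧸ I.map (algebraMap O R)) := by haveI := h; infer_instance
  haveI : IsNoetherianRing (O ⧸ I) :=
    Groth.Agent.Lib.Helper24.NoethLimit.isNoetherianRing_of_faithfullyFlat _
      (R ⧸ I.map (algebraMap O R))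
  exact ((gor_quot_flat' O R I hI).1 h).1

end SH


section Main

variable {O' O R' R : Type u} [CommRing O'] [CommRing O] [CommRing R'] [CommRing R]
  [IsLocalRing O'] [IsLocalRing O] [IsLocalRing R'] [IsLocalRing R]
  [Algebra O' R'] [IsLocalHom (algebraMap O' R')] [Hensel.IsStrictHenselization O' R']
  [Algebra O R] [IsLocalHom (algebraMap O R)] [Hensel.IsStrictHenselization O R]

/-- A local homomorphism is flat with Gorenstein closed fibre iff the induced map of strict
henselizations is. -/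
theorem gor_hom_iff_strictHenselization (ψ : O' →+* O) [IsLocalHom ψ] (φ : R' →+* R)
    (hφ : φ.comp (algebraMap O' R') = (algebraMap O R).comp ψ) :
    (ψ.Flat ∧ LocCoh.IsGorensteinLocalRing (O ⧸ (maximalIdeal O').map ψ)) ↔
      (φ.Flat ∧ LocCoh.IsGorensteinLocalRing (R ⧸ (maximalIdeal R').map φ)) := by
  set I : Ideal O := (maximalIdeal O').map ψ with hI
  have hIne : I ≠ ⊤ :=
    ne_top_of_le_ne_top (maximalIdeal.isMaximal O).ne_top
      (((IsLocalRing.local_hom_TFAE ψ).out 0 2 rfl rfl).mp inferInstance)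
  have hJ : (maximalIdeal R').map φ = I.map (algebraMap O R) := by
    rw [← map_maximalIdeal_of_isStrictHenselization O' R', Ideal.map_map, hφ, ← Ideal.map_map]
  have hG : LocCoh.IsGorensteinLocalRing (R ⧸ (maximalIdeal R').map φ) ↔
      LocCoh.IsGorensteinLocalRing (R ⧸ I.map (algebraMap O R)) :=
    isGorensteinLocalRing_iff_of_ringEquiv (Ideal.quotEquivOfEq hJ)
  rw [hG]
  letI := ψ.toAlgebra
  letI := φ.toAlgebra
  letI : Algebra O' R := ((algebraMap O R).comp ψ).toAlgebra
  haveI : IsScalarTower O' O R := IsScalarTower.of_algebraMap_eq' rfl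
  haveI : IsScalarTower O' R' R := IsScalarTower.of_algebraMap_eq' hφ.symm
  haveI hffO : Module.FaithfullyFlat O R := faithfullyFlat_of_isStrictHenselization O R
  haveI hffO' : Module.FaithfullyFlat O' R' := faithfullyFlat_of_isStrictHenselization O' R'
  have hflat : ψ.Flat ↔ φ.Flat := by
    change Module.Flat O' O ↔ Module.Flat R' R
    constructor
    · intro h
      haveI := h
      haveI : Module.Flat O' R := Module.Flat.trans O' O R
      exact Groth.Agent.Lib.Helper24.FlatOverIndEtale.flat_of_isIndEtale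
        (Groth.Agent.S12237.result O' R') R
    · intro h
      haveI := h
      haveI : Module.Flat O' R := Module.Flat.trans O' R' R
      exact Groth.Agent.Lib.helper17.CMComp.flat_of_comp_of_faithfullyFlat O' O R
  rw [hflat]
  refine and_congr_right fun _ => ?_
  exact ⟨gor_quot_of_gor O R I hIne, gor_of_gor_quot O R I hIne⟩

end Main

end Groth.Agent.Lib.helper17.GorStrictHens
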