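import Mathlib
import Groth.Prelude.Def_Dual3
import Groth.Prelude.Def_AlgSpMor5
import Groth.Agent.Lib.Helper17.GorAtEtale
import Groth.Agent.Lib.Helper17.LocPAtChart
import Groth.Agent.Lib.Helper11.AlgSpBasic
import Groth.Agent.Lib.Helper17.GorStrictHens

/-!
# helper17: Gorenstein / Noetherian local rings of étale charts of a sheaf

* `noeth_stalk_iff_of_etale`, `gor_stalk_iff_of_etale'`: étale invariance of Noetherian / Gorenstein
  local rings (no Noetherian instance hypotheses).
* `forall_chart_of_etaleLocally`: a pointwise étale-local property of one étale surjective chart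
  holds on every étale chart.
* `gor_stalk_of_etaleLocally`, `noeth_stalk_of_etaleLocally`.
-/

set_option autoImplicit false
set_option linter.style.haveILetI false
universe u
open CategoryTheory CategoryTheory.Limits AlgebraicGeometry IsLocalRing
open AlgSp

namespace Groth.Agent.Lib.helper17.GorSpaceChart

open Groth.Agent.Lib.helper17.EtaleStalk

section Stalk

variable {U X : Scheme.{u}}

theorem noeth_stalk_iff_of_etale (a : U ⟶ X) [Etale a] (u : U) :
    IsNoetherianRing (U.presheaf.stalk u) ↔ IsNoetherianRing (X.presheaf.stalk (a u)) := by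
  letI := (a.stalkMap u).hom.toAlgebra
  haveI : IsLocalHom (algebraMap (X.presheaf.stalk (a u)) (U.presheaf.stalk u)) :=
    inferInstanceAs (IsLocalHom (a.stalkMap u).hom)
  haveI : Module.Flat (X.presheaf.stalk (a u)) (U.presheaf.stalk u) := Flat.stalkMap a u
  haveI : Algebra.EssFiniteType (X.presheaf.stalk (a u)) (U.presheaf.stalk u) :=
    LocallyOfFiniteType.stalkMap a u
  haveI : Module.FaithfullyFlat (X.presheaf.stalk (a u)) (U.presheaf.stalk u) :=
    Module.FaithfullyFlat.of_flat_of_isLocalHom
  constructor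
  · intro h
    exact Groth.Agent.Lib.Helper24.NoethLimit.isNoetherianRing_of_faithfullyFlat
      (X.presheaf.stalk (a u)) (U.presheaf.stalk u)
  · intro h
    exact Algebra.EssFiniteType.isNoetherianRing (X.presheaf.stalk (a u)) (U.presheaf.stalk u)

theorem gor_stalk_iff_of_etale' (a : U ⟶ X) [Etale a] (u : U) :
    LocCoh.IsGorensteinLocalRing (U.presheaf.stalk u) ↔
      LocCoh.IsGorensteinLocalRing (X.presheaf.stalk (a u)) := by
  constructor
  · intro h
    haveI : IsNoetherianRing (U.presheaf.stalk u) := by haveI := h; infer_instance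
    haveI : IsNoetherianRing (X.presheaf.stalk (a u)) := (noeth_stalk_iff_of_etale a u).1 ‹_›
    exact (gor_stalk_iff_of_etale a u).1 h
  · intro h
    haveI : IsNoetherianRing (X.presheaf.stalk (a u)) := by haveI := h; infer_instance
    haveI : IsNoetherianRing (U.presheaf.stalk u) := (noeth_stalk_iff_of_etale a u).2 ‹_›
    exact (gor_stalk_iff_of_etale a u).2 h

end Stalk

variable {S : Scheme.{u}}

/-- a pointwise étale-local property of one étale surjective chart holds on every étale chart. -/
theorem forall_chart_of_etaleLocally {Q : ∀ U : Scheme.{u}, ↥U → Prop}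
    (hQ : ∀ {V U : Scheme.{u}} (g : V ⟶ U) [Etale g] (v : ↥V), Q V v ↔ Q U (g v))
    {F : Sp S} {P : Scheme.{u} → Prop} (hP : ∀ U, P U → ∀ u : ↥U, Q U u)
    (hF : EtaleLocally P F) {U : Over S} (a : (yon S).obj U ⟶ F) (ha : RepWith @Etale a)
    (u : ↥U.left) : Q U.left u := by
  obtain ⟨U1, p, hpe, hps, hP1⟩ := hF
  obtain ⟨u1, hu1⟩ := Groth.Agent.Lib.helper11.surjective_ofPt p hps (Points.ofPt a u)
  obtain ⟨W, g, g', w, hg, hg', -, hw, hw'⟩ :=
    Groth.Agent.Lib.helper5.ChartInd.exists_common_chart a ha p hpe u u1 hu1.symm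
  rw [← hw, ← hQ g.left w, hQ g'.left w, hw']
  exact hP _ hP1 u1

theorem gor_stalk_of_etaleLocally {F : Sp S} (hF : EtaleLocally Dual3.IsGorenstein F)
    {U : Over S} (a : (yon S).obj U ⟶ F) (ha : RepWith @Etale a) (u : ↥U.left) :
    LocCoh.IsGorensteinLocalRing (U.left.presheaf.stalk u) :=
  forall_chart_of_etaleLocally
    (Q := fun U u => LocCoh.IsGorensteinLocalRing (U.presheaf.stalk u))
    (fun g _ v => gor_stalk_iff_of_etale' g v) (fun _ h u => h.2 u) hF a ha u

theorem noeth_stalk_of_etaleLocally {F : Sp S} (hF : IsLocNoethSp F)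
    {U : Over S} (a : (yon S).obj U ⟶ F) (ha : RepWith @Etale a) (u : ↥U.left) :
    IsNoetherianRing (U.left.presheaf.stalk u) :=
  forall_chart_of_etaleLocally
    (Q := fun U u => IsNoetherianRing (U.presheaf.stalk u))
    (fun g _ v => noeth_stalk_iff_of_etale g v)
    (fun U h u => by haveI : IsLocallyNoetherian U := h; infer_instance) hF a ha u

/-- the strict henselization of a Gorenstein local ring is Gorenstein. -/
theorem gor_strictHenselization (O R : Type u) [CommRing O] [CommRing R] [IsLocalRing O]
    [IsLocalRing R] [Algebra O R] [IsLocalHom (algebraMap O R)]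
    [Hensel.IsStrictHenselization O R] (h : LocCoh.IsGorensteinLocalRing O) :
    LocCoh.IsGorensteinLocalRing R := by
  haveI : IsNoetherianRing O := by haveI := h; infer_instance
  haveI : IsNoetherianRing R :=
    (Groth.Agent.Lib.Helper24.HensNoeth.isNoetherianRing_iff_of_isStrictHenselization O R).1
      inferInstance
  haveI : Module.Flat O R :=
    (Groth.Agent.Lib.Helper24.StrictHens.faithfullyFlat_of_isStrictHenselization O R).toFlat
  exact (Groth.Agent.Lib.helper17.GorFlat.gor_iff_of_flat O R).2
    ⟨h, Groth.Agent.Lib.helper17.GorStrictHens.gor_field_fibre O R⟩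

/-- a flat morphism of schemes with Gorenstein source local ring and Noetherian target local ring
is Gorenstein at the point, and the target local ring is Gorenstein. -/
theorem isGorensteinAt_of_flat_of_gor {U V : Scheme.{u}} (h : U ⟶ V) [Flat h] (x : ↥U)
    (hG : LocCoh.IsGorensteinLocalRing (U.presheaf.stalk x))
    (hN : IsNoetherianRing (V.presheaf.stalk (h x))) :
    Dual3.IsGorensteinAt h x ∧ LocCoh.IsGorensteinLocalRing (V.presheaf.stalk (h x)) := by
  letI := (h.stalkMap x).hom.toAlgebra
  haveI : IsLocalHom (algebraMap (V.presheaf.stalk (h x)) (U.presheaf.stalk x)) :=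
    inferInstanceAs (IsLocalHom (h.stalkMap x).hom)
  have hfl : (h.stalkMap x).hom.Flat := Flat.stalkMap h x
  haveI : Module.Flat (V.presheaf.stalk (h x)) (U.presheaf.stalk x) := hfl
  haveI : IsNoetherianRing (U.presheaf.stalk x) := by haveI := hG; infer_instance
  have := (Groth.Agent.Lib.helper17.GorFlat.gor_iff_of_flat (V.presheaf.stalk (h x))
    (U.presheaf.stalk x)).1 hG
  exact ⟨(Groth.Agent.Lib.helper17.GorAtEtale.isGorensteinAt_iff h x).2 ⟨hfl, this.2⟩, this.1⟩

end Groth.Agent.Lib.helper17.GorSpaceChart
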