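import Mathlib
import Groth.Prelude.Def_Dual3
import Groth.Prelude.Def_AlgSpMor5
import Groth.Prelude.Def_AlgSpDec
import Groth.Agent.Lib.Helper17.GorSpaceChart

/-!
# helper17: Noetherian local rings of scheme fibres from locally Noetherian sheaf fibres

`noeth_fibRing_of_chart`: for `φ : X ⟶ Z` in `Sp S`, a commutative chart square `a ≫ φ = h_h ≫ c`
such that the induced `h_U ⟶ X ×_Z h_W` is representable étale, and a point `u` of `U` such that
the fibre of `φ` over the residue field point of `h u` is a locally Noetherian sheaf: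
`O_{U,u} / m_{h u} O_{U,u}` is Noetherian.
-/

set_option autoImplicit false
set_option linter.style.haveILetI false
universe u
open CategoryTheory CategoryTheory.Limits AlgebraicGeometry IsLocalRing
open AlgSp

namespace Groth.Agent.Lib.helper17.FibreNoethChart

open Groth.Agent.Lib.helper17.FibreStalk

variable {S : Scheme.{u}}

/-- Noetherianity of `O_{X,x}/m_y O_{X,x}` from a pullback square presenting the fibre. -/
theorem noeth_fibRing_of_isPullback {X Y Z : Scheme.{u}} (f : X ⟶ Y) (y : Y) (ι : Z ⟶ X)
    (π : Z ⟶ Spec (Y.residueField y)) (h : IsPullback ι π f (Y.fromSpecResidueField y)) (z : Z)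
    (hN : IsNoetherianRing (Z.presheaf.stalk z)) : IsNoetherianRing (FibRing f (ι z)) := by
  have hk := ker_stalkMap_of_isPullback f y ι π h z
  haveI : IsPreimmersion ι :=
    MorphismProperty.of_isPullback (P := @IsPreimmersion) h.flip inferInstance
  have e : FibRing f (ι z) ≃+* Z.presheaf.stalk z :=
    (Ideal.quotEquivOfEq hk.symm).trans
      (RingHom.quotientKerEquivOfSurjective (ι.stalkMap_surjective z))
  exact isNoetherianRing_of_ringEquiv _ e.symm

/-- Key lemma: Noetherian fibre local ring of a chart from a locally Noetherian sheaf fibre. -/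
theorem noeth_fibRing_of_chart {X Z : Sp S} (φ : X ⟶ Z) {U W : Over S}
    (a : (yon S).obj U ⟶ X) (c : (yon S).obj W ⟶ Z) (h : U ⟶ W)
    (hc : a ≫ φ = (yon S).map h ≫ c)
    (he : RepWith @Etale (pullback.lift a ((yon S).map h) hc : (yon S).obj U ⟶ pullback φ c))
    (u : ↥U.left)
    (hN : IsLocNoethSp (pullback φ (FieldPt.ofPt c (h.left u)).toHom)) :
    IsNoetherianRing (FibRing h.left u) := by
  set w := h.left u with hw
  set k := FieldPt.ofPt c w with hk
  let ι : k.pt ⟶ W := Over.homMk (W.left.fromSpecResidueField w) rfl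
  have hkι : k.toHom = (yon S).map ι ≫ c := FieldPt.toHom_ofPt c w
  -- the scheme fibre, in `Over S`
  have sqP : IsPullback (pullback.fst h ι) (pullback.snd h ι) h ι := IsPullback.of_hasPullback _ _
  have sqPy := sqP.map (yon S)
  have sqPs : IsPullback (pullback.fst h ι).left (pullback.snd h ι).left h.left ι.left :=
    sqP.map (Over.forget S)
  -- the sheaf fibre `Q = X ×_Z Spec κ(w)` and `X_W = X ×_Z W`
  have sqQ : IsPullback (pullback.fst φ k.toHom) (pullback.snd φ k.toHom) φ k.toHom :=
    IsPullback.of_hasPullback _ _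
  have sqXW : IsPullback (pullback.fst φ c) (pullback.snd φ c) φ c := IsPullback.of_hasPullback _ _
  have ht : pullback.fst φ k.toHom ≫ φ = (pullback.snd φ k.toHom ≫ (yon S).map ι) ≫ c := by
    rw [sqQ.w, hkι, Category.assoc]
  let t : pullback φ k.toHom ⟶ pullback φ c := pullback.lift _ _ ht
  have ht1 : t ≫ pullback.fst φ c = pullback.fst φ k.toHom := pullback.lift_fst _ _ _
  have ht2 : t ≫ pullback.snd φ c = pullback.snd φ k.toHom ≫ (yon S).map ι :=
    pullback.lift_snd _ _ _
  have sqT : IsPullback t (pullback.snd φ k.toHom) (pullback.snd φ c) ((yon S).map ι) := by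
    refine IsPullback.of_right ?_ ht2 sqXW
    rw [ht1, ← hkι]
    exact sqQ
  -- the chart `j : h_P ⟶ Q`
  have hj : ((yon S).map (pullback.fst h ι) ≫ a) ≫ φ =
      (yon S).map (pullback.snd h ι) ≫ k.toHom := by
    rw [Category.assoc, hc, ← Category.assoc, sqPy.w, Category.assoc, hkι]
  let j : (yon S).obj (pullback h ι) ⟶ pullback φ k.toHom := pullback.lift _ _ hj
  have hj1 : j ≫ pullback.fst φ k.toHom = (yon S).map (pullback.fst h ι) ≫ a :=
    pullback.lift_fst _ _ _
  have hj2 : j ≫ pullback.snd φ k.toHom = (yon S).map (pullback.snd h ι) :=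
    pullback.lift_snd _ _ _
  have hcomm : (yon S).map (pullback.fst h ι) ≫ pullback.lift a ((yon S).map h) hc = j ≫ t := by
    apply pullback.hom_ext
    · rw [Category.assoc, pullback.lift_fst, Category.assoc, ht1, hj1]
    · rw [Category.assoc, pullback.lift_snd, Category.assoc, ht2, ← Category.assoc, hj2]
      exact sqPy.w
  have sqJ : IsPullback ((yon S).map (pullback.fst h ι)) j
      (pullback.lift a ((yon S).map h) hc) t := by
    refine IsPullback.of_bot ?_ hcomm sqT
    rw [hj2, pullback.lift_snd]
    exact sqPy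
  have hjE : RepWith @Etale j :=
    (repWith_isStableUnderBaseChange (S := S) @Etale).of_isPullback sqJ he
  -- a point of the fibre over `u`
  obtain ⟨z, hz1, -⟩ : ∃ z : ↥(pullback h ι).left, (pullback.fst h ι).left z = u ∧
      (pullback.snd h ι).left z = (closedPoint (W.left.residueField w) : ↥(Spec _)) := by
    refine Groth.Agent.Lib.helper11.exists_of_isPullback_schemes sqPy u _ ?_
    rw [Groth.Agent.Lib.helper11.ofPt_yon_map, Groth.Agent.Lib.helper11.ofPt_yon_map]
    congr 1
    exact (Scheme.fromSpecResidueField_apply _ _).symm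
  have hNz : IsNoetherianRing ((pullback h ι).left.presheaf.stalk z) :=
    Groth.Agent.Lib.helper17.GorSpaceChart.noeth_stalk_of_etaleLocally hN j hjE z
  have := noeth_fibRing_of_isPullback h.left w (pullback.fst h ι).left (pullback.snd h ι).left
    sqPs z hNz
  rwa [hz1] at this

end Groth.Agent.Lib.helper17.FibreNoethChart
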