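import Mathlib
import Groth.Prelude.Def_Dual3
import Groth.Prelude.Def_AlgSpMor5
import Groth.Prelude.Def_AlgSpDec
import Groth.Agent.Lib.Helper17.FibreNoethChart
import Groth.Agent.Lib.Helper5.AlgSpFibreProduct

/-!
# helper17: the scheme fibre of a chart as an étale chart of the sheaf fibre

`fibre_chart`: for `φ : X ⟶ Z` in `Sp S`, a commutative chart square `a ≫ φ = h_h ≫ c`, a point
`w` of `W` and ANY pullback `Q` of `φ` along the residue field point of `w`, the scheme fibre
`U ×_W Spec κ(w)` maps to `Q`, and this map is a base change of `h_U ⟶ X ×_Z h_W`.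
-/

set_option autoImplicit false
set_option linter.style.haveILetI false
universe u
open CategoryTheory CategoryTheory.Limits AlgebraicGeometry IsLocalRing
open AlgSp

namespace Groth.Agent.Lib.helper17.FibreChart

open Groth.Agent.Lib.helper17.FibreStalk

variable {S : Scheme.{u}}

/-- the residue field point of `w` as a morphism in `Over S`. -/
noncomputable abbrev resPt (W : Over S) (w : ↥W.left) :
    Over.mk (W.left.fromSpecResidueField w ≫ W.hom) ⟶ W :=
  Over.homMk (W.left.fromSpecResidueField w) rfl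

/-- `O_{X,x}/m_y O_{X,x} ≃ O_{Z,z}` from a pullback square presenting the fibre. -/
noncomputable def fibRingEquivOfIsPullback {X Y Z : Scheme.{u}} (f : X ⟶ Y) (y : Y) (ι : Z ⟶ X)
    (π : Z ⟶ Spec (Y.residueField y)) (h : IsPullback ι π f (Y.fromSpecResidueField y)) (z : Z) :
    FibRing f (ι z) ≃+* Z.presheaf.stalk z :=
  haveI : IsPreimmersion ι :=
    MorphismProperty.of_isPullback (P := @IsPreimmersion) h.flip inferInstance
  (Ideal.quotEquivOfEq (ker_stalkMap_of_isPullback f y ι π h z).symm).trans
    (RingHom.quotientKerEquivOfSurjective (ι.stalkMap_surjective z))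

/-- stalks of the scheme fibre `U ×_W Spec κ(w)` (in `Over S`). -/
noncomputable def stalkEquiv {U W : Over S} (h : U ⟶ W) (w : ↥W.left)
    (z : ↥(pullback h (resPt W w)).left) :
    FibRing h.left ((pullback.fst h (resPt W w)).left z) ≃+*
      (pullback h (resPt W w)).left.presheaf.stalk z :=
  fibRingEquivOfIsPullback h.left w (pullback.fst h (resPt W w)).left
    (pullback.snd h (resPt W w)).left
    ((IsPullback.of_hasPullback h (resPt W w)).map (Over.forget S)) z

theorem exists_point {U W : Over S} (h : U ⟶ W) (u : ↥U.left) :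
    ∃ z : ↥(pullback h (resPt W (h.left u))).left,
      (pullback.fst h (resPt W (h.left u))).left z = u := by
  have sqPy := (IsPullback.of_hasPullback h (resPt W (h.left u))).map (yon S)
  obtain ⟨z, hz1, -⟩ : ∃ z : ↥(pullback h (resPt W (h.left u))).left,
      (pullback.fst h (resPt W (h.left u))).left z = u ∧
      (pullback.snd h (resPt W (h.left u))).left z =
        (closedPoint (W.left.residueField (h.left u)) : ↥(Spec _)) := by
    refine Groth.Agent.Lib.helper11.exists_of_isPullback_schemes sqPy u _ ?_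
    rw [Groth.Agent.Lib.helper11.ofPt_yon_map, Groth.Agent.Lib.helper11.ofPt_yon_map]
    congr 1
    exact (Scheme.fromSpecResidueField_apply _ _).symm
  exact ⟨z, hz1⟩

theorem fibre_chart {X Z : Sp S} (φ : X ⟶ Z) {U W : Over S}
    (a : (yon S).obj U ⟶ X) (c : (yon S).obj W ⟶ Z) (h : U ⟶ W)
    (hc : a ≫ φ = (yon S).map h ≫ c) (w : ↥W.left) {Q : Sp S} (q1 : Q ⟶ X)
    (q2 : Q ⟶ (yon S).obj (Over.mk (W.left.fromSpecResidueField w ≫ W.hom)))
    (sqQ : IsPullback q1 q2 φ ((yon S).map (resPt W w) ≫ c)) :
    ∃ j : (yon S).obj (pullback h (resPt W w)) ⟶ Q,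
      j ≫ q1 = (yon S).map (pullback.fst h (resPt W w)) ≫ a ∧
      j ≫ q2 = (yon S).map (pullback.snd h (resPt W w)) ∧
      ∀ (P : MorphismProperty Scheme.{u}),
        RepWith P (pullback.lift a ((yon S).map h) hc : (yon S).obj U ⟶ pullback φ c) →
          RepWith P j := by
  have sqP : IsPullback (pullback.fst h (resPt W w)) (pullback.snd h (resPt W w)) h (resPt W w) :=
    IsPullback.of_hasPullback _ _
  have sqPy := sqP.map (yon S)
  have sqXW : IsPullback (pullback.fst φ c) (pullback.snd φ c) φ c := IsPullback.of_hasPullback _ _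
  have ht : q1 ≫ φ = (q2 ≫ (yon S).map (resPt W w)) ≫ c := by
    rw [sqQ.w, Category.assoc]
  let t : Q ⟶ pullback φ c := pullback.lift _ _ ht
  have ht1 : t ≫ pullback.fst φ c = q1 := pullback.lift_fst _ _ _
  have ht2 : t ≫ pullback.snd φ c = q2 ≫ (yon S).map (resPt W w) := pullback.lift_snd _ _ _
  have sqT : IsPullback t q2 (pullback.snd φ c) ((yon S).map (resPt W w)) := by
    refine IsPullback.of_right ?_ ht2 sqXW
    rw [ht1]
    exact sqQ
  have hj : ((yon S).map (pullback.fst h (resPt W w)) ≫ a) ≫ φ =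
      (yon S).map (pullback.snd h (resPt W w)) ≫ ((yon S).map (resPt W w) ≫ c) := by
    rw [Category.assoc, hc, ← Category.assoc, sqPy.w, Category.assoc]
  let j : (yon S).obj (pullback h (resPt W w)) ⟶ Q := sqQ.lift _ _ hj
  have hj1 : j ≫ q1 = (yon S).map (pullback.fst h (resPt W w)) ≫ a := sqQ.lift_fst _ _ _
  have hj2 : j ≫ q2 = (yon S).map (pullback.snd h (resPt W w)) := sqQ.lift_snd _ _ _
  have hcomm : (yon S).map (pullback.fst h (resPt W w)) ≫ pullback.lift a ((yon S).map h) hc =
      j ≫ t := by
    apply pullback.hom_ext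
    · rw [Category.assoc, pullback.lift_fst, Category.assoc, ht1, hj1]
    · rw [Category.assoc, pullback.lift_snd, Category.assoc, ht2, ← Category.assoc, hj2]
      exact sqPy.w
  have sqJ : IsPullback ((yon S).map (pullback.fst h (resPt W w))) j
      (pullback.lift a ((yon S).map h) hc) t := by
    refine IsPullback.of_bot ?_ hcomm sqT
    rw [hj2, pullback.lift_snd]
    exact sqPy
  exact ⟨j, hj1, hj2, fun P he =>
    (repWith_isStableUnderBaseChange (S := S) P).of_isPullback sqJ he⟩

/-- an étale surjective chart of `X ×_Y h_V` for a chart `b : h_V ⟶ Y`. -/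
theorem exists_chart_over {X Y : Sp S} (hX : IsAlgSpace X) (hY : IsAlgSpace Y) (f : X ⟶ Y)
    {V : Over S} (b : (yon S).obj V ⟶ Y) (hbe : RepWith @Etale b) :
    ∃ (U : Over S) (a : (yon S).obj U ⟶ X) (h : U ⟶ V) (hc : a ≫ f = (yon S).map h ≫ b),
      RepWith @Etale a ∧ (RepWith @Surjective b → RepWith @Surjective a) ∧
      RepWith @Etale (pullback.lift a ((yon S).map h) hc : (yon S).obj U ⟶ pullback f b) ∧
      RepWith @Surjective (pullback.lift a ((yon S).map h) hc : (yon S).obj U ⟶ pullback f b) := by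
  have sqF : IsPullback (pullback.fst f b) (pullback.snd f b) f b := IsPullback.of_hasPullback _ _
  have hFV : IsAlgSpace (pullback f b) :=
    Groth.Agent.Lib.helper5.isAlgSpace_of_isPullback hY.diag hX (IsAlgSpace.yon_obj V) sqF
  obtain ⟨U, q, hqe, hqs⟩ := hFV.atlas
  obtain ⟨h, hh⟩ := (yon S).map_surjective (q ≫ pullback.snd f b)
  have hfe : RepWith @Etale (pullback.fst f b) :=
    (RepWith (S := S) @Etale).of_isPullback sqF.flip hbe
  have hae : RepWith @Etale (q ≫ pullback.fst f b) :=
    (RepWith (S := S) @Etale).comp_mem _ _ hqe hfe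
  have haf : (q ≫ pullback.fst f b) ≫ f = (yon S).map h ≫ b := by
    rw [Category.assoc, sqF.w, hh, Category.assoc]
  have hq : pullback.lift (q ≫ pullback.fst f b) ((yon S).map h) haf = q := by
    apply pullback.hom_ext
    · rw [pullback.lift_fst]
    · rw [pullback.lift_snd, hh]
  refine ⟨U, q ≫ pullback.fst f b, h, haf, hae, fun hbs => ?_, ?_, ?_⟩
  · exact (RepWith (S := S) @Surjective).comp_mem _ _ hqs
      ((RepWith (S := S) @Surjective).of_isPullback sqF.flip hbs)
  · rw [hq]; exact hqe
  · rw [hq]; exact hqs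

end Groth.Agent.Lib.helper17.FibreChart
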