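import Mathlib
import Groth.Prelude.Def_CurvBase
import Groth.Agent.Lib.Helper17.FibreStalk
import Groth.Agent.Lib.Helper3.StalkBC2

/-!
# The local ring of a fibre as a quotient of the local ring of the total space (helper17)

`exists_fibre_hom f t`: a surjection `O_{T,t} → O_{T_s,t}` (`s = f t`) with kernel `m_s O_{T,t}`,
compatible with the `κ(s)`-algebra structure `Curv2.stalkMap` on the local ring of the fibre.
-/

set_option autoImplicit false
set_option linter.style.haveILetI false
universe u
open CategoryTheory CategoryTheory.Limits AlgebraicGeometry IsLocalRing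

namespace Groth.Agent.Lib.helper17.FibreStalk3

/-- local homomorphisms out of a stalk are determined by the induced morphism from `Spec`. -/
theorem hom_ext_of_specMap {X : Scheme.{u}} {R : CommRingCat.{u}} [IsLocalRing R] (x : X)
    (g₁ g₂ : X.presheaf.stalk x ⟶ R) [h₁ : IsLocalHom g₁.hom] [h₂ : IsLocalHom g₂.hom]
    (h : Spec.map g₁ ≫ X.fromSpecStalk x = Spec.map g₂ ≫ X.fromSpecStalk x) : g₁ = g₂ := by
  have h3 : (⟨x, g₁, h₁⟩ : Σ x, { f : X.presheaf.stalk x ⟶ R // IsLocalHom f.hom }) =
      ⟨x, g₂, h₂⟩ := (SpecToEquivOfLocalRing X R).symm.injective h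
  obtain ⟨_, h4⟩ := SpecToEquivOfLocalRing_eq_iff.1 h3
  simpa using h4

theorem comap_stalkSpecializes_map_maximalIdeal {T S : Scheme.{u}} (f : T ⟶ S) {x x' : T}
    (h : x' = x) :
    Ideal.comap (T.presheaf.stalkSpecializes (specializes_of_eq h)).hom
      ((maximalIdeal (S.presheaf.stalk (f x'))).map (f.stalkMap x').hom) =
    (maximalIdeal (S.presheaf.stalk (f x))).map (f.stalkMap x).hom := by
  subst h
  rw [TopCat.Presheaf.stalkSpecializes_refl]
  rfl

theorem exists_fibre_hom {T S : Scheme.{u}} (f : T ⟶ S) (t : T) :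
    ∃ ψ : T.presheaf.stalk t →+* (f.fiber (f t)).presheaf.stalk (f.asFiber t),
      Function.Surjective ψ ∧
      RingHom.ker ψ = (maximalIdeal (S.presheaf.stalk (f t))).map (f.stalkMap t).hom ∧
      ∀ a : S.presheaf.stalk (f t), ψ ((f.stalkMap t).hom a) =
        @Curv2.stalkMap (S.residueField (f t)) _ (f.fiber (f t))
          ⟨f.fiberToSpecResidueField (f t)⟩ (f.asFiber t) (IsLocalRing.residue _ a) := by
  letI inst : (f.fiber (f t)).Over (Spec (CommRingCat.of (S.residueField (f t)))) :=
    ⟨f.fiberToSpecResidueField (f t)⟩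
  have hpt : f.fiberι (f t) (f.asFiber t) = t := f.fiberι_asFiber t
  let σ : T.presheaf.stalk t ⟶ T.presheaf.stalk (f.fiberι (f t) (f.asFiber t)) :=
    T.presheaf.stalkSpecializes (specializes_of_eq hpt)
  have hσiso : IsIso σ := by
    have : σ = (T.presheaf.stalkCongr (.of_eq hpt.symm)).hom := by
      rw [TopCat.Presheaf.stalkCongr_hom]
    rw [this]; infer_instance
  let ψc : T.presheaf.stalk t ⟶ (f.fiber (f t)).presheaf.stalk (f.asFiber t) :=
    σ ≫ (f.fiberι (f t)).stalkMap (f.asFiber t)
  refine ⟨ψc.hom, ?_, ?_, ?_⟩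
  · have h1 : Function.Surjective σ.hom := (ConcreteCategory.bijective_of_isIso σ).2
    have h2 := (f.fiberι (f t)).stalkMap_surjective (f.asFiber t)
    change Function.Surjective (((f.fiberι (f t)).stalkMap (f.asFiber t)).hom.comp σ.hom)
    exact h2.comp h1
  · change RingHom.ker (((f.fiberι (f t)).stalkMap (f.asFiber t)).hom.comp σ.hom) = _
    rw [← RingHom.comap_ker, FibreStalk.ker_fiberι_stalkMap]
    exact comap_stalkSpecializes_map_maximalIdeal f hpt
  · intro a
    let alg : (S.residueField (f t)) ⟶ (f.fiber (f t)).presheaf.stalk (f.asFiber t) :=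
      CommRingCat.ofHom (Curv2.stalkMap (S.residueField (f t)) (f.fiber (f t)) (f.asFiber t))
    let g₁ : S.presheaf.stalk (f t) ⟶ (f.fiber (f t)).presheaf.stalk (f.asFiber t) :=
      f.stalkMap t ≫ ψc
    let g₂ : S.presheaf.stalk (f t) ⟶ (f.fiber (f t)).presheaf.stalk (f.asFiber t) :=
      S.residue (f t) ≫ alg
    haveI : IsLocalHom g₁.hom := by infer_instance
    haveI hl2 : IsLocalHom alg.hom := by
      constructor
      intro x hx
      have hx0 : x ≠ 0 := by
        rintro rfl
        rw [map_zero] at hx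
        exact not_isUnit_zero hx
      exact isUnit_iff_ne_zero.2 hx0
    haveI hl3 : IsLocalHom (S.residue (f t)).hom :=
      inferInstanceAs (IsLocalHom (IsLocalRing.residue (S.presheaf.stalk (f t))))
    haveI : IsLocalHom g₂.hom := by infer_instance
    have key : g₁ = g₂ := by
      apply hom_ext_of_specMap
      have e1 : Spec.map g₁ ≫ S.fromSpecStalk (f t) =
          (f.fiber (f t)).fromSpecStalk (f.asFiber t) ≫ f.fiberι (f t) ≫ f := by
        change Spec.map (f.stalkMap t ≫ σ ≫ (f.fiberι (f t)).stalkMap (f.asFiber t)) ≫ _ = _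
        rw [Spec.map_comp, Spec.map_comp, Category.assoc, Category.assoc,
          Scheme.SpecMap_stalkMap_fromSpecStalk, Scheme.SpecMap_stalkSpecializes_fromSpecStalk_assoc,
          Scheme.SpecMap_stalkMap_fromSpecStalk_assoc]
      have e2 : Spec.map g₂ ≫ S.fromSpecStalk (f t) =
          (f.fiber (f t)).fromSpecStalk (f.asFiber t) ≫ f.fiberToSpecResidueField (f t) ≫
            S.fromSpecResidueField (f t) := by
        change Spec.map (S.residue (f t) ≫ alg) ≫ _ = _
        rw [Spec.map_comp, Category.assoc]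
        have h3 := Groth.Agent.Lib.helper3.StalkBC2.specMap_stalkMap (S.residueField (f t))
          (f.fiber (f t)) (f.asFiber t)
        rw [← Category.assoc ((f.fiber (f t)).fromSpecStalk (f.asFiber t))]
        erw [h3]
        rfl
      rw [e1, e2, Scheme.Hom.fiber_fac]
    exact congrArg (fun g => g.hom a) key

end Groth.Agent.Lib.helper17.FibreStalk3
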