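import Mathlib
import Groth.Agent.Lib.Helper17.GorRing

/-!
# helper17: `K ⊗[k] R` is Gorenstein for `K/k` an essentially finite type field extension and `R` a
Gorenstein `k`-algebra

* `step`: a simple algebraic step `E ⊂ E' = E[a] ⊂ K`.
* `isGorensteinRing_tensor_of_finite`: `K/E` finite, `R` Gorenstein `E`-algebra ⟹ `K ⊗[E] R`
  Gorenstein.
* `isGorensteinRing_fractionRing_mvPolynomial_tensor`, `isGorensteinRing_tensor_of_essFiniteType`.
-/

set_option autoImplicit false
set_option linter.style.haveILetI false
set_option linter.unusedVariables false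
set_option linter.unusedSectionVars false
universe u

open IsLocalRing TensorProduct LocCoh

namespace Groth.Agent.Lib.helper17.FieldGor

open Groth.Agent.Lib.helper17.GorRing

/-- one algebraic step: `E ⊂ E' ⊂ K`, `E'` generated by one element over `E`. -/
theorem step (E E' K : Type u) [Field E] [Field E'] [Field K] [Algebra E E'] [Algebra E' K]
    [Algebra E K] [IsScalarTower E E' K] (a : E') (ha : Algebra.adjoin E {a} = ⊤)
    (R : Type u) [CommRing R] [Algebra E R] [IsGorensteinRing R]
    (hIH : ∀ (R' : Type u) [CommRing R'] [Algebra E' R'] [IsGorensteinRing R'],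
      IsGorensteinRing (K ⊗[E'] R')) :
    IsGorensteinRing (K ⊗[E] R) := by
  have h1 : IsGorensteinRing (R ⊗[E] E') := by
    refine isGorensteinRing_of_flat_of_adjoin_eq_top R (R ⊗[E] E') ((1 : R) ⊗ₜ[E] a) ?_
    rw [Algebra.adjoin_singleton_eq_range_aeval, AlgHom.range_eq_top]
    exact aeval_one_tmul_surjective E E' R a ha
  haveI : IsGorensteinRing (E' ⊗[E] R) :=
    isGorensteinRing_of_ringEquiv (Algebra.TensorProduct.comm E R E').toRingEquiv
  haveI := hIH (E' ⊗[E] R)
  exact isGorensteinRing_of_ringEquiv
    (Algebra.TensorProduct.cancelBaseChange E E' K K R).toRingEquiv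

theorem adjoin_gen_eq_top (E K : Type u) [Field E] [Field K] [Algebra E K] (α : K)
    (hα : IsIntegral E α) :
    Algebra.adjoin E {(⟨α, IntermediateField.mem_adjoin_simple_self E α⟩ :
      IntermediateField.adjoin E {α})} = ⊤ := by
  apply Subalgebra.map_injective (f := (IntermediateField.adjoin E {α}).val)
    (IntermediateField.adjoin E {α}).val.injective
  rw [AlgHom.map_adjoin, Algebra.map_top, IntermediateField.range_val, Set.image_singleton,
    IntermediateField.adjoin_simple_toSubalgebra_of_isAlgebraic hα.isAlgebraic]
  rfl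

/-- `K ⊗[E] R` is Gorenstein for `K/E` a finite field extension and `R` a Gorenstein `E`-algebra. -/
theorem isGorensteinRing_tensor_of_finite_aux (n : ℕ) : ∀ (E K : Type u) [Field E] [Field K]
    [Algebra E K] [Module.Finite E K], Module.finrank E K = n →
    ∀ (R : Type u) [CommRing R] [Algebra E R] [IsGorensteinRing R],
      IsGorensteinRing (K ⊗[E] R) := by
  induction n using Nat.strong_induction_on with
  | _ n ih =>
  intro E K _ _ _ _ hn R _ _ _
  by_cases hsurj : Function.Surjective (algebraMap E K)
  · let e : E ≃ₐ[E] K :=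
      AlgEquiv.ofBijective (Algebra.ofId E K) ⟨(algebraMap E K).injective, hsurj⟩
    exact isGorensteinRing_of_ringEquiv ((Algebra.TensorProduct.lid E R).symm.trans
      (Algebra.TensorProduct.congr e AlgEquiv.refl)).toRingEquiv
  · have hex : ∃ α : K, ∀ x : E, algebraMap E K x ≠ α := by
      by_contra hcon
      push Not at hcon
      exact hsurj hcon
    obtain ⟨α, hα⟩ := hex
    have hint : IsIntegral E α := Algebra.IsIntegral.isIntegral α
    have hgen := adjoin_gen_eq_top E K α hint
    have hne : IntermediateField.adjoin E {α} ≠ ⊥ := by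
      intro hbot
      have hmem : α ∈ (⊥ : IntermediateField E K) := by
        rw [← hbot]; exact IntermediateField.mem_adjoin_simple_self E α
      obtain ⟨x, hx⟩ := IntermediateField.mem_bot.mp hmem
      exact hα x hx
    have h1 : Module.finrank E (IntermediateField.adjoin E {α}) ≠ 1 := by
      rw [Ne, IntermediateField.finrank_eq_one_iff]; exact hne
    have h2 : 0 < Module.finrank E (IntermediateField.adjoin E {α}) := Module.finrank_pos
    have h3 : 0 < Module.finrank (IntermediateField.adjoin E {α}) K := Module.finrank_pos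
    have h4 := Module.finrank_mul_finrank E (IntermediateField.adjoin E {α}) K
    have hlt : Module.finrank (IntermediateField.adjoin E {α}) K < n := by
      rw [← hn, ← h4]
      have : 2 ≤ Module.finrank E (IntermediateField.adjoin E {α}) := by omega
      nlinarith
    exact step E (IntermediateField.adjoin E {α}) K _ hgen R
      (fun R' _ _ _ => ih _ hlt (IntermediateField.adjoin E {α}) K rfl R')

theorem isGorensteinRing_tensor_of_finite (E K : Type u) [Field E] [Field K]
    [Algebra E K] [Module.Finite E K] (R : Type u) [CommRing R] [Algebra E R]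
    [IsGorensteinRing R] : IsGorensteinRing (K ⊗[E] R) :=
  isGorensteinRing_tensor_of_finite_aux _ E K rfl R

section Main

variable (k K : Type u) [Field k] [Field K] [Algebra k K]
  (R : Type u) [CommRing R] [Algebra k R] [IsGorensteinRing R]

/-- `Frac(k[x_i]) ⊗[k] R` is Gorenstein for `R` a Gorenstein `k`-algebra. -/
theorem isGorensteinRing_fractionRing_mvPolynomial_tensor (ι : Type u) [Finite ι] :
    IsGorensteinRing (FractionRing (MvPolynomial ι k) ⊗[k] R) := by
  classical
  have h0 : IsGorensteinRing (MvPolynomial ι R) := isGorensteinRing_mvPolynomial R ι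
  have h1 : IsGorensteinRing (MvPolynomial ι k ⊗[k] R) :=
    isGorensteinRing_of_ringEquiv
      (((Algebra.TensorProduct.comm k (MvPolynomial ι k) R).toRingEquiv.trans
        (MvPolynomial.algebraTensorAlgEquiv k R).toRingEquiv).symm)
  letI : Algebra (MvPolynomial ι k ⊗[k] R)
      (FractionRing (MvPolynomial ι k) ⊗[MvPolynomial ι k] (MvPolynomial ι k ⊗[k] R)) :=
    Algebra.TensorProduct.rightAlgebra
  have h2 : IsGorensteinRing
      (FractionRing (MvPolynomial ι k) ⊗[MvPolynomial ι k] (MvPolynomial ι k ⊗[k] R)) :=
    isGorensteinRing_of_isLocalization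
      (Algebra.algebraMapSubmonoid (MvPolynomial ι k ⊗[k] R) (nonZeroDivisors (MvPolynomial ι k)))
  exact isGorensteinRing_of_ringEquiv
    (Algebra.TensorProduct.cancelBaseChange k (MvPolynomial ι k) (MvPolynomial ι k)
      (FractionRing (MvPolynomial ι k)) R).toRingEquiv

/-- `K ⊗[k] R` is Gorenstein when `K/k` is an essentially finite type extension of fields and `R` is
a Gorenstein `k`-algebra. -/
theorem isGorensteinRing_tensor_of_essFiniteType [Algebra.EssFiniteType k K] :
    IsGorensteinRing (K ⊗[k] R) := by
  obtain ⟨s, hs⟩ := exists_isTranscendenceBasis k K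
  have hfin : s.Finite := Cardinal.lt_aleph0_iff_set_finite.1
    (hs.cardinalMk_eq_trdeg.trans_lt (trdeg_lt_aleph0 k K))
  haveI : Finite s := hfin.to_subtype
  let E := IntermediateField.adjoin k (Set.range (Subtype.val : s → K))
  haveI : Algebra.IsAlgebraic E K := hs.isAlgebraic_field
  haveI : Algebra.EssFiniteType E K := Algebra.EssFiniteType.of_comp k E K
  haveI : Module.Finite E K := Algebra.finite_of_essFiniteType_of_isAlgebraic
  haveI hR : IsGorensteinRing (E ⊗[k] R) := by
    haveI := isGorensteinRing_fractionRing_mvPolynomial_tensor k R s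
    exact isGorensteinRing_of_ringEquiv
      (Algebra.TensorProduct.congr hs.1.aevalEquivField (AlgEquiv.refl (A₁ := R))).toRingEquiv
  haveI := isGorensteinRing_tensor_of_finite E K (E ⊗[k] R)
  exact isGorensteinRing_of_ringEquiv
    (Algebra.TensorProduct.cancelBaseChange k E K K R).toRingEquiv

end Main

end Groth.Agent.Lib.helper17.FieldGor
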