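import Mathlib
import Groth.Prelude.Def_CAlg
import Groth.Agent.S5777
import Groth.Agent.Lib.Helper26.CM2
import Groth.Agent.Lib.Helper15.Regular

/-!
# Miracle flatness (module version)

`A` regular local, `A → B` local hom of Noetherian local rings, `M` a finite CM `B`-module with
`dim M = dim A + dim M/m_A M`. Then `M` is flat over `A`.
-/

set_option autoImplicit false
set_option linter.style.haveILetI false
universe u

namespace Groth.Agent.Lib.helper17.Miracle

open IsLocalRing RingTheory.Sequence

/-- generators of the maximal ideal of a regular local ring indexed by `Fin d`, `d = dim A`. -/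
theorem exists_generators (A : Type u) [CommRing A] [IsRegularLocalRing A] :
    ∃ (d : ℕ) (x : Fin d → A), (maximalIdeal A).spanFinrank = d ∧
      Ideal.span (Set.range x) = maximalIdeal A ∧ ringKrullDim A = d := by
  classical
  have hfg : (maximalIdeal A).FG := IsNoetherian.noetherian _
  obtain ⟨s, hs, hspan⟩ := Submodule.FG.exists_span_finset_card_eq_spanFinrank hfg
  refine ⟨s.card, fun i => (s.equivFin.symm i : A), hs.symm, ?_, ?_⟩
  · rw [← hspan]
    congr 1
    ext z
    simp only [Set.mem_range, Finset.mem_coe]
    constructor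
    · rintro ⟨i, rfl⟩
      exact (s.equivFin.symm i).2
    · intro hz
      exact ⟨s.equivFin ⟨z, hz⟩, by simp⟩
  · rw [← IsRegularLocalRing.spanFinrank_maximalIdeal (R := A), hs]

theorem ofList_ofFn {A : Type u} [CommRing A] {d : ℕ} (x : Fin d → A) :
    Ideal.ofList (List.ofFn x) = Ideal.span (Set.range x) := by
  change Ideal.span {r | r ∈ List.ofFn x} = _
  congr 1
  ext z
  simp [List.mem_ofFn]

theorem ofList_map {A B : Type u} [CommRing A] [CommRing B] (f : A →+* B) (l : List A) :
    Ideal.ofList (l.map f) = (Ideal.ofList l).map f := by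
  change Ideal.span {r | r ∈ l.map f} = Ideal.map f (Ideal.span {r | r ∈ l})
  rw [Ideal.map_span]
  congr 1
  ext z
  simp [List.mem_map]

/-- Miracle flatness, module version. -/
theorem flat_of_cm (A B : Type u) [CommRing A] [CommRing B] [IsRegularLocalRing A]
    [IsNoetherianRing B] [IsLocalRing B] [Algebra A B] [IsLocalHom (algebraMap A B)]
    (M : Type u) [AddCommGroup M] [Module B M] [Module A M] [IsScalarTower A B M]
    [Module.Finite B M]
    (hCM : LocCoh.IsCohenMacaulayModule B M)
    (hdim : Module.supportDim B M = ringKrullDim A +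
      Module.supportDim B (M ⧸ ((maximalIdeal A).map (algebraMap A B) • (⊤ : Submodule B M)))) :
    Module.Flat A M := by
  obtain ⟨d, x, hd, hx, hdimA⟩ := exists_generators A
  set fs : List A := List.ofFn x with hfs
  have hfsI : Ideal.ofList fs = maximalIdeal A := by rw [hfs, ofList_ofFn, hx]
  have hA : IsWeaklyRegular A fs := Groth.Agent.Lib.helper15.isWeaklyRegular_ofFn A d hd x hx
  have hmem : ∀ f ∈ fs, f ∈ maximalIdeal A := by
    intro f hf
    rw [← hfsI]
    exact Ideal.subset_span hf
  set xs : List B := fs.map (algebraMap A B) with hxs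
  have hxsI : Ideal.ofList xs = (maximalIdeal A).map (algebraMap A B) := by
    rw [hxs, ofList_map, hfsI]
  have hmemB : ∀ y ∈ xs, y ∈ maximalIdeal B := by
    intro y hy
    have : y ∈ Ideal.ofList xs := Ideal.subset_span hy
    rw [hxsI] at this
    exact IsLocalRing.map_maximalIdeal_le (algebraMap A B) this
  have hlen : xs.length = d := by simp [hxs, hfs]
  have hreg : IsWeaklyRegular M xs := by
    refine Groth.Agent.Lib.helper26.Depth.isWeaklyRegular_of_supportDim_quot_ofList xs M hCM hmemB ?_
    rw [hxsI, hlen, hdim, hdimA, add_comm]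
  have hregA : IsWeaklyRegular M fs :=
    (isWeaklyRegular_map_algebraMap_iff B M fs).mp hreg
  refine (Groth.Agent.S5777.result A B M fs hmem hA).mpr ⟨?_, hregA⟩
  have hmax : (Ideal.ofList fs).IsMaximal := hfsI ▸ maximalIdeal.isMaximal A
  letI : Field (A ⧸ Ideal.ofList fs) := Ideal.Quotient.field _
  exact Module.Flat.of_free

end Groth.Agent.Lib.helper17.Miracle
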