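import Mathlib
import Groth.Prelude.Def_CAlg
import Groth.Agent.Lib.Helper17.Miracle
import Groth.Agent.Lib.Helper26.RegularNormal
import Groth.Agent.Lib.Helper26.Depth7
import Groth.Agent.S14670
import Groth.Agent.Lib.Helper17.FibreDim

/-!
# Finite algebras over regular local rings with regular localizations are flat (helper17)

* `height_le_height_comap_of_surjective`: heights can only grow under pullback along a surjection;
* `flat_atPrime_of_finite_regular`: `R` regular local, `S` a finite `R`-algebra, `n` a prime of `S`
  over `m_R`, `T = S_n` a regular local ring with `R → T` injective: then `T` is flat over `R`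
  (going down for `R → S / ker (S → T)` + miracle flatness).
-/

set_option autoImplicit false
set_option linter.style.haveILetI false
universe u

namespace Groth.Agent.Lib.helper17.FiniteRegFlat

open IsLocalRing

/-- heights can only grow under pullback along a surjection. -/
theorem height_le_height_comap_of_surjective {S D : Type*} [CommRing S] [CommRing D]
    (f : S →+* D) (hf : Function.Surjective f) (Q : Ideal D) [Q.IsPrime] [Q.FiniteHeight] :
    Q.height ≤ (Q.comap f).height := by
  obtain ⟨l, hl, hlen⟩ := Q.exists_ltSeries_length_eq_height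
  let l' : LTSeries (PrimeSpectrum S) :=
    l.map (PrimeSpectrum.comap f) (RingHom.strictMono_comap_of_surjective hf)
  rw [← hlen, (⟨Q.comap f, inferInstance⟩ : PrimeSpectrum S).height_eq_orderHeight]
  have h1 : l'.length = l.length := by simp [l']
  rw [← h1]
  apply Order.length_le_height
  simp only [l', LTSeries.last_map, hl]
  exact le_refl _

/-- `R` regular local, `S` a finite `R`-algebra, `n` a prime of `S` over `m_R`, `T = S_n` regular
local, `R → T` injective: then `T` is flat over `R`. -/
theorem flat_atPrime_of_finite_regular (R S T : Type u) [CommRing R] [CommRing S] [CommRing T]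
    [IsRegularLocalRing R] [Algebra R S] [Module.Finite R S]
    (n : Ideal S) [n.IsPrime] (hn : n.comap (algebraMap R S) = maximalIdeal R)
    [Algebra S T] [Algebra R T] [IsScalarTower R S T] [IsLocalization.AtPrime T n]
    [IsRegularLocalRing T] (hinj : Function.Injective (algebraMap R T)) :
    Module.Flat R T := by
  have hint : Algebra.IsIntegral R S := inferInstance
  have hic : IsIntegrallyClosed R := Groth.Agent.Lib.helper26.RegNormal.isIntegrallyClosed R
  have hnoeth : IsNoetherianRing S := IsNoetherianRing.of_finite R S
  haveI : IsDomain T := Groth.Agent.Lib.helper15.isDomain_of_isRegularLocalRing T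
  haveI : IsDomain R := Groth.Agent.Lib.helper15.isDomain_of_isRegularLocalRing R
  set J : Ideal S := (maximalIdeal R).map (algebraMap R S) with hJ
  -- primes of `S` containing `m_R S` are maximal
  have hkey : ∀ P : Ideal S, P.IsPrime → J ≤ P → P.IsMaximal := by
    intro P hP hle
    have hc : P.comap (algebraMap R S) = maximalIdeal R := by
      have h1 : maximalIdeal R ≤ P.comap (algebraMap R S) :=
        Ideal.map_le_iff_le_comap.mp hle
      have h2 : P.comap (algebraMap R S) ≠ ⊤ := (Ideal.comap_isPrime _ P).ne_top
      exact ((maximalIdeal.isMaximal R).eq_of_le h2 h1).symm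
    exact Ideal.isMaximal_of_isIntegral_of_isMaximal_comap P (hc ▸ maximalIdeal.isMaximal R)
  have hJn : J ≤ n := by rw [hJ, Ideal.map_le_iff_le_comap, hn]
  have hnmax : n.IsMaximal := hkey n inferInstance hJn
  have hloc : IsLocalHom (algebraMap R T) := by
    constructor
    intro r hr
    by_contra hnu
    have hrm : r ∈ maximalIdeal R := (IsLocalRing.mem_maximalIdeal r).mpr hnu
    rw [← hn, Ideal.mem_comap] at hrm
    rw [IsScalarTower.algebraMap_apply R S T] at hr
    have := (IsLocalization.AtPrime.isUnit_to_map_iff T n (algebraMap R S r)).mp hr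
    exact this hrm
  have hCMmod : LocCoh.IsCohenMacaulayModule T T := by
    unfold LocCoh.IsCohenMacaulayModule
    rw [Module.supportDim_self_eq_ringKrullDim]
    exact (Groth.Agent.Lib.helper26.Depth.depth_eq_ringKrullDim_of_isRegularLocalRing T).symm
  refine Groth.Agent.Lib.helper17.Miracle.flat_of_cm R T T hCMmod ?_
  set I : Ideal T := (maximalIdeal R).map (algebraMap R T) with hI
  have hIle : I ≤ maximalIdeal T :=
    ((IsLocalRing.local_hom_TFAE (algebraMap R T)).out 0 2 rfl rfl).mp hloc
  have hJI : J.map (algebraMap S T) = I := by
    rw [hJ, hI, Ideal.map_map, ← IsScalarTower.algebraMap_eq]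
  -- fibre ring has dimension zero
  have hfib : ringKrullDim (T ⧸ I) = 0 := by
    have hnt : Nontrivial (T ⧸ I) :=
      Ideal.Quotient.nontrivial_iff.mpr
        (ne_top_of_le_ne_top (maximalIdeal.isMaximal T).ne_top hIle)
    rw [← ringKrullDimZero_iff_ringKrullDim_eq_zero]
    refine Groth.Agent.S14670.krullDimLE_zero_quotient I fun P hP hle => ?_
    have hP'' : (P.comap (algebraMap S T)).IsMaximal := by
      refine hkey _ (Ideal.comap_isPrime _ P) ?_
      rw [← Ideal.map_le_iff_le_comap, hJI]
      exact hle
    have hPq : P.comap (algebraMap S T) ≤ n := by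
      have h1 : P.under S ≤ (maximalIdeal T).under S :=
        Ideal.comap_mono (IsLocalRing.le_maximalIdeal hP.ne_top)
      rwa [IsLocalization.AtPrime.under_maximalIdeal T n] at h1
    have heq : P.comap (algebraMap S T) = n := hP''.eq_of_le hnmax.ne_top hPq
    have : P = maximalIdeal T := by
      have h2 := IsLocalization.map_under n.primeCompl T P
      rw [← h2, show P.under S = n from heq, IsLocalization.AtPrime.map_eq_maximalIdeal]
    rw [this]
    exact maximalIdeal.isMaximal T
  have hItop : (I • (⊤ : Submodule T T)) = I := by
    rw [smul_eq_mul, Ideal.mul_top]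
  rw [Module.supportDim_self_eq_ringKrullDim,
    Module.supportDim_eq_of_equiv (Submodule.quotEquivOfEq _ _ hItop),
    Module.supportDim_quotient_eq_ringKrullDim, hfib, add_zero]
  apply le_antisymm
  · have h := Groth.Agent.Lib.helper17.FibreDim.ringKrullDim_le_add R T
    rw [← hI, hfib, add_zero] at h
    exact h
  · rw [IsLocalization.AtPrime.ringKrullDim_eq_height n T,
      ← IsLocalRing.maximalIdeal_height_eq_ringKrullDim]
    set P : Ideal S := RingHom.ker (algebraMap S T) with hP
    haveI hPprime : P.IsPrime := RingHom.ker_isPrime _
    have hPn : P ≤ n := by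
      intro s hs
      by_contra hsn
      have hu : IsUnit (algebraMap S T s) :=
        IsLocalization.map_units T (⟨s, hsn⟩ : n.primeCompl)
      rw [RingHom.mem_ker.mp hs] at hu
      exact not_isUnit_zero hu
    haveI : IsDomain (S ⧸ P) := Ideal.Quotient.isDomain P
    have hinjD : Function.Injective (algebraMap R (S ⧸ P)) := by
      rw [injective_iff_map_eq_zero]
      intro r hr
      apply hinj
      rw [map_zero, IsScalarTower.algebraMap_apply R S T]
      have : algebraMap R (S ⧸ P) r = Ideal.Quotient.mk P (algebraMap R S r) := rfl
      rw [this, Ideal.Quotient.eq_zero_iff_mem] at hr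
      exact hr
    haveI : FaithfulSMul R (S ⧸ P) := (faithfulSMul_iff_algebraMap_injective R (S ⧸ P)).mpr hinjD
    haveI : Algebra.IsIntegral R (S ⧸ P) := inferInstance
    haveI hGD : Algebra.HasGoingDown R (S ⧸ P) := inferInstance
    haveI : IsNoetherianRing (S ⧸ P) := inferInstance
    set n' : Ideal (S ⧸ P) := n.map (Ideal.Quotient.mk P) with hn'
    have hcomap : n'.comap (Ideal.Quotient.mk P) = n := by
      rw [hn', Ideal.comap_map_of_surjective _ Ideal.Quotient.mk_surjective,
        ← RingHom.ker_eq_comap_bot, Ideal.mk_ker, sup_eq_left]
      exact hPn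
    haveI hn'prime : n'.IsPrime :=
      Ideal.map_isPrime_of_surjective Ideal.Quotient.mk_surjective
        (by rw [Ideal.mk_ker]; exact hPn)
    haveI : n'.LiesOver (maximalIdeal R) := ⟨by
      rw [Ideal.under_def, ← hn, ← hcomap, Ideal.comap_comap]
      rfl⟩
    have h1 := Ideal.height_eq_height_add_of_liesOver_of_hasGoingDown (maximalIdeal R) n'
    have h2 := height_le_height_comap_of_surjective (Ideal.Quotient.mk P)
      Ideal.Quotient.mk_surjective n'
    rw [hcomap] at h2
    have h3 : (maximalIdeal R).height ≤ n.height := by
      calc (maximalIdeal R).height ≤ n'.height := by rw [h1]; exact le_self_add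
        _ ≤ n.height := h2
    exact_mod_cast h3

/-- `A → B` finite, `q` a prime of `B` over `p`, `A_p` and `B_q` regular local, `A_p → B_q`
injective: then `B_q` is flat over `A_p`. -/
theorem flat_of_finite_of_regular_atPrime (A B R T : Type u) [CommRing A] [CommRing B]
    [CommRing R] [CommRing T] [Algebra A B] [Module.Finite A B]
    (p : Ideal A) [p.IsPrime] (q : Ideal B) [q.IsPrime] [q.LiesOver p]
    [Algebra A R] [IsLocalization.AtPrime R p]
    [Algebra B T] [IsLocalization.AtPrime T q] [Algebra R T] [Algebra A T]
    [IsScalarTower A R T] [IsScalarTower A B T]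
    [IsRegularLocalRing R] [IsRegularLocalRing T] (hinj : Function.Injective (algebraMap R T)) :
    Module.Flat R T := by
  let S := Localization (Algebra.algebraMapSubmonoid B p.primeCompl)
  letI : Algebra R S := localizationAlgebra p.primeCompl B
  haveI : IsScalarTower A R S := isScalarTower_localizationAlgebra _ _
  haveI : Module.Finite R S := Module.Finite.of_isLocalization A B p.primeCompl
  let n : Ideal S := q.map (algebraMap B S)
  have hdisj : Disjoint ((Algebra.algebraMapSubmonoid B p.primeCompl : Submonoid B) : Set B) q :=
    Ideal.disjoint_primeCompl_of_liesOver q p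
  haveI hnprime : n.IsPrime := IsLocalization.AtPrime.isPrime_map_of_liesOver B p S q
  haveI : n.LiesOver (maximalIdeal R) := IsLocalization.AtPrime.liesOver_map_of_liesOver p R S q
  have hn : n.comap (algebraMap R S) = maximalIdeal R :=
    (Ideal.LiesOver.over (P := n) (p := maximalIdeal R)).symm
  let T' := Localization.AtPrime n
  haveI hT'loc : IsLocalization.AtPrime T' q := by
    convert IsLocalization.isLocalization_isLocalization_atPrime_isLocalization
      (Algebra.algebraMapSubmonoid B p.primeCompl) T' n
    exact (IsLocalization.under_map_of_isPrime_disjoint _ _ ‹_› hdisj).symm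
  let e : T' ≃ₐ[B] T := IsLocalization.algEquiv q.primeCompl T' T
  have he : ∀ r : R, e (algebraMap R T' r) = algebraMap R T r := by
    have h : ((e : T' ≃+* T) : T' →+* T).comp (algebraMap R T') = algebraMap R T := by
      refine IsLocalization.ringHom_ext p.primeCompl ?_
      ext a
      simp only [RingHom.comp_apply]
      rw [← IsScalarTower.algebraMap_apply A R T', ← IsScalarTower.algebraMap_apply A R T,
        IsScalarTower.algebraMap_apply A B T', IsScalarTower.algebraMap_apply A B T]
      exact e.commutes _
    intro r
    exact congrArg (fun g => g r) h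
  haveI : IsRegularLocalRing T' := IsRegularLocalRing.of_ringEquiv e.symm.toRingEquiv
  have hinj' : Function.Injective (algebraMap R T') := by
    intro r₁ r₂ h
    apply hinj
    rw [← he, ← he, h]
  have hflat : Module.Flat R T' := flat_atPrime_of_finite_regular R S T' n hn hinj'
  let eL : T' ≃ₗ[R] T :=
    { e.toRingEquiv.toAddEquiv with
      map_smul' := by
        intro r t
        show e (r • t) = r • e t
        rw [Algebra.smul_def, Algebra.smul_def, map_mul, he] }
  exact Module.Flat.of_linearEquiv eL.symm

end Groth.Agent.Lib.helper17.FiniteRegFlat
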