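import Mathlib
import Groth.Agent.Lib.Helper17.FiniteRegFlat
import Groth.Agent.Lib.Helper17.DedekindFlat

/-!
# Finite morphisms between regular schemes are flat (helper17)

* `flat_stalkMap_of_finite_regular`: finite `f`, `O_{X,x}` and `O_{Y,f x}` regular, stalk map injective
  ⇒ stalk map flat;
* `stalkMap_injective_of_dominates`: irreducible components of `X` dominate components of `Y`, stalks
  domains ⇒ stalk maps injective;
* `flat_of_finite_regular`: finite morphism between regular schemes with component-wise dominance is flat.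
-/

set_option autoImplicit false
set_option linter.style.haveILetI false
universe u
open CategoryTheory AlgebraicGeometry

namespace Groth.Agent.Lib.helper17.FiniteRegFlatSch

/-- a finite morphism is flat at `x` if source and target are regular at `x`, `f x` and the stalk
map is injective. -/
theorem flat_stalkMap_of_finite_regular {X Y : Scheme.{u}} (f : X ⟶ Y) [IsFinite f]
    (x : X) [IsRegularLocalRing (X.presheaf.stalk x)]
    [IsRegularLocalRing (Y.presheaf.stalk (f.base x))]
    (hinj : Function.Injective (f.stalkMap x).hom) : (f.stalkMap x).hom.Flat := by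
  obtain ⟨V, hV, hyV⟩ : ∃ V : Y.Opens, IsAffineOpen V ∧ f.base x ∈ V := by
    obtain ⟨V, hV, hyV, -⟩ := exists_isAffineOpen_mem_and_subset (x := f.base x) (U := ⊤) trivial
    exact ⟨V, hV, hyV⟩
  have hU : IsAffineOpen (f ⁻¹ᵁ V) := hV.preimage f
  have hxU : x ∈ f ⁻¹ᵁ V := hyV
  letI : Algebra Γ(Y, V) Γ(X, f ⁻¹ᵁ V) := (f.app V).hom.toAlgebra
  haveI : Module.Finite Γ(Y, V) Γ(X, f ⁻¹ᵁ V) := IsFinite.finite_app f V hV
  letI : Algebra Γ(Y, V) (Y.presheaf.stalk (f.base x)) :=
    TopCat.Presheaf.algebra_section_stalk Y.presheaf (⟨f.base x, hyV⟩ : V)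
  letI : Algebra Γ(X, f ⁻¹ᵁ V) (X.presheaf.stalk x) :=
    TopCat.Presheaf.algebra_section_stalk X.presheaf (⟨x, hxU⟩ : (f ⁻¹ᵁ V : X.Opens))
  letI : Algebra (Y.presheaf.stalk (f.base x)) (X.presheaf.stalk x) := (f.stalkMap x).hom.toAlgebra
  letI : Algebra Γ(Y, V) (X.presheaf.stalk x) :=
    ((f.stalkMap x).hom.comp (Y.presheaf.germ V (f.base x) hyV).hom).toAlgebra
  haveI : IsScalarTower Γ(Y, V) (Y.presheaf.stalk (f.base x)) (X.presheaf.stalk x) :=
    IsScalarTower.of_algebraMap_eq' rfl
  haveI : IsScalarTower Γ(Y, V) Γ(X, f ⁻¹ᵁ V) (X.presheaf.stalk x) :=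
    IsScalarTower.of_algebraMap_eq (fun a => (f.germ_stalkMap_apply V x hyV a))
  haveI hlocY : IsLocalization.AtPrime (Y.presheaf.stalk (f.base x))
      (hV.primeIdealOf ⟨f.base x, hyV⟩).asIdeal := hV.isLocalization_stalk ⟨_, hyV⟩
  haveI hlocX : IsLocalization.AtPrime (X.presheaf.stalk x)
      (hU.primeIdealOf ⟨x, hxU⟩).asIdeal := hU.isLocalization_stalk ⟨x, hxU⟩
  haveI hlies : (hU.primeIdealOf ⟨x, hxU⟩).asIdeal.LiesOver
      (hV.primeIdealOf ⟨f.base x, hyV⟩).asIdeal := by
    constructor
    rw [← IsLocalization.AtPrime.under_maximalIdeal (X.presheaf.stalk x)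
        (hU.primeIdealOf ⟨x, hxU⟩).asIdeal,
      ← IsLocalization.AtPrime.under_maximalIdeal (Y.presheaf.stalk (f.base x))
        (hV.primeIdealOf ⟨f.base x, hyV⟩).asIdeal]
    simp only [Ideal.under_def]
    rw [Ideal.comap_comap, ← IsScalarTower.algebraMap_eq,
      IsScalarTower.algebraMap_eq Γ(Y, V) (Y.presheaf.stalk (f.base x)) (X.presheaf.stalk x),
      ← Ideal.comap_comap]
    congr 1
    exact (IsLocalRing.maximalIdeal_comap (f.stalkMap x).hom).symm
  exact Groth.Agent.Lib.helper17.FiniteRegFlat.flat_of_finite_of_regular_atPrime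
    Γ(Y, V) Γ(X, f ⁻¹ᵁ V) (Y.presheaf.stalk (f.base x)) (X.presheaf.stalk x)
    (hV.primeIdealOf ⟨f.base x, hyV⟩).asIdeal (hU.primeIdealOf ⟨x, hxU⟩).asIdeal hinj

/-- if every irreducible component of `X` dominates an irreducible component of `Y`, the stalk maps
between integral local rings are injective. -/
theorem stalkMap_injective_of_dominates {X Y : Scheme.{u}} (f : X ⟶ Y) (x : X)
    [IsDomain (X.presheaf.stalk x)] [IsDomain (Y.presheaf.stalk (f.base x))]
    (hdom : ∀ Z ∈ irreducibleComponents (X : Type u),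
      closure (f.base '' Z) ∈ irreducibleComponents (Y : Type u)) :
    Function.Injective (f.stalkMap x).hom := by
  let P : PrimeSpectrum (X.presheaf.stalk x) := ⟨⊥, Ideal.isPrime_bot⟩
  have hP : P.asIdeal ∈ minimalPrimes (X.presheaf.stalk x) := by
    rw [IsDomain.minimalPrimes_eq_singleton_bot]
    rfl
  have hcomp := DedekindFlat.closure_fromSpecStalk_mem_irreducibleComponents x P hP
  have hY := hdom _ hcomp
  set ξ := X.fromSpecStalk x P with hξ
  have h1 : closure (f.base '' closure {ξ}) = closure {f.base ξ} := by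
    apply subset_antisymm
    · refine closure_minimal ((image_closure_subset_closure_image f.continuous).trans ?_)
        isClosed_closure
      rw [Set.image_singleton]
    · apply closure_mono
      rw [← Set.image_singleton]
      exact Set.image_mono subset_closure
  rw [h1] at hY
  let Q : PrimeSpectrum (Y.presheaf.stalk (f.base x)) := Spec.map (f.stalkMap x) P
  let Q₀ : PrimeSpectrum (Y.presheaf.stalk (f.base x)) := ⟨⊥, Ideal.isPrime_bot⟩
  have hsq : f.base ξ = Y.fromSpecStalk (f.base x) Q := by
    have := Scheme.SpecMap_stalkMap_fromSpecStalk (f := f) (x := x)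
    have h := congrArg (fun g => g.base P) this
    simp only [Scheme.Hom.comp_base, TopCat.hom_comp, ContinuousMap.comp_apply] at h
    exact h.symm
  have hspec : Q₀ ⤳ Q := (PrimeSpectrum.le_iff_specializes Q₀ Q).mp bot_le
  have hspec' : Y.fromSpecStalk (f.base x) Q₀ ⤳ f.base ξ := by
    rw [hsq]
    exact hspec.map (Y.fromSpecStalk (f.base x)).continuous
  have hle : closure {f.base ξ} ⊆ closure {Y.fromSpecStalk (f.base x) Q₀} :=
    closure_minimal (Set.singleton_subset_iff.mpr (specializes_iff_mem_closure.mp hspec'))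
      isClosed_closure
  have hge : closure {Y.fromSpecStalk (f.base x) Q₀} ⊆ closure {f.base ξ} :=
    hY.2 isIrreducible_singleton.closure hle
  have hspec'' : f.base ξ ⤳ Y.fromSpecStalk (f.base x) Q₀ := by
    rw [specializes_iff_mem_closure]
    exact hge (subset_closure rfl)
  have heq : Y.fromSpecStalk (f.base x) Q₀ = Y.fromSpecStalk (f.base x) Q := by
    rw [← hsq]
    exact (hspec'.antisymm hspec'').eq
  have hQ : Q₀ = Q := (Y.fromSpecStalk (f.base x)).isEmbedding.injective heq
  rw [injective_iff_map_eq_zero]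
  intro a ha
  have hmem : a ∈ Q.asIdeal := by
    show a ∈ Ideal.comap (f.stalkMap x).hom ⊥
    rw [Ideal.mem_comap, ha]
    exact Ideal.zero_mem _
  rw [← hQ] at hmem
  exact hmem

/-- a finite morphism between regular schemes, each irreducible component of the source dominating
an irreducible component of the target, is flat. -/
theorem flat_of_finite_regular {X Y : Scheme.{u}} (f : X ⟶ Y) [IsFinite f]
    (hX : ∀ x : X, IsRegularLocalRing (X.presheaf.stalk x))
    (hY : ∀ y : Y, IsRegularLocalRing (Y.presheaf.stalk y))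
    (hdom : ∀ Z ∈ irreducibleComponents (X : Type u),
      closure (f.base '' Z) ∈ irreducibleComponents (Y : Type u)) : Flat f := by
  apply Flat.of_stalkMap
  intro x
  haveI := hX x
  haveI := hY (f.base x)
  haveI : IsDomain (X.presheaf.stalk x) :=
    Groth.Agent.Lib.helper15.isDomain_of_isRegularLocalRing _
  haveI : IsDomain (Y.presheaf.stalk (f.base x)) :=
    Groth.Agent.Lib.helper15.isDomain_of_isRegularLocalRing _
  exact flat_stalkMap_of_finite_regular f x (stalkMap_injective_of_dominates f x hdom)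

end Groth.Agent.Lib.helper17.FiniteRegFlatSch
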