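import Mathlib

/-!
# helper17: a flat, surjective, separated, birational morphism of integral schemes which is affine
or locally of finite presentation is an isomorphism (Mathlib only)

* `bijective_of_faithfullyFlat_of_birational`: a faithfully flat extension of domains which is
  surjective on fraction fields is bijective.
* `map_genericPoint_of_surjective`.
* `isIso_stalkMap_of_flat_of_birational`: all stalk maps of a flat birational morphism of integral
  schemes are isomorphisms.
* `injective_of_isIso_stalkMap`: separated + stalk isomorphisms ⇒ injective on points.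
* `app_bijective_of_isIso_stalkMap`: surjective + stalk isomorphisms ⇒ `O_X → f_* O_X'` iso.
* `isIso_of_flat_of_birational`: the main statement.
-/

set_option autoImplicit false
set_option linter.style.haveILetI false
set_option linter.unusedSectionVars false
universe u

open CategoryTheory AlgebraicGeometry IsLocalRing TopologicalSpace Opposite

namespace Groth.Agent.Lib.helper17.FlatBirat

/-- a faithfully flat extension of domains inducing a surjection on fraction fields is bijective. -/
theorem bijective_of_faithfullyFlat_of_birational (A B K L : Type u) [CommRing A] [CommRing B]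
    [Field K] [Field L] [IsDomain A] [IsDomain B] [Algebra A K] [IsFractionRing A K]
    [Algebra A B] [Module.FaithfullyFlat A B] (β : B →+* L) (hβ : Function.Injective β)
    (κ : K →+* L) (hκ : Function.Surjective κ)
    (hcomm : β.comp (algebraMap A B) = κ.comp (algebraMap A K)) :
    Function.Bijective (algebraMap A B) := by
  have hinj : Function.Injective (algebraMap A B) := FaithfulSMul.algebraMap_injective A B
  refine ⟨hinj, fun b => ?_⟩
  obtain ⟨k, hk⟩ := hκ (β b)
  obtain ⟨a₁, a₂, rfl⟩ := IsLocalization.exists_mk'_eq (nonZeroDivisors A) k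
  have ha₂ : (a₂ : A) ≠ 0 := nonZeroDivisors.ne_zero a₂.2
  have h1 : IsLocalization.mk' K a₁ a₂ * algebraMap A K a₂ = algebraMap A K a₁ :=
    IsLocalization.mk'_spec K a₁ a₂
  have h2 : β b * β (algebraMap A B a₂) = β (algebraMap A B a₁) := by
    have e1 : β (algebraMap A B a₂) = κ (algebraMap A K a₂) := congrArg (fun g => g (a₂ : A)) hcomm
    have e2 : β (algebraMap A B a₁) = κ (algebraMap A K a₁) := congrArg (fun g => g a₁) hcomm
    rw [e1, e2, ← hk, ← map_mul, h1]
  have h3 : b * algebraMap A B a₂ = algebraMap A B a₁ := hβ (by rw [map_mul, h2])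
  have h4 : a₁ ∈ ((Ideal.span {(a₂ : A)}).map (algebraMap A B)).comap (algebraMap A B) := by
    rw [Ideal.mem_comap, Ideal.map_span, Set.image_singleton, Ideal.mem_span_singleton']
    exact ⟨b, h3⟩
  rw [Ideal.comap_map_eq_self_of_faithfullyFlat, Ideal.mem_span_singleton'] at h4
  obtain ⟨c, hc⟩ := h4
  refine ⟨c, ?_⟩
  have h5 : algebraMap A B a₂ ≠ 0 := fun h => ha₂ (hinj (by rw [h, map_zero]))
  have h6 : algebraMap A B c * algebraMap A B a₂ = b * algebraMap A B a₂ := by
    rw [h3, ← map_mul, hc]
  exact mul_right_cancel₀ h5 h6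

variable {X' X : Scheme.{u}} [IsIntegral X'] [IsIntegral X] (f : X' ⟶ X)

/-- a surjective morphism of integral schemes maps the generic point to the generic point. -/
theorem map_genericPoint_of_surjective [Surjective f] :
    f (genericPoint X') = genericPoint X := by
  obtain ⟨x'', hx''⟩ := f.surjective (genericPoint X)
  have h1 : genericPoint X' ⤳ x'' := (genericPoint_spec X').specializes (by trivial)
  have h2 : f (genericPoint X') ⤳ genericPoint X := by
    rw [← hx'']; exact h1.map f.continuous
  have h3 : genericPoint X ⤳ f (genericPoint X') := (genericPoint_spec X).specializes (by trivial)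
  exact (h2.antisymm h3).eq

/-- for a flat birational morphism of integral schemes (mapping generic point to generic point),
all stalk maps are isomorphisms. -/
theorem isIso_stalkMap_of_flat_of_birational [Flat f]
    (hgen : f (genericPoint X') = genericPoint X)
    (hK : IsIso (f.stalkMap (genericPoint X'))) (x' : X') : IsIso (f.stalkMap x') := by
  rw [ConcreteCategory.isIso_iff_bijective]
  have hfl := Flat.stalkMap f x'
  algebraize [(f.stalkMap x').hom]
  haveI : IsLocalHom (algebraMap (X.presheaf.stalk (f x')) (X'.presheaf.stalk x')) :=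
    inferInstanceAs (IsLocalHom (f.stalkMap x').hom)
  haveI : Module.FaithfullyFlat (X.presheaf.stalk (f x')) (X'.presheaf.stalk x') :=
    Module.FaithfullyFlat.of_flat_of_isLocalHom
  have hsp' : genericPoint X' ⤳ x' := (genericPoint_spec X').specializes (by trivial)
  let κ : X.functionField ⟶ X'.functionField :=
    X.presheaf.stalkSpecializes (specializes_of_eq hgen) ≫ f.stalkMap (genericPoint X')
  have hκ : Function.Surjective κ.hom := by
    have h1 : IsIso (X.presheaf.stalkSpecializes (specializes_of_eq hgen)) :=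
      (X.presheaf.stalkCongr (Inseparable.of_eq hgen)).isIso_inv
    have : IsIso κ := inferInstance
    exact ((ConcreteCategory.isIso_iff_bijective κ).mp this).2
  refine bijective_of_faithfullyFlat_of_birational (X.presheaf.stalk (f x'))
    (X'.presheaf.stalk x') X.functionField X'.functionField
    (algebraMap (X'.presheaf.stalk x') X'.functionField)
    (IsFractionRing.injective _ _) κ.hom hκ ?_
  have e1 : (algebraMap (X'.presheaf.stalk x') X'.functionField).comp
      (algebraMap (X.presheaf.stalk (f x')) (X'.presheaf.stalk x')) =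
      (f.stalkMap x' ≫ X'.presheaf.stalkSpecializes hsp').hom := rfl
  have e2 : κ.hom.comp (algebraMap (X.presheaf.stalk (f x')) X.functionField) =
      (X.presheaf.stalkSpecializes ((genericPoint_spec X).specializes (by trivial)) ≫ κ).hom := rfl
  rw [e1, e2, ← Scheme.Hom.stalkSpecializes_stalkMap]
  simp only [κ, ← Category.assoc, TopCat.Presheaf.stalkSpecializes_comp]

theorem isDominant_Spec_map_of_injective {R S : CommRingCat.{u}} (φ : R ⟶ S)
    (h : Function.Injective φ.hom) : IsDominant (Spec.map φ) := by
  constructor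
  have : DenseRange (PrimeSpectrum.comap φ.hom) := by
    rw [PrimeSpectrum.denseRange_comap_iff_ker_le_nilRadical,
      (RingHom.injective_iff_ker_eq_bot _).mp h]
    exact bot_le
  exact this

/-- a separated morphism of integral schemes all of whose stalk maps are isomorphisms is injective
on points. -/
theorem injective_of_isIso_stalkMap [IsSeparated f] (hst : ∀ x', IsIso (f.stalkMap x')) :
    Function.Injective f := by
  intro x₁ x₂ h12
  haveI := hst x₁
  haveI := hst x₂
  have hsp₁ : genericPoint X' ⤳ x₁ := (genericPoint_spec X').specializes (by trivial)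
  have hsp₂ : genericPoint X' ⤳ x₂ := (genericPoint_spec X').specializes (by trivial)
  -- the comparison isomorphism of local rings
  let θ : X'.presheaf.stalk x₂ ⟶ X'.presheaf.stalk x₁ :=
    inv (f.stalkMap x₂) ≫ X.presheaf.stalkSpecializes (specializes_of_eq h12) ≫ f.stalkMap x₁
  let a : Spec (X'.presheaf.stalk x₁) ⟶ X' := X'.fromSpecStalk x₁
  let b : Spec (X'.presheaf.stalk x₁) ⟶ X' := Spec.map θ ≫ X'.fromSpecStalk x₂
  have hθ : f.stalkMap x₂ ≫ θ =
      X.presheaf.stalkSpecializes (specializes_of_eq h12) ≫ f.stalkMap x₁ := by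
    simp only [θ, IsIso.hom_inv_id_assoc]
  have hab : a ≫ f = b ≫ f := by
    simp only [a, b, Category.assoc]
    rw [← Scheme.SpecMap_stalkMap_fromSpecStalk, ← Scheme.SpecMap_stalkMap_fromSpecStalk,
      ← Category.assoc (Spec.map θ), ← Spec.map_comp, hθ, Spec.map_comp, Category.assoc,
      Scheme.SpecMap_stalkSpecializes_fromSpecStalk]
  -- agreement at the generic point
  let ι : Spec X'.functionField ⟶ Spec (X'.presheaf.stalk x₁) :=
    Spec.map (X'.presheaf.stalkSpecializes hsp₁)
  haveI : IsDominant ι := isDominant_Spec_map_of_injective _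
    (IsFractionRing.injective (X'.presheaf.stalk x₁) X'.functionField)
  have hθsp : θ ≫ X'.presheaf.stalkSpecializes hsp₁ = X'.presheaf.stalkSpecializes hsp₂ := by
    rw [← cancel_epi (f.stalkMap x₂), ← Category.assoc, hθ, Category.assoc,
      ← Scheme.Hom.stalkSpecializes_stalkMap, ← Scheme.Hom.stalkSpecializes_stalkMap,
      ← Category.assoc, TopCat.Presheaf.stalkSpecializes_comp]
  have hι : ι ≫ a = ι ≫ b := by
    simp only [ι, a, b]
    rw [Scheme.SpecMap_stalkSpecializes_fromSpecStalk, ← Category.assoc, ← Spec.map_comp, hθsp,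
      Scheme.SpecMap_stalkSpecializes_fromSpecStalk]
  have hEq : a = b := ext_of_isDominant_of_isSeparated f hab ι hι
  -- evaluate at the closed point
  have h1 : a (closedPoint (X'.presheaf.stalk x₁)) = x₁ := Scheme.fromSpecStalk_closedPoint
  have h2 : b (closedPoint (X'.presheaf.stalk x₁)) = x₂ := by
    simp only [b, Scheme.Hom.comp_apply]
    haveI h0 : IsIso (X.presheaf.stalkSpecializes (specializes_of_eq h12)) :=
      (X.presheaf.stalkCongr (Inseparable.of_eq h12.symm)).isIso_hom
    haveI : IsIso θ := by simp only [θ]; infer_instance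
    haveI : IsLocalHom θ.hom := isLocalHom_of_isIso θ
    have : (Spec.map θ) (closedPoint (X'.presheaf.stalk x₁)) =
        closedPoint (X'.presheaf.stalk x₂) := IsLocalRing.comap_closedPoint θ.hom
    rw [this, Scheme.fromSpecStalk_closedPoint]
  rw [← h1, ← h2, hEq]

theorem app_res_apply {W V : X.Opens} (h : W ≤ V) (s : Γ(X, V)) :
    (f.app W).hom ((X.presheaf.map (homOfLE h).op).hom s) =
      (X'.presheaf.map (homOfLE (show f ⁻¹ᵁ W ≤ f ⁻¹ᵁ V from fun _ hx => h hx)).op).hom
        ((f.app V).hom s) := by
  have := f.naturality (homOfLE h).op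
  exact congrArg (fun g => g.hom s) this

/-- `f^♯` is injective on every open when `f` maps the generic point to the generic point and the
stalk map there is injective. -/
theorem app_injective (hgen : f (genericPoint X') = genericPoint X)
    (hK : Function.Injective (f.stalkMap (genericPoint X')).hom) (W : X.Opens) :
    Function.Injective (f.app W).hom := by
  by_cases hW : (W : Set X).Nonempty
  · have hξ : f (genericPoint X') ∈ W := by
      rw [hgen]
      exact ((genericPoint_spec X).mem_open_set_iff W.isOpen).mpr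
        (by simpa [Set.univ_inter] using hW)
    have h1 : Function.Injective
        (X.presheaf.germ W (f (genericPoint X')) hξ ≫ f.stalkMap (genericPoint X')).hom := by
      rw [CommRingCat.hom_comp, RingHom.coe_comp]
      exact hK.comp (germ_injective_of_isIntegral X _ hξ)
    rw [Scheme.Hom.germ_stalkMap, CommRingCat.hom_comp, RingHom.coe_comp] at h1
    exact Function.Injective.of_comp h1
  · have hW' : W = ⊥ := by
      ext y
      simp only [Opens.coe_bot, Set.mem_empty_iff_false, iff_false]
      exact fun hy => hW ⟨y, hy⟩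
    subst hW'
    intro a b _
    exact Subsingleton.elim a b

/-- gluing, sectionwise. -/
theorem exists_preimage_of_cover (hinj : ∀ W : X.Opens, Function.Injective (f.app W).hom)
    (V : X.Opens) (t : Γ(X', f ⁻¹ᵁ V))
    (hcov : ∀ y ∈ V, ∃ (V' : X.Opens) (hV' : V' ≤ V), y ∈ V' ∧ ∃ s' : Γ(X, V'),
      (f.app V').hom s' =
        (X'.presheaf.map (homOfLE (show f ⁻¹ᵁ V' ≤ f ⁻¹ᵁ V from fun _ hx => hV' hx)).op).hom t) :
    ∃ s : Γ(X, V), (f.app V).hom s = t := by
  choose Uf hUV hyU sf' hsf' using hcov
  let U : V → X.Opens := fun y => Uf y.1 y.2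
  have hUle : ∀ y : V, U y ≤ V := fun y => hUV y.1 y.2
  have hle : ∀ y : V, f ⁻¹ᵁ (U y) ≤ f ⁻¹ᵁ V := fun y _ hx => hUle y hx
  let sf : ∀ y : V, Γ(X, U y) := fun y => sf' y.1 y.2
  have hsf : ∀ y : V, (f.app (U y)).hom (sf y) =
      (X'.presheaf.map (homOfLE (hle y)).op).hom t := fun y => hsf' y.1 y.2
  have hcompat : TopCat.Presheaf.IsCompatible X.sheaf.1 U sf := by
    intro i j
    apply hinj (U i ⊓ U j)
    have h1 := app_res_apply f (inf_le_left : U i ⊓ U j ≤ U i) (sf i)
    have h2 := app_res_apply f (inf_le_right : U i ⊓ U j ≤ U j) (sf j)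
    refine h1.trans (Eq.trans ?_ h2.symm)
    rw [hsf i, hsf j]
    simp only [← CommRingCat.comp_apply, ← Functor.map_comp]
    rfl
  have hcover : V ≤ iSup U := by
    intro y hy
    exact Opens.mem_iSup.mpr ⟨⟨y, hy⟩, hyU y hy⟩
  obtain ⟨s, hs, -⟩ := X.sheaf.existsUnique_gluing' U V (fun y => homOfLE (hUle y)) hcover sf hcompat
  refine ⟨s, ?_⟩
  have hcoverX : f ⁻¹ᵁ V ≤ iSup (fun y : V => f ⁻¹ᵁ (U y)) := by
    intro x hx
    exact Opens.mem_iSup.mpr ⟨⟨f x, hx⟩, hyU (f x) hx⟩
  refine X'.sheaf.eq_of_locally_eq' (fun y : V => f ⁻¹ᵁ (U y)) (f ⁻¹ᵁ V)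
    (fun y => homOfLE (hle y)) hcoverX _ _ (fun y => ?_)
  have h3 := app_res_apply f (hUle y) s
  have h4 : (X.presheaf.map (homOfLE (hUle y)).op).hom s = sf y := hs y
  rw [h4, hsf y] at h3
  exact h3.symm

/-- a surjective morphism of integral schemes all of whose stalk maps are isomorphisms induces an
isomorphism `O_X → f_* O_X'`. -/
theorem app_bijective_of_isIso_stalkMap [Surjective f] (hst : ∀ x', IsIso (f.stalkMap x'))
    (V : X.Opens) : Function.Bijective (f.app V).hom := by
  have hgen := map_genericPoint_of_surjective f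
  have hKinj : Function.Injective (f.stalkMap (genericPoint X')).hom :=
    ((ConcreteCategory.isIso_iff_bijective _).mp (hst _)).1
  have hinj := app_injective f hgen hKinj
  refine ⟨hinj V, fun t => ?_⟩
  refine exists_preimage_of_cover f hinj V t (fun y hy => ?_)
  obtain ⟨x', rfl⟩ := f.surjective y
  haveI := hst x'
  -- the germ of `t` at `x'` comes from the local ring of `X` at `f x'`
  obtain ⟨α, hα⟩ := ((ConcreteCategory.isIso_iff_bijective (f.stalkMap x')).mp (hst x')).2
    ((X'.presheaf.germ (f ⁻¹ᵁ V) x' hy).hom t)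
  obtain ⟨V₁, hxV₁, a, ha⟩ := X.presheaf.exists_germ_eq α
  let V' : X.Opens := V₁ ⊓ V
  have hV'V : V' ≤ V := inf_le_right
  have hxV' : f x' ∈ V' := ⟨hxV₁, hy⟩
  let a' : Γ(X, V') := (X.presheaf.map (homOfLE (inf_le_left : V' ≤ V₁)).op).hom a
  refine ⟨V', hV'V, hxV', a', ?_⟩
  apply germ_injective_of_isIntegral X' x' hxV'
  have e1 : (X'.presheaf.germ (f ⁻¹ᵁ V') x' hxV').hom ((f.app V').hom a') =
      (f.stalkMap x').hom ((X.presheaf.germ V' (f x') hxV').hom a') :=
    (Scheme.Hom.germ_stalkMap_apply f V' x' hxV' a').symm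
  have e2 : (X.presheaf.germ V' (f x') hxV').hom a' = α := by
    rw [← ha]
    exact X.presheaf.germ_res_apply (homOfLE (inf_le_left : V' ≤ V₁)) (f x') hxV' a
  have e3 : (X'.presheaf.germ (f ⁻¹ᵁ V') x' hxV').hom
      ((X'.presheaf.map (homOfLE (show f ⁻¹ᵁ V' ≤ f ⁻¹ᵁ V from fun _ hx => hV'V hx)).op).hom t) =
      (X'.presheaf.germ (f ⁻¹ᵁ V) x' hy).hom t :=
    X'.presheaf.germ_res_apply (homOfLE _) x' hxV' t
  rw [e1, e2, hα, e3]

/-- **Main theorem.** -/
theorem isIso_of_flat_of_birational [Surjective f] [IsSeparated f] [Flat f]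
    (hK : IsIso (f.stalkMap (genericPoint X')))
    (h : IsAffineHom f ∨ LocallyOfFinitePresentation f) : IsIso f := by
  have hgen := map_genericPoint_of_surjective f
  have hst := isIso_stalkMap_of_flat_of_birational f hgen hK
  rcases h with h | h
  · -- affine case
    have key : ∀ x : X, ∃ V : X.Opens, IsAffineOpen V ∧ x ∈ V := fun x => by
      obtain ⟨_, ⟨V, hV, rfl⟩, hxV, -⟩ :=
        X.isBasis_affineOpens.exists_subset_of_mem_open (Set.mem_univ x) isOpen_univ
      exact ⟨V, hV, hxV⟩
    choose U hU hxU using key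
    have hsup : iSup U = ⊤ := eq_top_iff.mpr (fun x _ => Opens.mem_iSup.mpr ⟨x, hxU x⟩)
    refine IsZariskiLocalAtTarget.of_iSup_eq_top (P := MorphismProperty.isomorphisms Scheme)
      U hsup (fun x => ?_)
    rw [MorphismProperty.isomorphisms.iff, isIso_morphismRestrict_iff_isIso_app f (hU x),
      ConcreteCategory.isIso_iff_bijective]
    exact app_bijective_of_isIso_stalkMap f hst (U x)
  · -- lfp case
    have hinj := injective_of_isIso_stalkMap f hst
    have hemb : Topology.IsOpenEmbedding f :=
      .of_continuous_injective_isOpenMap f.continuous hinj f.isOpenMap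
    haveI : ∀ x, IsIso (f.stalkMap x) := hst
    haveI : IsOpenImmersion f := IsOpenImmersion.of_isIso_stalkMap f hemb
    haveI : Epi f.base := (TopCat.epi_iff_surjective _).mpr f.surjective
    exact IsOpenImmersion.isIso f

end Groth.Agent.Lib.helper17.FlatBirat
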