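import Groth.Prelude.Def_FlatMod2
import Mathlib
import Groth.Agent.Lib.Helper17.FlatOver1
import Groth.Agent.Lib.Helper17.FlatSES
import Groth.Agent.Lib.Helper16.QCohEpi

/-!
# Relative flatness toolkit III (helper17, LT13): short exact sequences

* `sections_injective_of_shortExact`, `sections_exact_of_shortExact`: left exactness of sections.
* `isFlatOver_iff_of_shortExact`: S4654.
-/

set_option autoImplicit false
set_option linter.style.haveILetI false
universe u
open CategoryTheory CategoryTheory.Limits AlgebraicGeometry TopologicalSpace Opposite TensorProduct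

namespace Groth.Agent.Lib.helper17.FlatOver3

open Scheme.Modules Groth.Agent.Lib.helper17.FlatOver1 Groth.Agent.Lib.helper17.FlatSES

variable {X : Scheme.{u}}

/-- the sections functor `Γ(-,U) : X.Modules ⥤ Ab` -/
noncomputable abbrev secFunctor (U : X.Opens) : X.Modules ⥤ Ab.{u} :=
  Scheme.Modules.toPresheaf X ⋙ (evaluation (Opens ↥X)ᵒᵖ Ab.{u}).obj (op U)

instance (U : X.Opens) : PreservesFiniteLimits (secFunctor (X := X) U) := by
  haveI : PreservesFiniteLimits ((evaluation (Opens ↥X)ᵒᵖ Ab.{u}).obj (op U)) := inferInstance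
  haveI : PreservesFiniteLimits (Scheme.Modules.toPresheaf X) := inferInstance
  exact comp_preservesFiniteLimits _ _

instance (U : X.Opens) : (secFunctor (X := X) U).PreservesZeroMorphisms where
  map_zero _ _ := rfl

theorem sections_left_exact {S : ShortComplex X.Modules} (hS : S.ShortExact) (U : X.Opens) :
    Function.Injective (S.f.app U).hom ∧ Function.Exact (S.f.app U).hom (S.g.app U).hom := by
  haveI := hS.mono_f
  have h1 : (S.map (secFunctor U)).Exact :=
    hS.exact.map_of_mono_of_preservesKernel (secFunctor U) hS.mono_f inferInstance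
  have h2 : Mono ((secFunctor U).map S.f) := inferInstance
  constructor
  · exact (AddCommGrpCat.mono_iff_injective _).mp h2
  · exact (ShortComplex.ab_exact_iff_function_exact _).mp h1

variable {Y : Scheme.{u}} (f : X ⟶ Y)

/-- a morphism of modules induces a `Γ(Y,V)`-linear map on sections over `U ≤ f⁻¹V` -/
noncomputable def appLin {F G : X.Modules} (φ : F ⟶ G) {U : X.Opens} {V : Y.Opens}
    (hUV : U ≤ f ⁻¹ᵁ V) :
    @LinearMap Γ(Y, V) Γ(Y, V) _ _ (RingHom.id _) Γ(F, U) Γ(G, U) _ _ (modSecBase f F hUV)
      (modSecBase f G hUV) :=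
  letI := modSecBase f F hUV
  letI := modSecBase f G hUV
  { toFun := fun m => (φ.app U).hom m
    map_add' := fun _ _ => map_add _ _ _
    map_smul' := fun a m => by
      change (φ.app U).hom ((f.appLE V U hUV).hom a • m) = (f.appLE V U hUV).hom a • (φ.app U).hom m
      exact Hom.app_smul φ _ m }

/-- sections version of S4654 -/
theorem flat_sections_iff_of_shortExact (S : ShortComplex X.Modules) (hS : S.ShortExact)
    [S.X₂.IsQuasicoherent] [S.X₃.IsQuasicoherent]
    {U : X.Opens} {V : Y.Opens} (hUV : U ≤ f ⁻¹ᵁ V) (hU : IsAffineOpen U)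
    (h3 : @Module.Flat Γ(Y, V) Γ(S.X₃, U) _ _ (modSecBase f S.X₃ hUV)) :
    @Module.Flat Γ(Y, V) Γ(S.X₂, U) _ _ (modSecBase f S.X₂ hUV) ↔
      @Module.Flat Γ(Y, V) Γ(S.X₁, U) _ _ (modSecBase f S.X₁ hUV) := by
  letI := modSecBase f S.X₁ hUV
  letI := modSecBase f S.X₂ hUV
  letI := modSecBase f S.X₃ hUV
  haveI := hS.epi_g
  obtain ⟨hinj, hex⟩ := sections_left_exact hS U
  have hsurj : Function.Surjective (S.g.app U).hom :=
    Groth.Agent.Lib.helper16.QCohEpi.surjective_app_of_epi S.g hU
  exact flat_iff_of_exact (appLin f S.f hUV) (appLin f S.g hUV) hinj hsurj hex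

/-- **S4654**: for a short exact sequence of quasi-coherent modules with flat (over the base)
cokernel, the middle term is flat over the base iff the kernel is. -/
theorem isFlatOver_iff_of_shortExact (S : ShortComplex X.Modules) (hS : S.ShortExact)
    [S.X₁.IsQuasicoherent] [S.X₂.IsQuasicoherent] [S.X₃.IsQuasicoherent]
    (hflat : FlatMod.IsFlatOver f S.X₃) :
    FlatMod.IsFlatOver f S.X₂ ↔ FlatMod.IsFlatOver f S.X₁ := by
  rw [isFlatOver_iff_forall_affine f S.X₂, isFlatOver_iff_forall_affine f S.X₁]
  have h3 := (isFlatOver_iff_forall_affine f S.X₃).mp hflat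
  constructor
  · intro h U V hUV hU hV
    exact (flat_sections_iff_of_shortExact f S hS hUV hU (h3 U V hUV hU hV)).mp (h U V hUV hU hV)
  · intro h U V hUV hU hV
    exact (flat_sections_iff_of_shortExact f S hS hUV hU (h3 U V hUV hU hV)).mpr (h U V hUV hU hV)


end Groth.Agent.Lib.helper17.FlatOver3
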