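import Mathlib
import Groth.Agent.Lib.Helper24.CplCofinal
import Groth.Agent.Lib.Helper24.CplFlat
import Groth.Agent.Lib.Helper24.FibLoc

/-!
# Completion of a quasi-finite local algebra (helper17)

`A → B` a local homomorphism of Noetherian local rings, essentially of finite type, with finite closed
fibre (`κ(𝔪_A) ⊗ B` finite over `κ(𝔪_A)`).  Then the completion `B̂` is (via the canonical map
`ψ : B ⊗[A] Â → B̂`) the localization of `B ⊗[A] Â` at the prime `ψ⁻¹(𝔪_B̂)`.  No use of Zariski's main
theorem: surjectivity is Nakayama (as `B̂` is finite over `Â`), injectivity is Krull's intersection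
theorem.

* `psiL_bijective`.
* `isLocalization_cpl`.
* `transfer`: a property stable under isomorphisms and localizations passes from `K ⊗[A] Â` to
  `K ⊗[B] B̂` for every `B`-algebra `K`.
-/

set_option autoImplicit false
set_option linter.unusedSectionVars false
set_option linter.style.haveILetI false

noncomputable section

namespace Groth.Agent.Lib.helper17.QFCpl

open TensorProduct IsLocalRing
open Groth.Agent.Lib.Helper24

universe u

/-- An algebra essentially of finite type over a Noetherian ring is Noetherian. -/
theorem isNoetherianRing_of_essFiniteType (R S : Type u) [CommRing R] [CommRing S] [Algebra R S]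
    [IsNoetherianRing R] [Algebra.EssFiniteType R S] : IsNoetherianRing S := by
  haveI : IsNoetherianRing (Algebra.EssFiniteType.subalgebra R S) :=
    Algebra.FiniteType.isNoetherianRing R _
  exact IsLocalization.isNoetherianRing (Algebra.EssFiniteType.submonoid R S) S inferInstance

/-- `K ⊗[R] C` is a localization of `K ⊗[R] T` when `C` is a localization of `T`. -/
theorem tensor_loc_general {P : ∀ (R : Type u) [CommRing R], Prop} (hP : FibLoc.LocStable P)
    (R K T C : Type u) [CommRing R] [CommRing K] [CommRing T] [CommRing C]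
    [Algebra R K] [Algebra R T] [Algebra R C] [Algebra T C] [IsScalarTower R T C]
    (M : Submonoid T) [IsLocalization M C] (h : P (K ⊗[R] T)) : P (K ⊗[R] C) := by
  letI : Algebra (K ⊗[R] T) (K ⊗[R] C) :=
    (Algebra.TensorProduct.map (AlgHom.id K K) (IsScalarTower.toAlgHom R T C)).toRingHom.toAlgebra
  haveI : IsScalarTower K (K ⊗[R] T) (K ⊗[R] C) :=
    IsScalarTower.of_algebraMap_eq' (by
      ext x
      simp [RingHom.algebraMap_toAlgebra])
  have H : (algebraMap (K ⊗[R] T) (K ⊗[R] C)).comp
      (Algebra.TensorProduct.includeRight (R := R) (A := K) (B := T)).toRingHom =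
      (Algebra.TensorProduct.includeRight (R := R) (A := K) (B := C)).toRingHom.comp
        (algebraMap T C) := by
    ext x
    simp [RingHom.algebraMap_toAlgebra]
  haveI := IsLocalization.tensorProduct_tensorProduct_right R K M C H
  exact hP.loc (K ⊗[R] T) (K ⊗[R] C)
    (M.map (Algebra.TensorProduct.includeRight (R := R) (A := K))) h

variable (A B : Type u) [CommRing A] [CommRing B] [IsLocalRing A] [IsLocalRing B]
  [IsNoetherianRing A] [IsNoetherianRing B] [Algebra A B] [IsLocalHom (algebraMap A B)]

/-- The completion map as an `A`-algebra homomorphism. -/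
def cAlg : AdicCompletion (maximalIdeal A) A →ₐ[A] AdicCompletion (maximalIdeal B) B :=
  { CplFlat.cplMap A B with
    commutes' := fun a => RingHom.congr_fun (CplFlat.cplMap_comp_algebraMap A B) a }

theorem cAlg_apply (x : AdicCompletion (maximalIdeal A) A) :
    cAlg A B x = CplFlat.cplMap A B x := rfl

/-- The canonical map `B ⊗[A] Â → B̂`. -/
def psi : B ⊗[A] AdicCompletion (maximalIdeal A) A →ₐ[B] AdicCompletion (maximalIdeal B) B :=
  Algebra.TensorProduct.lift (Algebra.ofId B (AdicCompletion (maximalIdeal B) B)) (cAlg A B)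
    (fun _ _ => Commute.all _ _)

theorem psi_tmul (b : B) (x : AdicCompletion (maximalIdeal A) A) :
    psi A B (b ⊗ₜ x) = algebraMap B (AdicCompletion (maximalIdeal B) B) b * CplFlat.cplMap A B x := by
  unfold psi
  rw [Algebra.TensorProduct.lift_tmul]
  rfl

/-- The prime of `B ⊗[A] Â` at which we localize. -/
def nP : Ideal (B ⊗[A] AdicCompletion (maximalIdeal A) A) :=
  (maximalIdeal (AdicCompletion (maximalIdeal B) B)).comap (psi A B).toRingHom

instance : (nP A B).IsPrime := Ideal.comap_isPrime _ _

/-- The induced map on the localization. -/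
def psiL : Localization.AtPrime (nP A B) →+* AdicCompletion (maximalIdeal B) B :=
  IsLocalization.lift (M := (nP A B).primeCompl) (g := (psi A B).toRingHom) (by
    intro y
    have h : (psi A B).toRingHom y ∉ maximalIdeal (AdicCompletion (maximalIdeal B) B) := y.2
    exact (IsLocalRing.notMem_maximalIdeal).mp h)

theorem psiL_algebraMap (t : B ⊗[A] AdicCompletion (maximalIdeal A) A) :
    psiL A B (algebraMap _ (Localization.AtPrime (nP A B)) t) = psi A B t :=
  IsLocalization.lift_eq _ t


instance noethCpl : IsNoetherianRing (AdicCompletion (maximalIdeal A) A) :=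
  Groth.Agent.S0542.result A _ (maximalIdeal A).fg_of_isNoetherianRing

instance noethT [Algebra.EssFiniteType A B] :
    IsNoetherianRing (B ⊗[A] AdicCompletion (maximalIdeal A) A) := by
  haveI : IsNoetherianRing (AdicCompletion (maximalIdeal A) A ⊗[A] B) :=
    isNoetherianRing_of_essFiniteType (AdicCompletion (maximalIdeal A) A) _
  exact isNoetherianRing_of_ringEquiv _
    (Algebra.TensorProduct.comm A (AdicCompletion (maximalIdeal A) A) B).toRingEquiv

/-- `B` is dense in `B ⊗[A] Â` for the `𝔪_A`-adic topology. -/
theorem dense_T (k : ℕ) (t : B ⊗[A] AdicCompletion (maximalIdeal A) A) :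
    ∃ b : B, t - algebraMap B (B ⊗[A] AdicCompletion (maximalIdeal A) A) b ∈
      (maximalIdeal A ^ k).map (algebraMap A (B ⊗[A] AdicCompletion (maximalIdeal A) A)) := by
  induction t using TensorProduct.induction_on with
  | zero => exact ⟨0, by simp⟩
  | tmul b' x =>
    obtain ⟨a, ha⟩ := CplFlat.exists_sub_mem (maximalIdeal A)
      (maximalIdeal A).fg_of_isNoetherianRing k x
    refine ⟨a • b', ?_⟩
    have h1 : b' ⊗ₜ[A] x - algebraMap B (B ⊗[A] AdicCompletion (maximalIdeal A) A) (a • b') =
        (b' ⊗ₜ[A] (1 : AdicCompletion (maximalIdeal A) A)) *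
          (Algebra.TensorProduct.includeRight (R := A) (A := B)
            (x - algebraMap A (AdicCompletion (maximalIdeal A) A) a)) := by
      rw [Algebra.TensorProduct.algebraMap_apply, Algebra.TensorProduct.includeRight_apply,
        Algebra.TensorProduct.tmul_mul_tmul, mul_one, one_mul, TensorProduct.tmul_sub,
        Algebra.algebraMap_eq_smul_one a, TensorProduct.tmul_smul, TensorProduct.smul_tmul']
      simp
    rw [h1]
    apply Ideal.mul_mem_left
    have h2 : (maximalIdeal A ^ k).map (algebraMap A (B ⊗[A] AdicCompletion (maximalIdeal A) A)) =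
        ((maximalIdeal A ^ k).map (algebraMap A (AdicCompletion (maximalIdeal A) A))).map
          (Algebra.TensorProduct.includeRight (R := A) (A := B)).toRingHom := by
      rw [Ideal.map_map]
      congr 1
      ext a
      simp
    rw [h2]
    exact Ideal.mem_map_of_mem _ ha
  | add t₁ t₂ h₁ h₂ =>
    obtain ⟨b₁, hb₁⟩ := h₁
    obtain ⟨b₂, hb₂⟩ := h₂
    refine ⟨b₁ + b₂, ?_⟩
    have : t₁ + t₂ - algebraMap B (B ⊗[A] AdicCompletion (maximalIdeal A) A) (b₁ + b₂) =
        (t₁ - algebraMap B _ b₁) + (t₂ - algebraMap B _ b₂) := by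
      rw [map_add]; ring
    rw [this]
    exact Ideal.add_mem _ hb₁ hb₂

instance ffCpl : Module.FaithfullyFlat B (AdicCompletion (maximalIdeal B) B) :=
  Module.FaithfullyFlat.of_flat_of_isLocalHom

/-- Elements of the kernel of `ψ` are infinitely `𝔪_A`-divisible. -/
theorem mem_of_psi_eq_zero (t : B ⊗[A] AdicCompletion (maximalIdeal A) A) (ht : psi A B t = 0)
    (k : ℕ) :
    t ∈ (maximalIdeal A ^ k).map (algebraMap A (B ⊗[A] AdicCompletion (maximalIdeal A) A)) := by
  obtain ⟨b, hb⟩ := dense_T A B k t
  have h1 : psi A B (t - algebraMap B _ b) ∈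
      (maximalIdeal A ^ k).map (algebraMap A (AdicCompletion (maximalIdeal B) B)) := by
    have h2 : (maximalIdeal A ^ k).map (algebraMap A (AdicCompletion (maximalIdeal B) B)) =
        ((maximalIdeal A ^ k).map
          (algebraMap A (B ⊗[A] AdicCompletion (maximalIdeal A) A))).map (psi A B).toRingHom := by
      rw [Ideal.map_map]
      congr 1
      ext a
      simp [IsScalarTower.algebraMap_apply A B (AdicCompletion (maximalIdeal B) B)]
    rw [h2]
    exact Ideal.mem_map_of_mem _ hb
  rw [map_sub, ht, zero_sub, AlgHom.commutes] at h1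
  have h3 : algebraMap B (AdicCompletion (maximalIdeal B) B) b ∈
      ((maximalIdeal A ^ k).map (algebraMap A B)).map
        (algebraMap B (AdicCompletion (maximalIdeal B) B)) := by
    rw [Ideal.map_map, ← IsScalarTower.algebraMap_eq]
    exact (Ideal.neg_mem_iff _).mp h1
  rw [← Ideal.mem_comap, Ideal.comap_map_eq_self_of_faithfullyFlat] at h3
  have h4 : algebraMap B (B ⊗[A] AdicCompletion (maximalIdeal A) A) b ∈
      (maximalIdeal A ^ k).map (algebraMap A (B ⊗[A] AdicCompletion (maximalIdeal A) A)) := by
    rw [IsScalarTower.algebraMap_eq A B (B ⊗[A] AdicCompletion (maximalIdeal A) A), ← Ideal.map_map]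
    exact Ideal.mem_map_of_mem _ h3
  have : t = (t - algebraMap B _ b) + algebraMap B _ b := by ring
  rw [this]
  exact Ideal.add_mem _ hb h4


theorem map_maximalIdeal_le_nP :
    (maximalIdeal A).map (algebraMap A (B ⊗[A] AdicCompletion (maximalIdeal A) A)) ≤ nP A B := by
  rw [Ideal.map_le_iff_le_comap]
  intro a ha
  change (psi A B) (algebraMap A _ a) ∈ maximalIdeal (AdicCompletion (maximalIdeal B) B)
  have h1 : psi A B (algebraMap A _ a) =
      algebraMap B (AdicCompletion (maximalIdeal B) B) (algebraMap A B a) := by
    rw [IsScalarTower.algebraMap_apply A B (B ⊗[A] AdicCompletion (maximalIdeal A) A),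
      AlgHom.commutes]
  rw [h1, AdicCompletion.maximalIdeal_eq_map]
  apply Ideal.mem_map_of_mem
  exact CplFlat.map_maximalIdeal_le A B (Ideal.mem_map_of_mem _ ha)

theorem psiL_injective [Algebra.EssFiniteType A B] : Function.Injective (psiL A B) := by
  rw [injective_iff_map_eq_zero]
  intro x hx
  obtain ⟨t, s, rfl⟩ := IsLocalization.exists_mk'_eq (nP A B).primeCompl x
  have h1 : psiL A B (IsLocalization.mk' _ t s) * psi A B s = psi A B t := by
    rw [← psiL_algebraMap, ← psiL_algebraMap, ← map_mul, IsLocalization.mk'_spec]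
  rw [hx, zero_mul] at h1
  -- the image of `t` in `L` is zero by Krull
  set J : Ideal (Localization.AtPrime (nP A B)) :=
    (maximalIdeal A).map (algebraMap A (Localization.AtPrime (nP A B))) with hJ
  have hJtop : J ≠ ⊤ := by
    have hle : J ≤ maximalIdeal (Localization.AtPrime (nP A B)) := by
      rw [hJ, IsScalarTower.algebraMap_eq A (B ⊗[A] AdicCompletion (maximalIdeal A) A)
        (Localization.AtPrime (nP A B)), ← Ideal.map_map, Ideal.map_le_iff_le_comap]
      intro y hy
      rw [Ideal.mem_comap, IsLocalization.AtPrime.to_map_mem_maximal_iff _ (nP A B)]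
      exact map_maximalIdeal_le_nP A B hy
    intro htop
    rw [htop] at hle
    exact (IsLocalRing.maximalIdeal.isMaximal _).ne_top (top_le_iff.mp hle)
  haveI : IsNoetherianRing (Localization.AtPrime (nP A B)) :=
    IsLocalization.isNoetherianRing (nP A B).primeCompl _ inferInstance
  have hK := Ideal.iInf_pow_eq_bot_of_isLocalRing (R := Localization.AtPrime (nP A B)) J hJtop
  have h2 : algebraMap _ (Localization.AtPrime (nP A B)) t ∈ (⨅ i, J ^ i : Ideal _) := by
    rw [Ideal.mem_iInf]
    intro k
    have h3 := mem_of_psi_eq_zero A B t h1.symm k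
    have h4 : J ^ k = ((maximalIdeal A ^ k).map
        (algebraMap A (B ⊗[A] AdicCompletion (maximalIdeal A) A))).map
          (algebraMap _ (Localization.AtPrime (nP A B))) := by
      rw [Ideal.map_map, ← IsScalarTower.algebraMap_eq, Ideal.map_pow]
    rw [h4]
    exact Ideal.mem_map_of_mem _ h3
  rw [hK, Ideal.mem_bot] at h2
  have h5 := IsLocalization.mk'_spec (Localization.AtPrime (nP A B)) t s
  rw [h2] at h5
  have hu : IsUnit (algebraMap (B ⊗[A] AdicCompletion (maximalIdeal A) A)
      (Localization.AtPrime (nP A B)) (s : B ⊗[A] AdicCompletion (maximalIdeal A) A)) :=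
    IsLocalization.map_units _ s
  exact hu.mul_left_eq_zero.mp h5


theorem psiL_algebraMap_B (b : B) :
    psiL A B (algebraMap B (Localization.AtPrime (nP A B)) b) =
      algebraMap B (AdicCompletion (maximalIdeal B) B) b := by
  rw [IsScalarTower.algebraMap_apply B (B ⊗[A] AdicCompletion (maximalIdeal A) A)
    (Localization.AtPrime (nP A B)), psiL_algebraMap, AlgHom.commutes]

theorem psiL_surjective
    (hfib : Module.Finite (maximalIdeal A).ResidueField ((maximalIdeal A).Fiber B)) :
    Function.Surjective (psiL A B) := by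
  letI : Algebra (AdicCompletion (maximalIdeal A) A) (AdicCompletion (maximalIdeal B) B) :=
    (CplFlat.cplMap A B).toAlgebra
  haveI : Module.Finite (AdicCompletion (maximalIdeal A) A) (AdicCompletion (maximalIdeal B) B) :=
    (CplCofinal.complMap_finite A B (maximalIdeal A).fg_of_isNoetherianRing hfib
      (CplFlat.map_maximalIdeal_le A B) (by
        rw [Ideal.map_id]; exact CplFlat.map_maximalIdeal_le A B)).2
  letI : Algebra (AdicCompletion (maximalIdeal A) A) (Localization.AtPrime (nP A B)) :=
    ((algebraMap (B ⊗[A] AdicCompletion (maximalIdeal A) A) (Localization.AtPrime (nP A B))).comp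
      (Algebra.TensorProduct.includeRight (R := A) (A := B)).toRingHom).toAlgebra
  let Ψ : Localization.AtPrime (nP A B) →ₐ[AdicCompletion (maximalIdeal A) A]
      AdicCompletion (maximalIdeal B) B :=
    { psiL A B with
      commutes' := fun x => by
        change psiL A B (algebraMap _ _ ((1 : B) ⊗ₜ[A] x)) = CplFlat.cplMap A B x
        rw [psiL_algebraMap, psi_tmul, map_one, one_mul] }
  have hΨ : ∀ x, Ψ x = psiL A B x := fun _ => rfl
  obtain ⟨t, ht⟩ := CplCofinal.exists_pow_le A B hfib
  have key : (⊤ : Submodule (AdicCompletion (maximalIdeal A) A) (AdicCompletion (maximalIdeal B) B)) ≤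
      LinearMap.range Ψ.toLinearMap := by
    apply Submodule.le_of_le_smul_of_le_jacobson_bot Module.Finite.fg_top
      (IsLocalRing.maximalIdeal_le_jacobson ⊥)
    intro y _
    obtain ⟨b, hb⟩ := CplFlat.exists_sub_mem (maximalIdeal B)
      (maximalIdeal B).fg_of_isNoetherianRing (t + 1) y
    have h1 : y = algebraMap B (AdicCompletion (maximalIdeal B) B) b +
        (y - algebraMap B (AdicCompletion (maximalIdeal B) B) b) := by ring
    rw [h1]
    apply Submodule.add_mem_sup
    · exact ⟨algebraMap B _ b, by
        rw [AlgHom.toLinearMap_apply, hΨ, psiL_algebraMap_B]⟩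
    · rw [Ideal.smul_top_eq_map, Submodule.restrictScalars_mem,
        AdicCompletion.maximalIdeal_eq_map, Ideal.map_map]
      have h2 : (algebraMap (AdicCompletion (maximalIdeal A) A)
          (AdicCompletion (maximalIdeal B) B)).comp (algebraMap A (AdicCompletion (maximalIdeal A) A)) =
          (algebraMap B (AdicCompletion (maximalIdeal B) B)).comp (algebraMap A B) := by
        rw [← IsScalarTower.algebraMap_eq A B]
        exact CplFlat.cplMap_comp_algebraMap A B
      rw [h2, ← Ideal.map_map]
      exact Ideal.map_mono ht hb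
  intro y
  obtain ⟨x, hx⟩ := key (Submodule.mem_top : y ∈ ⊤)
  exact ⟨x, hx⟩

theorem psiL_bijective [Algebra.EssFiniteType A B]
    (hfib : Module.Finite (maximalIdeal A).ResidueField ((maximalIdeal A).Fiber B)) :
    Function.Bijective (psiL A B) :=
  ⟨psiL_injective A B, psiL_surjective A B hfib⟩


/-- A ring property stable under isomorphisms and localizations passes from `K ⊗[A] Â` to
`K ⊗[B] B̂`, for `A → B` local, essentially of finite type with finite closed fibre. -/
theorem transfer [Algebra.EssFiniteType A B]
    (hfib : Module.Finite (maximalIdeal A).ResidueField ((maximalIdeal A).Fiber B))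
    {P : ∀ (R : Type u) [CommRing R], Prop} (hP : FibLoc.LocStable P)
    (K : Type u) [CommRing K] [Algebra B K] [Algebra A K] [IsScalarTower A B K]
    (h : P (K ⊗[A] AdicCompletion (maximalIdeal A) A)) :
    P (K ⊗[B] AdicCompletion (maximalIdeal B) B) := by
  letI algT : Algebra (B ⊗[A] AdicCompletion (maximalIdeal A) A)
      (AdicCompletion (maximalIdeal B) B) := (psi A B).toRingHom.toAlgebra
  haveI : IsScalarTower B (B ⊗[A] AdicCompletion (maximalIdeal A) A)
      (AdicCompletion (maximalIdeal B) B) :=
    IsScalarTower.of_algebraMap_eq (fun b => by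
      change _ = psi A B (algebraMap B _ b)
      rw [AlgHom.commutes])
  let e : Localization.AtPrime (nP A B) ≃ₐ[B ⊗[A] AdicCompletion (maximalIdeal A) A]
      AdicCompletion (maximalIdeal B) B :=
    AlgEquiv.ofBijective { psiL A B with commutes' := psiL_algebraMap A B }
      (psiL_bijective A B hfib)
  haveI : IsLocalization (nP A B).primeCompl (AdicCompletion (maximalIdeal B) B) :=
    IsLocalization.isLocalization_of_algEquiv _ e
  have h1 : P (K ⊗[B] (B ⊗[A] AdicCompletion (maximalIdeal A) A)) :=
    hP.iso _ _ (Algebra.TensorProduct.cancelBaseChange A B K K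
      (AdicCompletion (maximalIdeal A) A)).symm.toRingEquiv h
  exact tensor_loc_general hP B K (B ⊗[A] AdicCompletion (maximalIdeal A) A)
    (AdicCompletion (maximalIdeal B) B) (nP A B).primeCompl h1


/-- Formal fibres: a geometric (finite extensions) localization-stable property passes from the
formal fibre of `A` at `Q` to the formal fibre of `B` at `Q'`, `Q' ∩ A = Q`, for `A → B` local,
essentially of finite type and quasi-finite. -/
theorem formalFibre_transfer [Algebra.EssFiniteType A B] [Algebra.QuasiFinite A B]
    {P : ∀ (R : Type u) [CommRing R], Prop} (hP : FibLoc.LocStable P)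
    (Q' : Ideal B) [Q'.IsPrime] (Q : Ideal A) [Q.IsPrime] (hQ : Q = Q'.comap (algebraMap A B))
    (h : ∀ (L : Type u) [Field L] [Algebra Q.ResidueField L], Module.Finite Q.ResidueField L →
      P (L ⊗[Q.ResidueField] Q.Fiber (AdicCompletion (maximalIdeal A) A)))
    (K' : Type u) [Field K'] [Algebra Q'.ResidueField K'] (hK' : Module.Finite Q'.ResidueField K') :
    P (K' ⊗[Q'.ResidueField] Q'.Fiber (AdicCompletion (maximalIdeal B) B)) := by
  have hfib : Module.Finite (maximalIdeal A).ResidueField ((maximalIdeal A).Fiber B) :=
    inferInstance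
  letI iBK : Algebra B K' :=
    ((algebraMap Q'.ResidueField K').comp (algebraMap B Q'.ResidueField)).toAlgebra
  haveI : IsScalarTower B Q'.ResidueField K' := IsScalarTower.of_algebraMap_eq' rfl
  letI iAK : Algebra A K' := ((algebraMap B K').comp (algebraMap A B)).toAlgebra
  haveI : IsScalarTower A B K' := IsScalarTower.of_algebraMap_eq' rfl
  -- `κ(Q) → K'`
  let σ : Q.ResidueField →+* K' :=
    Ideal.ResidueField.lift Q (algebraMap A K')
      (by
        intro a ha
        rw [RingHom.mem_ker]
        change algebraMap Q'.ResidueField K' (algebraMap B Q'.ResidueField (algebraMap A B a)) = 0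
        have : algebraMap A B a ∈ Q' := by
          rw [hQ] at ha
          exact ha
        rw [Ideal.algebraMap_residueField_eq_zero.mpr this, map_zero])
      (by
        intro a ha
        change IsUnit (algebraMap Q'.ResidueField K'
          (algebraMap B Q'.ResidueField (algebraMap A B a)))
        have : algebraMap A B a ∉ Q' := by
          intro hmem
          apply ha
          rw [hQ]
          exact hmem
        have h1 : algebraMap B Q'.ResidueField (algebraMap A B a) ≠ 0 := by
          rwa [Ne, Ideal.algebraMap_residueField_eq_zero]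
        exact (isUnit_iff_ne_zero.mpr h1).map _)
  letI iκK : Algebra Q.ResidueField K' := σ.toAlgebra
  haveI : IsScalarTower A Q.ResidueField K' := IsScalarTower.of_algebraMap_eq (fun a => by
    change _ = σ (algebraMap A Q.ResidueField a)
    rw [Ideal.ResidueField.lift_algebraMap])
  -- finiteness of `K'` over `κ(Q)`
  haveI : Algebra.QuasiFinite A Q'.ResidueField := Algebra.QuasiFinite.trans A B Q'.ResidueField
  haveI : Algebra.QuasiFinite Q'.ResidueField K' := inferInstance
  haveI : IsScalarTower A Q'.ResidueField K' := IsScalarTower.of_algebraMap_eq' (by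
    rw [IsScalarTower.algebraMap_eq A B Q'.ResidueField, ← RingHom.comp_assoc]
    rfl)
  haveI : Algebra.QuasiFinite A K' := Algebra.QuasiFinite.trans A Q'.ResidueField K'
  haveI : Algebra.QuasiFinite Q.ResidueField K' := Algebra.QuasiFinite.of_restrictScalars A _ _
  have hfin : Module.Finite Q.ResidueField K' := Module.Finite.of_quasiFinite
  have h1 := h K' hfin
  have h2 : P (K' ⊗[A] AdicCompletion (maximalIdeal A) A) :=
    hP.iso _ _ (Algebra.TensorProduct.cancelBaseChange A Q.ResidueField K' K'
      (AdicCompletion (maximalIdeal A) A)).toRingEquiv h1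
  have h3 : P (K' ⊗[B] AdicCompletion (maximalIdeal B) B) := transfer A B hfib hP K' h2
  exact hP.iso _ _ (Algebra.TensorProduct.cancelBaseChange B Q'.ResidueField K' K'
      (AdicCompletion (maximalIdeal B) B)).symm.toRingEquiv h3

end Groth.Agent.Lib.helper17.QFCpl
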