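import Mathlib
import Groth.Agent.Lib.Helper17.QFCpl
import Groth.Agent.Lib.Helper24.FibLoc
import Groth.Agent.Lib.Helper24.GeomSep1
import Groth.Agent.Lib.Helper24.SmoothRegularIff
import Groth.Agent.Lib.Helper3.GeomRed
import Groth.Agent.S0548

/-!
# helper17: the generic formal fibre in characteristic zero

* `loc_tensor`: a localization-stable property passes from `T` to `F ⊗[C] T` when `F` is a
  localization of `C`.
* `isRegularLocalRing_atPrime_of_generic`: if `F ⊗[C] D` is a regular ring (`F = Frac C`) and `q` is a
  prime of `D` with `q ∩ C = 0`, then `D_q` is a regular local ring.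
* `isRegularRing_genericFormalFibre`: `A'` regular local of characteristic zero, `C` a Noetherian local
  domain, `A' → C` local, injective, essentially of finite type with finite closed fibre. Then the
  generic formal fibre `Frac C ⊗[C] Ĉ` is a regular ring.
-/

set_option autoImplicit false
set_option linter.unusedSectionVars false
set_option linter.style.haveILetI false

namespace Groth.Agent.Lib.helper17.GenFib0

universe u

open TensorProduct IsLocalRing nonZeroDivisors
open Groth.Agent.Lib.Helper24

theorem loc_tensor {P : ∀ (R : Type u) [CommRing R], Prop} (hP : FibLoc.LocStable P)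
    (C F T : Type u) [CommRing C] [CommRing F] [CommRing T] [Algebra C F] [Algebra C T]
    (M : Submonoid C) [IsLocalization M F] (h : P T) : P (F ⊗[C] T) := by
  letI : Algebra T (F ⊗[C] T) := Algebra.TensorProduct.rightAlgebra
  haveI : IsLocalization (Algebra.algebraMapSubmonoid T M) (F ⊗[C] T) :=
    IsLocalization.tensorRight F M
  exact hP.loc T (F ⊗[C] T) (Algebra.algebraMapSubmonoid T M) h

theorem isRegularLocalRing_atPrime_of_generic (C D F : Type u) [CommRing C] [IsDomain C]
    [CommRing D] [Algebra C D] [Field F] [Algebra C F] [IsFractionRing C F]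
    (hreg : IsRegularRing (F ⊗[C] D)) (q : Ideal D) [q.IsPrime]
    (hq : q.comap (algebraMap C D) = ⊥) : IsRegularLocalRing (Localization.AtPrime q) := by
  letI : Algebra D (F ⊗[C] D) := Algebra.TensorProduct.rightAlgebra
  haveI : IsLocalization (Algebra.algebraMapSubmonoid D C⁰) (F ⊗[C] D) :=
    IsLocalization.tensorRight F C⁰
  have hle : Algebra.algebraMapSubmonoid D C⁰ ≤ q.primeCompl := by
    rintro x ⟨c, hc, rfl⟩ hx
    have h1 : c ∈ q.comap (algebraMap C D) := hx
    rw [hq, Ideal.mem_bot] at h1
    exact (nonZeroDivisors.ne_zero hc) h1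
  letI : Algebra (F ⊗[C] D) (Localization.AtPrime q) :=
    IsLocalization.localizationAlgebraOfSubmonoidLe (F ⊗[C] D) (Localization.AtPrime q)
      (Algebra.algebraMapSubmonoid D C⁰) q.primeCompl hle
  haveI : IsScalarTower D (F ⊗[C] D) (Localization.AtPrime q) :=
    IsLocalization.localization_isScalarTower_of_submonoid_le (F ⊗[C] D) (Localization.AtPrime q)
      (Algebra.algebraMapSubmonoid D C⁰) q.primeCompl hle
  haveI := IsLocalization.isLocalization_of_submonoid_le (F ⊗[C] D) (Localization.AtPrime q)
    (Algebra.algebraMapSubmonoid D C⁰) q.primeCompl hle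
  haveI : IsRegularRing (Localization.AtPrime q) :=
    FibLoc.locStable_isRegularRing.loc (F ⊗[C] D) (Localization.AtPrime q)
      (q.primeCompl.map (algebraMap D (F ⊗[C] D))) hreg
  exact IsRegularLocalRing.of_isRegularRing_of_isLocalRing _

theorem isRegularRing_genericFormalFibre (A' C F : Type u) [CommRing A'] [CommRing C]
    [IsRegularLocalRing A'] [IsDomain A'] [CharZero A'] [IsLocalRing C] [IsNoetherianRing C]
    [IsDomain C] [Algebra A' C] [IsLocalHom (algebraMap A' C)] [Algebra.EssFiniteType A' C]
    (hinj : Function.Injective (algebraMap A' C))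
    (hfib : Module.Finite (maximalIdeal A').ResidueField ((maximalIdeal A').Fiber C))
    [Field F] [Algebra C F] [IsFractionRing C F] [Algebra A' F] [IsScalarTower A' C F] :
    IsRegularRing (F ⊗[C] AdicCompletion (maximalIdeal C) C) := by
  -- the fraction field of `A'`
  haveI : FaithfulSMul A' F := (faithfulSMul_iff_algebraMap_injective A' F).mpr (by
    rw [IsScalarTower.algebraMap_eq A' C F]
    exact (IsFractionRing.injective C F).comp hinj)
  letI : Algebra (FractionRing A') F := FractionRing.liftAlgebra A' F
  haveI : IsScalarTower A' (FractionRing A') F := FractionRing.isScalarTower_liftAlgebra A' F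
  haveI : CharZero (FractionRing A') :=
    charZero_of_injective_algebraMap (IsFractionRing.injective A' (FractionRing A'))
  haveI : Algebra.IsGeometricallyReduced (FractionRing A') F :=
    Groth.Agent.Lib.helper3.GeomRed.isGeometricallyReduced_of_perfectField (FractionRing A') F
  -- the completion of `A'` is regular
  haveI hreg1 : IsRegularLocalRing (AdicCompletion (maximalIdeal A') A') :=
    (Groth.Agent.S0548.result A').mp inferInstance
  haveI hreg2 : IsRegularRing (AdicCompletion (maximalIdeal A') A') :=
    SmoothRegularIff.isRegularRing_of_isRegularLocalRing _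
  haveI hreg3 : IsRegularRing (FractionRing A' ⊗[A'] AdicCompletion (maximalIdeal A') A') :=
    loc_tensor FibLoc.locStable_isRegularRing A' (FractionRing A') _ A'⁰ hreg2
  -- Noetherianity
  have hN1 : IsNoetherianRing (F ⊗[C] (C ⊗[A'] AdicCompletion (maximalIdeal A') A')) :=
    loc_tensor FibLoc.locStable_isNoetherianRing C F _ C⁰ (QFCpl.noethT A' C)
  have hN2 : IsNoetherianRing (F ⊗[A'] AdicCompletion (maximalIdeal A') A') :=
    isNoetherianRing_of_ringEquiv _ (Algebra.TensorProduct.cancelBaseChange A' C F F
      (AdicCompletion (maximalIdeal A') A')).toRingEquiv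
  haveI hN3 : IsNoetherianRing (F ⊗[FractionRing A']
      (FractionRing A' ⊗[A'] AdicCompletion (maximalIdeal A') A')) :=
    isNoetherianRing_of_ringEquiv _ (Algebra.TensorProduct.cancelBaseChange A' (FractionRing A') F F
      (AdicCompletion (maximalIdeal A') A')).symm.toRingEquiv
  have hreg4 : IsRegularRing (F ⊗[FractionRing A']
      (FractionRing A' ⊗[A'] AdicCompletion (maximalIdeal A') A')) :=
    GeomSep.isRegularRing_tensor_of_separable (FractionRing A') F _
  have hreg5 : IsRegularRing (F ⊗[A'] AdicCompletion (maximalIdeal A') A') :=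
    IsRegularRing.of_ringEquiv (Algebra.TensorProduct.cancelBaseChange A' (FractionRing A') F F
      (AdicCompletion (maximalIdeal A') A')).toRingEquiv
  exact QFCpl.transfer A' C hfib FibLoc.locStable_isRegularRing F hreg5

/-- `A'` regular local of characteristic zero, `C` a Noetherian local domain, `A' → C` local,
injective, essentially of finite type with finite closed fibre, `q` a prime of `Ĉ` with `q ∩ C = 0`.
Then `Ĉ_q` is a regular local ring. -/
theorem isRegularLocalRing_atPrime_completion (A' C : Type u) [CommRing A'] [CommRing C]
    [IsRegularLocalRing A'] [IsDomain A'] [CharZero A'] [IsLocalRing C] [IsNoetherianRing C]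
    [IsDomain C] [Algebra A' C] [IsLocalHom (algebraMap A' C)] [Algebra.EssFiniteType A' C]
    (hinj : Function.Injective (algebraMap A' C))
    (hfib : Module.Finite (maximalIdeal A').ResidueField ((maximalIdeal A').Fiber C))
    (q : Ideal (AdicCompletion (maximalIdeal C) C)) [q.IsPrime]
    (hq : q.comap (algebraMap C (AdicCompletion (maximalIdeal C) C)) = ⊥) :
    IsRegularLocalRing (Localization.AtPrime q) := by
  have hreg := isRegularRing_genericFormalFibre A' C (FractionRing C) hinj hfib
  exact isRegularLocalRing_atPrime_of_generic C _ (FractionRing C) hreg q hq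

end Groth.Agent.Lib.helper17.GenFib0
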