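import Mathlib
import Groth.Prelude.Def_Dual3
import Groth.Agent.Lib.Helper17.GorAtEtale

/-!
# helper17: pointwise composition / cancellation for `Dual3.IsGorensteinAt`

* `isGorensteinAt_comp_of_noeth`: `f` Gorenstein at `x`, `g` Gorenstein at `f x`, and
  `O_{X,x}/m_{g f x} O_{X,x}` Noetherian ⇒ `f ≫ g` Gorenstein at `x`.
* `isGorensteinAt_of_comp`: `f ≫ g` Gorenstein at `x`, `f` flat at `x` ⇒ `f` Gorenstein at `x` and
  `g` Gorenstein at `f x` (no Noetherian hypotheses).
-/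

set_option autoImplicit false
set_option linter.style.haveILetI false
universe u
open CategoryTheory AlgebraicGeometry IsLocalRing

namespace Groth.Agent.Lib.helper17.GorAtComp

open Groth.Agent.Lib.helper17.GorIso Groth.Agent.Lib.helper17.GorComp
  Groth.Agent.Lib.helper17.CMComp Groth.Agent.Lib.helper17.FibreStalk
  Groth.Agent.Lib.helper17.GorAtEtale

section Ring

variable {A B C : Type u} [CommRing A] [CommRing B] [CommRing C]
  [IsLocalRing A] [IsLocalRing B] [IsLocalRing C]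

theorem ring_comp (α : A →+* B) (β : B →+* C) [IsLocalHom α] [IsLocalHom β]
    (hN : IsNoetherianRing (C ⧸ (maximalIdeal A).map (β.comp α)))
    (hα : α.Flat ∧ LocCoh.IsGorensteinLocalRing (B ⧸ (maximalIdeal A).map α))
    (hβ : β.Flat ∧ LocCoh.IsGorensteinLocalRing (C ⧸ (maximalIdeal B).map β)) :
    (β.comp α).Flat ∧ LocCoh.IsGorensteinLocalRing (C ⧸ (maximalIdeal A).map (β.comp α)) := by
  letI := α.toAlgebra
  letI := β.toAlgebra
  letI := (β.comp α).toAlgebra
  haveI : IsScalarTower A B C := IsScalarTower.of_algebraMap_eq' rfl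
  haveI : IsLocalHom (algebraMap A B) := ‹IsLocalHom α›
  haveI : IsLocalHom (algebraMap B C) := ‹IsLocalHom β›
  haveI : Module.Flat A B := hα.1
  haveI : Module.Flat B C := hβ.1
  exact ⟨Module.Flat.trans A B C, gor_fibre_comp A B C hα.2 hβ.2 hN⟩

theorem ring_of_comp (α : A →+* B) (β : B →+* C) [IsLocalHom α] [IsLocalHom β]
    (h : (β.comp α).Flat ∧ LocCoh.IsGorensteinLocalRing (C ⧸ (maximalIdeal A).map (β.comp α)))
    (hβ : β.Flat) :
    (α.Flat ∧ LocCoh.IsGorensteinLocalRing (B ⧸ (maximalIdeal A).map α)) ∧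
      (β.Flat ∧ LocCoh.IsGorensteinLocalRing (C ⧸ (maximalIdeal B).map β)) := by
  letI := α.toAlgebra
  letI := β.toAlgebra
  letI := (β.comp α).toAlgebra
  haveI : IsScalarTower A B C := IsScalarTower.of_algebraMap_eq' rfl
  haveI : IsLocalHom (algebraMap A B) := ‹IsLocalHom α›
  haveI : IsLocalHom (algebraMap B C) := ‹IsLocalHom β›
  haveI : Module.Flat B C := hβ
  haveI : Module.Flat A C := h.1
  haveI : Module.FaithfullyFlat B C := Module.FaithfullyFlat.of_flat_of_isLocalHom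
  have hG := h.2
  haveI : IsNoetherianRing (C ⧸ (IB A B).map (algebraMap B C)) := by
    haveI : IsNoetherianRing (C ⧸ (maximalIdeal A).map (algebraMap A C)) := by
      haveI := hG; infer_instance
    exact isNoetherianRing_of_ringEquiv _ (e1 A B C).symm
  haveI := Groth.Agent.Lib.Helper24.FlatQuot.flat_quotient B C (IB A B)
  haveI := Groth.Agent.Lib.Helper24.FlatQuot.isLocalHom_quotient B C (IB A B) (IB_ne_top A B)
  haveI : Module.FaithfullyFlat (B ⧸ IB A B) (C ⧸ (IB A B).map (algebraMap B C)) :=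
    Module.FaithfullyFlat.of_flat_of_isLocalHom
  have hNB : IsNoetherianRing (B ⧸ IB A B) :=
    Groth.Agent.Lib.Helper24.NoethLimit.isNoetherianRing_of_faithfullyFlat _
      (C ⧸ (IB A B).map (algebraMap B C))
  obtain ⟨hB, hC⟩ := gor_fibre_of_comp A B C hG hNB
  exact ⟨⟨flat_of_comp_of_faithfullyFlat A B C, hB⟩, ⟨hβ, hC⟩⟩

end Ring

theorem isGorensteinAt_comp_of_noeth {X Y Z : Scheme.{u}} (f : X ⟶ Y) (g : Y ⟶ Z) (x : ↥X)
    (hN : IsNoetherianRing (FibRing (f ≫ g) x)) (hf : Dual3.IsGorensteinAt f x)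
    (hg : Dual3.IsGorensteinAt g (f x)) : Dual3.IsGorensteinAt (f ≫ g) x := by
  rw [isGorensteinAt_iff] at hf hg ⊢
  have hcomp : ((f ≫ g).stalkMap x).hom = (f.stalkMap x).hom.comp (g.stalkMap (f x)).hom := by
    rw [Scheme.Hom.stalkMap_comp]; rfl
  have hN' : IsNoetherianRing (X.presheaf.stalk x ⧸
      (maximalIdeal (Z.presheaf.stalk ((f ≫ g) x))).map ((f ≫ g).stalkMap x).hom) := hN
  rw [hcomp] at hN' ⊢
  exact ring_comp (g.stalkMap (f x)).hom (f.stalkMap x).hom hN' hg hf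

theorem isGorensteinAt_of_comp {X Y Z : Scheme.{u}} (f : X ⟶ Y) (g : Y ⟶ Z) (x : ↥X)
    (h : Dual3.IsGorensteinAt (f ≫ g) x) (hfl : (f.stalkMap x).hom.Flat) :
    Dual3.IsGorensteinAt f x ∧ Dual3.IsGorensteinAt g (f x) := by
  rw [isGorensteinAt_iff] at h
  rw [isGorensteinAt_iff, isGorensteinAt_iff]
  have hcomp : ((f ≫ g).stalkMap x).hom = (f.stalkMap x).hom.comp (g.stalkMap (f x)).hom := by
    rw [Scheme.Hom.stalkMap_comp]; rfl
  rw [hcomp] at h
  have := ring_of_comp (g.stalkMap (f x)).hom (f.stalkMap x).hom h hfl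
  exact ⟨this.2, this.1⟩

end Groth.Agent.Lib.helper17.GorAtComp
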