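import Mathlib
import Groth.Agent.Lib.Helper17.FieldGor

/-!
# helper17: Gorenstein local rings and base field extension (ring level)

* `isGorensteinRing_tensor_of_isField`: `K ⊗[k] L` Gorenstein for fields, one of them e.f.t.
* `gor_fiber`: the fibres of `S → S ⊗[k] k'` are Gorenstein rings (if `S` is of finite type over `k`
  or `k'/k` is essentially of finite type).
* `gor_baseChange_iff`: `S_q` is Gorenstein iff `(S ⊗[k] k')_{q'}` is, `q = q' ∩ S`.
-/

set_option autoImplicit false
set_option linter.style.haveILetI false
set_option linter.unusedVariables false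
set_option linter.unusedSectionVars false
universe u

open IsLocalRing TensorProduct LocCoh

namespace Groth.Agent.Lib.helper17.GorFieldRing

open Groth.Agent.Lib.helper17.GorRing Groth.Agent.Lib.helper17.GorIso

/-- `K ⊗[k] L` is Gorenstein for fields, one of them essentially of finite type over `k`. -/
theorem isGorensteinRing_tensor_of_field (k K L : Type u) [Field k] [Field K]
    [Field L] [Algebra k K] [Algebra k L]
    (h : Algebra.EssFiniteType k K ∨ Algebra.EssFiniteType k L) :
    IsGorensteinRing (K ⊗[k] L) := by
  rcases h with h | h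
  · haveI := isGorensteinRing_of_field L
    exact Groth.Agent.Lib.helper17.FieldGor.isGorensteinRing_tensor_of_essFiniteType k K L
  · haveI := isGorensteinRing_of_field K
    haveI := Groth.Agent.Lib.helper17.FieldGor.isGorensteinRing_tensor_of_essFiniteType k L K
    exact isGorensteinRing_of_ringEquiv (Algebra.TensorProduct.comm k L K).toRingEquiv

/-- the fibres of `S → S ⊗[k] k'` are Gorenstein. -/
theorem gor_fiber (k S k' : Type u) [Field k] [CommRing S] [Algebra k S] [Field k'] [Algebra k k']
    (hft : Algebra.FiniteType k S ∨ Algebra.EssFiniteType k k') (p : Ideal S) [p.IsPrime] :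
    IsGorensteinRing (p.Fiber (S ⊗[k] k')) := by
  have e : p.Fiber (S ⊗[k] k') ≃+* p.ResidueField ⊗[k] k' :=
    (Algebra.TensorProduct.cancelBaseChange k S S p.ResidueField k').toRingEquiv
  have h : Algebra.EssFiniteType k p.ResidueField ∨ Algebra.EssFiniteType k k' := by
    rcases hft with h | h
    · left
      haveI : Algebra.EssFiniteType k (Localization.AtPrime p) :=
        Algebra.EssFiniteType.comp k S (Localization.AtPrime p)
      exact Algebra.EssFiniteType.of_surjective
        (IsScalarTower.toAlgHom k (Localization.AtPrime p) p.ResidueField)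
        (IsLocalRing.residue_surjective)
    · exact Or.inr h
  haveI := isGorensteinRing_tensor_of_field k p.ResidueField k' h
  exact isGorensteinRing_of_ringEquiv e.symm

/-- Gorensteinness of local rings is invariant under base field extension. -/
theorem gor_baseChange_iff (k S k' : Type u) [Field k] [CommRing S] [Algebra k S]
    [IsNoetherianRing S] [Field k'] [Algebra k k']
    (hft : Algebra.FiniteType k S ∨ Algebra.EssFiniteType k k') [IsNoetherianRing (S ⊗[k] k')]
    (q' : Ideal (S ⊗[k] k')) [q'.IsPrime] :
    IsGorensteinLocalRing (Localization.AtPrime (q'.comap (algebraMap S (S ⊗[k] k')))) ↔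
      IsGorensteinLocalRing (Localization.AtPrime q') := by
  haveI : q'.LiesOver (q'.comap (algebraMap S (S ⊗[k] k'))) := ⟨rfl⟩
  rw [gor_atPrime_iff S (S ⊗[k] k') (q'.comap (algebraMap S (S ⊗[k] k'))) q']
  obtain ⟨r, hr, ⟨e⟩⟩ := Groth.Agent.Lib.Helper24.FlatDepth.exists_fibre_prime_equiv S
    (S ⊗[k] k') (q'.comap (algebraMap S (S ⊗[k] k'))) q'
  have hfib := (gor_fiber k S k' hft
    (q'.comap (algebraMap S (S ⊗[k] k')))).isGorensteinLocalRing_localization r
  have hF : IsGorensteinLocalRing (Groth.Agent.Lib.Helper24.FlatDepth.FibLoc S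
      (S ⊗[k] k') (q'.comap (algebraMap S (S ⊗[k] k'))) q') :=
    isGorensteinLocalRing_of_ringEquiv e.symm hfib
  exact ⟨fun h => ⟨h, hF⟩, fun h => h.1⟩

/-- a local ring is its own localization at the maximal ideal. -/
theorem gor_localization_maximalIdeal_iff (B : Type u) [CommRing B] [IsLocalRing B] :
    IsGorensteinLocalRing (Localization.AtPrime (maximalIdeal B)) ↔ IsGorensteinLocalRing B := by
  have e : B ≃ₐ[B] Localization.AtPrime (maximalIdeal B) :=
    IsLocalization.atUnits B (maximalIdeal B).primeCompl (fun x hx => by
      by_contra hnu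
      exact hx hnu)
  exact (isGorensteinLocalRing_iff_of_ringEquiv e.toRingEquiv).symm

end Groth.Agent.Lib.helper17.GorFieldRing
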