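import Mathlib
import Groth.Prelude.Def_Dual3
import Groth.Agent.Lib.Helper17.CMBaseChange2
import Groth.Agent.Lib.Helper17.GorFieldRing

/-!
# helper17: the Gorenstein property of a morphism under base change

* `gor_fibRing`, `gor_stalk_iff`: base change along a field extension (one of the extensions
  essentially of finite type) preserves and reflects Gorenstein local rings.
* `isGorensteinAt_of_isPullback`: ascent of `Dual3.IsGorensteinAt` along a base change.
* `isGorensteinAt_descent`: descent of `Dual3.IsGorensteinAt`, given flatness of `f` at the point.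
-/

set_option autoImplicit false
set_option linter.style.haveILetI false
universe u
open CategoryTheory CategoryTheory.Limits AlgebraicGeometry TopologicalSpace IsLocalRing
open TensorProduct

namespace Groth.Agent.Lib.helper17.GorBaseChange

open Groth.Agent.Lib.helper17.FibreStalk Groth.Agent.Lib.helper17.FibreBC
  Groth.Agent.Lib.helper17.FieldBC Groth.Agent.Lib.helper17.CMBaseChange
  Groth.Agent.Lib.helper17.GorIso

section field

variable {X X' : Scheme.{u}} {K K' : CommRingCat.{u}}
  {f : X ⟶ Spec K} {f' : X' ⟶ Spec K'} {g' : X' ⟶ X} {φ : K ⟶ K'}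

/-- The closed fibre ring of `g'` at `x'` is Gorenstein. -/
theorem gor_fibRing (hc : IsPullback g' f' f (Spec.map φ)) (x' : X') (hK : IsField K)
    (hK' : IsField K') (ψ : K ⟶ X.residueField (g' x'))
    (hψ : X.fromSpecResidueField (g' x') ≫ f = Spec.map ψ)
    (h : ψ.hom.EssFiniteType ∨ φ.hom.EssFiniteType) :
    LocCoh.IsGorensteinLocalRing (FibRing g' x') := by
  obtain ⟨q, hq, ⟨e⟩⟩ := exists_fibRing_equiv_localization hc x' ψ hψ
  letI := ψ.hom.toAlgebra
  letI := φ.hom.toAlgebra
  letI := hK.toField
  letI := hK'.toField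
  have hG := Groth.Agent.Lib.helper17.GorFieldRing.isGorensteinRing_tensor_of_field K
    (X.residueField (g' x')) K' h
  have := hG.isGorensteinLocalRing_localization q
  exact isGorensteinLocalRing_of_ringEquiv e this

/-- Gorensteinness of local rings is invariant under base change along a field extension,
one of `κ(x)/K`, `K'/K` being essentially of finite type. -/
theorem gor_stalk_iff (hc : IsPullback g' f' f (Spec.map φ)) (x' : X') (hK : IsField K)
    (hK' : IsField K') (ψ : K ⟶ X.residueField (g' x'))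
    (hψ : X.fromSpecResidueField (g' x') ≫ f = Spec.map ψ)
    (h : ψ.hom.EssFiniteType ∨ φ.hom.EssFiniteType)
    [IsNoetherianRing (X.presheaf.stalk (g' x'))] [IsNoetherianRing (X'.presheaf.stalk x')] :
    LocCoh.IsGorensteinLocalRing (X'.presheaf.stalk x') ↔
      LocCoh.IsGorensteinLocalRing (X.presheaf.stalk (g' x')) := by
  have hflatφ : Flat (Spec.map φ) := by
    rw [HasRingHomProperty.Spec_iff (P := @Flat)]
    exact flat_of_isField hK
  haveI : Flat g' := MorphismProperty.of_isPullback hc.flip hflatφ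
  letI := (g'.stalkMap x').hom.toAlgebra
  haveI : Module.Flat (X.presheaf.stalk (g' x')) (X'.presheaf.stalk x') := Flat.stalkMap g' x'
  haveI : IsLocalHom (algebraMap (X.presheaf.stalk (g' x')) (X'.presheaf.stalk x')) :=
    inferInstanceAs (IsLocalHom (g'.stalkMap x').hom)
  rw [Groth.Agent.Lib.helper17.GorFlat.gor_iff_of_flat (X.presheaf.stalk (g' x'))
    (X'.presheaf.stalk x')]
  have hF := gor_fibRing hc x' hK hK' ψ hψ h
  exact ⟨fun h => h.1, fun h => ⟨h, hF⟩⟩

end field

variable {X Y X' Y' : Scheme.{u}} {f : X ⟶ Y} {f' : X' ⟶ Y'} {g' : X' ⟶ X} {g : Y' ⟶ Y}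

/-- Ascent of `IsGorensteinAt` along a base change. -/
theorem isGorensteinAt_of_isPullback (hc : IsPullback g' f' f g) (x' : X')
    [IsLocallyNoetherian (f.fiber (g (f' x')))]
    [IsNoetherianRing ((f'.fiber (f' x')).presheaf.stalk (f'.asFiber x'))]
    (ψ : Y.residueField (g (f' x')) ⟶
      (f.fiber (g (f' x'))).residueField (fibreMap hc (f' x') (f'.asFiber x')))
    (hψ : (f.fiber (g (f' x'))).fromSpecResidueField (fibreMap hc (f' x') (f'.asFiber x')) ≫
      f.fiberToSpecResidueField (g (f' x')) = Spec.map ψ)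
    (hess : ψ.hom.EssFiniteType ∨ (g.residueFieldMap (f' x')).hom.EssFiniteType)
    (h : Dual3.IsGorensteinAt f (g' x')) : Dual3.IsGorensteinAt f' x' := by
  refine ⟨Groth.Agent.Lib.helper17.FlatStalkBC.flat_stalkMap_of_isPullback hc.flip x' h.1, ?_⟩
  have hF := isPullback_fibreMap hc (f' x')
  obtain ⟨e⟩ := nonempty_stalk_equiv_fibreMap hc x'
  haveI : IsNoetherianRing ((f.fiber (g (f' x'))).presheaf.stalk
      (fibreMap hc (f' x') (f'.asFiber x'))) := inferInstance
  rw [gor_stalk_iff hF (f'.asFiber x') (Field.toIsField _) (Field.toIsField _) ψ hψ hess]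
  exact isGorensteinLocalRing_of_ringEquiv e.symm h.2

/-- Descent of `IsGorensteinAt`: if `f'` is Gorenstein at `x'` and `f` is flat at `g' x'` (with
Noetherian fibre local ring), then `f` is Gorenstein at `g' x'`. -/
theorem isGorensteinAt_descent (hc : IsPullback g' f' f g) (x' : X')
    [IsNoetherianRing ((f.fiber (f (g' x'))).presheaf.stalk (f.asFiber (g' x')))]
    (hflat : (f.stalkMap (g' x')).hom.Flat) (h : Dual3.IsGorensteinAt f' x') :
    Dual3.IsGorensteinAt f (g' x') := by
  obtain ⟨ψ, hψ, hloc⟩ := exists_flat_local_hom hc x'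
  obtain ⟨-, hG⟩ := h
  algebraize [ψ]
  haveI : IsLocalHom (algebraMap ((f.fiber (f (g' x'))).presheaf.stalk (f.asFiber (g' x')))
      ((f'.fiber (f' x')).presheaf.stalk (f'.asFiber x'))) := hloc
  haveI : IsNoetherianRing ((f'.fiber (f' x')).presheaf.stalk (f'.asFiber x')) := by
    haveI := hG; infer_instance
  exact ⟨hflat, ((Groth.Agent.Lib.helper17.GorFlat.gor_iff_of_flat
    ((f.fiber (f (g' x'))).presheaf.stalk (f.asFiber (g' x')))
    ((f'.fiber (f' x')).presheaf.stalk (f'.asFiber x'))).mp hG).1⟩

end Groth.Agent.Lib.helper17.GorBaseChange
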