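import Mathlib
import Groth.Agent.Lib.Helper17.GorBaseChange
import Groth.Agent.Lib.Helper17.EtaleStalk
import Groth.Agent.Lib.Helper24.NoethLimit

/-!
# helper17: descent of `Dual3.IsGorensteinAt` without Noetherian hypotheses, morphisms to a field

* `isGorensteinAt_descent'`: like `GorBaseChange.isGorensteinAt_descent`, the Noetherian hypothesis
  removed by faithfully flat descent.
* `isGorensteinAt_of_isField`: for `f : X ⟶ Y` with `O_{Y, f x}` a field, `f` is Gorenstein at `x`
  iff `O_{X,x}` is Gorenstein.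
-/

set_option autoImplicit false
set_option linter.style.haveILetI false
universe u
open CategoryTheory CategoryTheory.Limits AlgebraicGeometry TopologicalSpace IsLocalRing

namespace Groth.Agent.Lib.helper17.GorDescent

open Groth.Agent.Lib.helper17.FibreStalk Groth.Agent.Lib.helper17.FibreBC
  Groth.Agent.Lib.helper17.GorIso Groth.Agent.Lib.helper17.EtaleStalk

variable {X X' Y Y' : Scheme.{u}} {f : X ⟶ Y} {f' : X' ⟶ Y'} {g' : X' ⟶ X} {g : Y' ⟶ Y}

/-- Descent of `IsGorensteinAt`: if `f'` is Gorenstein at `x'` and `f` is flat at `g' x'`, then `f`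
is Gorenstein at `g' x'`. -/
theorem isGorensteinAt_descent' (hc : IsPullback g' f' f g) (x' : X')
    (hflat : (f.stalkMap (g' x')).hom.Flat) (h : Dual3.IsGorensteinAt f' x') :
    Dual3.IsGorensteinAt f (g' x') := by
  obtain ⟨ψ, hψ, hloc⟩ := exists_flat_local_hom hc x'
  have hG := h.2
  algebraize [ψ]
  haveI : IsLocalHom (algebraMap ((f.fiber (f (g' x'))).presheaf.stalk (f.asFiber (g' x')))
      ((f'.fiber (f' x')).presheaf.stalk (f'.asFiber x'))) := hloc
  haveI : IsNoetherianRing ((f'.fiber (f' x')).presheaf.stalk (f'.asFiber x')) := by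
    haveI := hG; infer_instance
  haveI : Module.FaithfullyFlat ((f.fiber (f (g' x'))).presheaf.stalk (f.asFiber (g' x')))
      ((f'.fiber (f' x')).presheaf.stalk (f'.asFiber x')) :=
    Module.FaithfullyFlat.of_flat_of_isLocalHom
  haveI : IsNoetherianRing ((f.fiber (f (g' x'))).presheaf.stalk (f.asFiber (g' x'))) :=
    Groth.Agent.Lib.Helper24.NoethLimit.isNoetherianRing_of_faithfullyFlat _
      ((f'.fiber (f' x')).presheaf.stalk (f'.asFiber x'))
  exact Groth.Agent.Lib.helper17.GorBaseChange.isGorensteinAt_descent hc x' hflat h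

/-- For `f : X ⟶ Y` with `O_{Y, f x}` a field, `f` is Gorenstein at `x` iff `O_{X,x}` is
Gorenstein. -/
theorem isGorensteinAt_iff_of_isField (f : X ⟶ Y) (x : X)
    (hF : IsField (Y.presheaf.stalk (f x))) :
    Dual3.IsGorensteinAt f x ↔ LocCoh.IsGorensteinLocalRing (X.presheaf.stalk x) := by
  obtain ⟨e⟩ := nonempty_fibre_stalk_equiv_of_isField f x hF
  exact ⟨fun h => isGorensteinLocalRing_of_ringEquiv e.symm h.2,
    fun h => ⟨flat_stalkMap_of_isField f x hF, isGorensteinLocalRing_of_ringEquiv e h⟩⟩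

end Groth.Agent.Lib.helper17.GorDescent
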