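import Mathlib
import Groth.Prelude.Def_Dual3
import Groth.Agent.Lib.Helper17.GorBaseChange
import Groth.Agent.Lib.Helper17.GorDescent

/-!
# helper17: pointwise base change for `Dual3.IsGorensteinAt`

For a pullback square of schemes with `g` locally of finite type and a point `x'` of `X'` such that
`O_{X,x}/m_{f x} O_{X,x}` (`x = g' x'`) is Noetherian: ascent and the two descents.
-/

set_option autoImplicit false
set_option linter.style.haveILetI false
universe u
open CategoryTheory CategoryTheory.Limits AlgebraicGeometry TopologicalSpace IsLocalRing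

namespace Groth.Agent.Lib.helper17.GorBCPoint

open Groth.Agent.Lib.helper17.FibreStalk Groth.Agent.Lib.helper17.FibreBC
  Groth.Agent.Lib.helper17.FieldBC Groth.Agent.Lib.helper17.CMBaseChange
  Groth.Agent.Lib.helper17.GorIso Groth.Agent.Lib.helper17.GorBaseChange

variable {X X' Y Y' : Scheme.{u}} {f : X ⟶ Y} {f' : X' ⟶ Y'} {g' : X' ⟶ X} {g : Y' ⟶ Y}

/-- Ascent of `IsGorensteinAt` along a base change, pointwise Noetherian hypothesis. -/
theorem isGorensteinAt_of_isPullback' (hc : IsPullback g' f' f g) (x' : X')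
    (hN : IsNoetherianRing (FibRing f (g' x')))
    (hess : (g.residueFieldMap (f' x')).hom.EssFiniteType)
    (h : Dual3.IsGorensteinAt f (g' x')) : Dual3.IsGorensteinAt f' x' := by
  refine ⟨Groth.Agent.Lib.helper17.FlatStalkBC.flat_stalkMap_of_isPullback hc.flip x' h.1, ?_⟩
  have hF := isPullback_fibreMap hc (f' x')
  obtain ⟨e⟩ := nonempty_stalk_equiv_fibreMap hc x'
  have hpt : f.fiberι (g (f' x')) (fibreMap hc (f' x') (f'.asFiber x')) = g' x' := by
    rw [← Scheme.Hom.comp_apply, fibreMap_fiberι, Scheme.Hom.comp_apply, f'.fiberι_asFiber x']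
  haveI : IsNoetherianRing ((f.fiber (g (f' x'))).presheaf.stalk
      (fibreMap hc (f' x') (f'.asFiber x'))) := by
    obtain ⟨e0⟩ := fibRing_congr f hpt
    haveI : IsNoetherianRing (FibRing f (f.fiberι (g (f' x'))
        (fibreMap hc (f' x') (f'.asFiber x')))) := isNoetherianRing_of_ringEquiv _ e0.symm
    exact isNoetherianRing_of_ringEquiv _
      (fiberStalkEquiv f (g (f' x')) (fibreMap hc (f' x') (f'.asFiber x')))
  haveI : IsNoetherianRing ((f'.fiber (f' x')).presheaf.stalk (f'.asFiber x')) :=
    isNoetherianRing_stalk hF (f'.asFiber x') hess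
  let ψ : Y.residueField (g (f' x')) ⟶ (f.fiber (g (f' x'))).residueField
      (fibreMap hc (f' x') (f'.asFiber x')) :=
    Spec.preimage ((f.fiber (g (f' x'))).fromSpecResidueField
      (fibreMap hc (f' x') (f'.asFiber x')) ≫ f.fiberToSpecResidueField (g (f' x')))
  have hψ : (f.fiber (g (f' x'))).fromSpecResidueField
      (fibreMap hc (f' x') (f'.asFiber x')) ≫
      f.fiberToSpecResidueField (g (f' x')) = Spec.map ψ := (Spec.map_preimage _).symm
  rw [gor_stalk_iff hF (f'.asFiber x') (Field.toIsField _) (Field.toIsField _) ψ hψ (Or.inr hess)]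
  exact isGorensteinLocalRing_of_ringEquiv e.symm h.2

/-- pointwise base change theorem for `IsGorensteinAt`. -/
theorem isGorensteinAt_bc (hc : IsPullback g' f' f g) [LocallyOfFiniteType g] (x' : X')
    (hN : IsNoetherianRing (FibRing f (g' x'))) :
    (Dual3.IsGorensteinAt f (g' x') → Dual3.IsGorensteinAt f' x') ∧
      ((f.stalkMap (g' x')).hom.Flat → Dual3.IsGorensteinAt f' x' →
        Dual3.IsGorensteinAt f (g' x')) ∧
      ((g.stalkMap (f' x')).hom.Flat → Dual3.IsGorensteinAt f' x' →
        Dual3.IsGorensteinAt f (g' x')) := by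
  refine ⟨?_, ?_, ?_⟩
  · exact isGorensteinAt_of_isPullback' hc x' hN (essFiniteType_residueFieldMap g (f' x'))
  · intro hflat h
    exact Groth.Agent.Lib.helper17.GorDescent.isGorensteinAt_descent' hc x' hflat h
  · intro hflat h
    have hfl' : (f'.stalkMap x').hom.Flat := h.1
    have hB : (g'.stalkMap x').hom.Flat :=
      Groth.Agent.Lib.helper17.FlatStalkBC.flat_stalkMap_of_isPullback hc x' hflat
    have hfl : (f.stalkMap (g' x')).hom.Flat :=
      Groth.Agent.Lib.helper17.CMBaseChange.flat_stalkMap_descent hc x' hflat hB hfl'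
    exact Groth.Agent.Lib.helper17.GorDescent.isGorensteinAt_descent' hc x' hfl h

end Groth.Agent.Lib.helper17.GorBCPoint
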