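import Mathlib
import Groth.Agent.Lib.Helper17.GorFlat
import Groth.Agent.Lib.Helper17.GorRing
import Groth.Agent.Lib.Helper24.FlatDepth7

/-!
# helper17: Gorenstein fibre rings compose

* `gor_quot_flat`: `B → C` flat local homomorphism of Noetherian local rings, `I ≠ ⊤` an ideal of `B`;
  `C/IC` is Gorenstein iff `B/I` and `C/m_B C` are.
* `gor_fibLoc_comp`: fibre local rings in a tower `A → B → C` (helper24's `FibLoc`).
* `gor_fiber_comp`: if `κ(p) ⊗_A B` and all `κ(q) ⊗_B C` are Gorenstein rings then so is
  `κ(p) ⊗_A C`.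
-/

set_option autoImplicit false
set_option linter.style.haveILetI false
set_option linter.unusedSectionVars false
universe u
open IsLocalRing TensorProduct

namespace Groth.Agent.Lib.helper17.GorFibComp

open Groth.Agent.Lib.helper17.GorIso Groth.Agent.Lib.Helper24.FlatDepth

section Quot

variable (B C : Type u) [CommRing B] [CommRing C] [Algebra B C] [IsLocalRing B] [IsLocalRing C]
  [IsLocalHom (algebraMap B C)] [Module.Flat B C] [IsNoetherianRing B] [IsNoetherianRing C]
  (I : Ideal B)

/-- `C/IC` is Gorenstein iff `B/I` and `C/m_B C` are (`B → C` flat local). -/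
theorem gor_quot_flat (hI : I ≠ ⊤) :
    LocCoh.IsGorensteinLocalRing (C ⧸ I.map (algebraMap B C)) ↔
      LocCoh.IsGorensteinLocalRing (B ⧸ I) ∧
        LocCoh.IsGorensteinLocalRing (C ⧸ (maximalIdeal B).map (algebraMap B C)) := by
  haveI : Nontrivial (B ⧸ I) := Ideal.Quotient.nontrivial_iff.mpr hI
  haveI : IsLocalRing (B ⧸ I) :=
    IsLocalRing.of_surjective' (Ideal.Quotient.mk _) Ideal.Quotient.mk_surjective
  have hIC : I.map (algebraMap B C) ≠ ⊤ := Groth.Agent.Lib.Helper24.FlatQuot.map_ne_top B C I hI
  haveI : Nontrivial (C ⧸ I.map (algebraMap B C)) := Ideal.Quotient.nontrivial_iff.mpr hIC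
  haveI : IsLocalRing (C ⧸ I.map (algebraMap B C)) :=
    IsLocalRing.of_surjective' (Ideal.Quotient.mk _) Ideal.Quotient.mk_surjective
  haveI := Groth.Agent.Lib.Helper24.FlatQuot.flat_quotient B C I
  haveI := Groth.Agent.Lib.Helper24.FlatQuot.isLocalHom_quotient B C I hI
  have hmax : maximalIdeal (B ⧸ I) = (maximalIdeal B).map (Ideal.Quotient.mk I) := by
    symm
    apply IsLocalRing.eq_maximalIdeal
    refine Ideal.IsMaximal.map_of_surjective_of_ker_le Ideal.Quotient.mk_surjective ?_
    rw [Ideal.mk_ker]
    exact IsLocalRing.le_maximalIdeal hI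
  have hmap : (maximalIdeal (B ⧸ I)).map
        (algebraMap (B ⧸ I) (C ⧸ I.map (algebraMap B C))) =
      ((maximalIdeal B).map (algebraMap B C)).map
        (Ideal.Quotient.mk (I.map (algebraMap B C))) := by
    rw [hmax, Ideal.map_map, Ideal.map_map]
    rfl
  have hle : I.map (algebraMap B C) ≤ (maximalIdeal B).map (algebraMap B C) :=
    Ideal.map_mono (IsLocalRing.le_maximalIdeal hI)
  let e2 : ((C ⧸ I.map (algebraMap B C)) ⧸ (maximalIdeal (B ⧸ I)).map
        (algebraMap (B ⧸ I) (C ⧸ I.map (algebraMap B C)))) ≃+*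
      (C ⧸ (maximalIdeal B).map (algebraMap B C)) :=
    (Ideal.quotEquivOfEq hmap).trans (DoubleQuot.quotQuotEquivQuotOfLE hle)
  rw [Groth.Agent.Lib.helper17.GorFlat.gor_iff_of_flat (B ⧸ I) (C ⧸ I.map (algebraMap B C)),
    isGorensteinLocalRing_iff_of_ringEquiv e2]

end Quot

section Comp

variable (A B C : Type u) [CommRing A] [CommRing B] [CommRing C] [Algebra A B] [Algebra B C]
  [Algebra A C] [IsScalarTower A B C] [IsNoetherianRing B] [IsNoetherianRing C] [Module.Flat B C]
  (p : Ideal A) [p.IsPrime] (q : Ideal B) [q.IsPrime] [q.LiesOver p]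
  (r : Ideal C) [r.IsPrime] [r.LiesOver q] [r.LiesOver p]

/-- Gorenstein fibre local rings in towers. -/
theorem gor_fibLoc_comp :
    LocCoh.IsGorensteinLocalRing (FibLoc A C p r) ↔
      LocCoh.IsGorensteinLocalRing (FibLoc A B p q) ∧
        LocCoh.IsGorensteinLocalRing (FibLoc B C q r) := by
  letI := Localization.AtPrime.algebraOfLiesOver q r
  haveI hloc : IsLocalHom (algebraMap (Localization.AtPrime q) (Localization.AtPrime r)) :=
    Localization.isLocalHom_localRingHom _ r (algebraMap B C) Ideal.LiesOver.over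
  haveI hflat : Module.Flat (Localization.AtPrime q) (Localization.AtPrime r) := inferInstance
  have hI : (p.map (algebraMap A B)).map (algebraMap B (Localization.AtPrime q)) ≠ ⊤ :=
    ne_top_of_le_ne_top (maximalIdeal.isMaximal _).ne_top (map_map_le_maximalIdeal A B p q)
  have hJ : ((p.map (algebraMap A B)).map (algebraMap B (Localization.AtPrime q))).map
      (algebraMap (Localization.AtPrime q) (Localization.AtPrime r)) =
      (p.map (algebraMap A C)).map (algebraMap C (Localization.AtPrime r)) := by
    rw [Ideal.map_map, Ideal.map_map, Ideal.map_map,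
      ← IsScalarTower.algebraMap_eq B (Localization.AtPrime q) (Localization.AtPrime r),
      IsScalarTower.algebraMap_eq B C (Localization.AtPrime r), RingHom.comp_assoc,
      ← IsScalarTower.algebraMap_eq A B C]
  let e1 : (Localization.AtPrime r ⧸
      ((p.map (algebraMap A B)).map (algebraMap B (Localization.AtPrime q))).map
      (algebraMap (Localization.AtPrime q) (Localization.AtPrime r))) ≃+* FibLoc A C p r :=
    Ideal.quotEquivOfEq hJ
  have hI2 : (maximalIdeal (Localization.AtPrime q)).map
      (algebraMap (Localization.AtPrime q) (Localization.AtPrime r)) =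
      (q.map (algebraMap B C)).map (algebraMap C (Localization.AtPrime r)) := by
    rw [← Localization.AtPrime.map_eq_maximalIdeal, Ideal.map_map, Ideal.map_map,
      ← IsScalarTower.algebraMap_eq, ← IsScalarTower.algebraMap_eq]
  let e2 : (Localization.AtPrime r ⧸ (maximalIdeal (Localization.AtPrime q)).map
      (algebraMap (Localization.AtPrime q) (Localization.AtPrime r))) ≃+* FibLoc B C q r :=
    Ideal.quotEquivOfEq hI2
  rw [← isGorensteinLocalRing_iff_of_ringEquiv e1, ← isGorensteinLocalRing_iff_of_ringEquiv e2]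
  exact gor_quot_flat (Localization.AtPrime q) (Localization.AtPrime r) _ hI

end Comp

section Fiber

variable (A B C : Type u) [CommRing A] [CommRing B] [CommRing C] [Algebra A B] [Algebra B C]
  [Algebra A C] [IsScalarTower A B C] [IsNoetherianRing B] [IsNoetherianRing C] [Module.Flat B C]
  (p : Ideal A) [p.IsPrime]

/-- Gorenstein fibre rings compose. -/
theorem gor_fiber_comp (hAB : LocCoh.IsGorensteinRing (p.Fiber B))
    (hBC : ∀ (q : Ideal B) [q.IsPrime], LocCoh.IsGorensteinRing (q.Fiber C)) :
    LocCoh.IsGorensteinRing (p.Fiber C) := by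
  haveI : IsNoetherianRing (p.Fiber C) :=
    Groth.Agent.Lib.Helper24.HensFibre.isNoetherianRing_fibre A C p
  refine { isGorensteinLocalRing_localization := ?_ }
  intro r' hr'
  set r : Ideal C := r'.comap (Algebra.TensorProduct.includeRight : C →ₐ[A] p.Fiber C) with hr
  haveI hrp : r.LiesOver p := by
    constructor
    rw [Ideal.over_def r' p, hr, Ideal.under_def, Ideal.under_def]
    ext a
    simp only [Ideal.mem_comap]
    rw [AlgHom.commutes]
  set q : Ideal B := r.under B with hq
  haveI hqp : q.LiesOver p := by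
    constructor
    rw [Ideal.over_def r p, hq, Ideal.under_def, Ideal.under_def, Ideal.under_def,
      Ideal.comap_comap, ← IsScalarTower.algebraMap_eq]
  obtain ⟨q', hq', ⟨eq'⟩⟩ := exists_fibre_prime_equiv A B p q
  obtain ⟨r'', hr'', ⟨er''⟩⟩ := exists_fibre_prime_equiv B C q r
  let er' : Localization.AtPrime r' ≃+* FibLoc A C p r :=
    (Ideal.Fiber.algEquivAux₂ p r').toRingEquiv
  have h1 : LocCoh.IsGorensteinLocalRing (Localization.AtPrime r') ↔
      LocCoh.IsGorensteinLocalRing (FibLoc A C p r) := isGorensteinLocalRing_iff_of_ringEquiv er'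
  have h2 : LocCoh.IsGorensteinLocalRing (Localization.AtPrime q') ↔
      LocCoh.IsGorensteinLocalRing (FibLoc A B p q) := isGorensteinLocalRing_iff_of_ringEquiv eq'
  have h3 : LocCoh.IsGorensteinLocalRing (Localization.AtPrime r'') ↔
      LocCoh.IsGorensteinLocalRing (FibLoc B C q r) := isGorensteinLocalRing_iff_of_ringEquiv er''
  rw [h1, gor_fibLoc_comp A B C p q r, ← h2, ← h3]
  exact ⟨hAB.isGorensteinLocalRing_localization q',
    (hBC q).isGorensteinLocalRing_localization r''⟩

end Fiber

end Groth.Agent.Lib.helper17.GorFibComp
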