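import Mathlib
import Groth.Agent.Lib.Helper17.GorFlat
import Groth.Agent.Lib.Helper17.PrincGor
import Groth.Agent.S0542

/-!
# helper17: Gorenstein multicross singularities are nodes

* `isGorensteinLocalRing_cpl`: the completion of a Gorenstein local ring is Gorenstein.
* `le_two_of_gorenstein`: a Gorenstein local ring isomorphic to the multicross ring with `n`
  branches has `n ≤ 2` (socle of `S/(x)`, `x = (X, …, X)`, has dimension `n - 1`).
-/

set_option autoImplicit false
set_option linter.style.haveILetI false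
universe u

namespace Groth.Agent.Lib.helper17.GorMulticross

open IsLocalRing PowerSeries

/-- the completion of a Gorenstein local ring is Gorenstein -/
theorem isGorensteinLocalRing_cpl (A : Type u) [CommRing A] [hG : LocCoh.IsGorensteinLocalRing A] :
    LocCoh.IsGorensteinLocalRing (AdicCompletion (maximalIdeal A) A) := by
  haveI : IsNoetherianRing (AdicCompletion (maximalIdeal A) A) :=
    Groth.Agent.S0542.result A _ (maximalIdeal A).fg_of_isNoetherianRing
  rw [Groth.Agent.Lib.helper17.GorFlat.gor_iff_of_flat A (AdicCompletion (maximalIdeal A) A)]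
  refine ⟨hG, ?_⟩
  have hmap : (maximalIdeal A).map (algebraMap A (AdicCompletion (maximalIdeal A) A)) =
      maximalIdeal (AdicCompletion (maximalIdeal A) A) := AdicCompletion.maximalIdeal_eq_map.symm
  rw [hmap]
  haveI : IsLocalRing (AdicCompletion (maximalIdeal A) A ⧸
      maximalIdeal (AdicCompletion (maximalIdeal A) A)) :=
    inferInstanceAs (IsLocalRing (ResidueField (AdicCompletion (maximalIdeal A) A)))
  have hfield : IsField (AdicCompletion (maximalIdeal A) A ⧸
      maximalIdeal (AdicCompletion (maximalIdeal A) A)) := by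
    rw [← Ideal.Quotient.maximal_ideal_iff_isField_quotient]
    infer_instance
  refine Groth.Agent.Lib.helper17.PrincGor.gor_of_principal_maximalIdeal _ 0 ?_
  rw [IsLocalRing.isField_iff_maximalIdeal_eq.mp hfield]
  simp

/-- a Gorenstein local ring isomorphic to a multicross ring has at most two branches -/
theorem le_two_of_gorenstein {k S : Type u} [Field k] [CommRing S]
    [hG : LocCoh.IsGorensteinLocalRing S] (n : ℕ)
    (ψ : S →+* (Fin n → PowerSeries k)) (hinj : Function.Injective ψ)
    (hrange : ∀ F : Fin n → PowerSeries k,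
      F ∈ Set.range ψ ↔ ∀ i j : Fin n, constantCoeff (F i) = constantCoeff (F j)) :
    n ≤ 2 := by
  classical
  by_contra hn
  rw [not_le] at hn
  -- three distinct indices
  let i0 : Fin n := ⟨0, by omega⟩
  let i1 : Fin n := ⟨1, by omega⟩
  let i2 : Fin n := ⟨2, by omega⟩
  have h01 : i0 ≠ i1 := by intro h; simpa [i0, i1] using congrArg Fin.val h
  have h02 : i0 ≠ i2 := by intro h; simpa [i0, i2] using congrArg Fin.val h
  have h12 : i1 ≠ i2 := by intro h; simpa [i1, i2] using congrArg Fin.val h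
  have hex : ∀ F : Fin n → PowerSeries k,
      (∀ i j : Fin n, constantCoeff (F i) = constantCoeff (F j)) → ∃ s, ψ s = F :=
    fun F hF => (hrange F).2 hF
  have hmem : ∀ (s : S) (i j : Fin n), constantCoeff (ψ s i) = constantCoeff (ψ s j) :=
    fun s => (hrange (ψ s)).1 ⟨s, rfl⟩
  -- units
  have hunit : ∀ s : S, constantCoeff (ψ s i0) ≠ 0 → IsUnit s := by
    intro s hs
    obtain ⟨t, ht⟩ := hex (fun i => (ψ s i)⁻¹) (fun i j => by
      rw [constantCoeff_inv, constantCoeff_inv, hmem s i j])
    refine IsUnit.of_mul_eq_one t (hinj ?_)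
    rw [map_mul, ht, map_one]
    funext i
    show ψ s i * (ψ s i)⁻¹ = 1
    exact PowerSeries.mul_inv_cancel _ (by rw [hmem s i i0]; exact hs)
  have hmax : ∀ s : S, s ∈ maximalIdeal S ↔ ∀ i, constantCoeff (ψ s i) = 0 := by
    intro s
    constructor
    · intro hs i
      by_contra hne
      rw [hmem s i i0] at hne
      exact hs (hunit s hne)
    · intro hs hu
      have h1 : IsUnit (ψ s i0) := (hu.map ψ).map (Pi.evalRingHom _ i0)
      rw [isUnit_iff_constantCoeff, hs i0] at h1
      exact not_isUnit_zero h1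
  obtain ⟨x, hx⟩ := hex (fun _ => X) (fun i j => rfl)
  have hxm : x ∈ maximalIdeal S := by
    rw [hmax, hx]
    intro i
    exact constantCoeff_X
  have hxreg : IsSMulRegular S x := by
    intro a b hab
    apply hinj
    funext i
    have h1 : ψ (x * a) i = ψ (x * b) i := by
      have : x * a = x * b := hab
      rw [this]
    rw [map_mul, map_mul, hx] at h1
    exact mul_left_cancel₀ X_ne_zero h1
  -- product of two elements of the maximal ideal
  have hsq : ∀ a b : S, a ∈ maximalIdeal S → b ∈ maximalIdeal S → a * b ∈ Ideal.span {x} := by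
    intro a b ha hb
    rw [hmax] at ha hb
    have ha' : ∀ i, ∃ g : PowerSeries k, ψ a i = X * g := fun i => X_dvd_iff.2 (ha i)
    choose g hg using ha'
    obtain ⟨t, ht⟩ := hex (fun i => g i * ψ b i) (fun i j => by
      rw [map_mul, map_mul, hb i, hb j, mul_zero, mul_zero])
    rw [Ideal.mem_span_singleton']
    refine ⟨t, hinj ?_⟩
    rw [map_mul, map_mul, ht, hx]
    funext i
    show g i * ψ b i * X = ψ a i * ψ b i
    rw [hg i]; ring
  -- membership in span {x}
  have hspan : ∀ s : S, s ∈ Ideal.span {x} → ∃ t : S, ∀ i, ψ s i = ψ t i * X := by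
    intro s hs
    rw [Ideal.mem_span_singleton'] at hs
    obtain ⟨t, rfl⟩ := hs
    refine ⟨t, fun i => ?_⟩
    rw [map_mul, hx]
    rfl
  haveI : IsNoetherianRing S := inferInstance
  haveI hloc : IsLocalRing (S ⧸ Ideal.span {x}) :=
    Groth.Agent.Lib.helper17.GorQuot.isLocalRing_quot x hxm
  have hGq : LocCoh.IsGorensteinLocalRing (S ⧸ Ideal.span {x}) :=
    (Groth.Agent.Lib.helper17.GorFlat.gor_quot_iff S x hxm hxreg).1 hG
  have hmk : ∀ a : S, Ideal.Quotient.mk (Ideal.span {x}) a ∈ maximalIdeal (S ⧸ Ideal.span {x}) ↔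
      a ∈ maximalIdeal S :=
    fun a => Groth.Agent.Lib.helper17.GorQuot.mk_mem_maximalIdeal_iff x hxm a
  haveI hart : IsArtinianRing (S ⧸ Ideal.span {x}) := by
    rw [isArtinianRing_iff_isNilpotent_maximalIdeal]
    refine ⟨2, ?_⟩
    rw [Ideal.zero_eq_bot, eq_bot_iff, pow_two, Ideal.mul_le]
    intro a ha b hb
    obtain ⟨a, rfl⟩ := Ideal.Quotient.mk_surjective a
    obtain ⟨b, rfl⟩ := Ideal.Quotient.mk_surjective b
    rw [hmk] at ha hb
    rw [Ideal.mem_bot, ← map_mul, Ideal.Quotient.eq_zero_iff_mem]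
    exact hsq a b ha hb
  have htyp : Groth.Agent.Lib.helper17.ArtGor.typ (S ⧸ Ideal.span {x}) = 1 :=
    (Groth.Agent.Lib.helper17.ArtGor.isGorensteinLocalRing_iff_typ _).1 hGq
  -- the socle is simple
  have hsimple : IsSimpleModule (S ⧸ Ideal.span {x})
      (Groth.Agent.Lib.helper17.SocleFlat.socM (S ⧸ Ideal.span {x}) (S ⧸ Ideal.span {x})
        (S ⧸ Ideal.span {x})) := by
    rw [← Module.length_eq_one_iff, ← htyp]
    exact ((Groth.Agent.Lib.helper17.SocleFlat.homEquivSoc (S ⧸ Ideal.span {x})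
      (S ⧸ Ideal.span {x}) (S ⧸ Ideal.span {x})).length_eq).symm
  -- two socle elements
  obtain ⟨s0, hs0⟩ := hex (Pi.single i0 X) (fun i j => by
    rcases eq_or_ne i i0 with rfl | hi <;> rcases eq_or_ne j i0 with rfl | hj <;>
      simp [*])
  obtain ⟨s1, hs1⟩ := hex (Pi.single i1 X) (fun i j => by
    rcases eq_or_ne i i1 with rfl | hi <;> rcases eq_or_ne j i1 with rfl | hj <;>
      simp [*])
  have hs0m : s0 ∈ maximalIdeal S := by
    rw [hmax, hs0]
    intro i
    rcases eq_or_ne i i0 with rfl | hi <;> simp [*]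
  have hs1m : s1 ∈ maximalIdeal S := by
    rw [hmax, hs1]
    intro i
    rcases eq_or_ne i i1 with rfl | hi <;> simp [*]
  have hsoc : ∀ s : S, s ∈ maximalIdeal S → Ideal.Quotient.mk (Ideal.span {x}) s ∈
      Groth.Agent.Lib.helper17.SocleFlat.socM (S ⧸ Ideal.span {x}) (S ⧸ Ideal.span {x})
        (S ⧸ Ideal.span {x}) := by
    intro s hs a ha
    obtain ⟨a, rfl⟩ := Ideal.Quotient.mk_surjective a
    rw [hmk] at ha
    rw [smul_eq_mul, ← map_mul, Ideal.Quotient.eq_zero_iff_mem]
    exact hsq a s ha hs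
  have hs0ne : (⟨Ideal.Quotient.mk (Ideal.span {x}) s0, hsoc s0 hs0m⟩ :
      Groth.Agent.Lib.helper17.SocleFlat.socM (S ⧸ Ideal.span {x}) (S ⧸ Ideal.span {x})
        (S ⧸ Ideal.span {x})) ≠ 0 := by
    intro h
    have h1 : Ideal.Quotient.mk (Ideal.span {x}) s0 = 0 := congrArg Subtype.val h
    rw [Ideal.Quotient.eq_zero_iff_mem] at h1
    obtain ⟨t, ht⟩ := hspan s0 h1
    have e0 := ht i0
    have e1 := ht i1
    rw [hs0, Pi.single_eq_same] at e0
    rw [hs0, Pi.single_eq_of_ne h01.symm] at e1
    have c0 : constantCoeff (ψ t i0) = 1 := by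
      have : (1 : PowerSeries k) * X = ψ t i0 * X := by rw [one_mul]; exact e0
      rw [← mul_right_cancel₀ X_ne_zero this, map_one]
    have c1 : constantCoeff (ψ t i1) = 0 := by
      have : (0 : PowerSeries k) * X = ψ t i1 * X := by rw [zero_mul]; exact e1
      rw [← mul_right_cancel₀ X_ne_zero this, map_zero]
    have := hmem t i0 i1
    rw [c0, c1] at this
    exact one_ne_zero this
  obtain ⟨r, hr⟩ := IsSimpleModule.toSpanSingleton_surjective (S ⧸ Ideal.span {x}) hs0ne
    ⟨Ideal.Quotient.mk (Ideal.span {x}) s1, hsoc s1 hs1m⟩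
  obtain ⟨r, rfl⟩ := Ideal.Quotient.mk_surjective r
  have hr' : Ideal.Quotient.mk (Ideal.span {x}) (r * s0) =
      Ideal.Quotient.mk (Ideal.span {x}) s1 := by
    have := congrArg Subtype.val hr
    rw [map_mul]
    exact this
  rw [Ideal.Quotient.eq] at hr'
  obtain ⟨t, ht⟩ := hspan _ hr'
  have e1 := ht i1
  have e2 := ht i2
  rw [map_sub, map_mul, hs0, hs1] at e1 e2
  simp only [Pi.sub_apply, Pi.mul_apply] at e1 e2
  rw [Pi.single_eq_of_ne h01.symm, Pi.single_eq_same, mul_zero, zero_sub] at e1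
  rw [Pi.single_eq_of_ne h02.symm, Pi.single_eq_of_ne h12.symm, mul_zero, sub_zero] at e2
  have c1 : constantCoeff (ψ t i1) = -1 := by
    have : (-1 : PowerSeries k) * X = ψ t i1 * X := by rw [neg_one_mul]; exact e1
    rw [← mul_right_cancel₀ X_ne_zero this, map_neg, map_one]
  have c2 : constantCoeff (ψ t i2) = 0 := by
    have : (0 : PowerSeries k) * X = ψ t i2 * X := by rw [zero_mul]; exact e2
    rw [← mul_right_cancel₀ X_ne_zero this, map_zero]
  have := hmem t i1 i2
  rw [c1, c2] at this
  exact one_ne_zero (neg_eq_zero.1 this)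

end Groth.Agent.Lib.helper17.GorMulticross
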