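import Mathlib
import Groth.Prelude.Def_Dual3
import Groth.Agent.Lib.Helper17.LciGor

/-!
# helper17: Gorenstein schemes and Gorenstein rings of sections

* `isGorensteinRing_of_isAffineOpen`: sections of a Gorenstein scheme over an affine open.
* `isGorenstein_of_affine_cover`: a scheme covered by affine opens with Gorenstein rings of sections
  is Gorenstein.
* `isGorenstein_of_isLCIMor`: lci over a Gorenstein scheme is Gorenstein.
-/

set_option autoImplicit false
set_option linter.style.haveILetI false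
universe u
open CategoryTheory AlgebraicGeometry TopologicalSpace

namespace Groth.Agent.Lib.helper17.GorScheme

open Groth.Agent.Lib.helper17.GorIso

theorem isGorensteinRing_of_isAffineOpen {X : Scheme.{u}} (hX : Dual3.IsGorenstein X)
    {V : X.Opens} (hV : IsAffineOpen V) : LocCoh.IsGorensteinRing Γ(X, V) := by
  haveI := hX.1
  haveI : IsNoetherianRing Γ(X, V) := IsLocallyNoetherian.component_noetherian ⟨V, hV⟩
  refine { isGorensteinLocalRing_localization := fun p hp => ?_ }
  set y : PrimeSpectrum Γ(X, V) := ⟨p, hp⟩ with hy'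
  have hy : hV.fromSpec y ∈ V := by
    have : hV.fromSpec y ∈ hV.fromSpec.opensRange := ⟨y, rfl⟩
    rwa [hV.opensRange_fromSpec] at this
  letI := TopCat.Presheaf.algebra_section_stalk X.presheaf ⟨hV.fromSpec y, hy⟩
  haveI : IsLocalization.AtPrime (X.presheaf.stalk (hV.fromSpec y)) p :=
    hV.isLocalization_stalk' y hy
  let e : Localization.AtPrime p ≃ₐ[Γ(X, V)] X.presheaf.stalk (hV.fromSpec y) :=
    IsLocalization.algEquiv p.primeCompl _ _
  exact isGorensteinLocalRing_of_ringEquiv e.toRingEquiv (hX.2 _)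

theorem isGorenstein_of_affine_cover {Y : Scheme.{u}}
    (h : ∀ y : Y, ∃ U : Y.affineOpens, y ∈ U.1 ∧ LocCoh.IsGorensteinRing Γ(Y, U.1)) :
    Dual3.IsGorenstein Y := by
  choose U hyU hG using h
  refine ⟨?_, fun y => ?_⟩
  · refine isLocallyNoetherian_of_affine_cover (S := U) ?_ (fun y => ?_)
    · rw [eq_top_iff]
      intro y _
      exact Opens.mem_iSup.mpr ⟨y, hyU y⟩
    · haveI := hG y
      infer_instance
  · haveI := hG y
    letI := TopCat.Presheaf.algebra_section_stalk Y.presheaf ⟨y, hyU y⟩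
    haveI : IsLocalization.AtPrime (Y.presheaf.stalk y)
        ((U y).2.primeIdealOf ⟨y, hyU y⟩).asIdeal := (U y).2.isLocalization_stalk ⟨y, hyU y⟩
    let e : Localization.AtPrime ((U y).2.primeIdealOf ⟨y, hyU y⟩).asIdeal ≃ₐ[Γ(Y, (U y).1)]
        Y.presheaf.stalk y := IsLocalization.algEquiv
          ((U y).2.primeIdealOf ⟨y, hyU y⟩).asIdeal.primeCompl _ _
    exact isGorensteinLocalRing_of_ringEquiv e.symm.toRingEquiv
      (LocCoh.IsGorensteinRing.isGorensteinLocalRing_localization _)

theorem isGorenstein_of_isLCIMor {Y X : Scheme.{u}} (f : Y ⟶ X) (hf : Dual3.IsLCIMor f)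
    (hX : Dual3.IsGorenstein X) : Dual3.IsGorenstein Y := by
  refine isGorenstein_of_affine_cover fun y => ?_
  obtain ⟨U, V, e, hyU, hlci⟩ := hf y
  refine ⟨U, hyU, ?_⟩
  letI := (f.appLE V.1 U.1 e).hom.toAlgebra
  haveI := isGorensteinRing_of_isAffineOpen hX V.2
  exact Groth.Agent.Lib.helper17.LciGor.isGorensteinRing_of_isLCI Γ(X, V.1) Γ(Y, U.1) hlci

end Groth.Agent.Lib.helper17.GorScheme
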