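import Mathlib
import Groth.Agent.Lib.Helper17.HensFib

/-!
# Formal fibres of the henselization: the reverse transfer for reducedness (helper17)

`R` a Noetherian local ring, `S` a henselization, `C` an `S`-algebra.  If for every prime `P'` of `S`
and every finite field extension `K'` of `κ(P')` the ring `K' ⊗[κ(P')] P'.Fiber C` is reduced, then
for every prime `p` of `R` and every finite field extension `L` of `κ(p)` the ring
`L ⊗[κ(p)] p.Fiber C` is reduced.

* `finite_of_generated`: finiteness of a residue field of `S ⊗[R] L` over `κ(P')`.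
* `isReduced_fibre_of_isHenselization`: the reverse transfer.
-/

set_option autoImplicit false
set_option linter.unusedSectionVars false
set_option linter.style.haveILetI false

noncomputable section

namespace Groth.Agent.Lib.helper17.HensFib4

open TensorProduct IsLocalRing
open Groth.Agent.Lib.helper17.HensFib

universe u

section fin

variable {R S : Type u} [CommRing R] [CommRing S] [Algebra R S]

/-- The image of `κ(p)` in `K'` lies in the image of `κ(P')`. -/
theorem range_le_fieldRange (p : Ideal R) [p.IsPrime] (P' : Ideal S) [P'.IsPrime]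
    (L K' : Type u) [Field L] [Field K'] [Algebra p.ResidueField L] [Algebra R L]
    [IsScalarTower R p.ResidueField L] [Algebra S K'] [Algebra P'.ResidueField K']
    [IsScalarTower S P'.ResidueField K'] (φ : L →+* K')
    (hφ : ∀ r : R, φ (algebraMap R L r) = algebraMap S K' (algebraMap R S r))
    (x : p.ResidueField) :
    φ (algebraMap p.ResidueField L x) ∈ (algebraMap P'.ResidueField K').fieldRange := by
  obtain ⟨a, b, hb, rfl⟩ := IsFractionRing.div_surjective (A := R ⧸ p) x
  obtain ⟨a₀, rfl⟩ := Ideal.Quotient.mk_surjective a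
  obtain ⟨b₀, rfl⟩ := Ideal.Quotient.mk_surjective b
  have h1 : ∀ r : R, algebraMap (R ⧸ p) p.ResidueField (Ideal.Quotient.mk p r) =
      algebraMap R p.ResidueField r := fun r => by
    rw [← Ideal.Quotient.algebraMap_eq, ← IsScalarTower.algebraMap_apply]
  have h2 : ∀ r : R, φ (algebraMap p.ResidueField L (algebraMap R p.ResidueField r)) ∈
      (algebraMap P'.ResidueField K').fieldRange := fun r => by
    rw [← IsScalarTower.algebraMap_apply, hφ, IsScalarTower.algebraMap_apply S P'.ResidueField K']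
    exact ⟨_, rfl⟩
  rw [h1, h1, map_div₀, map_div₀]
  exact div_mem (h2 a₀) (h2 b₀)

/-- Finiteness over `κ(P')` of a field generated by the images of `S` and of a finite extension
`L` of `κ(p)`. -/
theorem finite_of_generated (p : Ideal R) [p.IsPrime] (P' : Ideal S) [P'.IsPrime]
    (L K' : Type u) [Field L] [Field K'] [Algebra p.ResidueField L]
    [Module.Finite p.ResidueField L] [Algebra R L]
    [IsScalarTower R p.ResidueField L] [Algebra S K'] [Algebra P'.ResidueField K']
    [IsScalarTower S P'.ResidueField K'] (φ : L →+* K')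
    (hφ : ∀ r : R, φ (algebraMap R L r) = algebraMap S K' (algebraMap R S r))
    (hgen : Subring.closure (Set.range (algebraMap S K') ∪ Set.range φ) = ⊤) :
    Module.Finite P'.ResidueField K' := by
  classical
  obtain ⟨s, hs⟩ := (Module.Finite.fg_top : (⊤ : Submodule p.ResidueField L).FG)
  set A₁ : Subalgebra P'.ResidueField K' := Algebra.adjoin P'.ResidueField (φ '' (s : Set L))
    with hA₁
  have hF : ∀ x : p.ResidueField, φ (algebraMap p.ResidueField L x) ∈ A₁ := fun x => by
    obtain ⟨y, hy⟩ := range_le_fieldRange p P' L K' φ hφ x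
    rw [← hy]
    exact Subalgebra.algebraMap_mem A₁ y
  have hint : ∀ y ∈ φ '' (s : Set L), IsIntegral P'.ResidueField y := by
    rintro _ ⟨l, -, rfl⟩
    haveI : Algebra.IsIntegral p.ResidueField L := Algebra.IsIntegral.of_finite _ _
    obtain ⟨f, hf, hfl⟩ := Algebra.IsIntegral.isIntegral (R := p.ResidueField) l
    -- the polynomial `f` mapped to `K'`
    set g : Polynomial K' := f.map (φ.comp (algebraMap p.ResidueField L)) with hg
    have hglift : g ∈ Polynomial.lifts (algebraMap P'.ResidueField K') := by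
      rw [Polynomial.lifts_iff_coeff_lifts]
      intro n
      rw [hg, Polynomial.coeff_map]
      obtain ⟨y, hy⟩ := range_le_fieldRange p P' L K' φ hφ (f.coeff n)
      exact ⟨y, hy⟩
    have hgm : g.Monic := hf.map _
    obtain ⟨q, hq, -, hqm⟩ := Polynomial.lifts_and_degree_eq_and_monic hglift hgm
    refine ⟨q, hqm, ?_⟩
    rw [Polynomial.eval₂_eq_eval_map, hq, hg, Polynomial.eval_map, ← Polynomial.hom_eval₂,
      hfl, map_zero]
  haveI : Module.Finite P'.ResidueField A₁ :=
    Algebra.finite_adjoin_of_finite_of_isIntegral (s.finite_toSet.image φ) hint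
  have hL : ∀ l : L, φ l ∈ A₁ := by
    intro l
    have hl : l ∈ Submodule.span p.ResidueField (s : Set L) := by rw [hs]; trivial
    induction hl using Submodule.span_induction with
    | mem x hx => exact Algebra.subset_adjoin ⟨x, hx, rfl⟩
    | zero => rw [map_zero]; exact zero_mem _
    | add x y _ _ hx hy => rw [map_add]; exact add_mem hx hy
    | smul c x _ hx =>
      rw [Algebra.smul_def, map_mul]
      exact mul_mem (hF c) hx
  have htop : A₁ = ⊤ := by
    rw [eq_top_iff]
    intro x _
    have hx : x ∈ Subring.closure (Set.range (algebraMap S K') ∪ Set.range φ) := by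
      rw [hgen]; trivial
    have hle : Subring.closure (Set.range (algebraMap S K') ∪ Set.range φ) ≤ A₁.toSubring := by
      rw [Subring.closure_le]
      rintro _ (⟨t, rfl⟩ | ⟨l, rfl⟩)
      · rw [IsScalarTower.algebraMap_apply S P'.ResidueField K']
        exact Subalgebra.algebraMap_mem A₁ _
      · exact hL l
    exact hle hx
  rw [htop] at this
  exact Module.Finite.equiv (Subalgebra.topEquiv (R := P'.ResidueField) (A := K')).toLinearEquiv

end fin

section main

variable (R S : Type u) [CommRing R] [IsLocalRing R] [IsNoetherianRing R] [CommRing S]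
  [IsLocalRing S] [Algebra R S] [IsLocalHom (algebraMap R S)] [Hensel.IsHenselization R S]

/-- Reducedness of `C ⊗[S] K'` for a field `K'` finite over `κ(P')`. -/
theorem isReduced_tensor_field (C : Type u) [CommRing C] [Algebra S C]
    (h : ∀ (P' : Ideal S) [P'.IsPrime] (K' : Type u) [Field K'] [Algebra P'.ResidueField K'],
      Module.Finite P'.ResidueField K' → IsReduced (K' ⊗[P'.ResidueField] P'.Fiber C))
    (P' : Ideal S) [P'.IsPrime] (K' : Type u) [Field K'] [Algebra S K']
    [Algebra P'.ResidueField K'] [IsScalarTower S P'.ResidueField K']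
    [Module.Finite P'.ResidueField K'] : IsReduced (C ⊗[S] K') := by
  have h0 := h P' K' inferInstance
  let e_d : K' ⊗[P'.ResidueField] (P'.ResidueField ⊗[S] C) ≃+* K' ⊗[S] C :=
    (Algebra.TensorProduct.cancelBaseChange S P'.ResidueField K' K' C).toRingEquiv
  let e_e : K' ⊗[S] C ≃+* C ⊗[S] K' := (Algebra.TensorProduct.comm S K' C).toRingEquiv
  exact isReduced_of_injective (e_d.trans e_e).symm.toRingHom (e_d.trans e_e).symm.injective

/-- Reducedness of `C ⊗[S] (E ⧸ m)` for a maximal ideal `m` of `E = S ⊗[R] L`. -/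
theorem isReduced_tensor_quotient (C : Type u) [CommRing C] [Algebra S C]
    (h : ∀ (P' : Ideal S) [P'.IsPrime] (K' : Type u) [Field K'] [Algebra P'.ResidueField K'],
      Module.Finite P'.ResidueField K' → IsReduced (K' ⊗[P'.ResidueField] P'.Fiber C))
    (p : Ideal R) [p.IsPrime] (L : Type u) [Field L] [Algebra p.ResidueField L]
    [Module.Finite p.ResidueField L] [Algebra R L] [IsScalarTower R p.ResidueField L]
    (m : Ideal (S ⊗[R] L)) [m.IsMaximal] :
    IsReduced (C ⊗[S] ((S ⊗[R] L) ⧸ m)) := by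
  classical
  letI : Field ((S ⊗[R] L) ⧸ m) := Ideal.Quotient.field m
  have hmk : ∀ z : S ⊗[R] L, algebraMap (S ⊗[R] L) ((S ⊗[R] L) ⧸ m) z = Ideal.Quotient.mk m z :=
    fun z => rfl
  have hS : ∀ s : S, algebraMap S ((S ⊗[R] L) ⧸ m) s = Ideal.Quotient.mk m (s ⊗ₜ[R] (1 : L)) := by
    intro s
    rw [IsScalarTower.algebraMap_apply S (S ⊗[R] L) ((S ⊗[R] L) ⧸ m), hmk,
      Algebra.TensorProduct.algebraMap_apply]
    rfl
  set P' : Ideal S := RingHom.ker (algebraMap S ((S ⊗[R] L) ⧸ m)) with hP'
  haveI : P'.IsPrime := RingHom.ker_isPrime _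
  let σ : P'.ResidueField →+* (S ⊗[R] L) ⧸ m :=
    Ideal.ResidueField.lift P' (algebraMap S ((S ⊗[R] L) ⧸ m)) le_rfl (by
      intro x hx
      rw [Submonoid.mem_comap, IsUnit.mem_submonoid_iff]
      exact isUnit_iff_ne_zero.mpr (fun h0 => hx h0))
  letI : Algebra P'.ResidueField ((S ⊗[R] L) ⧸ m) := σ.toAlgebra
  haveI : IsScalarTower S P'.ResidueField ((S ⊗[R] L) ⧸ m) :=
    IsScalarTower.of_algebraMap_eq (fun s => by
      rw [RingHom.algebraMap_toAlgebra]
      exact (Ideal.ResidueField.lift_algebraMap _ _ _ _ s).symm)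
  let φ : L →+* (S ⊗[R] L) ⧸ m := (Ideal.Quotient.mk m).comp
    (Algebra.TensorProduct.includeRight : L →ₐ[R] S ⊗[R] L).toRingHom
  have hφl : ∀ l : L, φ l = Ideal.Quotient.mk m ((1 : S) ⊗ₜ[R] l) := fun l => rfl
  have hφ : ∀ r : R, φ (algebraMap R L r) =
      algebraMap S ((S ⊗[R] L) ⧸ m) (algebraMap R S r) := by
    intro r
    rw [hφl, hS]
    congr 1
    rw [Algebra.algebraMap_eq_smul_one, Algebra.algebraMap_eq_smul_one (A := S),
      TensorProduct.tmul_smul, TensorProduct.smul_tmul']
  have hall : ∀ z : S ⊗[R] L, Ideal.Quotient.mk m z ∈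
      Subring.closure (Set.range (algebraMap S ((S ⊗[R] L) ⧸ m)) ∪ Set.range φ) := by
    intro z
    induction z using TensorProduct.induction_on with
    | zero => rw [map_zero]; exact zero_mem _
    | tmul s l =>
      have : (s ⊗ₜ[R] l : S ⊗[R] L) = (s ⊗ₜ[R] (1 : L)) * ((1 : S) ⊗ₜ[R] l) := by
        rw [Algebra.TensorProduct.tmul_mul_tmul, mul_one, one_mul]
      rw [this, map_mul]
      refine mul_mem (Subring.subset_closure (Or.inl ⟨s, hS s⟩))
        (Subring.subset_closure (Or.inr ⟨l, rfl⟩))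
    | add a b ha hb => rw [map_add]; exact add_mem ha hb
  have hgen : Subring.closure (Set.range (algebraMap S ((S ⊗[R] L) ⧸ m)) ∪ Set.range φ) = ⊤ := by
    rw [eq_top_iff]
    intro x _
    obtain ⟨z, rfl⟩ := Ideal.Quotient.mk_surjective x
    exact hall z
  haveI : Module.Finite P'.ResidueField ((S ⊗[R] L) ⧸ m) :=
    finite_of_generated p P' L _ φ hφ hgen
  exact isReduced_tensor_field S C h P' _

/-- **Reverse transfer**: reducedness of the geometric fibres of `R → C` from that of `S → C`. -/
theorem isReduced_fibre_of_isHenselization (C : Type u) [CommRing C] [Algebra S C] [Algebra R C]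
    [IsScalarTower R S C]
    (h : ∀ (P' : Ideal S) [P'.IsPrime] (K' : Type u) [Field K'] [Algebra P'.ResidueField K'],
      Module.Finite P'.ResidueField K' → IsReduced (K' ⊗[P'.ResidueField] P'.Fiber C))
    (p : Ideal R) [p.IsPrime] (L : Type u) [Field L] [Algebra p.ResidueField L]
    [Module.Finite p.ResidueField L] :
    IsReduced (L ⊗[p.ResidueField] p.Fiber C) := by
  classical
  letI : Algebra R L :=
    ((algebraMap p.ResidueField L).comp (algebraMap R p.ResidueField)).toAlgebra
  haveI : IsScalarTower R p.ResidueField L := IsScalarTower.of_algebraMap_eq' rfl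
  obtain ⟨hT1, hT2⟩ := artinian_reduced_tensor R S p L
  let e_a : L ⊗[p.ResidueField] (p.ResidueField ⊗[R] C) ≃+* L ⊗[R] C :=
    (Algebra.TensorProduct.cancelBaseChange R p.ResidueField L L C).toRingEquiv
  let e_b : L ⊗[R] C ≃+* C ⊗[R] L := (Algebra.TensorProduct.comm R L C).toRingEquiv
  let e_c : C ⊗[S] (S ⊗[R] L) ≃+* C ⊗[R] L :=
    (Algebra.TensorProduct.cancelBaseChange R S C C L).toRingEquiv
  -- decompose the artinian reduced ring `E = S ⊗[R] L`
  haveI : Fintype (MaximalSpectrum (S ⊗[R] L)) := Fintype.ofFinite _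
  let e_p : (S ⊗[R] L) ≃ₐ[S] (∀ m : MaximalSpectrum (S ⊗[R] L), (S ⊗[R] L) ⧸ m.asIdeal) :=
    (IsArtinianRing.equivPi (S ⊗[R] L)).restrictScalars S
  let e_q : C ⊗[S] (S ⊗[R] L) ≃+*
      C ⊗[S] (∀ m : MaximalSpectrum (S ⊗[R] L), (S ⊗[R] L) ⧸ m.asIdeal) :=
    (Algebra.TensorProduct.congr (AlgEquiv.refl (R := S) (A₁ := C)) e_p).toRingEquiv
  let e_r : C ⊗[S] (∀ m : MaximalSpectrum (S ⊗[R] L), (S ⊗[R] L) ⧸ m.asIdeal) ≃+*
      (∀ m : MaximalSpectrum (S ⊗[R] L), C ⊗[S] ((S ⊗[R] L) ⧸ m.asIdeal)) :=
    (Algebra.TensorProduct.piRight S S C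
      (fun m : MaximalSpectrum (S ⊗[R] L) => (S ⊗[R] L) ⧸ m.asIdeal)).toRingEquiv
  have hfac : ∀ m : MaximalSpectrum (S ⊗[R] L), IsReduced (C ⊗[S] ((S ⊗[R] L) ⧸ m.asIdeal)) := by
    intro m
    haveI := m.isMaximal
    exact isReduced_tensor_quotient R S C h p L m.asIdeal
  haveI : IsReduced (∀ m : MaximalSpectrum (S ⊗[R] L), C ⊗[S] ((S ⊗[R] L) ⧸ m.asIdeal)) :=
    isReduced_pi (fun m : MaximalSpectrum (S ⊗[R] L) => C ⊗[S] ((S ⊗[R] L) ⧸ m.asIdeal)) hfac
  let e_all : L ⊗[p.ResidueField] (p.ResidueField ⊗[R] C) ≃+*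
      (∀ m : MaximalSpectrum (S ⊗[R] L), C ⊗[S] ((S ⊗[R] L) ⧸ m.asIdeal)) :=
    (((e_a.trans e_b).trans e_c.symm).trans e_q).trans e_r
  exact isReduced_of_injective e_all e_all.injective

end main

end Groth.Agent.Lib.helper17.HensFib4
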