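import Groth.Agent.Lib.Helper17.ArtAct
import Groth.Agent.S12728
import Groth.Agent.S12731
import Groth.Agent.S12727
import Groth.Agent.LibCR29
import Groth.Prelude.Def_ArtFun5
import Mathlib

/-!
# The step used to cut a versal family down to a hull (extracted from the proof of S12749)
-/

set_option autoImplicit false
universe u v

namespace Groth.Agent.Lib.helper17.HullStep

open CategoryTheory ArtFun
open Groth.Agent.Lib.helper17.ArtAct

/-- if a versal family is not injective on tangent vectors, a proper quotient of its coefficient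
ring still carries a versal family. -/
theorem exists_smaller_versal {Λ : Type u} {k : Type u} [CommRing Λ] [Field k] [Algebra Λ k]
    [IsNoetherianRing Λ] [Module.Finite Λ k]
    (hk : Subsingleton (Derivation Λ k k))
    {F : ArtFun.Art Λ k ⥤ Type v} (h0 : ArtFun.H0 F) (h2 : ArtFun.Heps F)
    {R : ArtFun.CRing Λ k} (ξ : ArtFun.Family R.carrier R.res F) (hver : ArtFun.IsVersal ξ)
    (θ₁ θ₂ : ArtFun.HomSet R.carrier R.res (ArtFun.Art.dual Λ k))
    (hθξ : ξ.app _ θ₁ = ξ.app _ θ₂) (hne : θ₁ ≠ θ₂) :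
    ∃ (R₁ : ArtFun.CRing Λ k) (π : R.carrier →ₐ[Λ] R₁.carrier) (hπres : R₁.res.comp π = R.res),
      Function.Surjective π ∧ (∃ x₁ : R.carrier, x₁ ≠ 0 ∧ π x₁ = 0) ∧
        ArtFun.IsVersal (ξ.along π hπres) := by
  classical
  haveI : Subsingleton (F.obj (ArtFun.Art.base Λ k)) := h0.2
  have hS1 : ArtFun.S1 F := Groth.Agent.S12727.result F h0 ⟨⟨R, ξ, hver⟩⟩
  have hsurjd : Function.Surjective (ξ.app (ArtFun.Art.dual Λ k)) :=
    Groth.Agent.S12727.surjective_app_of_isVersal h0 ξ hver _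
  letI : Algebra R.carrier k := R.res.toRingHom.toAlgebra
  have halg : ∀ r : R.carrier, algebraMap R.carrier k r = R.res r := fun r => rfl
  haveI : IsScalarTower Λ R.carrier k :=
    IsScalarTower.of_algebraMap_eq (fun r => (R.res.commutes r).symm)
  have hsm : ∀ (r : R.carrier) (c : k), r • c = R.res r * c := fun r c => by
    rw [Algebra.smul_def, halg]
  let θ : Derivation Λ R.carrier k → ArtFun.HomSet R.carrier R.res (ArtFun.Art.dual Λ k) :=
    fun D => ⟨Groth.Agent.S12731.thetaHom R.res halg D, AlgHom.ext fun r => rfl⟩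
  let θ2 : Derivation Λ R.carrier k → Derivation Λ R.carrier k →
      ArtFun.HomSet R.carrier R.res (ArtFun.Art.dual2 Λ k) :=
    fun D D' => ⟨Groth.Agent.S12731.thetaHom2 R.res halg D D', AlgHom.ext fun r => rfl⟩
  have hθsnd : ∀ (E : Derivation Λ R.carrier k) (r : R.carrier), dsnd ((θ E).1 r) = E r :=
    fun E r => rfl
  have hfst : ∀ φ : ArtFun.HomSet R.carrier R.res (ArtFun.Art.dual Λ k),
      ∀ r, (show TrivSqZeroExt k k from φ.1 r).fst = R.res r := fun φ r =>
    congrArg (fun f : R.carrier →ₐ[Λ] k => f r) φ.2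
  have hθof : ∀ φ : ArtFun.HomSet R.carrier R.res (ArtFun.Art.dual Λ k),
      θ (Groth.Agent.S12731.derivOf R.res halg φ.1 (hfst φ)) = φ := fun φ =>
    Subtype.ext (AlgHom.ext fun r => TrivSqZeroExt.ext (hfst φ r).symm rfl)
  set D₁ := Groth.Agent.S12731.derivOf R.res halg θ₁.1 (hfst θ₁) with hD₁
  set D₂ := Groth.Agent.S12731.derivOf R.res halg θ₂.1 (hfst θ₂) with hD₂
  have hθD₁ : θ D₁ = θ₁ := hθof θ₁
  have hθD₂ : θ D₂ = θ₂ := hθof θ₂
  set D := D₁ - D₂ with hD
  have hDne : D ≠ 0 := by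
    intro h0'
    apply hne
    rw [← hθD₁, ← hθD₂, sub_eq_zero.1 h0']
  -- an element of the maximal ideal on which D is nonzero
  have hexx : ∃ x ∈ IsLocalRing.maximalIdeal R.carrier, D x ≠ 0 := by
    by_contra hcon
    push_neg at hcon
    have hdep : ∀ r r' : R.carrier, R.res r = R.res r' → D r = D r' := by
      intro r r' hrr
      have h1 : r - r' ∈ IsLocalRing.maximalIdeal R.carrier := by
        rw [ArtFun.CRing.mem_maximalIdeal_iff, map_sub, hrr, sub_self]
      have h2 := hcon _ h1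
      rw [map_sub, sub_eq_zero] at h2
      exact h2
    let sInv : k → R.carrier := Function.surjInv R.res_surjective
    have hsInv : ∀ c, R.res (sInv c) = c := Function.surjInv_eq R.res_surjective
    have hDb : ∀ r, D (sInv (R.res r)) = D r := fun r => hdep _ _ (hsInv _)
    let Dbar : Derivation Λ k k := Derivation.mk'
      { toFun := fun c => D (sInv c)
        map_add' := fun c c' => by
          obtain ⟨r, rfl⟩ := R.res_surjective c
          obtain ⟨r', rfl⟩ := R.res_surjective c'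
          rw [← map_add, hDb, hDb, hDb, map_add]
        map_smul' := fun a c => by
          obtain ⟨r, rfl⟩ := R.res_surjective c
          rw [← map_smul, hDb, hDb, Derivation.map_smul, RingHom.id_apply] }
      (fun c c' => by
        obtain ⟨r, rfl⟩ := R.res_surjective c
        obtain ⟨r', rfl⟩ := R.res_surjective c'
        show D (sInv (R.res r * R.res r')) = R.res r • D (sInv (R.res r')) + R.res r' • D (sInv (R.res r))
        rw [← map_mul, hDb, hDb, hDb, D.leibniz, hsm, hsm, smul_eq_mul, smul_eq_mul])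
    have hDbar0 : Dbar = 0 := Subsingleton.elim _ _
    apply hDne
    ext r
    have h1 : Dbar (R.res r) = D r := hDb r
    rw [← h1, hDbar0]
    rfl
  obtain ⟨x, hxm, hDx⟩ := hexx
  obtain ⟨a, ha⟩ := R.res_surjective (D x)⁻¹
  set x₁ := a * x with hx₁
  have hx₁m : x₁ ∈ IsLocalRing.maximalIdeal R.carrier := Ideal.mul_mem_left _ _ hxm
  have hresx : R.res x = 0 := (ArtFun.CRing.mem_maximalIdeal_iff R x).1 hxm
  have hresx₁ : R.res x₁ = 0 := (ArtFun.CRing.mem_maximalIdeal_iff R x₁).1 hx₁m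
  have hDx₁ : D x₁ = 1 := by
    rw [hx₁, D.leibniz, hsm, hsm, ha, hresx, zero_mul, add_zero, inv_mul_cancel₀ hDx]
  -- the quotient ring
  have hK : Ideal.span {x₁} ≤ IsLocalRing.maximalIdeal R.carrier := by
    rw [Ideal.span_singleton_le_iff_mem]; exact hx₁m
  obtain ⟨R₁, π, hπsurj, hπker, hπres⟩ := Groth.Agent.LibCR29.exists_quot R (Ideal.span {x₁}) hK
  have hπx₁ : π x₁ = 0 := by
    have : x₁ ∈ RingHom.ker π := by rw [hπker]; exact Ideal.mem_span_singleton_self _
    exact this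
  -- factoring maps killing x₁
  have hfac : ∀ (B : ArtFun.Art Λ k) (χ : ArtFun.HomSet R.carrier R.res B), χ.1 x₁ = 0 →
      ∃ χ' : ArtFun.HomSet R₁.carrier R₁.res B, χ'.1.comp π = χ.1 := by
    intro B χ hχ
    have hle : RingHom.ker π.toRingHom ≤ RingHom.ker χ.1.toRingHom := by
      have : RingHom.ker π.toRingHom = Ideal.span {x₁} := hπker
      rw [this, Ideal.span_singleton_le_iff_mem]
      exact hχ
    refine ⟨⟨AlgHom.liftOfSurjective π hπsurj χ.1 hle, ?_⟩, AlgHom.liftOfSurjective_comp _ _ _ _⟩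
    apply AlgHom.ext
    intro r₁
    obtain ⟨r, rfl⟩ := hπsurj r₁
    show B.res (AlgHom.liftOfSurjective π hπsurj χ.1 hle (π r)) = R₁.res (π r)
    rw [AlgHom.liftOfSurjective_apply]
    have h1 : B.res (χ.1 r) = R.res r := congrArg (fun f : R.carrier →ₐ[Λ] k => f r) χ.2
    have h2 : R₁.res (π r) = R.res r := congrArg (fun f : R.carrier →ₐ[Λ] k => f r) hπres
    rw [h1, h2]
  set ξ' : ArtFun.Family R₁.carrier R₁.res F := ξ.along π hπres with hξ'
  -- additivity principle on the tangent space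
  have key2 : ∀ E₀ E₁ E₂ : Derivation Λ R.carrier k, ξ.app _ (θ E₁) = ξ.app _ (θ E₂) →
      ξ.app _ (θ (E₀ + E₁)) = ξ.app _ (θ (E₀ + E₂)) := by
    intro E₀ E₁ E₂ h12
    have e1 : ∀ E E' : Derivation Λ R.carrier k,
        ArtFun.HomSet.map ArtFun.Art.pr₁ (θ2 E E') = θ E := fun E E' =>
      Subtype.ext (AlgHom.ext fun r => rfl)
    have e2 : ∀ E E' : Derivation Λ R.carrier k,
        ArtFun.HomSet.map ArtFun.Art.pr₂ (θ2 E E') = θ E' := fun E E' =>
      Subtype.ext (AlgHom.ext fun r => rfl)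
    have e3 : ∀ E E' : Derivation Λ R.carrier k,
        ArtFun.HomSet.map ArtFun.Art.plus (θ2 E E') = θ (E + E') := fun E E' =>
      Subtype.ext (AlgHom.ext fun r => rfl)
    have h3 : ξ.app _ (θ2 E₀ E₁) = ξ.app _ (θ2 E₀ E₂) := by
      apply eq_of_cmp_injective ArtFun.Art.isFibreProd_dual2
        (h2 ArtFun.Art.pr₁ ArtFun.Art.pr₂ ArtFun.Art.isFibreProd_dual2).1
      · rw [family_natural', family_natural', e1, e1]
      · rw [family_natural', family_natural', e2, e2, h12]
    rw [← e3, ← e3, ← family_natural', ← family_natural', h3]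
  have hscale : ∀ c : k, ξ.app _ (θ (c • D₁)) = ξ.app _ (θ (c • D₂)) := by
    intro c
    have e1 : ∀ E : Derivation Λ R.carrier k,
        ArtFun.HomSet.map (ArtFun.Art.scale c) (θ E) = θ (c • E) := fun E =>
      Subtype.ext (AlgHom.ext fun r => rfl)
    rw [← e1, ← e1, ← family_natural', ← family_natural', hθD₁, hθD₂, hθξ]
  -- the restricted family is versal
  have hver' : ArtFun.IsVersal ξ' := by
    rw [Groth.Agent.S12728.result h0 hS1 h2 R₁ ξ']
    refine ⟨?_, ?_⟩
    · intro v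
      obtain ⟨θv, hθv⟩ := hsurjd v
      set E := Groth.Agent.S12731.derivOf R.res halg θv.1 (hfst θv) with hE
      have hθE : θ E = θv := hθof θv
      set c := E x₁ with hc
      set E' := (E - c • D₁) + c • D₂ with hE'
      have hE'x : E' x₁ = 0 := by
        have h1 : E' x₁ = E x₁ - c * (D₁ x₁ - D₂ x₁) := by
          rw [hE']
          simp only [Derivation.add_apply, Derivation.sub_apply, Derivation.smul_apply, smul_eq_mul]
          ring
        have h2 : D₁ x₁ - D₂ x₁ = 1 := hDx₁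
        rw [h1, h2, mul_one, sub_self]
      have hξE' : ξ.app _ (θ E') = v := by
        rw [hE', key2 (E - c • D₁) (c • D₂) (c • D₁) (hscale c).symm, sub_add_cancel, hθE, hθv]
      obtain ⟨θ', hθ'⟩ := hfac _ (θ E') (by
        show ((R.res x₁, E' x₁) : TrivSqZeroExt k k) = 0
        rw [hresx₁, hE'x]; rfl)
      refine ⟨θ', ?_⟩
      show ξ.app _ ⟨θ'.1.comp π, _⟩ = v
      rw [← hξE']
      congr 1
      exact Subtype.ext hθ'
    · intro B A μ hμ φ' y hy
      have hy' : F.map μ y = ξ.app A ⟨φ'.1.comp π, by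
        rw [← AlgHom.comp_assoc, φ'.2, hπres]⟩ := hy
      obtain ⟨ψ, hψ1, hψ2⟩ := hver μ hμ.1 _ y hy'
      obtain ⟨t, ht0, hker, ht, htm⟩ := exists_gen μ hμ
      obtain ⟨Q, q1, q2, s, hQ, hσ, hs1, hs2, hs3⟩ := exists_sigma_t μ t ht0 hker ht htm
      have hψx : ψ.1 x₁ ∈ RingHom.ker μ.toAlgHom := by
        rw [RingHom.mem_ker]
        have h1 := congrArg (fun f : ArtFun.HomSet R.carrier R.res A => f.1 x₁) hψ1
        have h2 : μ.toAlgHom (ψ.1 x₁) = φ'.1 (π x₁) := h1
        rw [h2, hπx₁, map_zero]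
      rw [hker, Ideal.mem_span_singleton'] at hψx
      obtain ⟨b, hb⟩ := hψx
      set E := (-(B.res b)) • D with hE
      obtain ⟨χ, hχ1, hχ2⟩ := Groth.Agent.S12727.exists_lift_homSet hQ ψ (θ E)
        (Subsingleton.elim _ _)
      set ψ' := ArtFun.HomSet.map (sigma q1 q2 t ht htm) χ with hψ'
      have hψ'app : ∀ r, ψ'.1 r = ψ.1 r + tau t (E r) := by
        intro r
        show sigma q1 q2 t ht htm (χ.1 r) = _
        rw [sigma_apply]
        have h1 : q1 (χ.1 r) = ψ.1 r :=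
          congrArg (fun f : ArtFun.HomSet R.carrier R.res B => f.1 r) hχ1
        have h2 : q2 (χ.1 r) = (θ E).1 r :=
          congrArg (fun f : ArtFun.HomSet R.carrier R.res (ArtFun.Art.dual Λ k) => f.1 r) hχ2
        rw [h1, h2, hθsnd]
      have hψ'x : ψ'.1 x₁ = 0 := by
        rw [hψ'app, ← hb]
        have h1 : E x₁ = -(B.res b) := by
          rw [hE, Derivation.smul_apply, hDx₁, smul_eq_mul, mul_one]
        rw [h1, ← tau_res t ht b, ← tau_add t ht, add_neg_cancel, tau_zero t ht]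
      obtain ⟨ψ'', hψ''⟩ := hfac B ψ' hψ'x
      refine ⟨ψ'', ?_⟩
      apply Subtype.ext
      apply AlgHom.ext
      intro r₁
      obtain ⟨r, rfl⟩ := hπsurj r₁
      show μ.toAlgHom (ψ''.1 (π r)) = φ'.1 (π r)
      have h1 : ψ''.1 (π r) = ψ'.1 r := congrArg (fun f : R.carrier →ₐ[Λ] B => f r) hψ''
      rw [h1, hψ'app, map_add]
      have hμt : μ t = 0 := by
        have : t ∈ RingHom.ker μ.toAlgHom := by rw [hker]; exact Ideal.mem_span_singleton_self t
        exact this
      have h2 : μ.toAlgHom (tau t (E r)) = 0 := map_tau μ t ht hμt _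
      rw [h2, add_zero]
      exact congrArg (fun f : ArtFun.HomSet R.carrier R.res A => f.1 r) hψ1
  refine ⟨R₁, π, hπres, hπsurj, ⟨x₁, ?_, hπx₁⟩, hver'⟩
  intro h0'
  rw [h0', map_zero] at hDx₁
  exact zero_ne_one hDx₁

/-- a versal family can be cut down to a hull (when `k` has no `Λ`-derivations). -/
theorem hasHull_of_versal {Λ : Type u} {k : Type u} [CommRing Λ] [Field k] [Algebra Λ k]
    [IsNoetherianRing Λ] [Module.Finite Λ k]
    (hk : Subsingleton (Derivation Λ k k))
    {F : ArtFun.Art Λ k ⥤ Type v} (h0 : ArtFun.H0 F) (h2 : ArtFun.Heps F)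
    (R₀ : ArtFun.CRing Λ k) (ξ₀ : ArtFun.Family R₀.carrier R₀.res F) (hver : ArtFun.IsVersal ξ₀) :
    ArtFun.HasHull F := by
  classical
  let 𝒯 : Set (Ideal R₀.carrier) := {I | ∃ (R₁ : ArtFun.CRing Λ k)
    (π : R₀.carrier →ₐ[Λ] R₁.carrier) (hπres : R₁.res.comp π = R₀.res),
      Function.Surjective π ∧ RingHom.ker π = I ∧ ArtFun.IsVersal (ξ₀.along π hπres)}
  have hne : 𝒯.Nonempty := by
    refine ⟨⊥, R₀, AlgHom.id Λ _, AlgHom.comp_id _, Function.surjective_id, ?_, ?_⟩
    · ext x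
      rw [RingHom.mem_ker, Ideal.mem_bot]
      rfl
    · intro B A μ hμ φ y hy
      obtain ⟨ψ, hψ1, hψ2⟩ := hver μ hμ ⟨φ.1.comp (AlgHom.id Λ _), by
        rw [← AlgHom.comp_assoc, φ.2, AlgHom.comp_id]⟩ y hy
      refine ⟨ψ, ?_, ?_⟩
      · rw [hψ1]
        exact Subtype.ext (AlgHom.comp_id _)
      · rw [← hψ2]
        show ξ₀.app B ⟨ψ.1.comp (AlgHom.id Λ _), _⟩ = ξ₀.app B ψ
        congr 1
  obtain ⟨I, ⟨R₁, π, hπres, hπs, hπk, hver₁⟩, hmax⟩ :=
    (wellFounded_gt (α := Ideal R₀.carrier)).has_min 𝒯 hne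
  have hinj : Function.Injective ((ξ₀.along π hπres).app (ArtFun.Art.dual Λ k)) := by
    by_contra hni
    rw [Function.not_injective_iff] at hni
    obtain ⟨θ₁, θ₂, hθξ, hθne⟩ := hni
    obtain ⟨R₂, π', hπ'res, hπ's, ⟨x₁, hx₁, hπ'x₁⟩, hver₂⟩ :=
      exists_smaller_versal hk h0 h2 (ξ₀.along π hπres) hver₁ θ₁ θ₂ hθξ hθne
    have hres2 : R₂.res.comp (π'.comp π) = R₀.res := by
      rw [← AlgHom.comp_assoc, hπ'res, hπres]
    have hmem : RingHom.ker (π'.comp π) ∈ 𝒯 := by
      refine ⟨R₂, π'.comp π, hres2, hπ's.comp hπs, rfl, ?_⟩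
      intro B A μ hμ φ y hy
      exact hver₂ μ hμ φ y hy
    apply hmax _ hmem
    refine lt_of_le_of_ne ?_ ?_
    · rw [← hπk]
      intro r hr
      rw [RingHom.mem_ker] at hr ⊢
      rw [AlgHom.comp_apply, hr, map_zero]
    · intro heq
      obtain ⟨r, hr⟩ := hπs x₁
      have h1 : r ∈ RingHom.ker (π'.comp π) := by
        rw [RingHom.mem_ker, AlgHom.comp_apply, hr, hπ'x₁]
      rw [← heq, ← hπk, RingHom.mem_ker, hr] at h1
      exact hx₁ h1
  exact ⟨⟨R₁, ξ₀.along π hπres, hver₁, hinj,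
    Groth.Agent.S12727.surjective_app_of_isVersal h0 _ hver₁ _⟩⟩

end Groth.Agent.Lib.helper17.HullStep
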