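import Mathlib
import Groth.Prelude.Def_CAlgX
import Groth.Prelude.Def_Fitting
import Groth.Agent.Lib.Helper7.OmegaSeqAlg5
import Groth.Agent.Lib.Helper15.FittLink
/-!
# Jacobian criterion with numerics (helper17)

* `jacobi_numerics`: `S = P/(b₁,…,b_c)` local, `P` formally smooth over `R` with `Ω[P⁄R]` free of finite
  rank `N`: `dim κ ⊗ Ω[S⁄R] + c ≤ N` implies `S` formally smooth; if `b` is `H₁`-regular and `S` is
  formally smooth then `dim κ ⊗ Ω[S⁄R] + c = N`.
* `smoothAt_quotient_stdSmooth`: the same for `B = D/(b)` with `D` standard smooth of relative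
  dimension `N` over `A` and a prime `q` of `B` (`Algebra.IsSmoothAt A q`).
* `fitt_not_le_iff_finrank`: `Fitt_k M ⊄ p ↔ dim κ(p) ⊗ M ≤ k`.
-/

set_option autoImplicit false
universe u
open scoped TensorProduct
open IsLocalRing

namespace Groth.Agent.Lib.helper17.JacobiNum

open Groth.Agent.Lib.helper7.OmegaSeqAlg Groth.Agent.Lib.helper15.FittLink

section J

variable (R P S : Type u) [CommRing R] [CommRing P] [CommRing S]
  [Algebra R P] [Algebra P S] [Algebra R S] [IsScalarTower R P S]
  (h₁ : Function.Surjective (algebraMap P S)) {c : ℕ} (b : Fin c → P)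
  (hker : RingHom.ker (algebraMap P S) = Ideal.span (Set.range b))

/-- the extension `P → S` -/
noncomputable abbrev ext : Algebra.Extension R S :=
  { Ring := P, σ := Function.surjInv h₁, algebraMap_σ := Function.surjInv_eq h₁ }

theorem mem_ker (i : Fin c) (hker : RingHom.ker (algebraMap P S) = Ideal.span (Set.range b)) :
    b i ∈ (ext R P S h₁).ker := by
  change b i ∈ RingHom.ker (algebraMap P S)
  rw [hker]
  exact Ideal.subset_span ⟨i, rfl⟩

/-- the map `S^c → I/I²` given by the generators -/
noncomputable def genMap : (Fin c → S) →ₗ[S] (ext R P S h₁).Cotangent :=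
  Fintype.linearCombination S
    (fun i => Algebra.Extension.Cotangent.mk (P := ext R P S h₁) ⟨b i, mem_ker R P S h₁ b i hker⟩)

theorem genMap_apply (p : Fin c → P) :
    genMap R P S h₁ b hker (fun i => algebraMap P S (p i)) =
      Algebra.Extension.Cotangent.mk (P := ext R P S h₁)
        ⟨∑ i, p i * b i, Ideal.sum_mem _ fun i _ =>
          Ideal.mul_mem_left _ _ (mem_ker R P S h₁ b i hker)⟩ := by
  have h2 : (⟨∑ i, p i * b i, Ideal.sum_mem _ fun i _ =>
      Ideal.mul_mem_left _ _ (mem_ker R P S h₁ b i hker)⟩ : (ext R P S h₁).ker) =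
      ∑ i, p i • (⟨b i, mem_ker R P S h₁ b i hker⟩ : (ext R P S h₁).ker) := by
    apply Subtype.ext
    rw [AddSubmonoidClass.coe_finsetSum]
    rfl
  rw [h2, map_sum, genMap, Fintype.linearCombination_apply]
  refine Finset.sum_congr rfl fun i _ => ?_
  rw [map_smul]
  exact algebraMap_smul S (p i) _

theorem genMap_surjective : Function.Surjective (genMap R P S h₁ b hker) := by
  intro y
  obtain ⟨x, rfl⟩ := Algebra.Extension.Cotangent.mk_surjective y
  have hx : x.1 ∈ Ideal.span (Set.range b) := by
    rw [← hker]; exact x.2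
  obtain ⟨p, hp⟩ := Ideal.mem_span_range_iff_exists_fun.mp hx
  refine ⟨fun i => algebraMap P S (p i), ?_⟩
  rw [genMap_apply]
  congr 1
  exact Subtype.ext hp

theorem genMap_injective (hb : CAlgX.IsH1Regular b) :
    Function.Injective (genMap R P S h₁ b hker) := by
  rw [injective_iff_map_eq_zero]
  intro s hs
  choose p hp using fun i => h₁ (s i)
  have hs' : s = fun i => algebraMap P S (p i) := funext fun i => (hp i).symm
  rw [hs', genMap_apply, Algebra.Extension.Cotangent.mk_eq_zero_iff] at hs
  have h3 : ∑ i, p i * b i ∈ RingHom.ker (algebraMap P S) * Ideal.span (Set.range b) := by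
    have : (ext R P S h₁).ker ^ 2 = RingHom.ker (algebraMap P S) * Ideal.span (Set.range b) := by
      rw [pow_two, ← hker]
    rw [← this]
    exact hs
  obtain ⟨d, hd, hde⟩ := exists_coeff_mem b _ _ h3
  have h4 : ∑ i, (p i - d i) * b i = 0 := by
    simp only [sub_mul, Finset.sum_sub_distrib, hde, sub_self]
  have hbI : ∀ i, b i ∈ RingHom.ker (algebraMap P S) := fun i => mem_ker R P S h₁ b i hker
  have h5 := coord_mem_of_span b _ hbI _ (hb (fun i => p i - d i) h4)
  rw [hs']
  funext i
  have h6 : p i ∈ RingHom.ker (algebraMap P S) := by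
    have := Ideal.add_mem _ (h5 i) (hd i)
    simpa using this
  exact RingHom.mem_ker.mp h6

end J

section Main

variable (R P S : Type u) [CommRing R] [CommRing P] [CommRing S] [IsLocalRing S]
  [Algebra R P] [Algebra P S] [Algebra R S] [IsScalarTower R P S]
  [Algebra.FormallySmooth R P] [Module.Free P Ω[P⁄R]] [Module.Finite P Ω[P⁄R]]
  (h₁ : Function.Surjective (algebraMap P S)) {c : ℕ} (b : Fin c → P)
  (hker : RingHom.ker (algebraMap P S) = Ideal.span (Set.range b))

local notation "K" => ResidueField S

include h₁ hker in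
/-- **Jacobian criterion with numerics**: for `S = P/(b₁,…,b_c)` local, `P` formally smooth over `R`
with `Ω[P⁄R]` free of finite rank `N`: if `dim κ ⊗ Ω[S⁄R] + c ≤ N` then `S` is formally smooth over
`R`; conversely, if `b` is `H₁`-regular and `S` is formally smooth then `dim κ ⊗ Ω[S⁄R] + c = N`. -/
theorem jacobi_numerics :
    (Module.finrank (ResidueField S) (ResidueField S ⊗[S] Ω[S⁄R]) + c ≤ Module.finrank P Ω[P⁄R] →
      Algebra.FormallySmooth R S) ∧
    (CAlgX.IsH1Regular b → Algebra.FormallySmooth R S →
      Module.finrank (ResidueField S) (ResidueField S ⊗[S] Ω[S⁄R]) + c =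
        Module.finrank P Ω[P⁄R]) := by
  classical
  set E := ext R P S h₁ with hE
  haveI : Nontrivial P := (algebraMap P S).domain_nontrivial
  have hfg : E.ker.FG := by
    change (RingHom.ker (algebraMap P S)).FG
    rw [hker]
    exact ⟨Finset.univ.image b, by simp⟩
  have hcrit := Algebra.FormallySmooth.iff_injective_lTensor_residueField E hfg
  -- the maps
  let F' : K ⊗[S] E.Cotangent →ₗ[K] K ⊗[S] E.CotangentSpace := E.cotangentComplex.baseChange K
  let G' : K ⊗[S] E.CotangentSpace →ₗ[K] K ⊗[S] Ω[S⁄R] := E.toKaehler.baseChange K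
  let L' : K ⊗[S] (Fin c → S) →ₗ[K] K ⊗[S] E.Cotangent := (genMap R P S h₁ b hker).baseChange K
  let β : Module.Basis (Fin c) K (K ⊗[S] (Fin c → S)) := (Pi.basisFun S (Fin c)).baseChange K
  have hL'surj : Function.Surjective L' :=
    LinearMap.lTensor_surjective K (genMap_surjective R P S h₁ b hker)
  have hexact : Function.Exact F' G' :=
    lTensor_exact K E.exact_cotangentComplex_toKaehler E.toKaehler_surjective
  have hGsurj : Function.Surjective G' := LinearMap.lTensor_surjective K E.toKaehler_surjective
  have hFinj : Algebra.FormallySmooth R S ↔ Function.Injective F' := hcrit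
  -- the dimension of the middle term
  have hN : Module.finrank K (K ⊗[S] E.CotangentSpace) = Module.finrank P Ω[P⁄R] := by
    rw [Module.finrank_baseChange]
    exact Module.finrank_baseChange
  -- the dimension count
  have hcount : Module.finrank K (K ⊗[S] Ω[S⁄R]) + Module.finrank K (LinearMap.range F') =
      Module.finrank P Ω[P⁄R] := by
    have h2 := LinearMap.finrank_range_add_finrank_ker G'
    rw [LinearMap.range_eq_top.mpr hGsurj, finrank_top, hN,
      LinearMap.exact_iff.mp hexact] at h2
    exact h2
  -- the range of `F'` is spanned by the images of the generators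
  let v : Fin c → K ⊗[S] E.CotangentSpace := fun i => F' (L' (β i))
  have hrange : LinearMap.range F' = Submodule.span K (Set.range v) := by
    have h3 : LinearMap.range F' = LinearMap.range (F' ∘ₗ L') := by
      rw [LinearMap.range_comp, LinearMap.range_eq_top.mpr hL'surj, Submodule.map_top]
    rw [h3, LinearMap.range_eq_map, ← β.span_eq, Submodule.map_span, ← Set.range_comp]
    rfl
  have hcard : (Set.range v).finrank K ≤ c := by
    have := finrank_range_le_card (R := K) v
    simpa using this
  constructor
  · intro hle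
    rw [hFinj]
    have hv : LinearIndependent K v := by
      rw [linearIndependent_iff_card_le_finrank_span, Fintype.card_fin]
      have : Module.finrank K (LinearMap.range F') = (Set.range v).finrank K := by
        rw [hrange]; rfl
      omega
    -- `F' ∘ L'` is injective, hence so is `F'`
    have hΦ : Function.Injective (F' ∘ₗ L') := by
      rw [← LinearMap.ker_eq_bot, LinearMap.ker_eq_bot']
      intro x hx
      have hx' : x = ∑ i, β.repr x i • β i := (β.sum_repr x).symm
      rw [hx', map_sum] at hx
      simp only [map_smul] at hx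
      have h0 := Fintype.linearIndependent_iff.mp hv (fun i => β.repr x i) hx
      rw [hx']
      exact Finset.sum_eq_zero fun i _ => by rw [h0 i, zero_smul]
    intro x y hxy
    obtain ⟨x', rfl⟩ := hL'surj x
    obtain ⟨y', rfl⟩ := hL'surj y
    rw [hΦ hxy]
  · intro hb hsm
    have hF' : Function.Injective F' := hFinj.mp hsm
    have hL'inj : Function.Injective L' := by
      have hbij : Function.Bijective (genMap R P S h₁ b hker) :=
        ⟨genMap_injective R P S h₁ b hker hb, genMap_surjective R P S h₁ b hker⟩
      exact ((LinearEquiv.ofBijective _ hbij).baseChange S K _ _).injective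
    have hv : LinearIndependent K v := by
      have h1 := β.linearIndependent.map' (F' ∘ₗ L')
        (LinearMap.ker_eq_bot.mpr (hF'.comp hL'inj))
      exact h1
    have h4 : Module.finrank K (LinearMap.range F') = c := by
      rw [hrange]
      have := finrank_span_eq_card hv
      simpa using this
    omega

end Main

/-- **Jacobian criterion for a quotient of a standard smooth algebra**: `B = D/(b₁,…,b_c)`, `D`
standard smooth of relative dimension `N` over `A`, `q` a prime of `B`: if
`dim κ(q) ⊗ Ω[B⁄A] + c ≤ N` then `B` is smooth over `A` at `q`; conversely if `b` is `H₁`-regular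
and `B` is smooth at `q` then `dim κ(q) ⊗ Ω[B⁄A] + c = N`. -/
theorem smoothAt_quotient_stdSmooth (A D B : Type u) [CommRing A] [CommRing D] [CommRing B]
    [Algebra A D] [Algebra A B] [Algebra D B] [IsScalarTower A D B]
    (hsurj : Function.Surjective (algebraMap D B)) (N c : ℕ)
    [Algebra.IsStandardSmoothOfRelativeDimension N A D]
    (b : Fin c → D) (hker : RingHom.ker (algebraMap D B) = Ideal.span (Set.range b))
    (q : Ideal B) [q.IsPrime] :
    (Module.finrank q.ResidueField (q.ResidueField ⊗[B] Ω[B⁄A]) + c ≤ N → Algebra.IsSmoothAt A q) ∧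
    (CAlgX.IsH1Regular b → Algebra.IsSmoothAt A q →
      Module.finrank q.ResidueField (q.ResidueField ⊗[B] Ω[B⁄A]) + c = N) := by
  set Q := q.comap (algebraMap D B) with hQ
  haveI : Nontrivial D := ⟨⟨0, 1, fun h => (inferInstance : Q.IsPrime).ne_top
    (Ideal.eq_top_of_isUnit_mem _ Q.zero_mem (h ▸ isUnit_one))⟩⟩
  let P := Localization.AtPrime Q
  let S := Localization.AtPrime q
  let φ : P →+* S := Localization.localRingHom Q q (algebraMap D B) rfl
  letI algPS : Algebra P S := φ.toAlgebra
  haveI : IsScalarTower A P S := IsScalarTower.of_algebraMap_eq' (by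
    ext a
    change algebraMap A S a = φ (algebraMap A P a)
    rw [IsScalarTower.algebraMap_apply A D P, Localization.localRingHom_to_map,
      ← IsScalarTower.algebraMap_apply A D B, ← IsScalarTower.algebraMap_apply A B S])
  haveI : Algebra.IsStandardSmooth A D :=
    Algebra.IsStandardSmoothOfRelativeDimension.isStandardSmooth N
  haveI : Algebra.FormallySmooth D P := Algebra.FormallySmooth.of_isLocalization Q.primeCompl
  haveI : Algebra.FormallySmooth A P := Algebra.FormallySmooth.comp A D P
  haveI : Algebra.FormallyEtale D P := Algebra.FormallyEtale.of_isLocalization Q.primeCompl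
  haveI : Algebra.FormallyEtale B S := Algebra.FormallyEtale.of_isLocalization q.primeCompl
  let eP : P ⊗[D] Ω[D⁄A] ≃ₗ[P] Ω[P⁄A] := KaehlerDifferential.tensorKaehlerEquivOfFormallyEtale A D P
  haveI : Module.Free P Ω[P⁄A] := Module.Free.of_equiv eP
  haveI : Module.Finite P Ω[P⁄A] := Module.Finite.equiv eP
  have hrank : Module.finrank P Ω[P⁄A] = N := by
    rw [← eP.finrank_eq, Module.finrank_baseChange]
    have := Algebra.IsStandardSmoothOfRelativeDimension.rank_kaehlerDifferential (R := A) (S := D) N
    rw [Module.finrank, this]; simp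
  have h₁ : Function.Surjective (algebraMap P S) :=
    RingHom.surjective_localRingHom_of_surjective _ hsurj q
  have hT : Submonoid.map (algebraMap D B) Q.primeCompl = q.primeCompl := by
    ext y
    constructor
    · rintro ⟨x, hx, rfl⟩
      exact hx
    · intro hy
      obtain ⟨x, rfl⟩ := hsurj y
      exact ⟨x, hy, rfl⟩
  have hker' : RingHom.ker (algebraMap P S) =
      Ideal.span (Set.range fun i => algebraMap D P (b i)) := by
    have h2 := IsLocalization.ker_map (S := P) S (algebraMap D B) hT
    have h3 : RingHom.ker (algebraMap P S) = (RingHom.ker (algebraMap D B)).map (algebraMap D P) :=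
      h2
    rw [h3, hker, Ideal.map_span, ← Set.range_comp]
    rfl
  obtain ⟨ha, hb⟩ := jacobi_numerics A P S h₁ (fun i => algebraMap D P (b i)) hker'
  -- compare the fibres of the differentials
  let eS : S ⊗[B] Ω[B⁄A] ≃ₗ[S] Ω[S⁄A] := KaehlerDifferential.tensorKaehlerEquivOfFormallyEtale A B S
  let e1 : q.ResidueField ⊗[S] Ω[S⁄A] ≃ₗ[q.ResidueField] q.ResidueField ⊗[B] Ω[B⁄A] :=
    (TensorProduct.AlgebraTensorModule.congr (LinearEquiv.refl q.ResidueField q.ResidueField)
      eS.symm) ≪≫ₗ
    TensorProduct.AlgebraTensorModule.cancelBaseChange B S q.ResidueField q.ResidueField Ω[B⁄A]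
  have hfin : Module.finrank (ResidueField S) (ResidueField S ⊗[S] Ω[S⁄A]) =
      Module.finrank q.ResidueField (q.ResidueField ⊗[B] Ω[B⁄A]) := e1.finrank_eq
  rw [hfin, hrank] at ha hb
  refine ⟨fun h => ha h, fun h1 h2 => hb ?_ h2⟩
  exact isH1Regular_of_isLocalization Q.primeCompl b h1

/-- `Fitt_k M ⊄ p` iff `dim κ(p) ⊗ M ≤ k` -/
theorem fitt_not_le_iff_finrank {R : Type u} [CommRing R] {M : Type u} [AddCommGroup M] [Module R M]
    [Module.Finite R M] (k : ℕ) (p : Ideal R) [p.IsPrime] :
    ¬ Fitt.ideal R M k ≤ p ↔ Module.finrank p.ResidueField (p.ResidueField ⊗[R] M) ≤ k := by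
  set K := p.ResidueField
  set n := Module.finrank K (K ⊗[R] M) with hn
  let bK : Module.Basis (Fin n) K (K ⊗[R] M) := Module.finBasis K (K ⊗[R] M)
  have hbc := fitt_baseChange (R := R) (R' := K) (M := M) k
  have hkerK : RingHom.ker (algebraMap R K) = p := Ideal.ker_algebraMap_residueField p
  constructor
  · intro h
    by_contra hlt
    rw [not_le] at hlt
    have h0 := fitt_eq_bot_of_basis bK hlt
    rw [hbc, Ideal.map_eq_bot_iff_le_ker, hkerK] at h0
    exact h h0
  · intro hle hfit
    have h1 := fitt_eq_top_of_basis bK hle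
    rw [hbc] at h1
    have h2 : (Fitt.ideal R M k).map (algebraMap R K) ≤ ⊥ := by
      rw [Ideal.map_le_iff_le_comap]
      intro x hx
      rw [Ideal.mem_comap, Ideal.mem_bot, ← RingHom.mem_ker, hkerK]
      exact hfit hx
    rw [h1] at h2
    exact (bot_ne_top (α := Ideal K)) (le_antisymm bot_le h2)

end Groth.Agent.Lib.helper17.JacobiNum
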