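import Mathlib
import Groth.Prelude.Def_SGA1t
/-!
# Kummer algebras over a formally smooth chart (helper17)

`formallySmooth_kummer`: if `A` is formally smooth over `R₀[t_j]` then `A[T_i]/(T_i^{n_i} - t_{e i})`
is formally smooth over `R₀` (for injective `e`).
-/
set_option autoImplicit false

open MvPolynomial

namespace Groth.Agent.Lib.helper17.KummerSmooth

universe u

/-- **Kummer algebras over a formally smooth chart are formally smooth.**  If `A` is formally
smooth over the polynomial ring `R₀[t_j]` (via `t_j ↦ t j`), then for any injective `e : I → J`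
the Kummer algebra `A[T_i]/(T_i^{n_i} - t (e i))` is formally smooth over `R₀`. -/
theorem formallySmooth_kummer {R₀ A : Type u} [CommRing R₀] [CommRing A] [Algebra R₀ A]
    {J : Type u} (t : J → A)
    (hFS : @Algebra.FormallySmooth (MvPolynomial J R₀) A _ _
      (MvPolynomial.aeval (R := R₀) t).toRingHom.toAlgebra)
    {I : Type} (e : I → J) (he : Function.Injective e) (n : I → ℕ) :
    Algebra.FormallySmooth R₀ (SGA1t.kummer A (fun i => t (e i)) n) := by
  classical
  refine Algebra.FormallySmooth.of_comp_surjective fun Q _ _ N hN g => ?_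
  set 𝔞 : Ideal (MvPolynomial I A) := Ideal.span (Set.range fun i =>
    (MvPolynomial.X i : MvPolynomial I A) ^ n i - MvPolynomial.C (t (e i))) with h𝔞
  let Kq : MvPolynomial I A →+* SGA1t.kummer A (fun i => t (e i)) n := Ideal.Quotient.mk 𝔞
  have hrel : ∀ i, Kq (X i) ^ n i = Kq (C (t (e i))) := by
    intro i
    rw [← map_pow, ← sub_eq_zero, ← map_sub]
    exact Ideal.Quotient.eq_zero_iff_mem.mpr (Ideal.subset_span ⟨i, rfl⟩)
  choose c hc using fun i => Ideal.Quotient.mk_surjective (g (Kq (X i)))
  choose u hu using fun j => Ideal.Quotient.mk_surjective (g (Kq (C (t j))))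
  let τ : J → Q := fun j => if h : ∃ i, e i = j then c h.choose ^ n h.choose else u j
  have hτe : ∀ i, τ (e i) = c i ^ n i := by
    intro i
    have h : ∃ i', e i' = e i := ⟨i, rfl⟩
    have h2 : h.choose = i := he h.choose_spec
    simp only [τ, dif_pos h, h2]
  have hτ : ∀ j, Ideal.Quotient.mk N (τ j) = g (Kq (C (t j))) := by
    intro j
    by_cases h : ∃ i, e i = j
    · obtain ⟨i, rfl⟩ := h
      rw [hτe, map_pow, hc, ← map_pow, hrel]
    · simp only [τ, dif_neg h, hu]
  -- algebra structures over the polynomial ring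
  letI algPA : Algebra (MvPolynomial J R₀) A := (MvPolynomial.aeval (R := R₀) t).toRingHom.toAlgebra
  letI algPQ : Algebra (MvPolynomial J R₀) Q :=
    (MvPolynomial.aeval (R := R₀) τ).toRingHom.toAlgebra
  haveI : Algebra.FormallySmooth (MvPolynomial J R₀) A := hFS
  have hcomm : ∀ p : MvPolynomial J R₀,
      g (Kq (C (MvPolynomial.aeval (R := R₀) t p))) =
        Ideal.Quotient.mk N (MvPolynomial.aeval (R := R₀) τ p) := by
    intro p
    have h1 : (g.toRingHom.comp (Kq.comp (C.comp (MvPolynomial.aeval (R := R₀) t).toRingHom))) =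
        (Ideal.Quotient.mk N).comp (MvPolynomial.aeval (R := R₀) τ).toRingHom := by
      apply MvPolynomial.ringHom_ext
      · intro r
        simp only [RingHom.comp_apply, AlgHom.toRingHom_eq_coe, RingHom.coe_coe,
          MvPolynomial.aeval_C]
        have : Kq (C (algebraMap R₀ A r)) =
            algebraMap R₀ (SGA1t.kummer A (fun i => t (e i)) n) r := rfl
        rw [this, AlgHom.commutes]
        rfl
      · intro j
        simp only [RingHom.comp_apply, AlgHom.toRingHom_eq_coe, RingHom.coe_coe,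
          MvPolynomial.aeval_X]
        exact (hτ j).symm
    exact RingHom.congr_fun h1 p
  let β : A →ₐ[MvPolynomial J R₀] Q ⧸ N :=
    { toRingHom := g.toRingHom.comp (Kq.comp C)
      commutes' := fun p => hcomm p }
  obtain ⟨β', hβ'⟩ := Algebra.FormallySmooth.comp_surjective (MvPolynomial J R₀) A N hN β
  have hβ'mk : ∀ a : A, Ideal.Quotient.mk N (β' a) = g (Kq (C a)) := fun a =>
    AlgHom.congr_fun hβ' a
  have hβ't : ∀ j, β' (t j) = τ j := by
    intro j
    have h1 : t j = algebraMap (MvPolynomial J R₀) A (X j) := by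
      change t j = MvPolynomial.aeval (R := R₀) t (X j)
      rw [MvPolynomial.aeval_X]
    rw [h1, AlgHom.commutes]
    change MvPolynomial.aeval (R := R₀) τ (X j) = τ j
    rw [MvPolynomial.aeval_X]
  have hβ'R : ∀ r : R₀, β' (algebraMap R₀ A r) = algebraMap R₀ Q r := by
    intro r
    have h1 : algebraMap R₀ A r = algebraMap (MvPolynomial J R₀) A (C r) := by
      change _ = MvPolynomial.aeval (R := R₀) t (C r)
      rw [MvPolynomial.aeval_C]
    rw [h1, AlgHom.commutes]
    change MvPolynomial.aeval (R := R₀) τ (C r) = _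
    rw [MvPolynomial.aeval_C]
  -- the lift
  let G₀ : MvPolynomial I A →+* Q := MvPolynomial.eval₂Hom (β' : A →+* Q) c
  have hG₀ : ∀ z ∈ 𝔞, G₀ z = 0 := by
    intro z hz
    have hle : 𝔞 ≤ RingHom.ker G₀ := by
      rw [h𝔞, Ideal.span_le]
      rintro _ ⟨i, rfl⟩
      rw [SetLike.mem_coe, RingHom.mem_ker]
      simp only [G₀, map_sub, map_pow, MvPolynomial.eval₂Hom_X', MvPolynomial.eval₂Hom_C,
        RingHom.coe_coe, hβ't, hτe, sub_self]
    exact hle hz
  let G : SGA1t.kummer A (fun i => t (e i)) n →ₐ[R₀] Q :=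
    { toRingHom := Ideal.Quotient.lift 𝔞 G₀ hG₀
      commutes' := fun r => by
        have : algebraMap R₀ (SGA1t.kummer A (fun i => t (e i)) n) r =
          Ideal.Quotient.mk 𝔞 (C (algebraMap R₀ A r)) := rfl
        simp only [this, RingHom.toMonoidHom_eq_coe, OneHom.toFun_eq_coe, MonoidHom.toOneHom_coe,
          MonoidHom.coe_coe, Ideal.Quotient.lift_mk, G₀, MvPolynomial.eval₂Hom_C, RingHom.coe_coe,
          hβ'R] }
  refine ⟨G, ?_⟩
  apply AlgHom.coe_ringHom_injective
  apply Ideal.Quotient.ringHom_ext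
  apply MvPolynomial.ringHom_ext
  · intro a
    simp only [RingHom.comp_apply]
    change Ideal.Quotient.mk N (Ideal.Quotient.lift 𝔞 G₀ hG₀ (Ideal.Quotient.mk 𝔞 (C a))) = g (Kq (C a))
    rw [Ideal.Quotient.lift_mk]
    simp only [G₀, MvPolynomial.eval₂Hom_C, RingHom.coe_coe, hβ'mk]
  · intro i
    simp only [RingHom.comp_apply]
    change Ideal.Quotient.mk N (Ideal.Quotient.lift 𝔞 G₀ hG₀ (Ideal.Quotient.mk 𝔞 (X i))) = g (Kq (X i))
    rw [Ideal.Quotient.lift_mk]
    simp only [G₀, MvPolynomial.eval₂Hom_X', hc]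

end Groth.Agent.Lib.helper17.KummerSmooth
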