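import Mathlib
import Groth.Agent.Lib.Helper3.StalkBC
/-!
# Formal smoothness of stalk maps of `Spec K ⟶ Spec 𝒪_{X,x} ⟶ X ⟶ S` (helper17)

* `bijective_stalkMap_fromSpecStalk`, `formallySmooth_stalkMap_SpecMap`,
  `formallySmooth_stalkMap_of_comp`.
-/
set_option autoImplicit false

open CategoryTheory CategoryTheory.Limits AlgebraicGeometry

namespace Groth.Agent.Lib.helper17.KummerSmooth

universe u

/-- stalk maps of `Spec 𝒪_{S,s} ⟶ S` are bijective. -/
theorem bijective_stalkMap_fromSpecStalk (S : Scheme.{u}) (s : S)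
    (p : Spec (S.presheaf.stalk s)) :
    Function.Bijective ((S.fromSpecStalk s).stalkMap p).hom := by
  haveI := Groth.Agent.Lib.helper3.StalkBC.flat_fromSpecStalk S s
  exact ⟨Groth.Agent.Lib.helper3.StalkBC.stalkMap_injective_of_flat _ p,
    (S.fromSpecStalk s).stalkMap_surjective p⟩

/-- stalk maps of `Spec.map ψ` for a formally smooth ring map `ψ` are formally smooth. -/
theorem formallySmooth_stalkMap_SpecMap {R K : CommRingCat.{u}} (ψ : R ⟶ K)
    (hψ : ψ.hom.FormallySmooth) (p : Spec K) :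
    ((Spec.map ψ).stalkMap p).hom.FormallySmooth := by
  rw [RingHom.FormallySmooth.respectsIso.arrow_mk_iso_iff (Scheme.arrowStalkMapSpecIso ψ p)]
  algebraize [ψ.hom]
  let q : Ideal R := (PrimeSpectrum.comap ψ.hom p).asIdeal
  haveI : p.asIdeal.LiesOver q := ⟨rfl⟩
  letI := Localization.AtPrime.algebraOfLiesOver q p.asIdeal
  haveI : Algebra.FormallySmooth K (Localization.AtPrime p.asIdeal) :=
    Algebra.FormallySmooth.of_isLocalization p.asIdeal.primeCompl
  haveI : Algebra.FormallySmooth R (Localization.AtPrime p.asIdeal) :=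
    Algebra.FormallySmooth.comp R K _
  have h := Algebra.FormallySmooth.localization_base (R := R) (Rₘ := Localization.AtPrime q)
    (Sₘ := Localization.AtPrime p.asIdeal) q.primeCompl
  exact RingHom.formallySmooth_algebraMap.mpr h

/-- **From rings to stalks.** For `f : X ⟶ S`, `x : X` and a ring map `ψA : 𝒪_{X,x} → K` such that
`𝒪_{S,f x} → 𝒪_{X,x} → K` is formally smooth, all stalk maps of
`Spec K ⟶ Spec 𝒪_{X,x} ⟶ X ⟶ S` are formally smooth. -/
theorem formallySmooth_stalkMap_of_comp {X S : Scheme.{u}} (f : X ⟶ S) (x : X)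
    (K : CommRingCat.{u}) (ψA : X.presheaf.stalk x ⟶ K)
    (hψ : (ψA.hom.comp (f.stalkMap x).hom).FormallySmooth) (x' : Spec K) :
    ((Spec.map ψA ≫ X.fromSpecStalk x ≫ f).stalkMap x').hom.FormallySmooth := by
  have e : Spec.map ψA ≫ X.fromSpecStalk x ≫ f =
      Spec.map (f.stalkMap x ≫ ψA) ≫ S.fromSpecStalk (f x) := by
    rw [Spec.map_comp, Category.assoc, Scheme.SpecMap_stalkMap_fromSpecStalk]
  rw [e]
  have h : ((Spec.map (f.stalkMap x ≫ ψA) ≫ S.fromSpecStalk (f x)).stalkMap x').hom =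
      ((Spec.map (f.stalkMap x ≫ ψA)).stalkMap x').hom.comp
        ((S.fromSpecStalk (f x)).stalkMap ((Spec.map (f.stalkMap x ≫ ψA)) x')).hom := by
    rw [Scheme.Hom.stalkMap_comp]
    rfl
  rw [h]
  refine RingHom.FormallySmooth.comp ?_ ?_
  · exact RingHom.FormallySmooth.of_bijective (bijective_stalkMap_fromSpecStalk S (f x) _)
  · exact formallySmooth_stalkMap_SpecMap (f.stalkMap x ≫ ψA) hψ x'

end Groth.Agent.Lib.helper17.KummerSmooth
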