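import Mathlib
import Groth.Agent.Lib.Helper9.EtChartSec1
/-!
# Étale charts to affine space: ring maps on affine opens, germs (helper17)

* `etale_chart_ringHom`: an étale chart `W ⟶ 𝔸(J; S)` restricted to affine opens gives an étale ring
  map `Γ(V₀, ⊤)[J] → Γ(U₁, ⊤)`.
* `germTop U x hx : Γ(U, ⊤) →+* 𝒪_{X,x}` with `germTop_homOfLE`, `germTop_resLE`,
  `formallySmooth_germTop`, `formallySmooth_of_comp_germTop`.
-/
set_option autoImplicit false

open CategoryTheory CategoryTheory.Limits AlgebraicGeometry MvPolynomial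

namespace Groth.Agent.Lib.helper17.KummerSmooth

universe u

/-- An étale chart `W ⟶ 𝔸(J; S)` restricted to affine opens `U₁ ⊆ W`, `V₀ ⊆ S` gives an étale
ring map `Γ(V₀, ⊤)[J] → Γ(U₁, ⊤)` (sections of the open subschemes). -/
theorem etale_chart_ringHom {X S : Scheme.{u}} (f : X ⟶ S) (W : X.Opens) (J : Type u) [Finite J]
    (v : J → Γ(W, ⊤)) [Etale (AffineSpace.homOfVector (W.ι ≫ f) v)]
    (V₀ : S.Opens) (hV₀ : IsAffineOpen V₀) (U₁ : X.Opens) (hU₁ : IsAffineOpen U₁)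
    (hUW : U₁ ≤ W) (hUV : U₁ ≤ f ⁻¹ᵁ V₀) :
    (MvPolynomial.eval₂Hom (f.resLE V₀ U₁ hUV).appTop.hom
      (fun j => (X.homOfLE hUW).appTop.hom (v j))).Etale := by
  haveI : IsAffine V₀.toScheme := hV₀
  haveI : IsAffine U₁.toScheme := hU₁
  have hg : f.resLE V₀ U₁ hUV ≫ V₀.ι = X.homOfLE hUW ≫ (W.ι ≫ f) := by
    rw [Scheme.Hom.resLE_comp_ι, ← Category.assoc, Scheme.homOfLE_ι]
  haveI het := Groth.Agent.Lib.helper9.EtChartSec.etale_homOfVector_restrict (W.ι ≫ f) v
    (X.homOfLE hUW) V₀.ι (f.resLE V₀ U₁ hUV) hg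
  set w : J → Γ(U₁, ⊤) := fun j => (X.homOfLE hUW).appTop.hom (v j) with hw
  let q : U₁.toScheme ⟶ Spec (CommRingCat.of (MvPolynomial J Γ(V₀, ⊤))) :=
    AffineSpace.homOfVector (f.resLE V₀ U₁ hUV) w ≫ (AffineSpace.isoOfIsAffine J V₀.toScheme).hom
  haveI : Etale q := inferInstance
  have hq : (q.appTop).hom.Etale := (HasRingHomProperty.iff_of_isAffine (P := @Etale)).mp ‹_›
  have h1 : q.appTop = (Scheme.ΓSpecIso _).hom ≫ (CommRingCat.ofHom
        (eval₂Hom ((𝔸(J; V₀.toScheme) ↘ V₀.toScheme).appTop).hom (AffineSpace.coord V₀.toScheme)) ≫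
      (AffineSpace.homOfVector (f.resLE V₀ U₁ hUV) w).appTop) := by
    rw [Scheme.Hom.comp_appTop, AffineSpace.isoOfIsAffine_hom_appTop, Category.assoc]
  rw [h1, CommRingCat.hom_comp, RingHom.Etale.respectsIso.cancel_left_isIso] at hq
  have heq : (CommRingCat.ofHom
      (eval₂Hom ((𝔸(J; V₀.toScheme) ↘ V₀.toScheme).appTop).hom (AffineSpace.coord V₀.toScheme)) ≫
      (AffineSpace.homOfVector (f.resLE V₀ U₁ hUV) w).appTop).hom =
      MvPolynomial.eval₂Hom (f.resLE V₀ U₁ hUV).appTop.hom w := by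
    apply MvPolynomial.ringHom_ext
    · intro r
      simp only [CommRingCat.hom_comp, CommRingCat.hom_ofHom, RingHom.comp_apply, coe_eval₂Hom,
        eval₂_C]
      rw [← CommRingCat.comp_apply, ← Scheme.Hom.comp_appTop, AffineSpace.homOfVector_over]
    · intro j
      simp only [CommRingCat.hom_comp, CommRingCat.hom_ofHom, RingHom.comp_apply, coe_eval₂Hom,
        eval₂_X]
      exact AffineSpace.homOfVector_appTop_coord _ _ _
  rw [heq] at hq
  exact hq


/-- the germ at `x ∈ U` of a global section of the open subscheme `U`. -/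
noncomputable def germTop {X : Scheme.{u}} (U : X.Opens) (x : X) (hx : x ∈ U) :
    Γ(U, ⊤) →+* X.presheaf.stalk x :=
  (X.presheaf.germ U x hx).hom.comp U.topIso.hom.hom

theorem germTop_eq {X : Scheme.{u}} (U : X.Opens) (x : X) (hx : x ∈ U) (s : Γ(U, ⊤)) :
    germTop U x hx s = (X.presheaf.germ (U.ι ''ᵁ ⊤) x ⟨⟨x, hx⟩, trivial, rfl⟩).hom s := by
  simp only [germTop, RingHom.comp_apply, Scheme.Opens.topIso_hom]
  exact TopCat.Presheaf.germ_res_apply X.presheaf (eqToHom U.ι_image_top.symm) x hx s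

theorem germTop_homOfLE {X : Scheme.{u}} {U W : X.Opens} (h : U ≤ W) (x : X) (hx : x ∈ U)
    (s : Γ(W, ⊤)) :
    germTop U x hx ((X.homOfLE h).appTop.hom s) = germTop W x (h hx) s := by
  rw [germTop_eq, germTop_eq, Scheme.homOfLE_appTop]
  exact TopCat.Presheaf.germ_res_apply X.presheaf
    (homOfLE (X.ι_image_homOfLE_le_ι_image h ⊤)) x _ s

theorem germTop_resLE {X S : Scheme.{u}} (f : X ⟶ S) (V₀ : S.Opens) (U₁ : X.Opens)
    (hUV : U₁ ≤ f ⁻¹ᵁ V₀) (x : X) (hx : x ∈ U₁) (r : Γ(V₀, ⊤)) :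
    germTop U₁ x hx ((f.resLE V₀ U₁ hUV).appTop.hom r) =
      (f.stalkMap x).hom (germTop V₀ (f x) (hUV hx) r) := by
  have h1 : (f.resLE V₀ U₁ hUV).appTop = V₀.topIso.hom ≫ f.appLE V₀ U₁ hUV ≫ U₁.topIso.inv :=
    Scheme.Hom.resLE_app_top f hUV
  have h2 : f.appLE V₀ U₁ hUV ≫ X.presheaf.germ U₁ x hx =
      S.presheaf.germ V₀ (f x) (hUV hx) ≫ f.stalkMap x := by
    rw [Scheme.Hom.germ_stalkMap, Scheme.Hom.appLE, Category.assoc, TopCat.Presheaf.germ_res]
  have h3 : (f.resLE V₀ U₁ hUV).appTop ≫ U₁.topIso.hom ≫ X.presheaf.germ U₁ x hx =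
      V₀.topIso.hom ≫ S.presheaf.germ V₀ (f x) (hUV hx) ≫ f.stalkMap x := by
    rw [h1, Category.assoc, Category.assoc, Iso.inv_hom_id_assoc, h2]
  exact congrArg (fun φ => φ.hom r) h3

theorem formallySmooth_germTop {X : Scheme.{u}} (U : X.Opens) (hU : IsAffineOpen U) (x : X)
    (hx : x ∈ U) : (germTop U x hx).FormallySmooth := by
  refine RingHom.FormallySmooth.comp ?_ ?_
  · exact RingHom.FormallySmooth.of_bijective
      (ConcreteCategory.bijective_of_isIso U.topIso.hom)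
  · letI := X.presheaf.algebra_section_stalk (⟨x, hx⟩ : U)
    haveI : IsLocalization.AtPrime (X.presheaf.stalk x) (hU.primeIdealOf ⟨x, hx⟩).asIdeal :=
      hU.isLocalization_stalk ⟨x, hx⟩
    have : Algebra.FormallySmooth Γ(X, U) (X.presheaf.stalk x) :=
      Algebra.FormallySmooth.of_isLocalization (hU.primeIdealOf ⟨x, hx⟩).asIdeal.primeCompl
    exact RingHom.formallySmooth_algebraMap.mpr this

theorem formallySmooth_of_comp_germTop {S : Scheme.{u}} (V₀ : S.Opens) (hV₀ : IsAffineOpen V₀)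
    (s : S) (hs : s ∈ V₀) {K : Type u} [CommRing K] (ψ : S.presheaf.stalk s →+* K)
    (h : (ψ.comp (germTop V₀ s hs)).FormallySmooth) : ψ.FormallySmooth := by
  have h1 : (ψ.comp (S.presheaf.germ V₀ s hs).hom).FormallySmooth := by
    have h2 : ψ.comp (S.presheaf.germ V₀ s hs).hom =
        (ψ.comp (germTop V₀ s hs)).comp V₀.topIso.inv.hom := by
      ext r
      simp only [germTop, RingHom.comp_apply]
      rw [← CommRingCat.comp_apply V₀.topIso.inv V₀.topIso.hom, Iso.inv_hom_id]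
      rfl
    rw [h2]
    exact RingHom.FormallySmooth.comp (RingHom.FormallySmooth.of_bijective
      (ConcreteCategory.bijective_of_isIso V₀.topIso.inv)) h
  letI := S.presheaf.algebra_section_stalk (⟨s, hs⟩ : V₀)
  haveI : IsLocalization.AtPrime (S.presheaf.stalk s) (hV₀.primeIdealOf ⟨s, hs⟩).asIdeal :=
    hV₀.isLocalization_stalk ⟨s, hs⟩
  letI : Algebra (S.presheaf.stalk s) K := ψ.toAlgebra
  letI : Algebra Γ(S, V₀) K := (ψ.comp (S.presheaf.germ V₀ s hs).hom).toAlgebra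
  haveI : IsScalarTower Γ(S, V₀) (S.presheaf.stalk s) K :=
    IsScalarTower.of_algebraMap_eq fun _ => rfl
  haveI : Algebra.FormallySmooth Γ(S, V₀) K := h1
  have h3 := Algebra.FormallySmooth.localization_base (R := Γ(S, V₀))
    (Rₘ := S.presheaf.stalk s) (Sₘ := K) (hV₀.primeIdealOf ⟨s, hs⟩).asIdeal.primeCompl
  exact h3

end Groth.Agent.Lib.helper17.KummerSmooth
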