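import Mathlib
import Groth.Agent.Lib.Helper17.KummerSmooth1
import Groth.Agent.Lib.Helper17.KummerSmooth2
import Groth.Agent.Lib.Helper17.KummerSmooth3
/-!
# Kummer covers along a relative strict normal crossings divisor are formally smooth (helper17)

`formallySmooth_comp_kummer`: for an étale chart `W ⟶ 𝔸(J; S)` around `x`, the composite
`𝒪_{S,f x} → 𝒪_{X,x} → 𝒪_{X,x}[T_i]/(T_i^{n_i} - v_{e i})` is formally smooth.
-/
set_option autoImplicit false

open CategoryTheory CategoryTheory.Limits AlgebraicGeometry MvPolynomial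

namespace Groth.Agent.Lib.helper17.KummerSmooth

universe u

/-- the ring-level heart of S3710. -/
theorem formallySmooth_comp_kummer {X S : Scheme.{u}} (f : X ⟶ S) (x : X) (W : X.Opens)
    (hxW : x ∈ W) (J : Type u) [Finite J] (v : J → Γ(W, ⊤))
    [Etale (AffineSpace.homOfVector (W.ι ≫ f) v)]
    {I : Type} (e : I → J) (he : Function.Injective e) (n : I → ℕ) :
    ((algebraMap (X.presheaf.stalk x)
        (SGA1t.kummer (X.presheaf.stalk x) (fun i => germTop W x hxW (v (e i))) n)).comp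
      (f.stalkMap x).hom).FormallySmooth := by
  obtain ⟨_, ⟨V₀, hV₀ : IsAffineOpen V₀, rfl⟩, hsV₀, -⟩ :=
    S.isBasis_affineOpens.exists_subset_of_mem_open (Set.mem_univ (f x)) isOpen_univ
  obtain ⟨_, ⟨U₁, hU₁ : IsAffineOpen U₁, rfl⟩, hxU₁, hU₁le⟩ :=
    X.isBasis_affineOpens.exists_subset_of_mem_open
      (show x ∈ (W ⊓ f ⁻¹ᵁ V₀ : X.Opens) from ⟨hxW, hsV₀⟩) (W ⊓ f ⁻¹ᵁ V₀).2
  have hUW : U₁ ≤ W := fun y hy => (hU₁le hy).1
  have hUV : U₁ ≤ f ⁻¹ᵁ V₀ := fun y hy => (hU₁le hy).2
  have hθ := etale_chart_ringHom f W J v V₀ hV₀ U₁ hU₁ hUW hUV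
  set A := X.presheaf.stalk x with hA
  set t : J → A := fun j => germTop W x hxW (v j) with ht
  apply formallySmooth_of_comp_germTop V₀ hV₀ (f x) hsV₀
  -- `A` as an algebra over `R₀ = Γ(V₀, ⊤)`
  letI algA : Algebra Γ(V₀, ⊤) A := ((f.stalkMap x).hom.comp (germTop V₀ (f x) hsV₀)).toAlgebra
  have hFS : @Algebra.FormallySmooth (MvPolynomial J Γ(V₀, ⊤)) A _ _
      (MvPolynomial.aeval (R := Γ(V₀, ⊤)) t).toRingHom.toAlgebra := by
    have h1 : (MvPolynomial.aeval (R := Γ(V₀, ⊤)) t).toRingHom =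
        (germTop U₁ x hxU₁).comp (MvPolynomial.eval₂Hom (f.resLE V₀ U₁ hUV).appTop.hom
          (fun j => (X.homOfLE hUW).appTop.hom (v j))) := by
      apply MvPolynomial.ringHom_ext
      · intro r
        simp only [AlgHom.toRingHom_eq_coe, RingHom.coe_coe, MvPolynomial.aeval_C,
          RingHom.comp_apply, coe_eval₂Hom, eval₂_C]
        rw [germTop_resLE]
        rfl
      · intro j
        simp only [AlgHom.toRingHom_eq_coe, RingHom.coe_coe, MvPolynomial.aeval_X,
          RingHom.comp_apply, coe_eval₂Hom, eval₂_X]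
        rw [germTop_homOfLE]
    have h2 : (MvPolynomial.aeval (R := Γ(V₀, ⊤)) t).toRingHom.FormallySmooth := by
      rw [h1]
      exact RingHom.FormallySmooth.comp
        (((RingHom.etale_iff_formallyUnramified_and_smooth _).mp hθ).2.formallySmooth)
        (formallySmooth_germTop U₁ hU₁ x hxU₁)
    exact h2
  have hK := formallySmooth_kummer (R₀ := Γ(V₀, ⊤)) (A := A) t hFS e he n
  exact RingHom.formallySmooth_algebraMap.mpr hK

end Groth.Agent.Lib.helper17.KummerSmooth
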