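import Mathlib
import Groth.Agent.Lib.Helper17.H1Reg

/-!
# helper17: `H_1`-regular sequences and flat quotients

* `mem_mul_of_flat`: if `R/J` is flat over `A` then `J ∩ 𝔞R = 𝔞J`.
* `isH1Regular_quotient_of_flat`: an `H_1`-regular sequence `f` in an `A`-algebra `R` with
  `R/(f)` flat over `A` stays `H_1`-regular in `R/𝔞R`.
-/

set_option autoImplicit false
set_option linter.style.haveILetI false
universe u
open IsLocalRing

namespace Groth.Agent.Lib.helper17.LciFibre

open CAlgX Groth.Agent.Lib.helper17.H1Reg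

variable {A R : Type u} [CommRing A] [CommRing R] [Algebra A R]

/-- If `R/J` is `A`-flat then `J ∩ 𝔞R ⊆ 𝔞R · J`. -/
theorem mem_mul_of_flat (J : Ideal R) [Module.Flat A (R ⧸ J)] (𝔞 : Ideal A) {z : R} (hzJ : z ∈ J)
    (hz : z ∈ 𝔞.map (algebraMap A R)) : z ∈ 𝔞.map (algebraMap A R) * J := by
  classical
  rw [Ideal.map, Submodule.mem_span_set'] at hz
  obtain ⟨n, r, g, rfl⟩ := hz
  choose a ha hag using fun i => (g i).2
  -- the relation in `R/J`
  have hrel : ∑ i, a i • (Ideal.Quotient.mk J (r i)) = 0 := by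
    have : ∑ i, a i • (Ideal.Quotient.mk J (r i)) = Ideal.Quotient.mk J (∑ i, r i • (g i : R)) := by
      rw [map_sum]
      refine Finset.sum_congr rfl fun i _ => ?_
      rw [Algebra.smul_def, ← hag i, smul_eq_mul, map_mul, mul_comm]
      rfl
    rw [this]
    exact Ideal.Quotient.eq_zero_iff_mem.mpr hzJ
  obtain ⟨k, b, y, hy, hb⟩ := Module.Flat.isTrivialRelation_of_sum_smul_eq_zero (R := A)
    (M := R ⧸ J) (f := a) (x := fun i => Ideal.Quotient.mk J (r i)) (by exact hrel)
  replace hy : ∀ i, Ideal.Quotient.mk J (r i) = ∑ j, b i j • y j := hy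
  choose s hs using fun j => Ideal.Quotient.mk_surjective (y j)
  have ht : ∀ i, r i - ∑ j, algebraMap A R (b i j) * s j ∈ J := by
    intro i
    rw [← Ideal.Quotient.eq_zero_iff_mem, map_sub, hy i, map_sum, sub_eq_zero]
    refine Finset.sum_congr rfl fun j _ => ?_
    rw [map_mul, hs j, Algebra.smul_def]
    rfl
  have hsum : ∑ i, r i • (g i : R) =
      ∑ i, algebraMap A R (a i) * (r i - ∑ j, algebraMap A R (b i j) * s j) := by
    have h0 : ∑ i, algebraMap A R (a i) * ∑ j, algebraMap A R (b i j) * s j = 0 := by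
      simp_rw [Finset.mul_sum]
      rw [Finset.sum_comm]
      refine Finset.sum_eq_zero fun j _ => ?_
      have : ∑ i, algebraMap A R (a i) * (algebraMap A R (b i j) * s j) =
          algebraMap A R (∑ i, a i * b i j) * s j := by
        rw [map_sum, Finset.sum_mul]
        refine Finset.sum_congr rfl fun i _ => ?_
        rw [map_mul, mul_assoc]
      rw [this, hb j, map_zero, zero_mul]
    simp_rw [mul_sub]
    rw [Finset.sum_sub_distrib, h0, sub_zero]
    refine Finset.sum_congr rfl fun i _ => ?_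
    rw [smul_eq_mul, ← hag i, mul_comm]
  rw [hsum]
  refine Ideal.sum_mem _ fun i _ => Ideal.mul_mem_mul ?_ (ht i)
  exact Ideal.mem_map_of_mem _ (ha i)

/-- an `H_1`-regular sequence with `A`-flat quotient stays `H_1`-regular modulo `𝔞R`. -/
theorem isH1Regular_quotient_of_flat {c : ℕ} (f : Fin c → R) (h : IsH1Regular f)
    [Module.Flat A (R ⧸ Ideal.span (Set.range f))] (𝔞 : Ideal A) :
    IsH1Regular (fun i => Ideal.Quotient.mk (𝔞.map (algebraMap A R)) (f i)) := by
  classical
  intro ā hā
  choose a ha using fun i => Ideal.Quotient.mk_surjective (ā i)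
  have hz : ∑ i, a i * f i ∈ 𝔞.map (algebraMap A R) := by
    rw [← Ideal.Quotient.eq_zero_iff_mem, map_sum]
    simp_rw [map_mul, ha]
    exact hā
  have hzJ : ∑ i, a i * f i ∈ Ideal.span (Set.range f) :=
    Ideal.sum_mem _ fun i _ => Ideal.mul_mem_left _ _ (Ideal.subset_span ⟨i, rfl⟩)
  have h1 := mem_mul_of_flat (Ideal.span (Set.range f)) 𝔞 hzJ hz
  obtain ⟨b, hb, hbz⟩ : ∃ b : Fin c → R, (∀ i, b i ∈ 𝔞.map (algebraMap A R)) ∧
      ∑ i, b i * f i = ∑ i, a i * f i := by
    rw [← smul_eq_mul, Ideal.span, Submodule.mem_ideal_smul_span_iff_exists_sum] at h1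
    obtain ⟨b, hb, hbz⟩ := h1
    refine ⟨b, hb, ?_⟩
    rw [← hbz, Finsupp.sum_fintype _ _ (fun i => by rw [zero_smul])]
    rfl
  have hrel : ∑ i, (a - b) i * f i = 0 := by
    simp_rw [Pi.sub_apply, sub_mul]
    rw [Finset.sum_sub_distrib, hbz, sub_self]
  have hab := h (a - b) hrel
  have hā' : ā = fun i => Ideal.Quotient.mk (𝔞.map (algebraMap A R)) ((a - b) i) := by
    funext i
    rw [Pi.sub_apply, map_sub, ha i, Ideal.Quotient.eq_zero_iff_mem.mpr (hb i), sub_zero]
  rw [hā']
  generalize a - b = d at hab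
  induction hab using Submodule.span_induction with
  | mem v hv =>
    obtain ⟨i, j, rfl⟩ := hv
    refine Submodule.subset_span ⟨i, j, ?_⟩
    funext k
    simp only [Pi.sub_apply, map_sub, Pi.single_apply]
    split_ifs <;> simp
  | zero =>
    have : (fun i => Ideal.Quotient.mk (𝔞.map (algebraMap A R)) ((0 : Fin c → R) i)) = 0 := by
      funext i; simp
    rw [this]
    exact Submodule.zero_mem _
  | add v w _ _ hv hw =>
    have : (fun i => Ideal.Quotient.mk (𝔞.map (algebraMap A R)) ((v + w) i)) =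
        (fun i => Ideal.Quotient.mk (𝔞.map (algebraMap A R)) (v i)) +
          (fun i => Ideal.Quotient.mk (𝔞.map (algebraMap A R)) (w i)) := by
      funext i; simp
    rw [this]
    exact Submodule.add_mem _ hv hw
  | smul r v _ hv =>
    have : (fun i => Ideal.Quotient.mk (𝔞.map (algebraMap A R)) ((r • v) i)) =
        Ideal.Quotient.mk (𝔞.map (algebraMap A R)) r •
          (fun i => Ideal.Quotient.mk (𝔞.map (algebraMap A R)) (v i)) := by
      funext i; simp
    rw [this]
    exact Submodule.smul_mem _ _ hv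

/-- flexible form of `isH1Regular_quotient_of_flat`. -/
theorem isH1Regular_quotient_of_flat' {c : ℕ} (f : Fin c → R) (h : IsH1Regular f)
    [Module.Flat A (R ⧸ Ideal.span (Set.range f))] (𝔞 : Ideal A) (I : Ideal R)
    (hI : I = 𝔞.map (algebraMap A R)) :
    IsH1Regular (fun i => Ideal.Quotient.mk I (f i)) := by
  subst hI
  exact isH1Regular_quotient_of_flat f h 𝔞

end Groth.Agent.Lib.helper17.LciFibre
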