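import Mathlib
import Groth.Agent.Lib.Helper17.LciFibre
import Groth.Agent.Lib.Helper17.LciGor
import Groth.Agent.Lib.Helper24.FlatDepth5

/-!
# helper17: fibre local rings of a flat quotient by a Koszul-regular ideal are Gorenstein

`gor_fibLoc_quotient`: `P` an `A`-algebra, `J` an ideal generated near the prime `Q ⊇ J` by a
Koszul-regular sequence, `P/J` flat over `A`, `T = P_Q/pP_Q` a Gorenstein local ring:
`T/JT` is Gorenstein.
-/

set_option autoImplicit false
set_option linter.style.haveILetI false
universe u
open IsLocalRing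

namespace Groth.Agent.Lib.helper17.LciFibre

open CAlgX Groth.Agent.Lib.helper17.H1Reg Groth.Agent.Lib.helper17.GorIso
  Groth.Agent.Lib.Helper24.FlatDepth Groth.Agent.Lib.helper17.LciGor

section Local

variable (A : Type u) [CommRing A] (P : Type u) [CommRing P] [Algebra A P] (J : Ideal P)
  [Module.Flat A (P ⧸ J)] (p : Ideal A) [p.IsPrime] (Q : Ideal P) [Q.IsPrime] [Q.LiesOver p]

theorem gor_fibLoc_quotient (hJQ : J ≤ Q) (g : P) (hg : g ∉ Q)
    (l : List (Localization.Away g)) (hl : LCI.IsKoszulRegularSeq (Localization.Away g) l)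
    (hJl : J.map (algebraMap P (Localization.Away g)) = Ideal.span {x | x ∈ l})
    (hT : LocCoh.IsGorensteinLocalRing (FibLoc A P p Q)) :
    LocCoh.IsGorensteinLocalRing
      (FibLoc A P p Q ⧸ J.map (algebraMap P (FibLoc A P p Q))) := by
  have hgu : IsUnit (algebraMap P (Localization.AtPrime Q) g) :=
    IsLocalization.map_units (Localization.AtPrime Q) (⟨g, hg⟩ : Q.primeCompl)
  let φ : Localization.Away g →+* Localization.AtPrime Q := IsLocalization.Away.lift g hgu
  letI : Algebra (Localization.Away g) (Localization.AtPrime Q) := φ.toAlgebra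
  haveI : IsScalarTower P (Localization.Away g) (Localization.AtPrime Q) :=
    IsScalarTower.of_algebraMap_eq (fun x => (IsLocalization.Away.lift_eq g hgu x).symm)
  haveI hloc : IsLocalization (Q.primeCompl.map (algebraMap P (Localization.Away g)))
      (Localization.AtPrime Q) :=
    IsLocalization.isLocalization_of_submonoid_le (Localization.Away g) (Localization.AtPrime Q)
      (Submonoid.powers g) Q.primeCompl (Submonoid.powers_le.mpr hg)
  have h1 := Groth.Agent.Lib.helper7.KoszulLow.isH1Regular_of_isKoszulRegularSeq _ l hl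
  have h2 := isH1Regular_localization (S := Localization.AtPrime Q)
    (Q.primeCompl.map (algebraMap P (Localization.Away g))) l.get h1
  set f' : Fin l.length → Localization.AtPrime Q :=
    fun i => algebraMap (Localization.Away g) (Localization.AtPrime Q) (l.get i) with hf'
  have hI : J.map (algebraMap P (Localization.AtPrime Q)) = Ideal.span (Set.range f') := by
    rw [IsScalarTower.algebraMap_eq P (Localization.Away g) (Localization.AtPrime Q),
      ← Ideal.map_map, hJl, Ideal.map_span]
    congr 1
    ext y
    constructor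
    · rintro ⟨x, hx, rfl⟩
      obtain ⟨i, rfl⟩ := List.mem_iff_get.mp hx
      exact ⟨i, rfl⟩
    · rintro ⟨i, rfl⟩
      exact ⟨l.get i, List.get_mem l i, rfl⟩
  -- flatness of `P_Q / J P_Q` over `A`
  haveI hfl0 : Module.Flat (P ⧸ J)
      (Localization.AtPrime Q ⧸ J.map (algebraMap P (Localization.AtPrime Q))) :=
    IsLocalization.flat _ (Algebra.algebraMapSubmonoid (P ⧸ J) Q.primeCompl)
  haveI : IsScalarTower A (P ⧸ J)
      (Localization.AtPrime Q ⧸ J.map (algebraMap P (Localization.AtPrime Q))) :=
    IsScalarTower.of_algebraMap_eq (fun a => by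
      rw [IsScalarTower.algebraMap_apply A P (P ⧸ J),
        IsScalarTower.algebraMap_apply A (Localization.AtPrime Q)
          (Localization.AtPrime Q ⧸ J.map (algebraMap P (Localization.AtPrime Q))),
        IsScalarTower.algebraMap_apply A P (Localization.AtPrime Q)]
      rfl)
  haveI hfl1 : Module.Flat A
      (Localization.AtPrime Q ⧸ J.map (algebraMap P (Localization.AtPrime Q))) :=
    Module.Flat.trans A (P ⧸ J) _
  haveI hfl2 : Module.Flat A (Localization.AtPrime Q ⧸ Ideal.span (Set.range f')) := by
    rw [← hI]; exact hfl1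
  have hIp : (p.map (algebraMap A P)).map (algebraMap P (Localization.AtPrime Q)) =
      p.map (algebraMap A (Localization.AtPrime Q)) := by
    rw [Ideal.map_map, ← IsScalarTower.algebraMap_eq]
  have h3 := isH1Regular_quotient_of_flat' (A := A) f' h2 p _ hIp
  set f'' : Fin l.length → FibLoc A P p Q := fun i => Ideal.Quotient.mk _ (f' i) with hf''
  haveI : IsNoetherianRing (FibLoc A P p Q) := by haveI := hT; infer_instance
  have hmem : ∀ i, f'' i ∈ maximalIdeal (FibLoc A P p Q) := by
    intro i
    have h4 : f' i ∈ maximalIdeal (Localization.AtPrime Q) := by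
      have h5 : f' i ∈ J.map (algebraMap P (Localization.AtPrime Q)) := by
        rw [hI]; exact Ideal.subset_span ⟨i, rfl⟩
      rw [← Localization.AtPrime.map_eq_maximalIdeal]
      exact Ideal.map_mono hJQ h5
    rw [mem_maximalIdeal, mem_nonunits_iff] at h4 ⊢
    intro hu
    apply h4
    haveI : IsLocalHom (Ideal.Quotient.mk ((p.map (algebraMap A P)).map
        (algebraMap P (Localization.AtPrime Q)))) :=
      IsLocalHom.of_surjective _ Ideal.Quotient.mk_surjective
    exact (isUnit_map_iff (Ideal.Quotient.mk _) (f' i)).1 hu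
  have h6 : RingTheory.Sequence.IsRegular (FibLoc A P p Q) (List.ofFn f'') :=
    isRegular_of_isH1Regular f'' hmem h3
  have h7 := gor_quot_ofList (FibLoc A P p Q) (List.ofFn f'')
    (fun r hr => by
      obtain ⟨i, rfl⟩ := (List.mem_ofFn' f'' r).1 hr
      exact hmem i) h6.toIsWeaklyRegular hT
  have h8 : Ideal.ofList (List.ofFn f'') = J.map (algebraMap P (FibLoc A P p Q)) := by
    rw [ofList_ofFn]
    have : algebraMap P (FibLoc A P p Q) =
        (Ideal.Quotient.mk ((p.map (algebraMap A P)).map
          (algebraMap P (Localization.AtPrime Q)))).comp (algebraMap P (Localization.AtPrime Q)) :=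
      rfl
    rw [this, ← Ideal.map_map, hI, Ideal.map_span]
    congr 1
    ext y
    constructor
    · rintro ⟨i, rfl⟩
      exact ⟨f' i, ⟨i, rfl⟩, rfl⟩
    · rintro ⟨x, ⟨i, rfl⟩, rfl⟩
      exact ⟨i, rfl⟩
  exact isGorensteinLocalRing_of_ringEquiv (Ideal.quotEquivOfEq h8.symm) h7

end Local

end Groth.Agent.Lib.helper17.LciFibre
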