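import Mathlib
import Groth.Agent.Lib.Helper17.LciFibre2
import Groth.Agent.Lib.Helper17.GorRing

/-!
# helper17: a flat local complete intersection algebra has Gorenstein fibres

`isGorensteinRing_fiber_of_koszulRegular`: `P = A[x₁..xₙ]`, `J` Koszul-regular with `P/J` flat over
`A`: every fibre ring `κ(p) ⊗_A P/J` is a Gorenstein ring.
-/

set_option autoImplicit false
set_option linter.style.haveILetI false
universe u
open IsLocalRing TensorProduct

namespace Groth.Agent.Lib.helper17.LciFibre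

open Groth.Agent.Lib.helper17.GorIso Groth.Agent.Lib.Helper24.FlatDepth

section Iso

variable (A : Type u) [CommRing A] (P : Type u) [CommRing P] [Algebra A P] (J : Ideal P)
  (p : Ideal A) [p.IsPrime] (𝔮 : Ideal (P ⧸ J)) [𝔮.IsPrime] [𝔮.LiesOver p]

instance liesOver_comap : (𝔮.comap (Ideal.Quotient.mk J)).LiesOver p := by
  constructor
  rw [Ideal.over_def 𝔮 p, Ideal.under_def, Ideal.under_def, Ideal.comap_comap]
  rfl

/-- `(P/J)_𝔮 / p ≃ (P_Q / p P_Q) / J`. -/
theorem nonempty_fibLoc_quotient_equiv :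
    Nonempty (FibLoc A (P ⧸ J) p 𝔮 ≃+*
      FibLoc A P p (𝔮.comap (Ideal.Quotient.mk J)) ⧸
        J.map (algebraMap P (FibLoc A P p (𝔮.comap (Ideal.Quotient.mk J))))) := by
  set Q : Ideal P := 𝔮.comap (Ideal.Quotient.mk J) with hQ
  have hsub : Algebra.algebraMapSubmonoid (P ⧸ J) Q.primeCompl = 𝔮.primeCompl := by
    ext y
    constructor
    · rintro ⟨x, hx, rfl⟩
      exact hx
    · intro hy
      obtain ⟨x, rfl⟩ := Ideal.Quotient.mk_surjective y
      exact ⟨x, hy, rfl⟩
  haveI : IsLocalization 𝔮.primeCompl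
      (Localization.AtPrime Q ⧸ J.map (algebraMap P (Localization.AtPrime Q))) := by
    rw [← hsub]; infer_instance
  let e : Localization.AtPrime 𝔮 ≃ₐ[P ⧸ J]
      (Localization.AtPrime Q ⧸ J.map (algebraMap P (Localization.AtPrime Q))) :=
    IsLocalization.algEquiv 𝔮.primeCompl _ _
  set Ip : Ideal (Localization.AtPrime Q) :=
    (p.map (algebraMap A P)).map (algebraMap P (Localization.AtPrime Q)) with hIp
  set JQ : Ideal (Localization.AtPrime Q) := J.map (algebraMap P (Localization.AtPrime Q)) with hJQ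
  have hcomp : (e.toRingEquiv : Localization.AtPrime 𝔮 →+* Localization.AtPrime Q ⧸ JQ).comp
      ((algebraMap (P ⧸ J) (Localization.AtPrime 𝔮)).comp (algebraMap A (P ⧸ J))) =
      (Ideal.Quotient.mk JQ).comp ((algebraMap P (Localization.AtPrime Q)).comp
        (algebraMap A P)) := by
    ext a
    simp only [RingHom.comp_apply]
    change e (algebraMap (P ⧸ J) (Localization.AtPrime 𝔮) (algebraMap A (P ⧸ J) a)) = _
    rw [e.commutes]
    rfl
  have h12 : Ip.map (Ideal.Quotient.mk JQ) =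
      ((p.map (algebraMap A (P ⧸ J))).map (algebraMap (P ⧸ J) (Localization.AtPrime 𝔮))).map
        (e.toRingEquiv : Localization.AtPrime 𝔮 →+* Localization.AtPrime Q ⧸ JQ) := by
    rw [hIp, Ideal.map_map, Ideal.map_map, Ideal.map_map, Ideal.map_map, RingHom.comp_assoc,
      RingHom.comp_assoc, hcomp]
  let e1 : FibLoc A (P ⧸ J) p 𝔮 ≃+* (Localization.AtPrime Q ⧸ JQ) ⧸ Ip.map (Ideal.Quotient.mk JQ) :=
    Ideal.quotientEquiv _ _ e.toRingEquiv h12
  let e2 : (Localization.AtPrime Q ⧸ JQ) ⧸ Ip.map (Ideal.Quotient.mk JQ) ≃+*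
      (Localization.AtPrime Q ⧸ Ip) ⧸ JQ.map (Ideal.Quotient.mk Ip) :=
    DoubleQuot.quotQuotEquivComm JQ Ip
  have h3 : JQ.map (Ideal.Quotient.mk Ip) = J.map (algebraMap P (FibLoc A P p Q)) := by
    rw [hJQ, Ideal.map_map]
    rfl
  exact ⟨(e1.trans e2).trans (Ideal.quotEquivOfEq h3)⟩

end Iso

section Main

open Groth.Agent.Lib.helper17.GorRing

variable (A : Type u) [CommRing A] (n : ℕ) (J : Ideal (MvPolynomial (Fin n) A))
  [Module.Flat A (MvPolynomial (Fin n) A ⧸ J)] (p : Ideal A) [p.IsPrime]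

/-- the fibre local rings of a polynomial ring are Gorenstein. -/
theorem gor_fibLoc_mvPolynomial (Q : Ideal (MvPolynomial (Fin n) A)) [Q.IsPrime] [Q.LiesOver p] :
    LocCoh.IsGorensteinLocalRing (FibLoc A (MvPolynomial (Fin n) A) p Q) := by
  obtain ⟨q, hq, ⟨e⟩⟩ := exists_fibre_prime_equiv A (MvPolynomial (Fin n) A) p Q
  haveI := isGorensteinRing_of_field p.ResidueField
  haveI := isGorensteinRing_mvPolynomial_fin p.ResidueField n
  haveI : LocCoh.IsGorensteinRing (p.Fiber (MvPolynomial (Fin n) A)) :=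
    isGorensteinRing_of_ringEquiv
      (MvPolynomial.algebraTensorAlgEquiv A p.ResidueField (σ := Fin n)).symm.toRingEquiv
  exact isGorensteinLocalRing_of_ringEquiv e.symm
    (LocCoh.IsGorensteinRing.isGorensteinLocalRing_localization q)

theorem isGorensteinRing_fiber_of_koszulRegular (hJ : LCI.IsKoszulRegularIdeal J) :
    LocCoh.IsGorensteinRing (p.Fiber (MvPolynomial (Fin n) A ⧸ J)) := by
  haveI : Algebra.FiniteType A (MvPolynomial (Fin n) A ⧸ J) :=
    Algebra.FiniteType.of_surjective (Ideal.Quotient.mkₐ A J) Ideal.Quotient.mk_surjective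
  haveI : Algebra.FiniteType p.ResidueField (p.Fiber (MvPolynomial (Fin n) A ⧸ J)) :=
    inferInstance
  haveI : IsNoetherianRing (p.Fiber (MvPolynomial (Fin n) A ⧸ J)) :=
    Algebra.FiniteType.isNoetherianRing p.ResidueField
      (p.Fiber (MvPolynomial (Fin n) A ⧸ J))
  refine { isGorensteinLocalRing_localization := ?_ }
  intro r' hr'
  set 𝔮 : Ideal (MvPolynomial (Fin n) A ⧸ J) := r'.comap (Algebra.TensorProduct.includeRight :
    (MvPolynomial (Fin n) A ⧸ J) →ₐ[A] p.Fiber (MvPolynomial (Fin n) A ⧸ J)) with h𝔮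
  haveI h𝔮p : 𝔮.LiesOver p := by
    constructor
    rw [Ideal.over_def r' p, h𝔮, Ideal.under_def, Ideal.under_def]
    ext a
    simp only [Ideal.mem_comap]
    rw [AlgHom.commutes]
  let er' : Localization.AtPrime r' ≃+* FibLoc A (MvPolynomial (Fin n) A ⧸ J) p 𝔮 :=
    (Ideal.Fiber.algEquivAux₂ p r').toRingEquiv
  obtain ⟨e⟩ := nonempty_fibLoc_quotient_equiv A (MvPolynomial (Fin n) A) J p 𝔮
  set Q : Ideal (MvPolynomial (Fin n) A) := 𝔮.comap (Ideal.Quotient.mk J) with hQ
  have hJQ : J ≤ Q := by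
    intro x hx
    rw [hQ, Ideal.mem_comap, Ideal.Quotient.eq_zero_iff_mem.mpr hx]
    exact 𝔮.zero_mem
  obtain ⟨g, hg, l, hl, hJl⟩ := hJ ⟨Q, inferInstance⟩ hJQ
  have hT := gor_fibLoc_mvPolynomial A n p Q
  have h1 := gor_fibLoc_quotient A (MvPolynomial (Fin n) A) J p Q hJQ g hg l hl hJl hT
  exact isGorensteinLocalRing_of_ringEquiv (er'.trans e) h1

end Main

end Groth.Agent.Lib.helper17.LciFibre
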