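import Mathlib
import Groth.Prelude.Def_LCI2
import Groth.Agent.Lib.Helper17.H1Reg
import Groth.Agent.Lib.Helper17.LciCM
import Groth.Agent.Lib.Helper7.KoszulLow

/-!
# helper17: ingredients for `H¹(L_{A/k}) = 0` for generically smooth lci algebras over a field

* `mem_span_of_sum_mem_sq`: for an `H_1`-regular sequence `f` generating `J`,
  `∑ a_i f_i ∈ J²` forces all `a_i ∈ J` (freeness of `J/J²`).
* `ringKrullDim_eq_zero_of_socle`: a CM local ring with a nonzero element killed by the maximal
  ideal has dimension `0`.
* `exists_h1Regular_atPrime`: a Koszul-regular ideal is generated at each prime containing it by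
  a regular, `H_1`-regular sequence in the maximal ideal.
-/

set_option autoImplicit false
set_option linter.style.haveILetI false
universe u
open IsLocalRing RingTheory.Sequence

namespace Groth.Agent.Lib.helper17.LciH1

open Groth.Agent.Lib.helper17.H1Reg

section L1

variable {R : Type u} [CommRing R]

/-- every trivial relation has coordinates in the ideal. -/
theorem coord_mem_of_mem_B {c : ℕ} (f : Fin c → R) (v : Fin c → R)
    (hv : v ∈ Submodule.span R
      {v : Fin c → R | ∃ i j : Fin c, v = Pi.single i (f j) - Pi.single j (f i)}) (i : Fin c) :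
    v i ∈ Ideal.span (Set.range f) := by
  classical
  induction hv using Submodule.span_induction with
  | mem v hv =>
    obtain ⟨j, l, rfl⟩ := hv
    simp only [Pi.sub_apply, Pi.single_apply]
    refine Ideal.sub_mem _ ?_ ?_
    · split_ifs
      · exact Ideal.subset_span ⟨l, rfl⟩
      · exact Ideal.zero_mem _
    · split_ifs
      · exact Ideal.subset_span ⟨j, rfl⟩
      · exact Ideal.zero_mem _
  | zero => simp
  | add x y _ _ hx hy => exact Ideal.add_mem _ hx hy
  | smul a x _ hx => exact Ideal.mul_mem_left _ a hx

theorem mem_span_of_sum_mem_sq {c : ℕ} (f : Fin c → R) (h : CAlgX.IsH1Regular f)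
    (a : Fin c → R) (ha : ∑ i, a i * f i ∈ Ideal.span (Set.range f) ^ 2) (i : Fin c) :
    a i ∈ Ideal.span (Set.range f) := by
  classical
  set J := Ideal.span (Set.range f) with hJ
  have h1 : ∑ i, a i * f i ∈ J • (Submodule.span R (Set.range f)) := by
    rw [pow_two] at ha
    exact ha
  rw [Submodule.mem_ideal_smul_span_iff_exists_sum] at h1
  obtain ⟨b, hb, hsum⟩ := h1
  have hsum' : ∑ i, b i * f i = ∑ i, a i * f i := by
    rw [← hsum, Finsupp.sum_fintype]
    · simp [smul_eq_mul]
    · intro i; simp
  have hrel : ∑ i, (a i - b i) * f i = 0 := by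
    simp only [sub_mul, Finset.sum_sub_distrib, hsum', sub_self]
  have h2 := h (fun i => a i - b i) hrel
  have h3 := coord_mem_of_mem_B f _ h2 i
  have : a i = (a i - b i) + b i := by ring
  rw [this]
  exact Ideal.add_mem _ h3 (hb i)

end L1

section L2

variable (B : Type u) [CommRing B] [hB : LocCoh.IsCohenMacaulayLocalRing B]

theorem depth_eq_zero_of_socle (b : B) (hb : b ≠ 0)
    (h : ∀ t ∈ maximalIdeal B, t * b = 0) : LocCoh.depth B B = 0 := by
  unfold LocCoh.depth LocCoh.idealDepth
  have hne : ¬ (maximalIdeal B • (⊤ : Submodule B B) = ⊤) := by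
    rw [Ideal.smul_top_eq_map, Algebra.algebraMap_self, Ideal.map_id]
    intro htop
    have : (maximalIdeal B).restrictScalars B = ⊤ := htop
    exact (maximalIdeal.isMaximal B).ne_top (by simpa using this)
  rw [if_neg hne]
  apply le_antisymm _ zero_le
  refine iSup_le fun rs => iSup_le fun hrs => ?_
  obtain ⟨hreg, hmem⟩ := hrs
  cases rs with
  | nil => simp
  | cons r rs' =>
    exfalso
    have hr : r ∈ maximalIdeal B := hmem r (by simp)
    have h1 : IsSMulRegular B r := ((isWeaklyRegular_cons_iff B r rs').1 hreg).1
    have h2 : r • b = r • (0 : B) := by rw [smul_zero, smul_eq_mul]; exact h r hr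
    exact hb (h1 h2)

theorem ringKrullDim_eq_zero_of_socle (b : B) (hb : b ≠ 0)
    (h : ∀ t ∈ maximalIdeal B, t * b = 0) : ringKrullDim B = 0 := by
  have h1 := hB.supportDim_eq_depth
  rw [depth_eq_zero_of_socle B b hb h, Module.supportDim_self_eq_ringKrullDim] at h1
  simpa using h1

end L2

section L3

variable (R : Type u) [CommRing R] [IsNoetherianRing R] (I : Ideal R)
  (Q : Ideal R) [Q.IsPrime]

/-- A Koszul-regular ideal is generated, in the local ring at a prime containing it, by an
`H_1`-regular (hence regular) sequence in the maximal ideal. -/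
theorem exists_h1Regular_atPrime (hI : LCI.IsKoszulRegularIdeal I) (hIQ : I ≤ Q) :
    ∃ (c : ℕ) (f' : Fin c → Localization.AtPrime Q), CAlgX.IsH1Regular f' ∧
      I.map (algebraMap R (Localization.AtPrime Q)) = Ideal.span (Set.range f') ∧
      (∀ i, f' i ∈ maximalIdeal (Localization.AtPrime Q)) ∧
      IsRegular (Localization.AtPrime Q) (List.ofFn f') := by
  obtain ⟨g, hg, l, hl, hIl⟩ := hI ⟨Q, inferInstance⟩ hIQ
  have hg : g ∉ Q := hg
  have hgu : IsUnit (algebraMap R (Localization.AtPrime Q) g) :=
    IsLocalization.map_units (Localization.AtPrime Q) (⟨g, hg⟩ : Q.primeCompl)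
  let φ : Localization.Away g →+* Localization.AtPrime Q := IsLocalization.Away.lift g hgu
  letI : Algebra (Localization.Away g) (Localization.AtPrime Q) := φ.toAlgebra
  haveI : IsScalarTower R (Localization.Away g) (Localization.AtPrime Q) :=
    IsScalarTower.of_algebraMap_eq (fun x => (IsLocalization.Away.lift_eq g hgu x).symm)
  haveI hloc : IsLocalization (Q.primeCompl.map (algebraMap R (Localization.Away g)))
      (Localization.AtPrime Q) :=
    IsLocalization.isLocalization_of_submonoid_le (Localization.Away g) (Localization.AtPrime Q)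
      (Submonoid.powers g) Q.primeCompl (Submonoid.powers_le.mpr hg)
  have h1 := Groth.Agent.Lib.helper7.KoszulLow.isH1Regular_of_isKoszulRegularSeq _ l hl
  have h2 := isH1Regular_localization (S := Localization.AtPrime Q)
    (Q.primeCompl.map (algebraMap R (Localization.Away g))) l.get h1
  set f' : Fin l.length → Localization.AtPrime Q :=
    fun i => algebraMap (Localization.Away g) (Localization.AtPrime Q) (l.get i) with hf'
  have hI : I.map (algebraMap R (Localization.AtPrime Q)) = Ideal.span (Set.range f') := by
    rw [IsScalarTower.algebraMap_eq R (Localization.Away g) (Localization.AtPrime Q),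
      ← Ideal.map_map, hIl, Ideal.map_span]
    congr 1
    ext y
    constructor
    · rintro ⟨x, hx, rfl⟩
      obtain ⟨i, rfl⟩ := List.mem_iff_get.mp hx
      exact ⟨i, rfl⟩
    · rintro ⟨i, rfl⟩
      exact ⟨l.get i, List.get_mem l i, rfl⟩
  have hmem : ∀ i, f' i ∈ maximalIdeal (Localization.AtPrime Q) := by
    intro i
    have h3 : f' i ∈ I.map (algebraMap R (Localization.AtPrime Q)) := by
      rw [hI]; exact Ideal.subset_span ⟨i, rfl⟩
    rw [← Localization.AtPrime.map_eq_maximalIdeal]
    exact Ideal.map_mono hIQ h3
  haveI : IsNoetherianRing (Localization.AtPrime Q) :=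
    IsLocalization.isNoetherianRing Q.primeCompl _ inferInstance
  exact ⟨l.length, f', h2, hI, hmem, isRegular_of_isH1Regular f' hmem h2⟩

end L3

end Groth.Agent.Lib.helper17.LciH1
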