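import Mathlib
import Groth.Agent.Lib.Helper17.LciH1a

/-!
# helper17: associated primes of the conormal module of a Koszul-regular ideal in a CM ring

* `mem_minimalPrimes_of_socle`: `P` a CM ring, `I` Koszul-regular, `𝔮 ⊇ I` prime, `x ∈ I` whose
  class in `I/I²` has annihilator exactly `𝔮` (in `P`-terms): then `𝔮` is minimal over `I`.
-/

set_option autoImplicit false
set_option linter.style.haveILetI false
universe u
open IsLocalRing RingTheory.Sequence

namespace Groth.Agent.Lib.helper17.LciH1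

open Groth.Agent.Lib.helper17.H1Reg

variable (P : Type u) [CommRing P] [hP : LocCoh.IsCohenMacaulayRing P] (I : Ideal P)
  (𝔮 : Ideal P) [h𝔮 : 𝔮.IsPrime]

theorem mem_minimalPrimes_of_socle (hI : LCI.IsKoszulRegularIdeal I) (hI𝔮 : I ≤ 𝔮)
    (x : P) (hx : x ∈ I) (h1 : ∀ t ∈ 𝔮, t * x ∈ I ^ 2) (h2 : ∀ s, s ∉ 𝔮 → s * x ∉ I ^ 2) :
    𝔮 ∈ I.minimalPrimes := by
  classical
  haveI : IsNoetherianRing P := inferInstance
  set R := Localization.AtPrime 𝔮 with hR
  obtain ⟨c, f', hH1, hJ, hmem, hreg⟩ := exists_h1Regular_atPrime P I 𝔮 hI hI𝔮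
  haveI hRCM : LocCoh.IsCohenMacaulayLocalRing R :=
    LocCoh.IsCohenMacaulayRing.isCohenMacaulayLocalRing_localization 𝔮
  set J : Ideal R := Ideal.ofList (List.ofFn f') with hJdef
  have hJ' : I.map (algebraMap P R) = J := by rw [hJ, hJdef, ofList_ofFn]
  have hJspan : J = Ideal.span (Set.range f') := by rw [hJdef, ofList_ofFn]
  have hsq : (I ^ 2).map (algebraMap P R) = J ^ 2 := by rw [Ideal.map_pow, hJ']
  -- expansion of `x`
  have hxJ : algebraMap P R x ∈ Ideal.span (Set.range f') := by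
    rw [← hJ]; exact Ideal.mem_map_of_mem _ hx
  obtain ⟨a, ha⟩ := Ideal.mem_span_range_iff_exists_fun.1 hxJ
  -- Claim A
  have hA : ∃ i, a i ∉ J := by
    by_contra hcon
    push Not at hcon
    have h3 : algebraMap P R x ∈ J ^ 2 := by
      rw [← ha, pow_two]
      refine Ideal.sum_mem _ fun i _ => Ideal.mul_mem_mul (hcon i) ?_
      rw [hJspan]; exact Ideal.subset_span ⟨i, rfl⟩
    rw [← hsq, IsLocalization.algebraMap_mem_map_algebraMap_iff 𝔮.primeCompl] at h3
    obtain ⟨m, hm, hmx⟩ := h3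
    exact h2 m hm hmx
  obtain ⟨i, hi⟩ := hA
  -- Claim B
  have hB : ∀ t ∈ 𝔮, algebraMap P R t * a i ∈ J := by
    intro t ht
    have h3 : ∑ j, (algebraMap P R t * a j) * f' j ∈ Ideal.span (Set.range f') ^ 2 := by
      have : ∑ j, (algebraMap P R t * a j) * f' j = algebraMap P R (t * x) := by
        rw [map_mul, ← ha, Finset.mul_sum]
        refine Finset.sum_congr rfl fun j _ => by ring
      rw [this, ← hJspan, ← hsq]
      exact Ideal.mem_map_of_mem _ (h1 t ht)
    rw [hJspan]
    exact mem_span_of_sum_mem_sq f' hH1 _ h3 i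
  -- the quotient
  haveI hBCM : LocCoh.IsCohenMacaulayLocalRing (R ⧸ J) :=
    Groth.Agent.Lib.helper17.LciCM.cm_quot_ofList R (List.ofFn f')
      (fun r hr => by
        obtain ⟨j, rfl⟩ := (List.mem_ofFn' f' r).1 hr
        exact hmem j) hreg.toIsWeaklyRegular
  have hmax : maximalIdeal R ≤ (J : Submodule R R).colon {a i} := by
    rw [← Localization.AtPrime.map_eq_maximalIdeal, Ideal.map_le_iff_le_comap]
    intro t ht
    rw [Ideal.mem_comap, Submodule.mem_colon_singleton]
    exact hB t ht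
  have hdim : ringKrullDim (R ⧸ J) = 0 := by
    refine ringKrullDim_eq_zero_of_socle (R ⧸ J) (Ideal.Quotient.mk J (a i)) ?_ ?_
    · rwa [Ne, Ideal.Quotient.eq_zero_iff_mem]
    · intro u hu
      obtain ⟨u', rfl⟩ := Ideal.Quotient.mk_surjective u
      have hu' : u' ∈ maximalIdeal R := by
        by_contra hcon
        have : IsUnit u' := by
          rwa [mem_maximalIdeal, mem_nonunits_iff, not_not] at hcon
        exact hu (this.map (Ideal.Quotient.mk J))
      have := hmax hu'
      rw [Submodule.mem_colon_singleton] at this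
      rw [← map_mul, Ideal.Quotient.eq_zero_iff_mem]
      exact this
  haveI : Ring.KrullDimLE 0 (R ⧸ J) := by
    rw [Ring.krullDimLE_iff, hdim]; rfl
  refine ⟨⟨h𝔮, hI𝔮⟩, ?_⟩
  rintro 𝔮' ⟨h𝔮', hI𝔮'⟩ hle
  have hdisj : Disjoint (𝔮.primeCompl : Set P) (𝔮' : Set P) := by
    rw [Set.disjoint_left]
    intro y hy hy'
    exact hy (hle hy')
  have hQ'prime : (𝔮'.map (algebraMap P R)).IsPrime :=
    IsLocalization.isPrime_of_isPrime_disjoint 𝔮.primeCompl R 𝔮' h𝔮' hdisj
  have hcomap : (𝔮'.map (algebraMap P R)).comap (algebraMap P R) = 𝔮' :=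
    IsLocalization.under_map_of_isPrime_disjoint 𝔮.primeCompl R h𝔮' hdisj
  set Q' := 𝔮'.map (algebraMap P R) with hQ'
  have hJQ' : J ≤ Q' := by rw [← hJ']; exact Ideal.map_mono hI𝔮'
  have hQ''prime : (Q'.map (Ideal.Quotient.mk J)).IsPrime :=
    Ideal.map_isPrime_of_surjective Ideal.Quotient.mk_surjective (by rwa [Ideal.mk_ker])
  have hQ''max : (Q'.map (Ideal.Quotient.mk J)).IsMaximal := hQ''prime.isMaximal'
  have hQ''eq : Q'.map (Ideal.Quotient.mk J) = maximalIdeal (R ⧸ J) :=
    eq_maximalIdeal hQ''max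
  have hmQ' : maximalIdeal R ≤ Q' := by
    intro u hu
    have h3 : Ideal.Quotient.mk J u ∈ maximalIdeal (R ⧸ J) := by
      rw [mem_maximalIdeal, mem_nonunits_iff]
      intro hunit
      have hloc : IsLocalHom (Ideal.Quotient.mk J) :=
        IsLocalHom.of_surjective _ Ideal.Quotient.mk_surjective
      have := hloc.map_nonunit u hunit
      exact hu this
    rw [← hQ''eq, Ideal.mem_map_iff_of_surjective _ Ideal.Quotient.mk_surjective] at h3
    obtain ⟨q, hq, hqu⟩ := h3
    have h4 : q - u ∈ J := by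
      rw [← Ideal.Quotient.eq_zero_iff_mem, map_sub, hqu, sub_self]
    have : u = q - (q - u) := by ring
    rw [this]
    exact Ideal.sub_mem _ hq (hJQ' h4)
  calc 𝔮 = (maximalIdeal R).comap (algebraMap P R) :=
        (Localization.AtPrime.under_maximalIdeal (I := 𝔮)).symm
    _ ≤ Q'.comap (algebraMap P R) := Ideal.comap_mono hmQ'
    _ = 𝔮' := hcomap

end Groth.Agent.Lib.helper17.LciH1
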