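import Mathlib
import Groth.Agent.Lib.Helper17.LciH1b

/-!
# helper17: `H¹(L_{A/k}) = 0` from a CM formally smooth extension with Koszul-regular kernel

* `subsingleton_h1Cotangent_of_extension`: `A` Noetherian `k`-algebra, `E : P → A` an extension with
  `P` a formally smooth CM ring and Koszul-regular kernel; if `A_𝔭` is formally smooth over `k`
  for all minimal primes `𝔭`, then `H¹(L_{A/k}) = 0`.
-/

set_option autoImplicit false
set_option linter.style.haveILetI false
universe u
open IsLocalRing RingTheory.Sequence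

namespace Groth.Agent.Lib.helper17.LciH1

theorem subsingleton_h1Cotangent_of_extension {k A : Type u} [CommRing k] [CommRing A]
    [Algebra k A] [IsNoetherianRing A] (E : Algebra.Extension.{u} k A)
    [hPCM : LocCoh.IsCohenMacaulayRing E.Ring] [Algebra.FormallySmooth k E.Ring]
    (hK : LCI.IsKoszulRegularIdeal E.ker)
    (hgs : ∀ (p : Ideal A) [p.IsPrime], p ∈ minimalPrimes A →
      Algebra.FormallySmooth k (Localization.AtPrime p)) :
    Subsingleton (Algebra.H1Cotangent k A) := by
  classical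
  rw [← E.cotangentComplex_injective_iff, ← E.subsingleton_h1Cotangent]
  by_contra hns
  rw [not_subsingleton_iff_nontrivial] at hns
  obtain ⟨𝔭, h𝔭⟩ := associatedPrimes.nonempty A E.H1Cotangent
  rw [AssociatedPrimes.mem_iff, isAssociatedPrime_iff] at h𝔭
  obtain ⟨h𝔭prime, x, h𝔭x⟩ := h𝔭
  have hmem : ∀ r : A, r ∈ 𝔭 ↔ r • x = 0 := by
    intro r
    rw [h𝔭x, Submodule.mem_colon_singleton, Submodule.mem_bot]
  obtain ⟨xt, hxt⟩ := Algebra.Extension.Cotangent.mk_surjective x.1
  have hkey : ∀ t : E.Ring, algebraMap E.Ring A t ∈ 𝔭 ↔ t * xt.1 ∈ E.ker ^ 2 := by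
    intro t
    have h0 : algebraMap E.Ring A t • x = 0 ↔ t • x.1 = 0 := by
      constructor
      · intro h
        have : (algebraMap E.Ring A t • x).1 = 0 := by rw [h]; rfl
        rw [← algebraMap_smul A t x.1]
        exact this
      · intro h
        apply Subtype.ext
        rw [← algebraMap_smul A t x.1] at h
        exact h
    rw [hmem, h0, ← hxt, ← map_smul, Algebra.Extension.Cotangent.mk_eq_zero_iff]
    rfl
  -- Claim 1
  have hmin : 𝔭 ∈ minimalPrimes A := by
    set 𝔮 : Ideal E.Ring := 𝔭.comap (algebraMap E.Ring A) with h𝔮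
    haveI : 𝔮.IsPrime := Ideal.comap_isPrime _ _
    have hI𝔮 : E.ker ≤ 𝔮 := by
      intro y hy
      rw [h𝔮, Ideal.mem_comap]
      have : algebraMap E.Ring A y = 0 := hy
      rw [this]; exact 𝔭.zero_mem
    have h1 := Groth.Agent.Lib.helper17.LciH1.mem_minimalPrimes_of_socle
      E.Ring E.ker 𝔮 hK hI𝔮 xt.1 xt.2
      (fun t ht => (hkey t).1 ht) (fun s hs hs' => hs ((hkey s).2 hs'))
    have hsurj : Function.Surjective (algebraMap E.Ring A) := E.algebraMap_surjective
    have h2 : E.ker = (⊥ : Ideal A).comap (algebraMap E.Ring A) := rfl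
    rw [h2, Ideal.comap_minimalPrimes_eq_of_surjective hsurj] at h1
    obtain ⟨𝔭', h𝔭', h𝔭'eq⟩ := h1
    have : 𝔭' = 𝔭 := Ideal.comap_injective_of_surjective _ hsurj h𝔭'eq
    rw [← this]
    exact h𝔭'
  -- Claim 2
  haveI := hgs 𝔭 hmin
  let T := Localization.AtPrime 𝔭
  let e1 := Algebra.tensorH1CotangentOfIsLocalization k T 𝔭.primeCompl
  let e2 := E.equivH1CotangentOfFormallySmooth
  have h3 : TensorProduct.mk A T (Algebra.H1Cotangent k A) 1 (e2 x) = 0 :=
    e1.injective (Subsingleton.elim _ _)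
  rw [IsLocalizedModule.eq_zero_iff 𝔭.primeCompl] at h3
  obtain ⟨s, hs⟩ := h3
  have h4 : (s : A) • x = 0 := by
    apply e2.injective
    rw [map_smul, map_zero]
    exact hs
  exact s.2 ((hmem _).2 h4)

end Groth.Agent.Lib.helper17.LciH1
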