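import Groth.Agent.Lib.Helper17.SchlB
import Groth.Agent.S12722
import Groth.Agent.LibCR29g
import Groth.Agent.S12714
import Mathlib

/-!
# Minimal smooth covers of Artinian objects (complete local base with residue field `k`)
-/

set_option autoImplicit false
universe u v

namespace Groth.Agent.Lib.helper17.MinCover

open CategoryTheory ArtFun IsLocalRing
open Groth.Agent.LibCR29 Groth.Agent.LibPS29 Groth.Agent.Lib.helper17.Schl

variable {Λ : Type u} {k : Type u} [CommRing Λ] [Field k] [Algebra Λ k]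

/-- the base ring as a coefficient ring -/
noncomputable def baseCRing [IsLocalRing Λ] [IsNoetherianRing Λ]
    [IsAdicComplete (maximalIdeal Λ) Λ] (hk : Function.Surjective (algebraMap Λ k)) : CRing Λ k :=
  { carrier := Λ
    res := Algebra.ofId Λ k
    res_surjective := hk
    isAdicComplete := inferInstance }

theorem ker_algebraMap_eq [IsLocalRing Λ] (hk : Function.Surjective (algebraMap Λ k)) :
    RingHom.ker (algebraMap Λ k) = maximalIdeal Λ :=
  IsLocalRing.eq_maximalIdeal (RingHom.ker_isMaximal_of_surjective (algebraMap Λ k) hk)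

theorem map_maxΛ_le [IsLocalRing Λ] (hk : Function.Surjective (algebraMap Λ k)) (R : Art Λ k) :
    (maximalIdeal Λ).map (algebraMap Λ R) ≤ maximalIdeal R := by
  rw [Ideal.map_le_iff_le_comap]
  intro l hl
  rw [Ideal.mem_comap, Art.mem_maximalIdeal_iff, AlgHom.commutes]
  rw [← ker_algebraMap_eq hk] at hl
  exact hl

theorem T_le [IsLocalRing Λ] (hk : Function.Surjective (algebraMap Λ k)) (R : Art Λ k) :
    maximalIdeal R ^ 2 ⊔ (maximalIdeal Λ).map (algebraMap Λ R) ≤ maximalIdeal R :=
  sup_le (Ideal.pow_le_self two_ne_zero) (map_maxΛ_le hk R)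

theorem drop_gen [IsLocalRing Λ] (hk : Function.Surjective (algebraMap Λ k)) (R : Art Λ k)
    (n : ℕ) (r : Fin (n + 1) → R) (hr : ∀ i, r i ∈ maximalIdeal R)
    (hspan : Ideal.span (Set.range r) ⊔
      (maximalIdeal R ^ 2 ⊔ (maximalIdeal Λ).map (algebraMap Λ R)) = maximalIdeal R)
    (c : Fin (n + 1) → Λ)
    (hc : ∑ i, c i • r i ∈ maximalIdeal R ^ 2 ⊔ (maximalIdeal Λ).map (algebraMap Λ R))
    (j : Fin (n + 1)) (hj : IsUnit (c j)) :
    ∃ r' : Fin n → R, (∀ i, r' i ∈ maximalIdeal R) ∧ Ideal.span (Set.range r') ⊔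
      (maximalIdeal R ^ 2 ⊔ (maximalIdeal Λ).map (algebraMap Λ R)) = maximalIdeal R := by
  set T := maximalIdeal R ^ 2 ⊔ (maximalIdeal Λ).map (algebraMap Λ R) with hT
  refine ⟨fun i => r (j.succAbove i), fun i => hr _, ?_⟩
  apply le_antisymm
  · refine sup_le (Ideal.span_le.2 ?_) (T_le hk R)
    rintro _ ⟨i, rfl⟩
    exact hr _
  · conv_lhs => rw [← hspan]
    refine sup_le (Ideal.span_le.2 ?_) le_sup_right
    rintro _ ⟨i, rfl⟩
    by_cases hij : i = j
    · subst hij
      have h1 : c i • r i = ∑ i', c i' • r i' - ∑ i', c (i.succAbove i') • r (i.succAbove i') := by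
        rw [Fin.sum_univ_succAbove _ i]; ring
      have h2 : c i • r i ∈ Ideal.span (Set.range fun i' => r (i.succAbove i')) ⊔ T := by
        rw [h1]
        refine Ideal.sub_mem _ (Ideal.mem_sup_right hc) (Ideal.mem_sup_left ?_)
        refine Ideal.sum_mem _ fun i' _ => ?_
        rw [Algebra.smul_def]
        exact Ideal.mul_mem_left _ _ (Ideal.subset_span ⟨i', rfl⟩)
      obtain ⟨u, hu⟩ := hj
      have h3 : r i = algebraMap Λ R (↑u⁻¹ : Λ) * (c i • r i) := by
        rw [Algebra.smul_def, ← mul_assoc, ← map_mul, ← hu, Units.inv_mul, map_one, one_mul]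
      rw [SetLike.mem_coe, h3]
      exact Ideal.mul_mem_left _ _ h2
    · obtain ⟨i', rfl⟩ := Fin.exists_succAbove_eq hij
      exact Ideal.mem_sup_left (Ideal.subset_span ⟨i', rfl⟩)

theorem exists_min_gens [IsLocalRing Λ] (hk : Function.Surjective (algebraMap Λ k))
    (R : Art Λ k) :
    ∃ (n : ℕ) (r : Fin n → R), (∀ i, r i ∈ maximalIdeal R) ∧
      Ideal.span (Set.range r) ⊔
        (maximalIdeal R ^ 2 ⊔ (maximalIdeal Λ).map (algebraMap Λ R)) = maximalIdeal R ∧
      ∀ c : Fin n → Λ,
        ∑ i, c i • r i ∈ maximalIdeal R ^ 2 ⊔ (maximalIdeal Λ).map (algebraMap Λ R) →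
        ∀ i, c i ∈ maximalIdeal Λ := by
  classical
  let P : ℕ → Prop := fun n => ∃ r : Fin n → R, (∀ i, r i ∈ maximalIdeal R) ∧
    Ideal.span (Set.range r) ⊔
      (maximalIdeal R ^ 2 ⊔ (maximalIdeal Λ).map (algebraMap Λ R)) = maximalIdeal R
  have hP : ∃ n, P n := by
    have hfg : (maximalIdeal R).FG := (isNoetherianRing_iff_ideal_fg R).1 inferInstance _
    obtain ⟨n, a, ha⟩ := Submodule.fg_iff_exists_fin_generating_family.1 hfg
    refine ⟨n, a, fun i => ?_, ?_⟩
    · rw [← ha]; exact Submodule.subset_span ⟨i, rfl⟩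
    · have ha' : Ideal.span (Set.range a) = maximalIdeal R := ha
      rw [ha']
      exact sup_eq_left.2 (T_le hk R)
  obtain ⟨n, hn, hmin⟩ := Nat.lt_wfRel.wf.has_min {n | P n} hP
  obtain ⟨r, hr, hspan⟩ := hn
  refine ⟨n, r, hr, hspan, ?_⟩
  intro c hc j
  by_contra hcj
  have hu : IsUnit (c j) := by
    by_contra hnu
    exact hcj ((IsLocalRing.mem_maximalIdeal _).2 hnu)
  cases n with
  | zero => exact Fin.elim0 j
  | succ m =>
    have := drop_gen hk R m r hr hspan c hc j hu
    exact hmin m this (Nat.lt_succ_self m)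

theorem homSet_mem_max' {S : CRing Λ k} {C : Art Λ k} (γ : HomSet S.carrier S.res C)
    (s : S.carrier) : γ.1 s ∈ maximalIdeal C ↔ s ∈ maximalIdeal S.carrier := by
  rw [Art.mem_maximalIdeal_iff, ArtFun.CRing.mem_maximalIdeal_iff]
  have := congrArg (fun f : S.carrier →ₐ[Λ] k => f s) γ.2
  change C.res (γ.1 s) = S.res s at this
  rw [this]

/-- a minimal smooth cover: a power series ring over `Λ` mapping onto `R` with kernel inside
`𝔪² + 𝔪_Λ`. -/
theorem exists_minimal_cover [IsLocalRing Λ] [IsNoetherianRing Λ]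
    [IsAdicComplete (maximalIdeal Λ) Λ] [Module.Finite Λ k]
    (hk : Function.Surjective (algebraMap Λ k)) (R : Art Λ k) :
    ∃ (S : CRing Λ k) (π : HomSet S.carrier S.res R),
      IsSmoothFunctor (hR S.carrier S.res) ∧ Function.Surjective π.1 ∧
      RingHom.ker π.1 ≤
        maximalIdeal S.carrier ^ 2 ⊔ (maximalIdeal Λ).map (algebraMap Λ S.carrier) := by
  classical
  obtain ⟨n, r, hr, hspan, hind⟩ := exists_min_gens hk R
  obtain ⟨G, hG⟩ : ∃ G : MvPowerSeries (Fin n) Λ →ₐ[Λ] R.carrier,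
      ∀ i, G (MvPowerSeries.X i) = r i := exists_ps_algHom (toCRing R) n r hr
  have hCalg : ∀ l : Λ, (MvPowerSeries.C l : MvPowerSeries (Fin n) Λ) =
      algebraMap Λ (MvPowerSeries (Fin n) Λ) l := by
    intro l
    rw [MvPowerSeries.algebraMap_apply]; rfl
  have hGC : ∀ l : Λ, G (MvPowerSeries.C l) = algebraMap Λ R l := by
    intro l
    rw [hCalg]
    exact G.commutes l
  have hspanX : ∀ f ∈ Ideal.span (Set.range
      (MvPowerSeries.X : Fin n → MvPowerSeries (Fin n) Λ)), G f ∈ Ideal.span (Set.range r) := by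
    intro f hf
    have h1 : G.toRingHom f ∈ (Ideal.span (Set.range
      (MvPowerSeries.X : Fin n → MvPowerSeries (Fin n) Λ))).map G.toRingHom :=
      Ideal.mem_map_of_mem _ hf
    rw [Ideal.map_span] at h1
    refine (Ideal.span_le.2 ?_) h1
    rintro _ ⟨_, ⟨i, rfl⟩, rfl⟩
    exact Ideal.subset_span ⟨i, (hG i).symm⟩
  have hspan_le : Ideal.span (Set.range r) ≤ maximalIdeal R := by
    refine Ideal.span_le.2 ?_
    rintro _ ⟨i, rfl⟩; exact hr i
  have hresf : ∀ f : MvPowerSeries (Fin n) Λ,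
      R.res (G f) = algebraMap Λ k (MvPowerSeries.constantCoeff f) := by
    intro f
    have h1 : f = MvPowerSeries.C (MvPowerSeries.constantCoeff f) +
        (f - MvPowerSeries.C (MvPowerSeries.constantCoeff f)) := by ring
    have h2 := (Art.mem_maximalIdeal_iff R _).1 (hspan_le (hspanX _ (sub_C_mem_span_X f)))
    conv_lhs => rw [h1]
    rw [map_add, map_add, h2, add_zero, hGC, AlgHom.commutes]
  let S : CRing Λ k := psCRing (baseCRing hk) n
  have hres : R.res.comp (show S.carrier →ₐ[Λ] R.carrier from G) = S.res := by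
    apply AlgHom.ext
    intro f
    exact hresf f
  let π : HomSet S.carrier S.res R := ⟨G, hres⟩
  have hXm : ∀ i, (MvPowerSeries.X i : MvPowerSeries (Fin n) Λ) ∈
      maximalIdeal (MvPowerSeries (Fin n) Λ) := fun i => X_mem_maximalIdeal_ps i
  have hmapm : Ideal.map G (maximalIdeal (MvPowerSeries (Fin n) Λ)) ≤ maximalIdeal R.carrier :=
    Groth.Agent.S12714.map_le_maximalIdeal S (toCRing R) G hres
  have hsurj : Function.Surjective G := by
    refine ((Groth.Agent.S12714.result S (toCRing R) G hres).out 0 2).2 ?_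
    rw [ker_algebraMap_eq hk]
    apply le_antisymm
    · exact sup_le (sup_le (map_maxΛ_le hk R) hmapm) (Ideal.pow_le_self two_ne_zero)
    · change maximalIdeal R.carrier ≤ Ideal.map (algebraMap Λ R.carrier) (maximalIdeal Λ) ⊔
        Ideal.map G (maximalIdeal (MvPowerSeries (Fin n) Λ)) ⊔ maximalIdeal R.carrier ^ 2
      conv_lhs => rw [← hspan]
      refine sup_le ?_ (sup_le le_sup_right (le_sup_of_le_left le_sup_left))
      refine le_sup_of_le_left (le_sup_of_le_right ?_)
      refine Ideal.span_le.2 ?_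
      rintro _ ⟨i, rfl⟩
      rw [← hG i]
      exact Ideal.mem_map_of_mem _ (hXm i)
  have hsm : IsSmoothFunctor (hR S.carrier S.res) :=
    (Groth.Agent.S12722.result hk S).2 ⟨n, ⟨AlgEquiv.refl⟩⟩
  -- the kernel lies in `𝔪² + 𝔪_Λ`
  have hker : ∀ s : MvPowerSeries (Fin n) Λ, G s = 0 →
      s ∈ maximalIdeal (MvPowerSeries (Fin n) Λ) ^ 2 ⊔
        (maximalIdeal Λ).map (algebraMap Λ (MvPowerSeries (Fin n) Λ)) := by
    intro s hs0
    have hsm' : s ∈ maximalIdeal (MvPowerSeries (Fin n) Λ) := by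
      have h1 : π.1 s ∈ maximalIdeal R := by
        rw [show π.1 s = G s from rfl, hs0]
        exact Ideal.zero_mem _
      exact (homSet_mem_max' π s).1 h1
    rw [maximalIdeal_ps] at hsm'
    obtain ⟨a, ha, b, hb, hab⟩ := Submodule.mem_sup.1 hsm'
    obtain ⟨g, hg⟩ := Ideal.mem_span_range_iff_exists_fun.1 hb
    set lam : Fin n → Λ := fun i => MvPowerSeries.constantCoeff (g i) with hlam
    have hXle : Ideal.span (Set.range
        (MvPowerSeries.X : Fin n → MvPowerSeries (Fin n) Λ)) ≤
        maximalIdeal (MvPowerSeries (Fin n) Λ) := by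
      refine Ideal.span_le.2 ?_
      rintro _ ⟨j, rfl⟩; exact hXm j
    have hsq : ∀ i, (g i - MvPowerSeries.C (lam i)) * MvPowerSeries.X i ∈
        maximalIdeal (MvPowerSeries (Fin n) Λ) ^ 2 := by
      intro i
      rw [pow_two]
      exact Ideal.mul_mem_mul (hXle (sub_C_mem_span_X (g i))) (hXm i)
    have haT : a ∈ (maximalIdeal Λ).map (algebraMap Λ (MvPowerSeries (Fin n) Λ)) := by
      have : (maximalIdeal Λ).map (MvPowerSeries.C : Λ →+* MvPowerSeries (Fin n) Λ) ≤
          (maximalIdeal Λ).map (algebraMap Λ (MvPowerSeries (Fin n) Λ)) := by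
        refine Ideal.map_le_iff_le_comap.2 ?_
        intro l hl
        rw [Ideal.mem_comap, hCalg]
        exact Ideal.mem_map_of_mem _ hl
      exact this ha
    set e : MvPowerSeries (Fin n) Λ :=
      ∑ i, (g i - MvPowerSeries.C (lam i)) * MvPowerSeries.X i with he
    have heq : s = a + ∑ i, MvPowerSeries.C (lam i) * MvPowerSeries.X i + e := by
      rw [← hab, ← hg, he, add_assoc, ← Finset.sum_add_distrib]
      congr 1
      apply Finset.sum_congr rfl
      intro i _
      ring
    have he2 : e ∈ maximalIdeal (MvPowerSeries (Fin n) Λ) ^ 2 :=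
      Ideal.sum_mem _ fun i _ => hsq i
    have hGa : G a ∈ (maximalIdeal Λ).map (algebraMap Λ R) := by
      have h1 : G.toRingHom a ∈
          ((maximalIdeal Λ).map (algebraMap Λ (MvPowerSeries (Fin n) Λ))).map G.toRingHom :=
        Ideal.mem_map_of_mem _ haT
      rw [Ideal.map_map] at h1
      have h2 : G.toRingHom.comp (algebraMap Λ (MvPowerSeries (Fin n) Λ)) = algebraMap Λ R := by
        ext l; exact G.commutes l
      rw [h2] at h1
      exact h1
    have hGe : G e ∈ maximalIdeal R ^ 2 := by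
      have h1 : G.toRingHom e ∈ (maximalIdeal (MvPowerSeries (Fin n) Λ) ^ 2).map G.toRingHom :=
        Ideal.mem_map_of_mem _ he2
      rw [Ideal.map_pow] at h1
      exact Ideal.pow_right_mono hmapm 2 h1
    have hsum : ∑ i, lam i • r i ∈
        maximalIdeal R ^ 2 ⊔ (maximalIdeal Λ).map (algebraMap Λ R) := by
      have h1 : G s = G a + ∑ i, lam i • r i + G e := by
        rw [heq, map_add, map_add, map_sum]
        congr 2
        apply Finset.sum_congr rfl
        intro i _
        rw [map_mul, hGC, hG, Algebra.smul_def]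
      rw [hs0] at h1
      have h2 : ∑ i, lam i • r i = -(G a) - G e := by
        have := h1.symm
        linear_combination this
      rw [h2]
      exact Ideal.sub_mem _ ((Ideal.neg_mem_iff _).2 (Ideal.mem_sup_right hGa))
        (Ideal.mem_sup_left hGe)
    have hlamm := hind lam hsum
    rw [heq]
    refine Ideal.add_mem _ (Ideal.add_mem _ (Ideal.mem_sup_right haT) ?_) (Ideal.mem_sup_left he2)
    refine Ideal.sum_mem _ fun i _ => ?_
    refine Ideal.mem_sup_right (Ideal.mul_mem_right _ _ ?_)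
    rw [hCalg]
    exact Ideal.mem_map_of_mem _ (hlamm i)
  exact ⟨S, π, hsm, hsurj, fun s hs => hker s hs⟩

end Groth.Agent.Lib.helper17.MinCover
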