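import Mathlib
import Groth.Prelude.Def_Curv2
import Groth.Prelude.Def_Brnch
import Groth.Agent.S9236
import Groth.Agent.S7655
import Groth.Agent.Lib.Helper16.IntegralFree1
import Groth.Agent.Lib.Helper17.DeltaBC

/-!
# Wedges of discrete valuation rings (helper17)

* `card_le_length_add_one`: for a local ring `A`, an `A`-algebra `B` and finitely many distinct
  maximal ideals of `B` over `m_A`, their number is at most `length (B/A) + 1`; in case of equality
  all residue fields are `A/m_A` and `A` contains every element of `B` that is congruent to an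
  element of `A` modulo all of them.
* `subsingleton_emb`, `numGeomBranches_le_card`: over a separably closed residue field, geometric
  branches are counted by maximal ideals of the normalization.
* `isDVR_of_normal_dim_le_one`, `isDVR_atPrime_integralClosure`.
-/

set_option autoImplicit false
set_option linter.style.haveILetI false
universe u

namespace Groth.Agent.Lib.helper17.Wedge

open IsLocalRing

/-- a surjection of modules of the same finite length is injective. -/
theorem injective_of_surjective_of_length_le {R M P : Type*} [Ring R] [AddCommGroup M]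
    [Module R M] [AddCommGroup P] [Module R P] (g : M →ₗ[R] P) (hg : Function.Surjective g)
    (hfin : Module.length R M ≠ ⊤) (hle : Module.length R M ≤ Module.length R P) :
    Function.Injective g := by
  have h1 := Module.length_eq_add_of_exact (LinearMap.ker g).subtype g
    (Submodule.subtype_injective _) hg (LinearMap.exact_subtype_ker_map g)
  have hPfin : Module.length R P ≠ ⊤ := fun h => hfin (by rw [h1, h, add_top])
  have h2 : Module.length R (LinearMap.ker g) = 0 := by
    have h3 : Module.length R (LinearMap.ker g) + Module.length R P ≤ 0 + Module.length R P := by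
      rw [← h1, zero_add]; exact hle
    have := (ENat.add_le_add_iff_right hPfin).1 h3
    exact le_antisymm this zero_le
  rw [Module.length_eq_zero_iff] at h2
  rw [← LinearMap.ker_eq_bot]
  exact Submodule.eq_bot_of_subsingleton

theorem card_le_length_add_one {A B : Type u} [CommRing A] [IsLocalRing A] [CommRing B]
    [Algebra A B] {ι : Type u} [Fintype ι] (𝔪 : ι → Ideal B) (hmax : ∀ i, (𝔪 i).IsMaximal)
    (hinj : Function.Injective 𝔪)
    (hover : ∀ i, ∀ a ∈ maximalIdeal A, algebraMap A B a ∈ 𝔪 i) :
    (Fintype.card ι : ℕ∞) ≤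
        Module.length A (B ⧸ LinearMap.range (Algebra.linearMap A B)) + 1 ∧
    (Module.length A (B ⧸ LinearMap.range (Algebra.linearMap A B)) + 1 ≤ Fintype.card ι →
      (∀ i, Function.Surjective ((Ideal.Quotient.mk (𝔪 i)).comp (algebraMap A B))) ∧
      ∀ b : B, (∃ a : A, ∀ i, b - algebraMap A B a ∈ 𝔪 i) → b ∈ (algebraMap A B).range) := by
  classical
  rcases isEmpty_or_nonempty ι with hι | hι
  · refine ⟨by simp, fun h => ?_⟩
    exfalso
    rw [Fintype.card_eq_zero] at h
    simp at h
  -- the product of residue fields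
  let φ : B →ₗ[A] (∀ i, B ⧸ 𝔪 i) :=
    LinearMap.pi (fun i => (Ideal.Quotient.mkₐ A (𝔪 i)).toLinearMap)
  have hcop : Pairwise (fun i j => IsCoprime (𝔪 i) (𝔪 j)) := by
    intro i j hij
    haveI := hmax i
    haveI := hmax j
    exact Ideal.isCoprime_of_isMaximal (fun h => hij (hinj h))
  have hφsurj : Function.Surjective φ := by
    intro y
    obtain ⟨r, hr⟩ := Ideal.pi_quotient_surjective hcop y
    exact ⟨r, funext hr⟩
  let N₀ : Submodule A B := LinearMap.range (Algebra.linearMap A B)
  let D : Submodule A (∀ i, B ⧸ 𝔪 i) := N₀.map φ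
  -- `D` is a simple module
  have hD1 : Module.length A D = 1 := by
    let ψ : A →ₗ[A] D := (φ.restrict (p := N₀) (q := D) (fun x hx => ⟨x, hx, rfl⟩)).comp
      (LinearMap.rangeRestrict (Algebra.linearMap A B))
    have hψsurj : Function.Surjective ψ := by
      rintro ⟨_, ⟨_, ⟨a, rfl⟩, rfl⟩⟩
      exact ⟨a, rfl⟩
    have hker : LinearMap.ker ψ = maximalIdeal A := by
      apply le_antisymm
      · intro a ha
        by_contra hna
        have hu : IsUnit a := by
          by_contra h
          exact hna ((IsLocalRing.mem_maximalIdeal a).2 h)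
        obtain ⟨i⟩ := hι
        have h1 : φ (algebraMap A B a) i = 0 := by
          have := congrArg (fun z : D => (z : ∀ i, B ⧸ 𝔪 i) i) (LinearMap.mem_ker.1 ha)
          exact this
        have h2 : algebraMap A B a ∈ 𝔪 i := Ideal.Quotient.eq_zero_iff_mem.1 h1
        exact (hmax i).ne_top (Ideal.eq_top_of_isUnit_mem _ h2 (hu.map (algebraMap A B)))
      · intro a ha
        rw [LinearMap.mem_ker]
        apply Subtype.ext
        funext i
        exact Ideal.Quotient.eq_zero_iff_mem.2 (hover i a ha)
    have e := (ψ.quotKerEquivOfSurjective hψsurj)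
    rw [← e.length_eq]
    haveI : IsSimpleModule A (A ⧸ LinearMap.ker ψ) := by
      rw [hker]
      exact isSimpleModule_iff_quot_maximal.2 ⟨maximalIdeal A, inferInstance, ⟨LinearEquiv.refl _ _⟩⟩
    exact Module.length_eq_one _ _
  -- lengths
  have hPi : Module.length A (∀ i, B ⧸ 𝔪 i) = ∑ i, Module.length A (B ⧸ 𝔪 i) :=
    Module.length_pi_of_fintype A (fun i => B ⧸ 𝔪 i)
  have hone : ∀ i, 1 ≤ Module.length A (B ⧸ 𝔪 i) := by
    intro i
    haveI : Nontrivial (B ⧸ 𝔪 i) := Ideal.Quotient.nontrivial_iff.2 (hmax i).ne_top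
    exact Order.one_le_iff_pos.2 Module.length_pos
  have hcard : (Fintype.card ι : ℕ∞) ≤ Module.length A (∀ i, B ⧸ 𝔪 i) := by
    rw [hPi]
    calc (Fintype.card ι : ℕ∞) = ∑ _i : ι, (1 : ℕ∞) := by simp
      _ ≤ _ := Finset.sum_le_sum (fun i _ => hone i)
  have hPiD : Module.length A (∀ i, B ⧸ 𝔪 i) =
      Module.length A D + Module.length A ((∀ i, B ⧸ 𝔪 i) ⧸ D) :=
    Module.length_eq_add_of_exact D.subtype D.mkQ (Submodule.subtype_injective _)
      (Submodule.mkQ_surjective _) (LinearMap.exact_subtype_mkQ D)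
  have hle : N₀ ≤ D.comap φ := fun x hx => ⟨x, hx, rfl⟩
  let g : (B ⧸ N₀) →ₗ[A] ((∀ i, B ⧸ 𝔪 i) ⧸ D) := N₀.mapQ D φ hle
  have hgsurj : Function.Surjective g := by
    intro y
    obtain ⟨y, rfl⟩ := D.mkQ_surjective y
    obtain ⟨b, rfl⟩ := hφsurj y
    exact ⟨N₀.mkQ b, rfl⟩
  have hgle : Module.length A ((∀ i, B ⧸ 𝔪 i) ⧸ D) ≤ Module.length A (B ⧸ N₀) :=
    Module.length_le_of_surjective g hgsurj
  have hfirst : (Fintype.card ι : ℕ∞) ≤ Module.length A (B ⧸ N₀) + 1 := by
    calc (Fintype.card ι : ℕ∞) ≤ Module.length A (∀ i, B ⧸ 𝔪 i) := hcard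
      _ = 1 + Module.length A ((∀ i, B ⧸ 𝔪 i) ⧸ D) := by rw [hPiD, hD1]
      _ ≤ 1 + Module.length A (B ⧸ N₀) := by gcongr
      _ = _ := add_comm _ _
  refine ⟨hfirst, fun heq => ?_⟩
  -- equality case
  have hδfin : Module.length A (B ⧸ N₀) ≠ ⊤ := by
    intro h
    rw [h, top_add] at heq
    exact (ENat.natCast_ne_top _) (top_le_iff.1 heq)
  have h1 : Module.length A (B ⧸ N₀) + 1 ≤ 1 + Module.length A ((∀ i, B ⧸ 𝔪 i) ⧸ D) := by
    calc _ ≤ (Fintype.card ι : ℕ∞) := heq
      _ ≤ Module.length A (∀ i, B ⧸ 𝔪 i) := hcard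
      _ = _ := by rw [hPiD, hD1]
  have h2 : Module.length A (B ⧸ N₀) ≤ Module.length A ((∀ i, B ⧸ 𝔪 i) ⧸ D) := by
    rw [add_comm] at h1
    exact (ENat.add_le_add_iff_left (by simp)).1 h1
  have hginj : Function.Injective g :=
    injective_of_surjective_of_length_le g hgsurj hδfin h2
  have hPicard : Module.length A (∀ i, B ⧸ 𝔪 i) ≤ Fintype.card ι := by
    calc _ = 1 + Module.length A ((∀ i, B ⧸ 𝔪 i) ⧸ D) := by rw [hPiD, hD1]
      _ ≤ 1 + Module.length A (B ⧸ N₀) := by gcongr
      _ = Module.length A (B ⧸ N₀) + 1 := add_comm _ _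
      _ ≤ _ := heq
  constructor
  · intro j
    have hj1 : Module.length A (B ⧸ 𝔪 j) ≤ 1 := by
      have hsplit : ∑ i, Module.length A (B ⧸ 𝔪 i) =
          Module.length A (B ⧸ 𝔪 j) + ∑ i ∈ Finset.univ.erase j, Module.length A (B ⧸ 𝔪 i) :=
        (Finset.add_sum_erase Finset.univ _ (Finset.mem_univ j)).symm
      have hrest : ((Fintype.card ι - 1 : ℕ) : ℕ∞) ≤
          ∑ i ∈ Finset.univ.erase j, Module.length A (B ⧸ 𝔪 i) := by
        calc ((Fintype.card ι - 1 : ℕ) : ℕ∞) = ∑ _i ∈ Finset.univ.erase j, (1 : ℕ∞) := by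
              simp [Finset.card_erase_of_mem]
          _ ≤ _ := Finset.sum_le_sum (fun i _ => hone i)
      have hc : (Fintype.card ι : ℕ∞) = 1 + ((Fintype.card ι - 1 : ℕ) : ℕ∞) := by
        have : 1 ≤ Fintype.card ι := Fintype.card_pos
        have h' : Fintype.card ι = 1 + (Fintype.card ι - 1) := by omega
        conv_lhs => rw [h']
        push_cast
        rfl
      have h3 : Module.length A (B ⧸ 𝔪 j) + ((Fintype.card ι - 1 : ℕ) : ℕ∞) ≤
          1 + ((Fintype.card ι - 1 : ℕ) : ℕ∞) := by
        calc _ ≤ Module.length A (B ⧸ 𝔪 j) +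
              ∑ i ∈ Finset.univ.erase j, Module.length A (B ⧸ 𝔪 i) := by gcongr
          _ = Module.length A (∀ i, B ⧸ 𝔪 i) := by rw [hPi, hsplit]
          _ ≤ _ := by rw [← hc]; exact hPicard
      exact (ENat.add_le_add_iff_right (ENat.natCast_ne_top _)).1 h3
    have hj : Module.length A (B ⧸ 𝔪 j) = 1 := le_antisymm hj1 (hone j)
    haveI hsimple : IsSimpleModule A (B ⧸ 𝔪 j) := Module.length_eq_one_iff.1 hj
    let ρ : A →ₗ[A] (B ⧸ 𝔪 j) :=
      (Ideal.Quotient.mkₐ A (𝔪 j)).toLinearMap.comp (Algebra.linearMap A B)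
    have hρ : LinearMap.range ρ = ⊤ := by
      rcases eq_bot_or_eq_top (LinearMap.range ρ) with h | h
      · exfalso
        have h1 : ρ 1 ∈ LinearMap.range ρ := ⟨1, rfl⟩
        rw [h, Submodule.mem_bot] at h1
        have h2 : (1 : B ⧸ 𝔪 j) = 0 := by
          rw [← h1]
          simp [ρ]
        haveI : Nontrivial (B ⧸ 𝔪 j) := Ideal.Quotient.nontrivial_iff.2 (hmax j).ne_top
        exact one_ne_zero h2
      · exact h
    intro y
    have : y ∈ LinearMap.range ρ := by rw [hρ]; trivial
    obtain ⟨a, ha⟩ := this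
    exact ⟨a, ha⟩
  · rintro b ⟨a, ha⟩
    have hφb : φ b ∈ D := by
      refine ⟨algebraMap A B a, ⟨a, rfl⟩, ?_⟩
      funext i
      show Ideal.Quotient.mk (𝔪 i) (algebraMap A B a) = Ideal.Quotient.mk (𝔪 i) b
      rw [Ideal.Quotient.mk_eq_mk_iff_sub_mem]
      have := (𝔪 i).neg_mem (ha i)
      rwa [neg_sub] at this
    have h0 : g (N₀.mkQ b) = 0 := by
      show D.mkQ (φ b) = 0
      rw [Submodule.mkQ_apply, Submodule.Quotient.mk_eq_zero]
      exact hφb
    have h3 : N₀.mkQ b = 0 := hginj (h0.trans (map_zero g).symm)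
    rw [Submodule.mkQ_apply, Submodule.Quotient.mk_eq_zero] at h3
    obtain ⟨a', ha'⟩ := h3
    exact ⟨a', ha'⟩


section branches

open Groth.Agent.Lib.helper13.Br

/-- over a local ring with separably closed residue field, there is at most one embedding of the
residue field of a maximal ideal of the normalization. -/
theorem subsingleton_emb (A : Type u) [CommRing A] [IsLocalRing A]
    [IsSepClosed (ResidueField A)] (M : MaximalSpectrum (CAlg2.normRed A)) :
    Subsingleton (Brnch.Emb A M) := by
  haveI := M.isMaximal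
  letI : Field (CAlg2.normRed A ⧸ M.asIdeal) := Ideal.Quotient.field M.asIdeal
  letI := (Groth.Agent.S9236.rmap A M.asIdeal).toAlgebra
  have h := Groth.Agent.S9236.card_emb_eq A M
  haveI : Algebra.IsIntegral (ResidueField A) (CAlg2.normRed A ⧸ M.asIdeal) :=
    isIntegral_of_theta A (Ideal.Quotient.mk M.asIdeal) Ideal.Quotient.mk_surjective
      (Groth.Agent.S9236.rmap A M.asIdeal) (Groth.Agent.S9236.rmap_comp A M.asIdeal)
  haveI : Algebra.IsAlgebraic (ResidueField A) (CAlg2.normRed A ⧸ M.asIdeal) :=
    Algebra.IsIntegral.isAlgebraic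
  haveI hpi : IsPurelyInseparable (ResidueField A) (CAlg2.normRed A ⧸ M.asIdeal) := inferInstance
  rw [← ENat.card_le_one_iff_subsingleton, h, ENat.card_le_one_iff_subsingleton]
  exact (isPurelyInseparable_iff_subsingleton_emb _ _).1 hpi

theorem numGeomBranches_le_card (A : Type u) [CommRing A] [IsLocalRing A]
    [IsSepClosed (ResidueField A)] (hfinmin : (minimalPrimes A).Finite) :
    Brnch.numGeomBranches A ≤ ENat.card (MaximalSpectrum (CAlg2.normRed A)) := by
  classical
  unfold Brnch.numGeomBranches
  rw [if_pos hfinmin]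
  apply ENat.card_le_card_of_injective (f := Sigma.fst)
  rintro ⟨M₁, x₁⟩ ⟨M₂, x₂⟩ h
  have h' : M₁ = M₂ := h
  subst h'
  haveI := subsingleton_emb A M₁
  rw [Subsingleton.elim x₁ x₂]

theorem numGeomBranches_le_card' (A : Type u) [CommRing A] [IsLocalRing A] [IsReduced A]
    [IsSepClosed (ResidueField A)] (hfinmin : (minimalPrimes A).Finite) :
    Brnch.numGeomBranches A ≤
      ENat.card (MaximalSpectrum (integralClosure A (FractionRing A))) := by
  refine le_trans (numGeomBranches_le_card A hfinmin) ?_
  obtain ⟨Θ, hΘ⟩ := Groth.Agent.S7655.exists_surjective_algHom A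
  apply ENat.card_le_card_of_injective
    (f := fun M : MaximalSpectrum (CAlg2.normRed A) =>
      (⟨M.asIdeal.comap Θ.toRingHom,
        haveI := M.isMaximal; Ideal.comap_isMaximal_of_surjective _ hΘ⟩ :
        MaximalSpectrum (integralClosure A (FractionRing A))))
  intro M₁ M₂ h
  have h1 : M₁.asIdeal.comap Θ.toRingHom = M₂.asIdeal.comap Θ.toRingHom :=
    congrArg MaximalSpectrum.asIdeal h
  exact MaximalSpectrum.ext (Ideal.comap_injective_of_surjective _ hΘ h1)

end branches

section dvr

theorem ringKrullDim_le_of_isIntegral {A B : Type*} [CommRing A] [CommRing B] (f : A →+* B)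
    (hf : f.IsIntegral) : ringKrullDim B ≤ ringKrullDim A := by
  algebraize [f]
  have : Algebra.IsIntegral A B := ⟨hf⟩
  refine Order.krullDim_le_of_strictMono
    (fun p : PrimeSpectrum B => PrimeSpectrum.comap (algebraMap A B) p) ?_
  intro p q hpq
  have : p.asIdeal < q.asIdeal := hpq
  exact Ideal.IsIntegral.comap_lt_comap (R := A) this

theorem isDVR_of_normal_dim_le_one (B : Type u) [CommRing B] [IsNoetherianRing B] [IsLocalRing B]
    [IsDomain B] [IsIntegrallyClosed B] (hd : ringKrullDim B ≤ 1) (hm : maximalIdeal B ≠ ⊥) :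
    IsDiscreteValuationRing B := by
  have hnf : ¬ IsField B := fun hf => hm (IsLocalRing.isField_iff_maximalIdeal_eq.mp hf)
  apply ((IsDiscreteValuationRing.TFAE B hnf).out 0 3).mpr
  refine ⟨inferInstance, maximalIdeal B, ⟨hm, inferInstance⟩, ?_⟩
  rintro P ⟨hP0, hPp⟩
  by_contra hne
  haveI := hPp
  have hlt : P < maximalIdeal B := lt_of_le_of_ne (le_maximalIdeal hPp.ne_top) hne
  have h1 : 1 ≤ P.height := by
    rw [Order.one_le_iff_pos, pos_iff_ne_zero, Ne, Ideal.height_eq_zero_iff_eq_bot]
    exact hP0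
  have h2 : P.height < (maximalIdeal B).height := Ideal.height_strict_mono_of_isPrime hlt
  have h3 : ((maximalIdeal B).height : WithBot ℕ∞) ≤ 1 := by
    rw [IsLocalRing.maximalIdeal_height_eq_ringKrullDim]; exact hd
  have h4 : (maximalIdeal B).height ≤ 1 := by exact_mod_cast h3
  exact absurd (lt_of_le_of_lt h1 (lt_of_lt_of_le h2 h4)) (lt_irrefl _)

/-- the localizations at maximal ideals of the normalization of a reduced Noetherian local ring of
dimension one with finite normalization are discrete valuation rings. -/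
theorem isDVR_atPrime_integralClosure (A : Type u) [CommRing A] [IsLocalRing A]
    [IsNoetherianRing A] [IsReduced A] (hdim : ringKrullDim A = 1)
    [Module.Finite A (integralClosure A (FractionRing A))]
    (m' : Ideal (integralClosure A (FractionRing A))) [hm' : m'.IsMaximal] :
    ∃ _ : IsDomain (Localization.AtPrime m'), IsDiscreteValuationRing (Localization.AtPrime m') := by
  obtain ⟨hdom, hic⟩ := Groth.Agent.Lib.helper26.TotalFrac.atPrime_normal m'
  refine ⟨hdom, ?_⟩
  haveI : IsNoetherianRing (integralClosure A (FractionRing A)) :=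
    IsNoetherianRing.of_finite A _
  haveI : IsNoetherianRing (Localization.AtPrime m') :=
    IsLocalization.isNoetherianRing m'.primeCompl _ inferInstance
  -- dimension
  have hd : ringKrullDim (Localization.AtPrime m') ≤ 1 := by
    rw [IsLocalization.AtPrime.ringKrullDim_eq_height m' (Localization.AtPrime m')]
    refine le_trans (Ideal.height_le_ringKrullDim_of_ne_top hm'.ne_top) ?_
    rw [← hdim]
    exact ringKrullDim_le_of_isIntegral (algebraMap A (integralClosure A (FractionRing A)))
      (algebraMap_isIntegral_iff.2 inferInstance)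
  -- not a field
  obtain ⟨t, htm, htn⟩ :=
    Groth.Agent.Lib.helper17.DeltaBC.exists_nonZeroDivisor_mem_maximalIdeal A hdim
  have hcomap : m'.comap (algebraMap A (integralClosure A (FractionRing A))) = maximalIdeal A :=
    IsLocalRing.eq_maximalIdeal (Ideal.isMaximal_comap_of_isIntegral_of_isMaximal m')
  have htm' : algebraMap A (integralClosure A (FractionRing A)) t ∈ m' := by
    rw [← hcomap] at htm
    exact htm
  have htn' : algebraMap A (integralClosure A (FractionRing A)) t ∈
      nonZeroDivisors (integralClosure A (FractionRing A)) := by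
    rw [mem_nonZeroDivisors_iff_right]
    intro x hx
    have h1 : (x : FractionRing A) * algebraMap A (FractionRing A) t = 0 := by
      have := congrArg Subtype.val hx
      simpa using this
    have hu : IsUnit (algebraMap A (FractionRing A) t) :=
      IsLocalization.map_units (FractionRing A) (⟨t, htn⟩ : nonZeroDivisors A)
    have h2 : (x : FractionRing A) = 0 := by
      rwa [hu.mul_left_eq_zero] at h1
    exact Subtype.ext h2
  apply isDVR_of_normal_dim_le_one _ hd
  intro hbot
  have h3 : algebraMap (integralClosure A (FractionRing A)) (Localization.AtPrime m')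
      (algebraMap A (integralClosure A (FractionRing A)) t) ∈
        maximalIdeal (Localization.AtPrime m') :=
    (IsLocalization.AtPrime.to_map_mem_maximal_iff (Localization.AtPrime m') m' _).2 htm'
  rw [hbot, Ideal.mem_bot] at h3
  have h4 := IsLocalization.map_nonZeroDivisors_le m'.primeCompl (Localization.AtPrime m')
    (Submonoid.mem_map_of_mem _ htn')
  exact (nonZeroDivisors.ne_zero h4) h3

end dvr

end Groth.Agent.Lib.helper17.Wedge
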