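import Mathlib
import Groth.Agent.Lib.Helper24.PSAdic
import Groth.Agent.Lib.Helper17.Wedge

/-!
# Multicross singularities (helper17)

* `exists_taylor`: Taylor expansion `B → k⟦X⟧` for a Noetherian local domain with principal
  maximal ideal containing a coefficient field.
* `exists_taylor_loc`: the same for the localization of a ring at a maximal ideal which is a DVR.
* `multicross_core`, `multicross_of_wedge`: the completion of a wedge of DVRs is the multicross
  ring.
-/

set_option autoImplicit false
set_option linter.style.haveILetI false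
universe u

namespace Groth.Agent.Lib.helper17.Multicross

open IsLocalRing PowerSeries

/-- **Taylor expansion**: a Noetherian local domain `B` with principal maximal ideal `(ϖ)`
containing a field `k` mapping onto its residue field embeds into `k⟦X⟧`, compatibly with the
`ϖ`-adic filtration, with dense image. -/
theorem exists_taylor {k B : Type u} [Field k] [CommRing B] [IsDomain B] [IsLocalRing B]
    [IsNoetherianRing B] (ι : k →+* B) (hι : Function.Surjective ((residue B).comp ι))
    (ϖ : B) (hϖ0 : ϖ ≠ 0) (hϖ : maximalIdeal B = Ideal.span {ϖ}) :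
    ∃ τ : B →+* PowerSeries k, (∀ c, τ (ι c) = PowerSeries.C c) ∧
      (∀ (y : B) (N : ℕ), y ∈ maximalIdeal B ^ N ↔ (PowerSeries.X : PowerSeries k) ^ N ∣ τ y) ∧
      (∀ (f : PowerSeries k) (N : ℕ), ∃ y : B, (PowerSeries.X : PowerSeries k) ^ N ∣ τ y - f) := by
  classical
  letI : Algebra k B := ι.toAlgebra
  let x : AdicCompletion (maximalIdeal B) B :=
    algebraMap B (AdicCompletion (maximalIdeal B) B) ϖ
  have hmax : maximalIdeal (AdicCompletion (maximalIdeal B) B) = Ideal.span {x} := by
    rw [AdicCompletion.maximalIdeal_eq_map,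
      congrArg (Ideal.map (algebraMap B (AdicCompletion (maximalIdeal B) B))) hϖ,
      Ideal.map_span, Set.image_singleton]
  haveI hcomp : IsAdicComplete (Ideal.span {x}) (AdicCompletion (maximalIdeal B) B) := by
    rw [← hmax]; infer_instance
  -- `x` is a nonzerodivisor
  haveI hflat : Module.Flat B (AdicCompletion (maximalIdeal B) B) :=
    AdicCompletion.flat_of_isNoetherian _
  have hx : x ∈ nonZeroDivisors (AdicCompletion (maximalIdeal B) B) := by
    have hreg : IsSMulRegular B ϖ := by
      intro a b hab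
      exact mul_left_cancel₀ hϖ0 hab
    have h2 : IsSMulRegular (AdicCompletion (maximalIdeal B) B) ϖ := hreg.of_flat
    rw [mem_nonZeroDivisors_iff_right]
    intro y hy
    apply h2
    show ϖ • y = ϖ • (0 : AdicCompletion (maximalIdeal B) B)
    rw [smul_zero, Algebra.smul_def, mul_comm]
    exact hy
  obtain ⟨e, heX, heC, he⟩ := Groth.Agent.Lib.Helper24.PSAdic.exists_ps_algHom
    (Algebra.ofId k (AdicCompletion (maximalIdeal B) B)) (Ideal.span {x}) x
    (Ideal.subset_span rfl)
  have hσ : ∀ c : k, ((Algebra.ofId k (AdicCompletion (maximalIdeal B) B) :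
      k →ₐ[k] AdicCompletion (maximalIdeal B) B) : k →+* AdicCompletion (maximalIdeal B) B) c =
      algebraMap B (AdicCompletion (maximalIdeal B) B) (ι c) := fun c => rfl
  -- residues
  have hres : ∀ y : AdicCompletion (maximalIdeal B) B, ∃ c : k,
      y - algebraMap B (AdicCompletion (maximalIdeal B) B) (ι c) ∈ Ideal.span {x} := by
    intro y
    obtain ⟨r, hr⟩ := (AdicCompletion.residueField_map_bijective (R := B)).2
      (residue (AdicCompletion (maximalIdeal B) B) y)
    obtain ⟨c, hc⟩ := hι r
    refine ⟨c, ?_⟩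
    rw [← hmax, ← Ideal.Quotient.eq]
    show residue _ y = residue _ _
    rw [← hr, ← hc]
    rfl
  have hconst : ∀ f : PowerSeries k,
      e f - algebraMap B (AdicCompletion (maximalIdeal B) B) (ι (constantCoeff f)) ∈
        Ideal.span {x} := by
    intro f
    have h1 := he 1 f
    rw [trunc_one_left, Polynomial.eval₂_C, Ideal.Quotient.eq, pow_one, hσ] at h1
    rw [← coeff_zero_eq_constantCoeff_apply]
    exact h1
  have hnotmem : ∀ c : k, algebraMap B (AdicCompletion (maximalIdeal B) B) (ι c) ∈
      Ideal.span {x} → c = 0 := by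
    intro c hc
    by_contra hc0
    rw [← hmax] at hc
    have hu : IsUnit (algebraMap B (AdicCompletion (maximalIdeal B) B) (ι c)) :=
      ((IsUnit.mk0 c hc0).map ι).map _
    exact (IsLocalRing.mem_maximalIdeal _).1 hc hu
  have hinj : ∀ (n : ℕ) (f : PowerSeries k), e f = 0 → coeff n f = 0 := by
    intro n
    induction n with
    | zero =>
      intro f hf
      have := hconst f
      rw [hf, zero_sub, neg_mem_iff] at this
      rw [coeff_zero_eq_constantCoeff_apply]
      exact hnotmem _ this
    | succ n ih =>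
      intro f hf
      have h0 : constantCoeff f = 0 := by
        have := hconst f
        rw [hf, zero_sub, neg_mem_iff] at this
        exact hnotmem _ this
      obtain ⟨g, rfl⟩ := X_dvd_iff.2 h0
      rw [map_mul, heX] at hf
      have hg : e g = 0 := by
        rw [mul_comm] at hf
        exact (mem_nonZeroDivisors_iff_right.1 hx) _ hf
      rw [coeff_succ_X_mul]
      exact ih g hg
  have hinj' : Function.Injective e := by
    rw [injective_iff_map_eq_zero]
    intro f hf
    ext n
    rw [hinj n f hf, map_zero]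
  have hmap : Ideal.map (e : PowerSeries k →+* AdicCompletion (maximalIdeal B) B)
      (Ideal.span {(X : PowerSeries k)}) = Ideal.span {x} := by
    rw [Ideal.map_span, Set.image_singleton]
    congr 2
  have hsurj : Function.Surjective e := by
    change Function.Surjective (e : PowerSeries k →+* AdicCompletion (maximalIdeal B) B)
    haveI : IsHausdorff (Ideal.map (e : PowerSeries k →+* AdicCompletion (maximalIdeal B) B)
        (Ideal.span {(X : PowerSeries k)})) (AdicCompletion (maximalIdeal B) B) := by
      rw [hmap]; infer_instance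
    apply surjective_of_mk_map_comp_surjective (I := Ideal.span {(X : PowerSeries k)})
    intro a
    obtain ⟨a', rfl⟩ := Ideal.Quotient.mk_surjective a
    obtain ⟨c, hc⟩ := hres a'
    refine ⟨C c, ?_⟩
    rw [RingHom.comp_apply, Ideal.Quotient.eq, hmap]
    change e (C c) - a' ∈ _
    rw [heC, ← neg_mem_iff, neg_sub]
    exact hc
  let E : PowerSeries k ≃+* AdicCompletion (maximalIdeal B) B :=
    RingEquiv.ofBijective (e : PowerSeries k →+* AdicCompletion (maximalIdeal B) B)
      ⟨hinj', hsurj⟩
  have hE : ∀ f, E f = e f := fun f => rfl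
  have hEX : E.symm x = X := by rw [RingEquiv.symm_apply_eq, hE, heX]
  have hxpow : ∀ (N : ℕ) (z : AdicCompletion (maximalIdeal B) B),
      E.symm (x ^ N * z) = X ^ N * E.symm z := by
    intro N z
    rw [map_mul, map_pow, hEX]
  have hof : ∀ y : B, algebraMap B (AdicCompletion (maximalIdeal B) B) y =
      AdicCompletion.of (maximalIdeal B) B y := fun y => rfl
  have hker : ∀ (N : ℕ) (z : AdicCompletion (maximalIdeal B) B),
      AdicCompletion.evalₐ (maximalIdeal B) N z = 0 → ∃ w, z = x ^ N * w := by
    intro N z hz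
    have h1 : AdicCompletion.eval (maximalIdeal B) B N z = 0 := by
      rw [← AdicCompletion.factor_evalₐ_eq_eval (maximalIdeal B) z
        (by rw [smul_eq_mul, Ideal.mul_top]), hz, map_zero]
    have h2 : z ∈ (maximalIdeal B ^ N • ⊤ :
        Submodule B (AdicCompletion (maximalIdeal B) B)) := by
      rw [AdicCompletion.pow_smul_top_eq_ker_eval (maximalIdeal B).fg_of_isNoetherianRing]
      exact h1
    rw [Ideal.smul_top_eq_map, Submodule.restrictScalars_mem, Ideal.map_pow,
      congrArg (Ideal.map (algebraMap B (AdicCompletion (maximalIdeal B) B))) hϖ,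
      Ideal.map_span, Set.image_singleton, Ideal.span_singleton_pow,
      Ideal.mem_span_singleton'] at h2
    obtain ⟨w, hw⟩ := h2
    exact ⟨w, by rw [← hw, mul_comm]⟩
  refine ⟨E.symm.toRingHom.comp (algebraMap B (AdicCompletion (maximalIdeal B) B)), ?_, ?_, ?_⟩
  · intro c
    show E.symm (algebraMap B (AdicCompletion (maximalIdeal B) B) (ι c)) = C c
    rw [RingEquiv.symm_apply_eq, hE, heC]
    rfl
  · intro y N
    constructor
    · intro hy
      rw [hϖ, Ideal.span_singleton_pow, Ideal.mem_span_singleton'] at hy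
      obtain ⟨z, rfl⟩ := hy
      show X ^ N ∣ E.symm (algebraMap B (AdicCompletion (maximalIdeal B) B) (z * ϖ ^ N))
      rw [map_mul, map_pow, mul_comm, hxpow]
      exact dvd_mul_right _ _
    · rintro ⟨g, hg⟩
      have h1 : algebraMap B (AdicCompletion (maximalIdeal B) B) y = x ^ N * E g := by
        have h := congrArg E hg
        have h' : E ((E.symm.toRingHom.comp (algebraMap B (AdicCompletion (maximalIdeal B) B))) y) =
            algebraMap B (AdicCompletion (maximalIdeal B) B) y := E.apply_symm_apply _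
        rw [h', map_mul, map_pow, hE X, heX] at h
        exact h
      have h2 : AdicCompletion.evalₐ (maximalIdeal B) N
          (algebraMap B (AdicCompletion (maximalIdeal B) B) y) = 0 := by
        rw [h1, map_mul, map_pow]
        have h3 : AdicCompletion.evalₐ (maximalIdeal B) N x = Ideal.Quotient.mk _ ϖ :=
          AdicCompletion.evalₐ_of _ N ϖ
        have h4 : ϖ ∈ maximalIdeal B := by rw [hϖ]; exact Ideal.subset_span rfl
        rw [h3, ← map_pow, Ideal.Quotient.eq_zero_iff_mem.2 (Ideal.pow_mem_pow h4 N), zero_mul]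
      rw [hof, AdicCompletion.evalₐ_of, Ideal.Quotient.eq_zero_iff_mem] at h2
      exact h2
  · intro f N
    obtain ⟨y, hy⟩ := Ideal.Quotient.mk_surjective
      (AdicCompletion.evalₐ (maximalIdeal B) N (E f))
    obtain ⟨w, hw⟩ := hker N (algebraMap B (AdicCompletion (maximalIdeal B) B) y - E f) (by
      rw [map_sub, hof, AdicCompletion.evalₐ_of, hy, sub_self])
    refine ⟨y, ?_⟩
    show X ^ N ∣ E.symm (algebraMap B (AdicCompletion (maximalIdeal B) B) y) - f
    have h5 : E.symm (algebraMap B (AdicCompletion (maximalIdeal B) B) y) - f =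
        E.symm (algebraMap B (AdicCompletion (maximalIdeal B) B) y - E f) := by
      rw [map_sub, RingEquiv.symm_apply_apply]
    rw [h5, hw, hxpow]
    exact dvd_mul_right _ _

lemma span_X_pow (k : Type u) [Field k] (N : ℕ) (f : PowerSeries k) :
    f ∈ (Ideal.span {(X : PowerSeries k)}) ^ N ↔ (X : PowerSeries k) ^ N ∣ f := by
  rw [Ideal.span_singleton_pow, Ideal.mem_span_singleton]

/-- abstract core of the multicross statement -/
theorem multicross_core {k A : Type u} [Field k] [CommRing A] [IsLocalRing A] [Algebra k A]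
    (hres : Function.Surjective (algebraMap k (ResidueField A)))
    (n : ℕ) (τ : Fin n → A →+* PowerSeries k)
    (hτk : ∀ i c, τ i (algebraMap k A c) = C c)
    (hτm : ∀ (a : A) (N : ℕ), a ∈ maximalIdeal A ^ N ↔ ∀ i, (X : PowerSeries k) ^ N ∣ τ i a)
    (hdense : ∀ (f : Fin n → PowerSeries k) (N : ℕ),
      (∀ i j, constantCoeff (f i) = constantCoeff (f j)) →
        ∃ a : A, ∀ i, (X : PowerSeries k) ^ N ∣ τ i a - f i) :
    ∃ φ : AdicCompletion (maximalIdeal A) A →+* (Fin n → PowerSeries k),
      Function.Injective φ ∧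
      (∀ c : k, φ (algebraMap A (AdicCompletion (maximalIdeal A) A) (algebraMap k A c)) =
        fun _ => algebraMap k (PowerSeries k) c) ∧
      Set.range φ = {f : Fin n → PowerSeries k |
        ∀ i j : Fin n, constantCoeff (f i) = constantCoeff (f j)} := by
  classical
  have hle : ∀ (i : Fin n) (N : ℕ), maximalIdeal A ^ N ≤
      Ideal.comap (τ i) (Ideal.span {(X : PowerSeries k)} ^ N) := by
    intro i N a ha
    rw [Ideal.mem_comap, span_X_pow]
    exact (hτm a N).1 ha i
  let g : ∀ (i : Fin n) (N : ℕ), A ⧸ maximalIdeal A ^ N →+*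
      PowerSeries k ⧸ Ideal.span {(X : PowerSeries k)} ^ N :=
    fun i N => Ideal.quotientMap _ (τ i) (hle i N)
  have hg : ∀ i N a, g i N (Ideal.Quotient.mk _ a) = Ideal.Quotient.mk _ (τ i a) :=
    fun i N a => Ideal.quotientMap_mk
  let f : ∀ (i : Fin n) (N : ℕ), AdicCompletion (maximalIdeal A) A →+*
      PowerSeries k ⧸ Ideal.span {(X : PowerSeries k)} ^ N :=
    fun i N => (g i N).comp (AdicCompletion.evalₐ (maximalIdeal A) N : _ →+* _)
  have hf : ∀ (i : Fin n) {m N : ℕ} (hle : m ≤ N),
      (Ideal.Quotient.factorPow (Ideal.span {(X : PowerSeries k)}) hle).comp (f i N) = f i m := by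
    intro i m N hmN
    ext z
    induction z using AdicCompletion.induction_on with
    | h s =>
      simp only [f, RingHom.comp_apply, RingHom.coe_coe]
      rw [AdicCompletion.evalₐ_mk, AdicCompletion.evalₐ_mk, hg, hg,
        Ideal.Quotient.factor_mk, ← hg i m, ← hg i m, AdicCompletion.Ideal.mk_eq_mk _ hmN]
  let φ : Fin n → AdicCompletion (maximalIdeal A) A →+* PowerSeries k := fun i =>
    IsAdicComplete.liftRingHom (Ideal.span {(X : PowerSeries k)}) (f i) (hf i)
  have hφ : ∀ i N z, Ideal.Quotient.mk (Ideal.span {(X : PowerSeries k)} ^ N) (φ i z) =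
      g i N (AdicCompletion.evalₐ (maximalIdeal A) N z) := by
    intro i N z
    exact IsAdicComplete.mk_liftRingHom _ (f i) (hf i) N z
  have hφof : ∀ i a, φ i (algebraMap A (AdicCompletion (maximalIdeal A) A) a) = τ i a := by
    intro i a
    apply Groth.Agent.Lib.Helper24.PSAdic.eq_of_forall_mk_eq (Ideal.span {(X : PowerSeries k)})
    intro N
    rw [hφ]
    show g i N (AdicCompletion.evalₐ _ N (AdicCompletion.of _ _ a)) = _
    rw [AdicCompletion.evalₐ_of, hg]
  -- general congruence
  have hφmk : ∀ i N (s : AdicCompletion.AdicCauchySequence (maximalIdeal A) A),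
      (X : PowerSeries k) ^ N ∣ φ i (AdicCompletion.mk _ _ s) - τ i (s.val N) := by
    intro i N s
    rw [← span_X_pow, ← Ideal.Quotient.eq, hφ, AdicCompletion.evalₐ_mk, hg]
  have hconst : ∀ (a : A), ∃ c : k, ∀ i, constantCoeff (τ i a) = c := by
    intro a
    obtain ⟨c, hc⟩ := hres (residue A a)
    refine ⟨c, fun i => ?_⟩
    have h1 : a - algebraMap k A c ∈ maximalIdeal A ^ 1 := by
      rw [pow_one, ← Ideal.Quotient.eq]
      exact hc.symm
    have h2 := (hτm _ 1).1 h1 i
    rw [pow_one, map_sub, hτk, X_dvd_iff, map_sub, constantCoeff_C, sub_eq_zero] at h2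
    exact h2
  refine ⟨RingHom.pi φ, ?_, ?_, ?_⟩
  · rw [injective_iff_map_eq_zero]
    intro z hz
    have hz' : ∀ i, φ i z = 0 := fun i => congrFun hz i
    induction z using AdicCompletion.induction_on with
    | h s =>
      apply AdicCompletion.ext_evalₐ
      intro N
      rw [AdicCompletion.evalₐ_mk, map_zero, Ideal.Quotient.eq_zero_iff_mem, hτm]
      intro i
      have := hφmk i N s
      rw [hz' i, zero_sub, dvd_neg] at this
      exact this
  · intro c
    funext i
    show φ i _ = _
    rw [hφof, hτk]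
    rfl
  · ext F
    constructor
    · rintro ⟨z, rfl⟩ i j
      show constantCoeff (φ i z) = constantCoeff (φ j z)
      induction z using AdicCompletion.induction_on with
      | h s =>
        obtain ⟨c, hc⟩ := hconst (s.val 1)
        have key : ∀ i, constantCoeff (φ i (AdicCompletion.mk _ _ s)) = c := by
          intro i
          have := hφmk i 1 s
          rw [pow_one, X_dvd_iff, map_sub, sub_eq_zero] at this
          rw [this, hc]
        rw [key i, key j]
    · intro hF
      have hF' : ∀ i j : Fin n, constantCoeff (F i) = constantCoeff (F j) := hF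
      choose a ha using fun N => hdense F N hF'
      have hcauchy : ∀ N, a N ≡ a (N + 1) [SMOD (maximalIdeal A ^ N • ⊤ : Submodule A A)] := by
        intro N
        rw [SModEq.sub_mem, smul_eq_mul, Ideal.mul_top, hτm]
        intro i
        have h1 := ha N i
        have h2 := ha (N + 1) i
        have h3 : (X : PowerSeries k) ^ N ∣ τ i (a (N + 1)) - F i :=
          dvd_trans (pow_dvd_pow _ (Nat.le_succ N)) h2
        have h4 : τ i (a N - a (N + 1)) = (τ i (a N) - F i) - (τ i (a (N + 1)) - F i) := by
          rw [map_sub]; ring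
        rw [h4]
        exact dvd_sub h1 h3
      refine ⟨AdicCompletion.mk _ _ (AdicCompletion.AdicCauchySequence.mk _ _ a hcauchy), ?_⟩
      funext i
      show φ i _ = F i
      apply Groth.Agent.Lib.Helper24.PSAdic.eq_of_forall_mk_eq (Ideal.span {(X : PowerSeries k)})
      intro N
      rw [Ideal.Quotient.eq, span_X_pow]
      have h1 := hφmk i N (AdicCompletion.AdicCauchySequence.mk _ _ a hcauchy)
      have h2 := ha N i
      have h3 : φ i (AdicCompletion.mk _ _ (AdicCompletion.AdicCauchySequence.mk _ _ a hcauchy))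
          - F i = (φ i (AdicCompletion.mk _ _ (AdicCompletion.AdicCauchySequence.mk _ _ a hcauchy))
          - τ i (a N)) + (τ i (a N) - F i) := by ring
      rw [h3]
      exact dvd_add h1 h2

theorem exists_taylor_loc {k A' : Type u} [Field k] [CommRing A'] (𝔪 : Ideal A') [𝔪.IsMaximal]
    [IsDomain (Localization.AtPrime 𝔪)] [IsDiscreteValuationRing (Localization.AtPrime 𝔪)]
    (ι' : k →+* A') (hι' : Function.Surjective ((Ideal.Quotient.mk 𝔪).comp ι')) :
    ∃ τ : A' →+* PowerSeries k, (∀ c, τ (ι' c) = C c) ∧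
      (∀ (b : A') (N : ℕ), b ∈ 𝔪 ^ N ↔ (X : PowerSeries k) ^ N ∣ τ b) ∧
      (∀ (f : PowerSeries k) (N : ℕ), ∃ b : A', (X : PowerSeries k) ^ N ∣ τ b - f) := by
  classical
  have hιs : Function.Surjective ((residue (Localization.AtPrime 𝔪)).comp
      ((algebraMap A' (Localization.AtPrime 𝔪)).comp ι')) := by
    intro y
    let e := IsLocalization.AtPrime.equivQuotMaximalIdeal 𝔪 (Localization.AtPrime 𝔪)
    obtain ⟨c, hc⟩ := hι' (e.symm y)
    refine ⟨c, ?_⟩
    have h4 : e ((Ideal.Quotient.mk 𝔪).comp ι' c) = y := by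
      rw [hc, RingEquiv.apply_symm_apply]
    rw [← h4]
    rfl
  obtain ⟨ϖ, hirr⟩ := IsDiscreteValuationRing.exists_irreducible (Localization.AtPrime 𝔪)
  obtain ⟨τ0, h1, h2, h3⟩ := exists_taylor ((algebraMap A' (Localization.AtPrime 𝔪)).comp ι') hιs ϖ
    hirr.ne_zero hirr.maximalIdeal_eq
  refine ⟨τ0.comp (algebraMap A' (Localization.AtPrime 𝔪)), fun c => h1 c, ?_, ?_⟩
  · intro b N
    rw [← IsLocalization.AtPrime.under_maximalIdeal_pow 𝔪 (Localization.AtPrime 𝔪) N,
      Ideal.under_def, Ideal.mem_comap, h2]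
    rfl
  · intro f N
    obtain ⟨y, hy⟩ := h3 f N
    let eN := IsLocalization.AtPrime.equivQuotMaximalIdealPow 𝔪 (Localization.AtPrime 𝔪) N
    obtain ⟨b, hb⟩ := Ideal.Quotient.mk_surjective (eN.symm (Ideal.Quotient.mk _ y))
    have h4 : eN (Ideal.Quotient.mk _ b) = Ideal.Quotient.mk _ y := by
      rw [hb, AlgEquiv.apply_symm_apply]
    rw [IsLocalization.AtPrime.equivQuotMaximalIdealPow_apply_mk, Ideal.Quotient.eq, h2] at h4
    refine ⟨b, ?_⟩
    have h5 : (τ0.comp (algebraMap A' (Localization.AtPrime 𝔪))) b - f =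
        τ0 (algebraMap A' (Localization.AtPrime 𝔪) b - y) + (τ0 y - f) := by
      rw [map_sub, RingHom.comp_apply]; ring
    rw [h5]
    exact dvd_add h4 hy

theorem multicross_of_wedge {k A A' : Type u} [Field k] [CommRing A] [IsLocalRing A] [Algebra k A]
    [CommRing A'] [Algebra A A']
    (hres : Function.Surjective (algebraMap k (ResidueField A)))
    (hinj : Function.Injective (algebraMap A A'))
    (n : ℕ) (hn : 0 < n) (𝔪 : Fin n → Ideal A') (hmax : ∀ i, (𝔪 i).IsMaximal)
    (hne : Function.Injective 𝔪)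
    (hover : ∀ i, ∀ a ∈ maximalIdeal A, algebraMap A A' a ∈ 𝔪 i)
    (hW : ∀ b : A', (∃ a : A, ∀ i, b - algebraMap A A' a ∈ 𝔪 i) → b ∈ (algebraMap A A').range)
    (τ' : Fin n → A' →+* PowerSeries k)
    (hτk : ∀ i c, τ' i (algebraMap A A' (algebraMap k A c)) = C c)
    (hτm : ∀ i (b : A') (N : ℕ), b ∈ 𝔪 i ^ N ↔ (X : PowerSeries k) ^ N ∣ τ' i b)
    (hτd : ∀ i (f : PowerSeries k) (N : ℕ), ∃ b : A', (X : PowerSeries k) ^ N ∣ τ' i b - f) :
    ∃ φ : AdicCompletion (maximalIdeal A) A →+* (Fin n → PowerSeries k),
      Function.Injective φ ∧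
      (∀ c : k, φ (algebraMap A (AdicCompletion (maximalIdeal A) A) (algebraMap k A c)) =
        fun _ => algebraMap k (PowerSeries k) c) ∧
      Set.range φ = {f : Fin n → PowerSeries k |
        ∀ i j : Fin n, constantCoeff (f i) = constantCoeff (f j)} := by
  classical
  have hcop : Pairwise (Function.onFun IsCoprime 𝔪) := by
    intro i j hij
    haveI := hmax i
    haveI := hmax j
    exact Ideal.isCoprime_of_isMaximal (fun h => hij (hne h))
  have hcopN : ∀ N : ℕ, Pairwise (Function.onFun IsCoprime fun i => 𝔪 i ^ N) := by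
    intro N i j hij
    exact (hcop hij).pow
  -- the intersection of the powers is the power of the intersection
  have hinf : ∀ N : ℕ, (⨅ i, 𝔪 i ^ N) = (⨅ i, 𝔪 i) ^ N := by
    intro N
    have h1 := Ideal.prod_eq_iInf_of_pairwise_isCoprime (s := Finset.univ) (J := fun i => 𝔪 i ^ N)
      (fun i _ j _ hij => hcopN N hij)
    have h2 := Ideal.prod_eq_iInf_of_pairwise_isCoprime (s := Finset.univ) (J := 𝔪)
      (fun i _ j _ hij => hcop hij)
    simp only [Finset.mem_univ, iInf_pos] at h1 h2
    rw [← h1, ← h2, Finset.prod_pow]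
  -- comap of each `𝔪 i` is the maximal ideal
  have hcomap : ∀ i (a : A), algebraMap A A' a ∈ 𝔪 i → a ∈ maximalIdeal A := by
    intro i a ha
    by_contra hna
    have hu : IsUnit a := by
      by_contra hnu
      exact hna ((IsLocalRing.mem_maximalIdeal a).2 hnu)
    have := (hmax i).ne_top
    exact this (Ideal.eq_top_of_isUnit_mem _ ha (hu.map _))
  -- the Jacobson radical of `A'` is the image of the maximal ideal
  have hJ1 : ∀ b ∈ (⨅ i, 𝔪 i), ∃ a ∈ maximalIdeal A, algebraMap A A' a = b := by
    intro b hb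
    rw [Ideal.mem_iInf] at hb
    obtain ⟨a, ha⟩ := hW b ⟨0, fun i => by rw [map_zero, sub_zero]; exact hb i⟩
    refine ⟨a, hcomap ⟨0, hn⟩ a ?_, ha⟩
    rw [ha]
    exact hb _
  have hJ : ∀ N : ℕ, ∀ b ∈ (⨅ i, 𝔪 i) ^ (N + 1),
      ∃ a ∈ maximalIdeal A ^ (N + 1), algebraMap A A' a = b := by
    intro N
    induction N with
    | zero =>
      intro b hb
      rw [zero_add, pow_one] at hb ⊢
      exact hJ1 b hb
    | succ N ih =>
      intro b hb
      rw [pow_succ] at hb
      refine Submodule.mul_induction_on hb ?_ ?_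
      · intro x hx y hy
        obtain ⟨a1, ha1, rfl⟩ := ih x hx
        obtain ⟨a2, ha2, rfl⟩ := hJ1 y hy
        refine ⟨a1 * a2, ?_, map_mul _ _ _⟩
        rw [pow_succ]
        exact Ideal.mul_mem_mul ha1 ha2
      · rintro x y ⟨a1, ha1, rfl⟩ ⟨a2, ha2, rfl⟩
        exact ⟨a1 + a2, Ideal.add_mem _ ha1 ha2, map_add _ _ _⟩
  apply multicross_core hres n (fun i => (τ' i).comp (algebraMap A A')) (fun i c => hτk i c)
  · intro a N
    constructor
    · intro ha i
      show X ^ N ∣ τ' i (algebraMap A A' a)
      rw [← hτm]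
      have h1 : Ideal.map (algebraMap A A') (maximalIdeal A) ≤ 𝔪 i := by
        rw [Ideal.map_le_iff_le_comap]
        exact fun a ha => hover i a ha
      have h2 := Ideal.mem_map_of_mem (algebraMap A A') ha
      rw [Ideal.map_pow] at h2
      exact Ideal.pow_right_mono h1 N h2
    · intro h
      rcases N with _ | N
      · rw [pow_zero, Ideal.one_eq_top]; trivial
      · have h1 : algebraMap A A' a ∈ (⨅ i, 𝔪 i) ^ (N + 1) := by
          rw [← hinf, Ideal.mem_iInf]
          intro i
          rw [hτm]
          exact h i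
        obtain ⟨a', ha', haa⟩ := hJ N _ h1
        rw [← hinj haa]
        exact ha'
  · intro F N hF
    -- approximate each component
    choose b hb using fun i => hτd i (F i) (N + 1)
    obtain ⟨b0, hb0⟩ := Ideal.exists_forall_sub_mem_ideal (hcopN (N + 1)) b
    have hb0' : ∀ i, (X : PowerSeries k) ^ (N + 1) ∣ τ' i b0 - F i := by
      intro i
      have h1 := (hτm i _ _).1 (hb0 i)
      have h2 : τ' i b0 - F i = τ' i (b0 - b i) + (τ' i (b i) - F i) := by
        rw [map_sub]; ring
      rw [h2]
      exact dvd_add h1 (hb i)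
    let c0 : k := constantCoeff (F ⟨0, hn⟩)
    have hc0 : ∀ i, constantCoeff (F i) = c0 := fun i => hF i _
    obtain ⟨a, ha⟩ := hW b0 ⟨algebraMap k A c0, fun i => by
      rw [← pow_one (𝔪 i), hτm, pow_one, map_sub, hτk, X_dvd_iff, map_sub, constantCoeff_C,
        sub_eq_zero]
      have h1 : (X : PowerSeries k) ∣ τ' i b0 - F i :=
        dvd_trans (dvd_pow_self _ (Nat.succ_ne_zero N)) (hb0' i)
      rw [X_dvd_iff, map_sub, sub_eq_zero] at h1
      rw [h1, hc0]⟩
    refine ⟨a, fun i => ?_⟩
    show X ^ N ∣ τ' i (algebraMap A A' a) - F i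
    rw [ha]
    exact dvd_trans (pow_dvd_pow _ (Nat.le_succ N)) (hb0' i)

end Groth.Agent.Lib.helper17.Multicross
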