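import Mathlib
import Groth.Agent.Lib.Helper17.Multicross
import Groth.Agent.Lib.Helper17.MvPSKer
import Groth.Agent.S12218

/-!
# helper17: multicross singularities, part 2

* `tau_of_wedge`, `tau_of_nagata`: the Taylor expansions `τ i : A → k⟦X⟧` along the branches of a
  wedge of DVRs (the data behind `S12218`).
* `finrank_cotangentSpace_of_tau`: the cotangent space has dimension the number of branches.
* `exists_equiv_of_phi`: a ring mapping isomorphically onto the multicross subring of `(k⟦X⟧)^n`
  is isomorphic to `k[[T_1..T_n]]/(T_i T_j)`.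
-/

set_option autoImplicit false
set_option linter.style.haveILetI false
universe u

namespace Groth.Agent.Lib.helper17.Multicross

open IsLocalRing PowerSeries

theorem tau_of_wedge {k A A' : Type u} [Field k] [CommRing A] [IsLocalRing A] [Algebra k A]
    [CommRing A'] [Algebra A A']
    (hres : Function.Surjective (algebraMap k (ResidueField A)))
    (hinj : Function.Injective (algebraMap A A'))
    (n : ℕ) (hn : 0 < n) (𝔪 : Fin n → Ideal A') (hmax : ∀ i, (𝔪 i).IsMaximal)
    (hne : Function.Injective 𝔪)
    (hover : ∀ i, ∀ a ∈ maximalIdeal A, algebraMap A A' a ∈ 𝔪 i)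
    (hW : ∀ b : A', (∃ a : A, ∀ i, b - algebraMap A A' a ∈ 𝔪 i) → b ∈ (algebraMap A A').range)
    (τ' : Fin n → A' →+* PowerSeries k)
    (hτk : ∀ i c, τ' i (algebraMap A A' (algebraMap k A c)) = C c)
    (hτm : ∀ i (b : A') (N : ℕ), b ∈ 𝔪 i ^ N ↔ (X : PowerSeries k) ^ N ∣ τ' i b)
    (hτd : ∀ i (f : PowerSeries k) (N : ℕ), ∃ b : A', (X : PowerSeries k) ^ N ∣ τ' i b - f) :
    ∃ τ : Fin n → A →+* PowerSeries k,
      (∀ i c, τ i (algebraMap k A c) = C c) ∧
      (∀ (a : A) (N : ℕ), a ∈ maximalIdeal A ^ N ↔ ∀ i, (X : PowerSeries k) ^ N ∣ τ i a) ∧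
      (∀ (f : Fin n → PowerSeries k) (N : ℕ),
        (∀ i j, constantCoeff (f i) = constantCoeff (f j)) →
          ∃ a : A, ∀ i, (X : PowerSeries k) ^ N ∣ τ i a - f i) := by
  classical
  have hcop : Pairwise (Function.onFun IsCoprime 𝔪) := by
    intro i j hij
    haveI := hmax i
    haveI := hmax j
    exact Ideal.isCoprime_of_isMaximal (fun h => hij (hne h))
  have hcopN : ∀ N : ℕ, Pairwise (Function.onFun IsCoprime fun i => 𝔪 i ^ N) := by
    intro N i j hij
    exact (hcop hij).pow
  -- the intersection of the powers is the power of the intersection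
  have hinf : ∀ N : ℕ, (⨅ i, 𝔪 i ^ N) = (⨅ i, 𝔪 i) ^ N := by
    intro N
    have h1 := Ideal.prod_eq_iInf_of_pairwise_isCoprime (s := Finset.univ) (J := fun i => 𝔪 i ^ N)
      (fun i _ j _ hij => hcopN N hij)
    have h2 := Ideal.prod_eq_iInf_of_pairwise_isCoprime (s := Finset.univ) (J := 𝔪)
      (fun i _ j _ hij => hcop hij)
    simp only [Finset.mem_univ, iInf_pos] at h1 h2
    rw [← h1, ← h2, Finset.prod_pow]
  -- comap of each `𝔪 i` is the maximal ideal
  have hcomap : ∀ i (a : A), algebraMap A A' a ∈ 𝔪 i → a ∈ maximalIdeal A := by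
    intro i a ha
    by_contra hna
    have hu : IsUnit a := by
      by_contra hnu
      exact hna ((IsLocalRing.mem_maximalIdeal a).2 hnu)
    have := (hmax i).ne_top
    exact this (Ideal.eq_top_of_isUnit_mem _ ha (hu.map _))
  -- the Jacobson radical of `A'` is the image of the maximal ideal
  have hJ1 : ∀ b ∈ (⨅ i, 𝔪 i), ∃ a ∈ maximalIdeal A, algebraMap A A' a = b := by
    intro b hb
    rw [Ideal.mem_iInf] at hb
    obtain ⟨a, ha⟩ := hW b ⟨0, fun i => by rw [map_zero, sub_zero]; exact hb i⟩
    refine ⟨a, hcomap ⟨0, hn⟩ a ?_, ha⟩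
    rw [ha]
    exact hb _
  have hJ : ∀ N : ℕ, ∀ b ∈ (⨅ i, 𝔪 i) ^ (N + 1),
      ∃ a ∈ maximalIdeal A ^ (N + 1), algebraMap A A' a = b := by
    intro N
    induction N with
    | zero =>
      intro b hb
      rw [zero_add, pow_one] at hb ⊢
      exact hJ1 b hb
    | succ N ih =>
      intro b hb
      rw [pow_succ] at hb
      refine Submodule.mul_induction_on hb ?_ ?_
      · intro x hx y hy
        obtain ⟨a1, ha1, rfl⟩ := ih x hx
        obtain ⟨a2, ha2, rfl⟩ := hJ1 y hy
        refine ⟨a1 * a2, ?_, map_mul _ _ _⟩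
        rw [pow_succ]
        exact Ideal.mul_mem_mul ha1 ha2
      · rintro x y ⟨a1, ha1, rfl⟩ ⟨a2, ha2, rfl⟩
        exact ⟨a1 + a2, Ideal.add_mem _ ha1 ha2, map_add _ _ _⟩
  refine ⟨fun i => (τ' i).comp (algebraMap A A'), fun i c => hτk i c, ?_, ?_⟩
  · intro a N
    constructor
    · intro ha i
      show X ^ N ∣ τ' i (algebraMap A A' a)
      rw [← hτm]
      have h1 : Ideal.map (algebraMap A A') (maximalIdeal A) ≤ 𝔪 i := by
        rw [Ideal.map_le_iff_le_comap]
        exact fun a ha => hover i a ha
      have h2 := Ideal.mem_map_of_mem (algebraMap A A') ha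
      rw [Ideal.map_pow] at h2
      exact Ideal.pow_right_mono h1 N h2
    · intro h
      rcases N with _ | N
      · rw [pow_zero, Ideal.one_eq_top]; trivial
      · have h1 : algebraMap A A' a ∈ (⨅ i, 𝔪 i) ^ (N + 1) := by
          rw [← hinf, Ideal.mem_iInf]
          intro i
          rw [hτm]
          exact h i
        obtain ⟨a', ha', haa⟩ := hJ N _ h1
        rw [← hinj haa]
        exact ha'
  · intro F N hF
    -- approximate each component
    choose b hb using fun i => hτd i (F i) (N + 1)
    obtain ⟨b0, hb0⟩ := Ideal.exists_forall_sub_mem_ideal (hcopN (N + 1)) b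
    have hb0' : ∀ i, (X : PowerSeries k) ^ (N + 1) ∣ τ' i b0 - F i := by
      intro i
      have h1 := (hτm i _ _).1 (hb0 i)
      have h2 : τ' i b0 - F i = τ' i (b0 - b i) + (τ' i (b i) - F i) := by
        rw [map_sub]; ring
      rw [h2]
      exact dvd_add h1 (hb i)
    let c0 : k := constantCoeff (F ⟨0, hn⟩)
    have hc0 : ∀ i, constantCoeff (F i) = c0 := fun i => hF i _
    obtain ⟨a, ha⟩ := hW b0 ⟨algebraMap k A c0, fun i => by
      rw [← pow_one (𝔪 i), hτm, pow_one, map_sub, hτk, X_dvd_iff, map_sub, constantCoeff_C,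
        sub_eq_zero]
      have h1 : (X : PowerSeries k) ∣ τ' i b0 - F i :=
        dvd_trans (dvd_pow_self _ (Nat.succ_ne_zero N)) (hb0' i)
      rw [X_dvd_iff, map_sub, sub_eq_zero] at h1
      rw [h1, hc0]⟩
    refine ⟨a, fun i => ?_⟩
    show X ^ N ∣ τ' i (algebraMap A A' a) - F i
    rw [ha]
    exact dvd_trans (pow_dvd_pow _ (Nat.le_succ N)) (hb0' i)

theorem tau_of_nagata (k : Type u) [Field k] [IsSepClosed k]
    (A : Type u) [CommRing A] [IsLocalRing A] [Algebra k A] [IsReduced A]
    (hdim : ringKrullDim A = 1) (hN : CAlg.IsNagata A)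
    (hres : Function.Bijective (algebraMap k (IsLocalRing.ResidueField A)))
    (n : ℕ) (hn : Brnch.numBranches A = n) (hδ : Curv2.deltaInv A + 1 = n) :
    ∃ τ : Fin n → A →+* PowerSeries k,
      (∀ i c, τ i (algebraMap k A c) = C c) ∧
      (∀ (a : A) (N : ℕ), a ∈ maximalIdeal A ^ N ↔ ∀ i, (X : PowerSeries k) ^ N ∣ τ i a) ∧
      (∀ (f : Fin n → PowerSeries k) (N : ℕ),
        (∀ i j, constantCoeff (f i) = constantCoeff (f j)) →
          ∃ a : A, ∀ i, (X : PowerSeries k) ^ N ∣ τ i a - f i) := by
  classical
  haveI hnoeth : IsNoetherianRing A := hN.1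
  haveI hfin : Module.Finite A (integralClosure A (FractionRing A)) := by
    apply Groth.Agent.Lib.helper26.TotalFrac.finite_integralClosure
    intro p hp
    have hpr : p.IsPrime := hp.1.1
    exact hN.2 p (FractionRing (A ⧸ p)) inferInstance
  haveI : Finite (MaximalSpectrum (integralClosure A (FractionRing A))) :=
    Groth.Agent.Lib.helper16.IntegralFree.finite_maximalSpectrum_of_finite A _
  haveI : Fintype (MaximalSpectrum (integralClosure A (FractionRing A))) := Fintype.ofFinite _
  have hfinmin : (minimalPrimes A).Finite := minimalPrimes.finite_of_isNoetherianRing A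
  have hover : ∀ (i : MaximalSpectrum (integralClosure A (FractionRing A))),
      ∀ a ∈ IsLocalRing.maximalIdeal A,
        algebraMap A (integralClosure A (FractionRing A)) a ∈ i.asIdeal := by
    intro i a ha
    haveI := i.isMaximal
    have hcomap : i.asIdeal.comap (algebraMap A (integralClosure A (FractionRing A))) =
        IsLocalRing.maximalIdeal A :=
      IsLocalRing.eq_maximalIdeal (Ideal.isMaximal_comap_of_isIntegral_of_isMaximal i.asIdeal)
    rw [← hcomap] at ha
    exact ha
  obtain ⟨h1, h2⟩ := Groth.Agent.Lib.helper17.Wedge.card_le_length_add_one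
    (fun i : MaximalSpectrum (integralClosure A (FractionRing A)) => i.asIdeal)
    (fun i => i.isMaximal) (fun i j h => MaximalSpectrum.ext h) hover
  have hle : (n : ℕ∞) ≤
      (Fintype.card (MaximalSpectrum (integralClosure A (FractionRing A))) : ℕ∞) := by
    have h3 := Groth.Agent.S12218.numBranches_le_card' A hfinmin
    rw [hn, ENat.card_eq_coe_fintype_card] at h3
    exact h3
  have hge : Module.length A (↥(integralClosure A (FractionRing A)) ⧸
      LinearMap.range (Algebra.linearMap A ↥(integralClosure A (FractionRing A)))) + 1 = n := hδ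
  have hcard : Fintype.card (MaximalSpectrum (integralClosure A (FractionRing A))) = n := by
    apply le_antisymm
    · rw [hge] at h1
      exact_mod_cast h1
    · exact_mod_cast hle
  obtain ⟨hs, hw⟩ := h2 (by rw [hge, hcard])
  have hn0 : 0 < n := by
    rcases Nat.eq_zero_or_pos n with h | h
    · exfalso
      rw [h] at hge
      simp at hge
    · exact h
  let e : Fin n ≃ MaximalSpectrum (integralClosure A (FractionRing A)) :=
    (Fintype.equivFinOfCardEq hcard).symm
  have hinj : Function.Injective (algebraMap A (integralClosure A (FractionRing A))) := by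
    intro a b hab
    have := congrArg Subtype.val hab
    exact IsFractionRing.injective A (FractionRing A) this
  have hτ : ∀ i : Fin n, ∃ τ : ↥(integralClosure A (FractionRing A)) →+* PowerSeries k,
      (∀ c, τ (algebraMap A _ (algebraMap k A c)) = C c) ∧
      (∀ (b : ↥(integralClosure A (FractionRing A))) (N : ℕ),
        b ∈ (e i).asIdeal ^ N ↔ (X : PowerSeries k) ^ N ∣ τ b) ∧
      (∀ (f : PowerSeries k) (N : ℕ), ∃ b : ↥(integralClosure A (FractionRing A)),
        (X : PowerSeries k) ^ N ∣ τ b - f) := by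
    intro i
    haveI := (e i).isMaximal
    obtain ⟨hdom, hdvr⟩ :=
      Groth.Agent.Lib.helper17.Wedge.isDVR_atPrime_integralClosure A hdim (e i).asIdeal
    haveI := hdom
    haveI := hdvr
    refine Groth.Agent.Lib.helper17.Multicross.exists_taylor_loc (e i).asIdeal
      ((algebraMap A (integralClosure A (FractionRing A))).comp (algebraMap k A)) ?_
    intro y
    obtain ⟨a, ha⟩ := hs (e i) y
    obtain ⟨c, hc⟩ := hres.2 (residue A a)
    refine ⟨c, ?_⟩
    rw [← ha]
    show Ideal.Quotient.mk _ (algebraMap A _ (algebraMap k A c)) =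
      Ideal.Quotient.mk _ (algebraMap A _ a)
    rw [Ideal.Quotient.eq, ← map_sub]
    apply hover
    rw [← Ideal.Quotient.eq]
    exact hc
  choose τ' hτ1 hτ2 hτ3 using hτ
  exact tau_of_wedge hres.2 hinj n hn0
    (fun i => (e i).asIdeal) (fun i => (e i).isMaximal)
    (fun i j h => e.injective (MaximalSpectrum.ext h)) (fun i => hover (e i))
    (fun b hb => hw b (by
      obtain ⟨a, ha⟩ := hb
      refine ⟨a, fun M => ?_⟩
      have := ha (e.symm M)
      rwa [Equiv.apply_symm_apply] at this))
    τ' hτ1 hτ2 hτ3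

theorem finrank_cotangentSpace_of_tau {k A : Type u} [Field k] [CommRing A] [IsLocalRing A]
    [Algebra k A]
    (hres : Function.Bijective (algebraMap k (ResidueField A)))
    (n : ℕ) (τ : Fin n → A →+* PowerSeries k)
    (hτk : ∀ i c, τ i (algebraMap k A c) = C c)
    (hτm : ∀ (a : A) (N : ℕ), a ∈ maximalIdeal A ^ N ↔ ∀ i, (X : PowerSeries k) ^ N ∣ τ i a)
    (hdense : ∀ (f : Fin n → PowerSeries k) (N : ℕ),
        (∀ i j, constantCoeff (f i) = constantCoeff (f j)) →
          ∃ a : A, ∀ i, (X : PowerSeries k) ^ N ∣ τ i a - f i) :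
    Module.finrank (ResidueField A) (CotangentSpace A) = n := by
  classical
  let L : maximalIdeal A →ₗ[k] (Fin n → k) :=
    { toFun := fun a i => coeff 1 (τ i a.1)
      map_add' := by
        intro a b
        funext i
        simp
      map_smul' := by
        intro c a
        funext i
        show coeff 1 (τ i (c • a).1) = c • coeff 1 (τ i a.1)
        rw [Submodule.coe_smul_of_tower, Algebra.smul_def, map_mul, hτk, coeff_C_mul,
          smul_eq_mul] }
  have hL : ∀ a i, L a i = coeff 1 (τ i a.1) := fun _ _ => rfl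
  have hsurjL : Function.Surjective L := by
    intro v
    obtain ⟨a, ha⟩ := hdense (fun i => C (v i) * X) 2 (by
      intro i j
      simp)
    have ham : a ∈ maximalIdeal A := by
      rw [← pow_one (maximalIdeal A), hτm]
      intro i
      have h1 : (X : PowerSeries k) ^ 1 ∣ τ i a - C (v i) * X :=
        dvd_trans (pow_dvd_pow _ (by norm_num)) (ha i)
      have h2 : (X : PowerSeries k) ^ 1 ∣ C (v i) * X := by
        rw [pow_one]; exact dvd_mul_left _ _
      have := dvd_add h1 h2
      rwa [sub_add_cancel] at this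
    refine ⟨⟨a, ham⟩, ?_⟩
    funext i
    rw [hL]
    have h1 := (X_pow_dvd_iff.1 (ha i)) 1 (by norm_num)
    rw [map_sub, sub_eq_zero] at h1
    rw [h1]
    simp
  have hkerL : LinearMap.ker L =
      LinearMap.ker ((maximalIdeal A).toCotangent.restrictScalars k) := by
    ext a
    rw [LinearMap.mem_ker, LinearMap.mem_ker, LinearMap.restrictScalars_apply,
      Ideal.toCotangent_eq_zero, hτm]
    have ha1 : ∀ i, coeff 0 (τ i a.1) = 0 := by
      intro i
      have := (hτm a.1 1).1 (by rw [pow_one]; exact a.2) i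
      exact (X_pow_dvd_iff.1 this) 0 (by norm_num)
    constructor
    · intro h i
      rw [X_pow_dvd_iff]
      intro m hm
      interval_cases m
      · exact ha1 i
      · have := congrFun h i
        rwa [hL] at this
    · intro h
      funext i
      rw [hL]
      exact (X_pow_dvd_iff.1 (h i)) 1 (by norm_num)
  have hsurjT : Function.Surjective ((maximalIdeal A).toCotangent.restrictScalars k) :=
    Ideal.toCotangent_surjective _
  let E : (maximalIdeal A).Cotangent ≃ₗ[k] (Fin n → k) :=
    ((LinearMap.quotKerEquivOfSurjective _ hsurjT).symm.trans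
      (Submodule.quotEquivOfEq _ _ hkerL.symm)).trans
      (LinearMap.quotKerEquivOfSurjective L hsurjL)
  have h1 : Module.finrank k (maximalIdeal A).Cotangent = n := by
    rw [E.finrank_eq]
    simp
  have h2 : Module.rank k (maximalIdeal A).Cotangent =
      Module.rank (ResidueField A) (CotangentSpace A) := by
    refine rank_eq_of_equiv_equiv (algebraMap k (ResidueField A))
      (AddEquiv.refl _) hres ?_
    intro c v
    obtain ⟨a, rfl⟩ := Ideal.toCotangent_surjective _ v
    show c • (maximalIdeal A).toCotangent a =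
      algebraMap k (ResidueField A) c • (maximalIdeal A).toCotangent a
    rw [IsScalarTower.algebraMap_apply k A (ResidueField A), algebraMap_smul, algebraMap_smul]
  unfold Module.finrank at h1 ⊢
  rw [← h2]
  exact h1

theorem exists_equiv_of_phi {k S : Type u} [Field k] [CommRing S] (n : ℕ) (hn : 0 < n)
    (φ : S →+* (Fin n → PowerSeries k)) (hinj : Function.Injective φ)
    (hrange : Set.range φ =
      {f | ∀ i j : Fin n, constantCoeff (f i) = constantCoeff (f j)}) :
    ∃ e : S ≃+* (MvPowerSeries (Fin n) k ⧸ MvPSKer.mixedIdeal k n),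
      ∀ s, MvPSKer.thetaBar k n (e s) = φ s := by
  classical
  have hex : ∀ s : S, ∃ z, MvPSKer.thetaBar k n z = φ s := by
    intro s
    have : φ s ∈ Set.range (MvPSKer.thetaBar k n) := by
      rw [MvPSKer.range_thetaBar]
      have h1 : φ s ∈ Set.range φ := ⟨s, rfl⟩
      rw [hrange] at h1
      exact h1
    exact this
  choose g hg using hex
  have hθ := MvPSKer.thetaBar_injective (k := k) hn
  have hex2 : ∀ z, ∃ s, φ s = MvPSKer.thetaBar k n z := by
    intro z
    have : MvPSKer.thetaBar k n z ∈ Set.range φ := by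
      rw [hrange]
      exact (MvPSKer.range_thetaBar _).1 ⟨z, rfl⟩
    exact this
  choose g' hg' using hex2
  refine ⟨{ toFun := g
            invFun := g'
            left_inv := fun s => hinj (by rw [hg', hg])
            right_inv := fun z => hθ (by rw [hg, hg'])
            map_mul' := fun a b => hθ (by rw [hg, map_mul, map_mul, hg, hg])
            map_add' := fun a b => hθ (by rw [hg, map_add, map_add, hg, hg]) }, hg⟩

end Groth.Agent.Lib.helper17.Multicross
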