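import Mathlib

/-!
# Projective modules over a local ring with nilpotent maximal ideal are free (helper17)

No finiteness hypothesis (a special case of Kaplansky's theorem with an elementary proof).
-/

set_option autoImplicit false
universe u v

namespace Groth.Agent.Lib.helper17.NilLocalFree

open IsLocalRing

/-- Nakayama for a nilpotent ideal, no finiteness: `N ⊔ I • ⊤ = ⊤` implies `N = ⊤`. -/
theorem eq_top_of_sup_smul_eq_top {R : Type u} [CommRing R] {M : Type v} [AddCommGroup M]
    [Module R M] (I : Ideal R) (k : ℕ) (hI : I ^ k = ⊥) (N : Submodule R M)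
    (h : N ⊔ I • (⊤ : Submodule R M) = ⊤) : N = ⊤ := by
  have key : ∀ j : ℕ, N ⊔ I ^ j • (⊤ : Submodule R M) = ⊤ := by
    intro j
    induction j with
    | zero => simp
    | succ j ih =>
      have h1 : I • (⊤ : Submodule R M) ≤ N ⊔ I ^ (j + 1) • (⊤ : Submodule R M) := by
        calc I • (⊤ : Submodule R M) = I • (N ⊔ I ^ j • (⊤ : Submodule R M)) := by rw [ih]
          _ = I • N ⊔ I • (I ^ j • (⊤ : Submodule R M)) := Submodule.smul_sup _ _ _
          _ ≤ N ⊔ I ^ (j + 1) • (⊤ : Submodule R M) := by
              refine sup_le_sup Submodule.smul_le_right ?_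
              rw [← Submodule.mul_smul, ← pow_succ']
      have h2 : N ⊔ I • (⊤ : Submodule R M) ≤ N ⊔ I ^ (j + 1) • (⊤ : Submodule R M) :=
        sup_le le_sup_left h1
      rw [h] at h2
      exact top_le_iff.mp h2
  have := key k
  rwa [hI, Submodule.bot_smul, sup_bot_eq] at this

/-- `K ≤ I • K` with `I` nilpotent implies `K = ⊥`. -/
theorem eq_bot_of_le_smul {R : Type u} [CommRing R] {M : Type v} [AddCommGroup M]
    [Module R M] (I : Ideal R) (k : ℕ) (hI : I ^ k = ⊥) (K : Submodule R M)
    (h : K ≤ I • K) : K = ⊥ := by
  have key : ∀ j : ℕ, K ≤ I ^ j • K := by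
    intro j
    induction j with
    | zero => simp
    | succ j ih =>
      calc K ≤ I • K := h
        _ ≤ I • (I ^ j • K) := Submodule.smul_mono le_rfl ih
        _ = I ^ (j + 1) • K := by rw [← Submodule.mul_smul, ← pow_succ']
  have := key k
  rw [hI, Submodule.bot_smul] at this
  exact le_bot_iff.mp this

theorem free_of_projective (R : Type u) [CommRing R] [IsLocalRing R]
    (hnil : ∃ k : ℕ, maximalIdeal R ^ k = ⊥) (P : Type v) [AddCommGroup P] [Module R P]
    [Module.Projective R P] : Module.Free R P := by
  classical
  obtain ⟨k, hk⟩ := hnil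
  letI : Field (R ⧸ maximalIdeal R) := Ideal.Quotient.field (maximalIdeal R)
  let bQ := Module.Basis.ofVectorSpace (R ⧸ maximalIdeal R)
    (P ⧸ (maximalIdeal R • ⊤ : Submodule R P))
  have hsurj := Submodule.Quotient.mk_surjective (maximalIdeal R • ⊤ : Submodule R P)
  choose b hb using fun i => hsurj (bQ i)
  let φ := Finsupp.linearCombination R b
  have hmkφ : ∀ x, Submodule.Quotient.mk (p := (maximalIdeal R • ⊤ : Submodule R P)) (φ x) =
      Finsupp.linearCombination (R ⧸ maximalIdeal R) bQ
        (x.mapRange (Ideal.Quotient.mk (maximalIdeal R)) (map_zero _)) := by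
    intro x
    induction x using Finsupp.induction_linear with
    | zero => simp
    | add x y hx hy => rw [map_add, Submodule.Quotient.mk_add, hx, hy, Finsupp.mapRange_add
        (by intro a b; exact map_add _ a b), map_add]
    | single i a =>
      rw [Finsupp.linearCombination_single, Finsupp.mapRange_single,
        Finsupp.linearCombination_single, Submodule.Quotient.mk_smul, hb]
      rfl
  -- surjectivity
  have hφsurj : Function.Surjective φ := by
    rw [← LinearMap.range_eq_top]
    apply eq_top_of_sup_smul_eq_top (maximalIdeal R) k hk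
    rw [sup_comm, ← Submodule.map_mkQ_eq_top]
    rw [eq_top_iff]
    have hspan : Submodule.span R (Set.range bQ) = ⊤ := by
      have h1 := Submodule.restrictScalars_span R (R ⧸ maximalIdeal R)
        Ideal.Quotient.mk_surjective (Set.range bQ)
      rw [bQ.span_eq] at h1
      rw [← h1]
      rfl
    rw [← hspan, Submodule.span_le]
    rintro _ ⟨i, rfl⟩
    refine ⟨b i, ⟨Finsupp.single i 1, by simp [φ]⟩, hb i⟩
  obtain ⟨s, hs⟩ := Module.projective_lifting_property φ LinearMap.id hφsurj
  -- injectivity
  have hker_le : LinearMap.ker φ ≤ maximalIdeal R • (⊤ : Submodule R (_ →₀ R)) := by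
    intro x hx
    have h0 : φ x = 0 := hx
    have h1 := hmkφ x
    rw [h0, Submodule.Quotient.mk_zero] at h1
    have hinj := bQ.linearIndependent.finsuppLinearCombination_injective
    have h2 : x.mapRange (Ideal.Quotient.mk (maximalIdeal R)) (map_zero _) = 0 := by
      apply hinj
      rw [← h1, map_zero]
    have h3 : ∀ i, x i ∈ maximalIdeal R := by
      intro i
      have := congrArg (fun f => f i) h2
      simpa [Ideal.Quotient.eq_zero_iff_mem] using this
    rw [← Finsupp.sum_single x]
    refine Submodule.sum_mem _ (fun i _ => ?_)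
    have : Finsupp.single i (x i) = x i • Finsupp.single i (1 : R) := by
      rw [Finsupp.smul_single, smul_eq_mul, mul_one]
    rw [this]
    exact Submodule.smul_mem_smul (h3 i) Submodule.mem_top
  have hφinj : Function.Injective φ := by
    rw [← LinearMap.ker_eq_bot]
    apply eq_bot_of_le_smul (maximalIdeal R) k hk
    intro x hx
    have hx0 : φ x = 0 := hx
    let πK := LinearMap.id - s.comp φ
    have hπx : πK x = x := by
      simp [πK, hx0]
    have hπker : ∀ y, πK y ∈ LinearMap.ker φ := by
      intro y
      have := congrArg (fun F => F (φ y)) hs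
      simp only [LinearMap.comp_apply, LinearMap.id_apply] at this
      simp [πK, this]
    have h1 : x ∈ (maximalIdeal R • (⊤ : Submodule R (_ →₀ R))).map πK :=
      ⟨x, hker_le hx, hπx⟩
    rw [Submodule.map_smul''] at h1
    refine Submodule.smul_mono le_rfl ?_ h1
    rintro _ ⟨y, -, rfl⟩
    exact hπker y
  exact Module.Free.of_equiv (LinearEquiv.ofBijective φ ⟨hφinj, hφsurj⟩)

end Groth.Agent.Lib.helper17.NilLocalFree
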