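import Mathlib
import Groth.Prelude.Def_CurvBase
import Groth.Agent.Lib.Helper17.NodeEtale
import Groth.Agent.Lib.Helper3.FTFieldDim
import Groth.Agent.Lib.Helper3.FTFieldClosureDim

/-!
# At-worst-nodal families and étale morphisms (helper17)

* `closure_mem_irreducibleComponents_of_generalizing`: a generalizing map sends generic points of
  irreducible components to generic points of irreducible components.
* `trdeg_residueField_eq_of_etale`: étale morphisms of `k`-schemes preserve `trdeg_k κ(·)`.
* `dim_irreducibleComponents_of_etale`, `atWorstNodal_of_etale`: transfer along étale `Y ⟶ X` over `k`.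
* `fiberMap f g s : (g ≫ f).fiber s ⟶ f.fiber s` with `isPullback_fiberMap` and an `Etale` instance.
* `isNodalFamily_comp_etale`.
-/

set_option autoImplicit false
set_option linter.style.haveILetI false
universe u

namespace Groth.Agent.Lib.helper17.NodalFamEt

open CategoryTheory CategoryTheory.Limits AlgebraicGeometry IsLocalRing

theorem closure_mem_irreducibleComponents_of_generalizing {Y X : Type*} [TopologicalSpace Y]
    [TopologicalSpace X] [QuasiSober X] [T0Space Y] (π : Y → X) (hπ : GeneralizingMap π)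
    (η : Y) (hη : closure ({η} : Set Y) ∈ irreducibleComponents Y) :
    closure ({π η} : Set X) ∈ irreducibleComponents X := by
  refine ⟨isIrreducible_singleton.closure, ?_⟩
  intro T hT hle
  -- generic point of closure T
  have hTc : IsIrreducible (closure T) := hT.closure
  obtain ⟨ζ, hζ⟩ := QuasiSober.sober hTc isClosed_closure
  have h1 : ζ ⤳ π η := by
    rw [specializes_iff_mem_closure, hζ.def]
    exact subset_closure (hle (subset_closure rfl))
  obtain ⟨η', h2, h3⟩ := hπ h1
  have h4 : closure ({η} : Set Y) ≤ closure ({η'} : Set Y) := by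
    rw [specializes_iff_closure_subset] at h2
    exact h2
  have h5 := hη.2 isIrreducible_singleton.closure h4
  have h6 : η ⤳ η' := by
    rw [specializes_iff_mem_closure]
    exact h5 (subset_closure rfl)
  have h7 : η' = η := (h2.antisymm h6).eq
  rw [h7] at h3
  rw [h3, hζ.def]
  exact subset_closure

theorem trdeg_residueField_eq_of_etale (k : Type u) [Field k] {X Y : Scheme.{u}}
    (p : X ⟶ Spec (CommRingCat.of k)) (q : Y ⟶ Spec (CommRingCat.of k)) (π : Y ⟶ X) [Etale π]
    (hq : π ≫ p = q) (y : Y) :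
    @Algebra.trdeg k (Y.residueField y) _ _ (@Curv2.resAlgebra k _ Y ⟨q⟩ y) =
      @Algebra.trdeg k (X.residueField (π y)) _ _ (@Curv2.resAlgebra k _ X ⟨p⟩ (π y)) := by
  letI i1 : Algebra k (X.residueField (π y)) := @Curv2.resAlgebra k _ X ⟨p⟩ (π y)
  letI i2 : Algebra k (Y.residueField y) := @Curv2.resAlgebra k _ Y ⟨q⟩ y
  letI iAB : Algebra (X.presheaf.stalk (π y)) (Y.presheaf.stalk y) := (π.stalkMap y).hom.toAlgebra
  haveI : IsLocalHom (algebraMap (X.presheaf.stalk (π y)) (Y.presheaf.stalk y)) :=
    inferInstanceAs (IsLocalHom (π.stalkMap y).hom)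
  haveI : Algebra.EssFiniteType (X.presheaf.stalk (π y)) (Y.presheaf.stalk y) :=
    LocallyOfFiniteType.stalkMap π y
  haveI : Algebra.FormallyUnramified (X.presheaf.stalk (π y)) (Y.presheaf.stalk y) :=
    FormallyUnramified.stalkMap π y
  letI i3 : Algebra (X.residueField (π y)) (Y.residueField y) :=
    IsLocalRing.ResidueField.instAlgebra (R := X.presheaf.stalk (π y)) (S := Y.presheaf.stalk y)
  haveI : Module.Finite (X.residueField (π y)) (Y.residueField y) :=
    inferInstanceAs (Module.Finite (ResidueField (X.presheaf.stalk (π y)))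
      (ResidueField (Y.presheaf.stalk y)))
  haveI : IsScalarTower k (X.residueField (π y)) (Y.residueField y) := by
    apply IsScalarTower.of_algebraMap_eq
    intro c
    have := congrArg (fun φ => φ c)
      (Groth.Agent.Lib.helper3.FTField.resMap_comp k p q π hq y)
    exact this
  have h0 : Algebra.trdeg (X.residueField (π y)) (Y.residueField y) = 0 :=
    _root_.trdeg_eq_zero
  have h1 := _root_.trdeg_add_eq k (X.residueField (π y)) (A := Y.residueField y)
  rw [h0, add_zero] at h1
  exact h1.symm

theorem dim_irreducibleComponents_of_etale (k : Type u) [Field k] {X Y : Scheme.{u}}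
    (p : X ⟶ Spec (CommRingCat.of k)) [LocallyOfFiniteType p]
    (q : Y ⟶ Spec (CommRingCat.of k)) (π : Y ⟶ X) [Etale π] (hq : π ≫ p = q)
    (hX : ∀ Z ∈ irreducibleComponents X, topologicalKrullDim Z = 1) :
    ∀ Z ∈ irreducibleComponents Y, topologicalKrullDim Z = 1 := by
  intro Z hZ
  obtain ⟨η, hη⟩ := QuasiSober.sober hZ.1 (isClosed_of_mem_irreducibleComponents Z hZ)
  have hdef := hη.def
  subst hdef
  have h1 := closure_mem_irreducibleComponents_of_generalizing π (Flat.generalizingMap π) η hZ
  have h2 := hX _ h1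
  letI iX : X.Over (Spec (CommRingCat.of k)) := ⟨p⟩
  letI iY : Y.Over (Spec (CommRingCat.of k)) := ⟨q⟩
  haveI : LocallyOfFiniteType (X ↘ Spec (CommRingCat.of k)) := ‹LocallyOfFiniteType p›
  haveI : LocallyOfFiniteType (Y ↘ Spec (CommRingCat.of k)) := by
    change LocallyOfFiniteType q
    rw [← hq]; infer_instance
  obtain ⟨n, hn⟩ := Groth.Agent.Lib.helper3.FTField.exists_nat_trdeg_residueField k X (π η)
  have h3 := Groth.Agent.Lib.helper3.FTField.dim_closure_eq_trdeg k X (π η) n hn
  have h4 := trdeg_residueField_eq_of_etale k p q π hq η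
  have h5 := Groth.Agent.Lib.helper3.FTField.dim_closure_eq_trdeg k Y η n (h4.trans hn)
  rw [h5, ← h3, h2]

theorem atWorstNodal_of_etale (k : Type u) [Field k] {X Y : Scheme.{u}}
    (p : X ⟶ Spec (CommRingCat.of k)) [LocallyOfFiniteType p]
    (q : Y ⟶ Spec (CommRingCat.of k)) (π : Y ⟶ X) [Etale π] (hq : π ≫ p = q)
    (hX : @Curv2.AtWorstNodal k _ X ⟨p⟩) : @Curv2.AtWorstNodal k _ Y ⟨q⟩ := by
  subst hq
  haveI : JacobsonSpace X := LocallyOfFiniteType.jacobsonSpace p
  intro y hy
  have hx : IsClosed ({π y} : Set X) := (NodeEtale.isClosed_singleton_iff_of_etale π y).2 hy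
  rcases hX (π y) hx with ⟨U, hxU, hsm⟩ | hnode
  · refine Or.inl ⟨π ⁻¹ᵁ U, hxU, ?_⟩
    change Smooth ((π ⁻¹ᵁ U).ι ≫ π ≫ p)
    change Smooth (U.ι ≫ p) at hsm
    rw [← Category.assoc, ← morphismRestrict_ι, Category.assoc]
    infer_instance
  · exact Or.inr ((NodeEtale.isNode_iff_of_etale k p π _ rfl y).1 hnode)

section fib

variable {X Y S : Scheme.{u}} (f : X ⟶ S) (g : Y ⟶ X) (s : S)

/-- the map on fibres induced by `g : Y ⟶ X`. -/
noncomputable def fiberMap : (g ≫ f).fiber s ⟶ f.fiber s :=
  pullback.lift ((g ≫ f).fiberι s ≫ g) ((g ≫ f).fiberToSpecResidueField s)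
    (by rw [Category.assoc, Scheme.Hom.fiber_fac])

theorem fiberMap_ι : fiberMap f g s ≫ f.fiberι s = (g ≫ f).fiberι s ≫ g :=
  pullback.lift_fst _ _ _

theorem fiberMap_toSpec :
    fiberMap f g s ≫ f.fiberToSpecResidueField s = (g ≫ f).fiberToSpecResidueField s :=
  pullback.lift_snd _ _ _

theorem isPullback_fiberMap :
    IsPullback (fiberMap f g s) ((g ≫ f).fiberι s) (f.fiberι s) g := by
  have h : IsPullback (fiberMap f g s ≫ f.fiberToSpecResidueField s) ((g ≫ f).fiberι s)
      (S.fromSpecResidueField s) (g ≫ f) := by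
    rw [fiberMap_toSpec]
    exact (IsPullback.of_hasPullback (g ≫ f) (S.fromSpecResidueField s)).flip
  exact IsPullback.of_right h (fiberMap_ι f g s)
    (IsPullback.of_hasPullback f (S.fromSpecResidueField s)).flip

instance [Etale g] : Etale (fiberMap f g s) :=
  MorphismProperty.of_isPullback (isPullback_fiberMap f g s).flip inferInstance

end fib

theorem isNodalFamily_comp_etale {X Y S : Scheme.{u}} (f : X ⟶ S) (hf : Curv2.IsNodalFamily f)
    (g : Y ⟶ X) [Etale g] : Curv2.IsNodalFamily (g ≫ f) := by
  obtain ⟨hfl, hfp, hfib⟩ := hf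
  haveI := hfl
  haveI := hfp
  refine ⟨inferInstance, inferInstance, fun s => ?_⟩
  obtain ⟨hdim, hnod⟩ := hfib s
  haveI : LocallyOfFiniteType f := inferInstance
  haveI : LocallyOfFiniteType (f.fiberToSpecResidueField s) :=
    MorphismProperty.pullback_snd (P := @LocallyOfFiniteType) f (S.fromSpecResidueField s)
      inferInstance
  exact ⟨dim_irreducibleComponents_of_etale (S.residueField s) (f.fiberToSpecResidueField s)
      ((g ≫ f).fiberToSpecResidueField s) (fiberMap f g s) (fiberMap_toSpec f g s) hdim,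
    atWorstNodal_of_etale (S.residueField s) (f.fiberToSpecResidueField s)
      ((g ≫ f).fiberToSpecResidueField s) (fiberMap f g s) (fiberMap_toSpec f g s) hnod⟩

end Groth.Agent.Lib.helper17.NodalFamEt
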