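import Mathlib
import Groth.Prelude.Def_CurvBase
import Groth.Agent.Lib.Helper17.NodalFamEt
import Groth.Agent.Lib.Helper5.FppfSource4
import Groth.Agent.Lib.Helper5.SmoothSourceDescent
import Groth.Agent.Lib.Helper22.FlatSrc
import Groth.Agent.Lib.Helper4.SmoothSrcDescent

/-!
# At-worst-nodal families are étale local on the source (helper17)

`isNodalFamily_of_etale_cover`: if `g i : U i ⟶ X` is a jointly surjective family of étale morphisms and
every `g i ≫ f` is an at-worst-nodal family, then so is `f`.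
-/

set_option autoImplicit false
set_option linter.style.haveILetI false
universe u

namespace Groth.Agent.Lib.helper17.NodalFamEtCover

open CategoryTheory CategoryTheory.Limits AlgebraicGeometry IsLocalRing
open Groth.Agent.Lib.helper17.NodalFamEt

section

variable {X S : Scheme.{u}} (f : X ⟶ S) {ι : Type u} (U : ι → Scheme.{u})
  (g : ∀ i, U i ⟶ X) [∀ i, Etale (g i)] (hsurj : ∀ x : X, ∃ i, x ∈ Set.range (g i).base)

include hsurj in
theorem flat_of_cover (h : ∀ i, Flat (g i ≫ f)) : Flat f := by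
  rw [Flat.iff_flat_stalkMap]
  intro y
  obtain ⟨i, x, rfl⟩ := hsurj y
  haveI := h i
  have h1 : ((g i ≫ f).stalkMap x).hom.Flat := Flat.stalkMap (g i ≫ f) x
  rw [Scheme.Hom.stalkMap_comp] at h1
  have h2 : ((g i).stalkMap x).hom.FaithfullyFlat := by
    have hfl : ((g i).stalkMap x).hom.Flat := Flat.stalkMap (g i) x
    algebraize [((g i).stalkMap x).hom]
    have : Module.FaithfullyFlat (X.presheaf.stalk ((g i) x)) ((U i).presheaf.stalk x) :=
      @Module.FaithfullyFlat.of_flat_of_isLocalHom _ _ _ _ _ _ _ hfl ((g i).toLRSHom.prop x)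
    assumption
  exact Groth.Agent.Lib.helper22.ringHom_flat_of_comp _ _ h2 h1

include hsurj in
theorem lfp_of_cover (h : ∀ i, LocallyOfFinitePresentation (g i ≫ f)) :
    LocallyOfFinitePresentation f :=
  Groth.Agent.Lib.helper5.FppfSource.of_jointly_surjective (P := @LocallyOfFinitePresentation)
    (Q := @RingHom.FinitePresentation)
    (fun f g => Groth.Agent.Lib.helper5.FppfSource.ringHom_finitePresentation_of_comp f g)
    Groth.Agent.Lib.helper5.FppfSource.finitePresentation_stable f U g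
    (fun i => inferInstance) (fun i => inferInstance)
    (fun x => by obtain ⟨i, t, ht⟩ := hsurj x; exact ⟨i, t, ht⟩) h

include hsurj in
omit [∀ i, Etale (g i)] in
theorem exists_fibre_point (s : S) (ξ : f.fiber s) :
    ∃ (i : ι) (η : (g i ≫ f).fiber s), fiberMap f (g i) s η = ξ := by
  obtain ⟨i, u, hu⟩ := hsurj (f.fiberι s ξ)
  obtain ⟨η, h1, -⟩ := Groth.Agent.Lib.helper2.ConstFin.exists_preimage_of_isPullback
    (isPullback_fiberMap f (g i) s) ξ u hu.symm
  exact ⟨i, η, h1⟩

end

/-- if `ξ` is the generic point of an irreducible component of `X` and `π η = ξ` with `π` continuous,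
there is a generic point `η'` of an irreducible component of `Y` with `π η' = ξ`. -/
theorem exists_generic_over {Y X : Type*} [TopologicalSpace Y] [TopologicalSpace X] [QuasiSober Y]
    [T0Space X] (π : Y → X) (hπ : Continuous π) (η : Y) (ξ : X) (hη : π η = ξ)
    (hξ : closure ({ξ} : Set X) ∈ irreducibleComponents X) :
    ∃ η' : Y, closure ({η'} : Set Y) ∈ irreducibleComponents Y ∧ π η' = ξ := by
  have hmem := irreducibleComponent_mem_irreducibleComponents η
  obtain ⟨η', hη'⟩ := QuasiSober.sober hmem.1 isClosed_irreducibleComponent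
  have hdef := hη'.def
  refine ⟨η', ?_, ?_⟩
  · rw [hdef]; exact hmem
  · have h1 : η' ⤳ η := by
      rw [specializes_iff_mem_closure, hdef]
      exact mem_irreducibleComponent
    have h2 : π η' ⤳ ξ := hη ▸ h1.map hπ
    have h3 : closure ({ξ} : Set X) ≤ closure ({π η'} : Set X) := by
      rw [specializes_iff_closure_subset] at h2
      exact h2
    have h4 := hξ.2 isIrreducible_singleton.closure h3
    have h5 : ξ ⤳ π η' := by
      rw [specializes_iff_mem_closure]
      exact h4 (subset_closure rfl)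
    exact (h2.antisymm h5).eq

theorem dim_irreducibleComponents_of_etale_cover (k : Type u) [Field k] {X : Scheme.{u}}
    (p : X ⟶ Spec (CommRingCat.of k)) [LocallyOfFiniteType p] {ι : Type u} (Y : ι → Scheme.{u})
    (q : ∀ i, Y i ⟶ Spec (CommRingCat.of k)) (π : ∀ i, Y i ⟶ X) [∀ i, Etale (π i)]
    (hq : ∀ i, π i ≫ p = q i) (hsurj : ∀ x : X, ∃ i, ∃ y : Y i, π i y = x)
    (hY : ∀ i, ∀ Z ∈ irreducibleComponents (Y i), topologicalKrullDim Z = 1) :
    ∀ Z ∈ irreducibleComponents X, topologicalKrullDim Z = 1 := by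
  intro Z hZ
  obtain ⟨ξ, hξ⟩ := QuasiSober.sober hZ.1 (isClosed_of_mem_irreducibleComponents Z hZ)
  have hdef := hξ.def
  subst hdef
  obtain ⟨i, η, hη⟩ := hsurj ξ
  obtain ⟨η', h1, h2⟩ := exists_generic_over (π i) (π i).continuous η ξ hη hZ
  subst h2
  have h3 := hY i _ h1
  letI iX : X.Over (Spec (CommRingCat.of k)) := ⟨p⟩
  letI iY : (Y i).Over (Spec (CommRingCat.of k)) := ⟨q i⟩
  haveI : LocallyOfFiniteType (X ↘ Spec (CommRingCat.of k)) := ‹LocallyOfFiniteType p›
  haveI : LocallyOfFiniteType ((Y i) ↘ Spec (CommRingCat.of k)) := by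
    change LocallyOfFiniteType (q i)
    rw [← hq i]; infer_instance
  obtain ⟨n, hn⟩ := Groth.Agent.Lib.helper3.FTField.exists_nat_trdeg_residueField k (Y i) η'
  have h4 := Groth.Agent.Lib.helper3.FTField.dim_closure_eq_trdeg k (Y i) η' n hn
  have h5 := trdeg_residueField_eq_of_etale k p (q i) (π i) (hq i) η'
  have h6 := Groth.Agent.Lib.helper3.FTField.dim_closure_eq_trdeg k X (π i η') n (h5.symm.trans hn)
  rw [h6, ← h4, h3]

theorem atWorstNodal_of_etale_cover (k : Type u) [Field k] {X : Scheme.{u}}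
    (p : X ⟶ Spec (CommRingCat.of k)) [LocallyOfFiniteType p] {ι : Type u} (Y : ι → Scheme.{u})
    (q : ∀ i, Y i ⟶ Spec (CommRingCat.of k)) (π : ∀ i, Y i ⟶ X) [∀ i, Etale (π i)]
    (hq : ∀ i, π i ≫ p = q i) (hsurj : ∀ x : X, ∃ i, ∃ y : Y i, π i y = x)
    (hY : ∀ i, @Curv2.AtWorstNodal k _ (Y i) ⟨q i⟩) : @Curv2.AtWorstNodal k _ X ⟨p⟩ := by
  haveI : JacobsonSpace X := LocallyOfFiniteType.jacobsonSpace p
  intro x hx
  obtain ⟨i, y, rfl⟩ := hsurj x
  have hy : IsClosed ({y} : Set (Y i)) := (NodeEtale.isClosed_singleton_iff_of_etale (π i) y).1 hx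
  rcases hY i y hy with ⟨V, hyV, hsm⟩ | hnode
  · left
    change Smooth (V.ι ≫ q i) at hsm
    obtain ⟨W, g', hfac, hg'sm, hg'surj, hW⟩ :=
      Groth.Agent.Lib.helper4.SmSrc.exists_corestrict (V.ι ≫ π i)
    refine ⟨W, ?_, ?_⟩
    · change π i y ∈ (W : Set X)
      rw [hW]
      exact ⟨⟨y, hyV⟩, rfl⟩
    · change Smooth (W.ι ≫ p)
      haveI : Smooth (g' ≫ W.ι ≫ p) := by
        rw [← Category.assoc, hfac, Category.assoc, hq i]
        exact hsm
      haveI := hg'surj
      haveI : Etale g' := by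
        have h1 : Etale (g' ≫ W.ι) := by rw [hfac]; infer_instance
        exact MorphismProperty.of_postcomp (W := @Etale) (W' := @IsOpenImmersion) g' W.ι
          inferInstance h1
      exact Groth.Agent.Lib.helper5.SmoothSrc.smooth_of_etale_comp_scheme g' (W.ι ≫ p)
  · right
    exact (NodeEtale.isNode_iff_of_etale k p (π i) (q i) (hq i) y).2 hnode

theorem isNodalFamily_of_etale_cover {X S : Scheme.{u}} (f : X ⟶ S) (ι : Type u)
    (U : ι → Scheme.{u}) (g : ∀ i, U i ⟶ X) [∀ i, Etale (g i)]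
    (hsurj : ∀ x : X, ∃ i, x ∈ Set.range (g i).base)
    (h : ∀ i, Curv2.IsNodalFamily (g i ≫ f)) : Curv2.IsNodalFamily f := by
  haveI hfl : Flat f := flat_of_cover f U g hsurj (fun i => (h i).1)
  haveI hfp : LocallyOfFinitePresentation f := lfp_of_cover f U g hsurj (fun i => (h i).2.1)
  refine ⟨hfl, hfp, fun s => ?_⟩
  haveI : LocallyOfFiniteType f := inferInstance
  haveI : LocallyOfFiniteType (f.fiberToSpecResidueField s) :=
    MorphismProperty.pullback_snd (P := @LocallyOfFiniteType) f (S.fromSpecResidueField s)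
      inferInstance
  have hs : ∀ ξ : f.fiber s, ∃ i, ∃ η : (g i ≫ f).fiber s, fiberMap f (g i) s η = ξ :=
    exists_fibre_point f U g hsurj s
  exact ⟨dim_irreducibleComponents_of_etale_cover (S.residueField s) (f.fiberToSpecResidueField s)
      (fun i => (g i ≫ f).fiber s) (fun i => (g i ≫ f).fiberToSpecResidueField s)
      (fun i => fiberMap f (g i) s) (fun i => fiberMap_toSpec f (g i) s) hs
      (fun i => ((h i).2.2 s).1),
    atWorstNodal_of_etale_cover (S.residueField s) (f.fiberToSpecResidueField s)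
      (fun i => (g i ≫ f).fiber s) (fun i => (g i ≫ f).fiberToSpecResidueField s)
      (fun i => fiberMap f (g i) s) (fun i => fiberMap_toSpec f (g i) s) hs
      (fun i => ((h i).2.2 s).2)⟩

end Groth.Agent.Lib.helper17.NodalFamEtCover
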