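import Mathlib
import Groth.Prelude.Def_CurvBase
import Groth.Agent.Lib.Helper17.EtBaseRestr
import Groth.Agent.Lib.Helper17.NodalFamEtCover

/-!
# At-worst-nodal families and étale morphisms of the base (helper17)

`isNodalFamily_comp_etale_base`: if `f : X ⟶ S'` is an at-worst-nodal family and `e : S' ⟶ S` is étale,
then `f ≫ e` is an at-worst-nodal family.  Ingredients: `mMap` (base change along `T' ⟶ T`), `piMapF`
(the étale map `f.fiber s' ⟶ (f ≫ e).fiber (e s')`), `atWorstNodal_restrict`.
-/

set_option autoImplicit false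
set_option linter.style.haveILetI false
universe u

namespace Groth.Agent.Lib.helper17.NodalFamPostEt

open CategoryTheory CategoryTheory.Limits AlgebraicGeometry IsLocalRing
open Groth.Agent.Lib.helper17.EtBaseRestr

section M

variable {Z B T T' : Scheme.{u}} (g : Z ⟶ B) (ι : T ⟶ B) (r : T' ⟶ T)

/-- `Z ×_B T' ⟶ Z ×_B T`. -/
noncomputable def mMap : pullback g (r ≫ ι) ⟶ pullback g ι :=
  pullback.lift (pullback.fst _ _) (pullback.snd _ _ ≫ r)
    (by rw [pullback.condition, Category.assoc])

theorem mMap_fst : mMap g ι r ≫ pullback.fst _ _ = pullback.fst _ _ := pullback.lift_fst _ _ _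

theorem mMap_snd : mMap g ι r ≫ pullback.snd _ _ = pullback.snd _ _ ≫ r := pullback.lift_snd _ _ _

theorem isPullback_mMap :
    IsPullback (mMap g ι r) (pullback.snd g (r ≫ ι)) (pullback.snd g ι) r := by
  have t : IsPullback (mMap g ι r ≫ pullback.fst g ι) (pullback.snd g (r ≫ ι)) g (r ≫ ι) := by
    rw [mMap_fst]
    exact IsPullback.of_hasPullback g (r ≫ ι)
  exact IsPullback.of_right t (mMap_snd g ι r) (IsPullback.of_hasPullback g ι)

instance etale_mMap [Etale r] : Etale (mMap g ι r) :=
  MorphismProperty.of_isPullback (isPullback_mMap g ι r).flip inferInstance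

end M

section res

variable {S' S : Scheme.{u}} (e : S' ⟶ S) [Etale e] (s' : S')

/-- the residue field extension of an étale morphism is étale. -/
instance etale_specMap_residueFieldMap : Etale (Spec.map (e.residueFieldMap s')) := by
  letI iAB : Algebra (S.presheaf.stalk (e s')) (S'.presheaf.stalk s') := (e.stalkMap s').hom.toAlgebra
  haveI : IsLocalHom (algebraMap (S.presheaf.stalk (e s')) (S'.presheaf.stalk s')) :=
    inferInstanceAs (IsLocalHom (e.stalkMap s').hom)
  haveI : Algebra.EssFiniteType (S.presheaf.stalk (e s')) (S'.presheaf.stalk s') :=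
    LocallyOfFiniteType.stalkMap e s'
  haveI : Algebra.FormallyUnramified (S.presheaf.stalk (e s')) (S'.presheaf.stalk s') :=
    FormallyUnramified.stalkMap e s'
  letI i3 : Algebra (S.residueField (e s')) (S'.residueField s') :=
    IsLocalRing.ResidueField.instAlgebra (R := S.presheaf.stalk (e s')) (S := S'.presheaf.stalk s')
  haveI : Module.Finite (S.residueField (e s')) (S'.residueField s') :=
    inferInstanceAs (Module.Finite (ResidueField (S.presheaf.stalk (e s')))
      (ResidueField (S'.presheaf.stalk s')))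
  haveI : Algebra.IsSeparable (S.residueField (e s')) (S'.residueField s') :=
    inferInstanceAs (Algebra.IsSeparable (ResidueField (S.presheaf.stalk (e s')))
      (ResidueField (S'.presheaf.stalk s')))
  exact etale_specMap_of_finite_separable (S.residueField (e s')) (S'.residueField s')

end res

section pi

variable {X S' S : Scheme.{u}} (f : X ⟶ S') (e : S' ⟶ S) (s' : S')

/-- the map from the fibre of `f` over `s'` to the fibre of `f ≫ e` over `e s'`. -/
noncomputable def piMap : pullback f (S'.fromSpecResidueField s') ⟶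
    pullback (f ≫ e) (S.fromSpecResidueField (e s')) :=
  jMap f e (S'.fromSpecResidueField s')
      (Spec.map (e.residueFieldMap s') ≫ S.fromSpecResidueField (e s'))
      (Scheme.Hom.SpecMap_residueFieldMap_fromSpecResidueField e s').symm ≫
    mMap (f ≫ e) (S.fromSpecResidueField (e s')) (Spec.map (e.residueFieldMap s'))

theorem piMap_fst : piMap f e s' ≫ pullback.fst (f ≫ e) (S.fromSpecResidueField (e s')) =
    pullback.fst f (S'.fromSpecResidueField s') := by
  unfold piMap
  rw [Category.assoc, mMap_fst, jMap_fst]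

theorem piMap_snd : piMap f e s' ≫ pullback.snd (f ≫ e) (S.fromSpecResidueField (e s')) =
    pullback.snd f (S'.fromSpecResidueField s') ≫ Spec.map (e.residueFieldMap s') := by
  unfold piMap
  rw [Category.assoc, mMap_snd, ← Category.assoc, jMap_snd]

instance etale_piMap [Etale e] : Etale (piMap f e s') := by
  unfold piMap; infer_instance

/-- `piMap` as a morphism of fibres. -/
noncomputable def piMapF : f.fiber s' ⟶ (f ≫ e).fiber (e s') := piMap f e s'

theorem piMapF_ι : piMapF f e s' ≫ (f ≫ e).fiberι (e s') = f.fiberι s' := piMap_fst f e s'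

theorem piMapF_toSpec : piMapF f e s' ≫ (f ≫ e).fiberToSpecResidueField (e s') =
    f.fiberToSpecResidueField s' ≫ Spec.map (e.residueFieldMap s') := piMap_snd f e s'

instance etale_piMapF [Etale e] : Etale (piMapF f e s') := etale_piMap f e s'

end pi

/-- restriction of the base field along an étale `Spec k' ⟶ Spec k` preserves at-worst-nodal. -/
theorem atWorstNodal_restrict (k k' : Type u) [Field k] [Field k'] [Algebra k k']
    [FiniteDimensional k k'] [Algebra.IsSeparable k k'] {Z : Scheme.{u}}
    (p' : Z ⟶ Spec (CommRingCat.of k')) [LocallyOfFiniteType p']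
    (h : @Curv2.AtWorstNodal k' _ Z ⟨p'⟩) :
    @Curv2.AtWorstNodal k _ Z ⟨p' ≫ Spec.map (CommRingCat.ofHom (algebraMap k k'))⟩ := by
  intro z hz
  rcases h z hz with ⟨U, hzU, hsm⟩ | hnode
  · left
    refine ⟨U, hzU, ?_⟩
    change Smooth (U.ι ≫ p') at hsm
    change Smooth (U.ι ≫ p' ≫ Spec.map (CommRingCat.ofHom (algebraMap k k')))
    haveI : Etale (Spec.map (CommRingCat.ofHom (algebraMap k k'))) :=
      etale_specMap_of_finite_separable k k'
    rw [← Category.assoc]
    infer_instance
  · right
    exact isNode_restrict_of_isNode k k' p' z hnode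

theorem atWorstNodal_restrict_residue {S' S : Scheme.{u}} (e : S' ⟶ S) [Etale e] (s' : S')
    {Z : Scheme.{u}} (p' : Z ⟶ Spec (S'.residueField s')) [LocallyOfFiniteType p']
    (h : @Curv2.AtWorstNodal (S'.residueField s') _ Z ⟨p'⟩) :
    @Curv2.AtWorstNodal (S.residueField (e s')) _ Z ⟨p' ≫ Spec.map (e.residueFieldMap s')⟩ := by
  letI iAB : Algebra (S.presheaf.stalk (e s')) (S'.presheaf.stalk s') := (e.stalkMap s').hom.toAlgebra
  haveI : IsLocalHom (algebraMap (S.presheaf.stalk (e s')) (S'.presheaf.stalk s')) :=
    inferInstanceAs (IsLocalHom (e.stalkMap s').hom)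
  haveI : Algebra.EssFiniteType (S.presheaf.stalk (e s')) (S'.presheaf.stalk s') :=
    LocallyOfFiniteType.stalkMap e s'
  haveI : Algebra.FormallyUnramified (S.presheaf.stalk (e s')) (S'.presheaf.stalk s') :=
    FormallyUnramified.stalkMap e s'
  letI i3 : Algebra (S.residueField (e s')) (S'.residueField s') :=
    IsLocalRing.ResidueField.instAlgebra (R := S.presheaf.stalk (e s')) (S := S'.presheaf.stalk s')
  haveI : Module.Finite (S.residueField (e s')) (S'.residueField s') :=
    inferInstanceAs (Module.Finite (ResidueField (S.presheaf.stalk (e s')))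
      (ResidueField (S'.presheaf.stalk s')))
  haveI : Algebra.IsSeparable (S.residueField (e s')) (S'.residueField s') :=
    inferInstanceAs (Algebra.IsSeparable (ResidueField (S.presheaf.stalk (e s')))
      (ResidueField (S'.presheaf.stalk s')))
  exact atWorstNodal_restrict (S.residueField (e s')) (S'.residueField s') p' h

theorem isNodalFamily_comp_etale_base {X S S' : Scheme.{u}} (e : S' ⟶ S) [Etale e] (f : X ⟶ S')
    (hf : Curv2.IsNodalFamily f) : Curv2.IsNodalFamily (f ≫ e) := by
  obtain ⟨hfl, hfp, hfib⟩ := hf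
  haveI := hfl
  haveI := hfp
  haveI : LocallyOfFiniteType f := inferInstance
  refine ⟨inferInstance, inferInstance, fun s => ?_⟩
  haveI : LocallyOfFiniteType (f ≫ e) := inferInstance
  haveI : LocallyOfFiniteType ((f ≫ e).fiberToSpecResidueField s) :=
    MorphismProperty.pullback_snd (P := @LocallyOfFiniteType) (f ≫ e) (S.fromSpecResidueField s)
      inferInstance
  have key : ∀ y : (f ≫ e).fiber s, ∃ (Y : Scheme.{u}) (q : Y ⟶ Spec (S.residueField s))
      (π : Y ⟶ (f ≫ e).fiber s), Etale π ∧ π ≫ (f ≫ e).fiberToSpecResidueField s = q ∧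
      (∃ y', π y' = y) ∧ (∀ Z ∈ irreducibleComponents Y, topologicalKrullDim Z = 1) ∧
      @Curv2.AtWorstNodal (S.residueField s) _ Y ⟨q⟩ := by
    intro y
    obtain ⟨x, hx⟩ : ∃ x : X, (f ≫ e).fiberι s y = x := ⟨_, rfl⟩
    have hs : e (f x) = s := by
      have h1 : (f ≫ e).fiberι s y ∈ Set.range ((f ≫ e).fiberι s) := Set.mem_range_self y
      rw [(f ≫ e).range_fiberι s, hx] at h1
      exact h1
    subst hs
    haveI : LocallyOfFiniteType (f.fiberToSpecResidueField (f x)) :=
      MorphismProperty.pullback_snd (P := @LocallyOfFiniteType) f (S'.fromSpecResidueField (f x))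
        inferInstance
    refine ⟨f.fiber (f x), f.fiberToSpecResidueField (f x) ≫ Spec.map (e.residueFieldMap (f x)),
      piMapF f e (f x), inferInstance, piMapF_toSpec f e (f x), ⟨f.asFiber x, ?_⟩, (hfib (f x)).1, ?_⟩
    · apply ((f ≫ e).fiberι (e (f x))).isEmbedding.injective
      rw [hx, ← Scheme.Hom.comp_apply, piMapF_ι]
      exact f.fiberι_asFiber x
    · exact atWorstNodal_restrict_residue e (f x) (f.fiberToSpecResidueField (f x)) (hfib (f x)).2
  choose Y q π hπ hq hsurj hdim hnod using key
  haveI : ∀ i, Etale (π i) := hπ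
  exact ⟨NodalFamEtCover.dim_irreducibleComponents_of_etale_cover (S.residueField s)
      ((f ≫ e).fiberToSpecResidueField s) Y q π hq (fun y => ⟨y, hsurj y⟩) hdim,
    NodalFamEtCover.atWorstNodal_of_etale_cover (S.residueField s)
      ((f ≫ e).fiberToSpecResidueField s) Y q π hq (fun y => ⟨y, hsurj y⟩) hnod⟩

end Groth.Agent.Lib.helper17.NodalFamPostEt
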