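import Mathlib
import Groth.Agent.Lib.Helper3.NoetherianDescent

/-!
# Local Noetherianity under base change along a field extension (helper17)

For a pullback square `a c' c (Spec.map φ)` with `c : F ⟶ Spec K`, `K` a field, `K'` nontrivial:
`F'` locally Noetherian implies `F` locally Noetherian, and conversely if `φ` is essentially of finite
type.
-/

set_option autoImplicit false
set_option linter.style.haveILetI false
universe u
open CategoryTheory CategoryTheory.Limits AlgebraicGeometry TopologicalSpace TensorProduct

namespace Groth.Agent.Lib.helper17.NoethFibre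

theorem isLocallyNoetherian_iff_of_iso {X Y : Scheme.{u}} (e : X ≅ Y) :
    IsLocallyNoetherian X ↔ IsLocallyNoetherian Y :=
  ⟨fun _ => isLocallyNoetherian_of_isOpenImmersion e.inv,
    fun _ => isLocallyNoetherian_of_isOpenImmersion e.hom⟩

/-- ring level, descent. -/
theorem isNoetherianRing_of_tensor (K R K' : Type u) [CommRing K] [CommRing R] [CommRing K']
    [Algebra K R] [Algebra K K'] (hK : IsField K) [Nontrivial K']
    [IsNoetherianRing (R ⊗[K] K')] : IsNoetherianRing R := by
  letI := hK.toField
  haveI : Module.FaithfullyFlat K K' := inferInstance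
  haveI : Module.FaithfullyFlat R (R ⊗[K] K') := inferInstance
  exact Groth.Agent.Lib.helper3.isNoetherianRing_of_faithfullyFlat R (R ⊗[K] K')

/-- ring level, ascent. -/
theorem isNoetherianRing_tensor (K R K' : Type u) [CommRing K] [CommRing R] [CommRing K']
    [Algebra K R] [Algebra K K'] [Algebra.EssFiniteType K K'] [IsNoetherianRing R] :
    IsNoetherianRing (R ⊗[K] K') :=
  Algebra.EssFiniteType.isNoetherianRing R _

variable {F F' : Scheme.{u}} {K K' : CommRingCat.{u}} {c : F ⟶ Spec K} {c' : F' ⟶ Spec K'}
  {a : F' ⟶ F} {φ : K ⟶ K'}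

/-- the pieces of the cover of the pullback are locally Noetherian iff the tensor products are. -/
theorem isLocallyNoetherian_piece_iff (c : F ⟶ Spec K) (φ : K ⟶ K') (i : F.affineOpenCover.I₀)
    (θ : K ⟶ F.affineOpenCover.X i) (hθ : F.affineOpenCover.f i ≫ c = Spec.map θ) :
    letI := θ.hom.toAlgebra
    letI := φ.hom.toAlgebra
    IsLocallyNoetherian (pullback (F.affineOpenCover.openCover.f i ≫ c) (Spec.map φ)) ↔
      IsNoetherianRing ((F.affineOpenCover.X i) ⊗[K] K') := by
  letI := θ.hom.toAlgebra
  letI := φ.hom.toAlgebra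
  have e : pullback (F.affineOpenCover.openCover.f i ≫ c) (Spec.map φ) ≅
      Spec (CommRingCat.of ((F.affineOpenCover.X i) ⊗[K] K')) :=
    pullback.congrHom hθ rfl ≪≫ pullbackSpecIso K (F.affineOpenCover.X i) K'
  rw [isLocallyNoetherian_iff_of_iso e, isLocallyNoetherian_Spec]

/-- Local Noetherianity in a pullback square over a field extension. -/
theorem isLocallyNoetherian_iff_forall (hF : IsPullback a c' c (Spec.map φ)) :
    IsLocallyNoetherian F' ↔ ∀ i : F.affineOpenCover.I₀,
      IsLocallyNoetherian (pullback (F.affineOpenCover.openCover.f i ≫ c) (Spec.map φ)) := by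
  rw [isLocallyNoetherian_iff_of_iso hF.isoPullback,
    isLocallyNoetherian_iff_openCover
      (Scheme.Pullback.openCoverOfLeft F.affineOpenCover.openCover c (Spec.map φ))]
  rfl

/-- descent of local Noetherianity along a field extension. -/
theorem isLocallyNoetherian_of_isPullback (hF : IsPullback a c' c (Spec.map φ)) (hK : IsField K)
    [Nontrivial K'] [IsLocallyNoetherian F'] : IsLocallyNoetherian F := by
  rw [isLocallyNoetherian_iff_openCover F.affineOpenCover.openCover]
  intro i
  have h1 := (isLocallyNoetherian_iff_forall hF).mp inferInstance i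
  let θ : K ⟶ F.affineOpenCover.X i := Spec.preimage (F.affineOpenCover.f i ≫ c)
  have hθ : F.affineOpenCover.f i ≫ c = Spec.map θ := (Spec.map_preimage _).symm
  rw [isLocallyNoetherian_piece_iff c φ i θ hθ] at h1
  letI := θ.hom.toAlgebra
  letI := φ.hom.toAlgebra
  haveI := h1
  haveI : IsNoetherianRing (F.affineOpenCover.X i) :=
    isNoetherianRing_of_tensor K (F.affineOpenCover.X i) K' hK
  exact (isLocallyNoetherian_Spec (R := F.affineOpenCover.X i)).mpr inferInstance

/-- ascent of local Noetherianity along an essentially finite type extension. -/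
theorem isLocallyNoetherian_of_isPullback_of_essFiniteType (hF : IsPullback a c' c (Spec.map φ))
    (hφ : φ.hom.EssFiniteType) [IsLocallyNoetherian F] : IsLocallyNoetherian F' := by
  rw [isLocallyNoetherian_iff_forall hF]
  intro i
  let θ : K ⟶ F.affineOpenCover.X i := Spec.preimage (F.affineOpenCover.f i ≫ c)
  have hθ : F.affineOpenCover.f i ≫ c = Spec.map θ := (Spec.map_preimage _).symm
  rw [isLocallyNoetherian_piece_iff c φ i θ hθ]
  letI := θ.hom.toAlgebra
  letI := φ.hom.toAlgebra
  haveI : Algebra.EssFiniteType K K' := hφ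
  haveI : IsLocallyNoetherian (Spec (F.affineOpenCover.X i)) :=
    inferInstanceAs (IsLocallyNoetherian (F.affineOpenCover.openCover.X i))
  haveI : IsNoetherianRing (F.affineOpenCover.X i) := isLocallyNoetherian_Spec.mp inferInstance
  exact isNoetherianRing_tensor K (F.affineOpenCover.X i) K'

end Groth.Agent.Lib.helper17.NoethFibre
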