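import Mathlib
import Groth.Agent.Lib.Helper3.StalkBC2

/-!
# Normalization: transitivity and generic fibres (helper17)
-/

set_option autoImplicit false
universe u
open CategoryTheory CategoryTheory.Limits AlgebraicGeometry

namespace Groth.Agent.Lib.helper17.NormBC

/-- Transitivity of relative normalization: if `Z` is its own normalization in `W` (via `h`),
then the normalizations of `X` in `W` and in `Z` agree. -/
theorem exists_iso_normalization_of_isIso_fromNormalization {W Z X : Scheme.{u}}
    (h : W ⟶ Z) (g : Z ⟶ X) (j : W ⟶ X) (hj : h ≫ g = j)
    [QuasiCompact h] [QuasiSeparated h] [QuasiCompact g] [QuasiSeparated g]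
    [QuasiCompact j] [QuasiSeparated j] [IsIso h.fromNormalization] :
    ∃ I : j.normalization ≅ g.normalization,
      I.hom ≫ g.fromNormalization = j.fromNormalization ∧
      j.toNormalization ≫ I.hom = h ≫ g.toNormalization := by
  have H : j = (h ≫ g.toNormalization) ≫ g.fromNormalization := by
    rw [Category.assoc, g.toNormalization_fromNormalization, hj]
  let α : j.normalization ⟶ g.normalization :=
    j.normalizationDesc (h ≫ g.toNormalization) g.fromNormalization H
  have hα1 : α ≫ g.fromNormalization = j.fromNormalization :=
    j.normalizationDesc_comp _ _ H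
  have hα2 : j.toNormalization ≫ α = h ≫ g.toNormalization :=
    j.toNormalization_normalizationDesc _ _ H
  -- the map `Z ⟶ j.normalization`
  let f₁ : W ⟶ pullback g j.fromNormalization :=
    pullback.lift h j.toNormalization (by rw [hj, j.toNormalization_fromNormalization])
  have Hh : h = f₁ ≫ pullback.fst g j.fromNormalization := (pullback.lift_fst _ _ _).symm
  let d : h.normalization ⟶ pullback g j.fromNormalization :=
    h.normalizationDesc f₁ (pullback.fst g j.fromNormalization) Hh
  have hd1 : d ≫ pullback.fst g j.fromNormalization = h.fromNormalization :=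
    h.normalizationDesc_comp _ _ Hh
  have hd2 : h.toNormalization ≫ d = f₁ := h.toNormalization_normalizationDesc _ _ Hh
  let c : Z ⟶ j.normalization :=
    inv h.fromNormalization ≫ d ≫ pullback.snd g j.fromNormalization
  have hc1 : c ≫ j.fromNormalization = g := by
    simp only [c, Category.assoc]
    rw [← pullback.condition, ← Category.assoc d, hd1, IsIso.inv_hom_id_assoc]
  have hc2 : h ≫ c = j.toNormalization := by
    have h3 : h ≫ inv h.fromNormalization = h.toNormalization :=
      (IsIso.comp_inv_eq _).mpr h.toNormalization_fromNormalization.symm
    simp only [c]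
    rw [← Category.assoc, h3, ← Category.assoc, hd2, pullback.lift_snd]
  let β : g.normalization ⟶ j.normalization :=
    g.normalizationDesc c j.fromNormalization hc1.symm
  have hβ1 : β ≫ j.fromNormalization = g.fromNormalization :=
    g.normalizationDesc_comp _ _ hc1.symm
  have hβ2 : g.toNormalization ≫ β = c := g.toNormalization_normalizationDesc _ _ hc1.symm
  have hαβ : α ≫ β = 𝟙 _ := by
    refine Scheme.Hom.normalization.hom_ext j _ _ j.fromNormalization ?_ ?_ ?_
    · rw [← Category.assoc, hα2, Category.assoc, hβ2, hc2, Category.comp_id]
    · rw [Category.assoc, hβ1, hα1]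
    · rw [Category.id_comp]
  have hβα : β ≫ α = 𝟙 _ := by
    refine Scheme.Hom.normalization.hom_ext g _ _ g.fromNormalization ?_ ?_ ?_
    · rw [← Category.assoc, hβ2, Category.comp_id]
      -- `c ≫ α = g.toNormalization`
      have key : h.fromNormalization ≫ g.toNormalization =
          d ≫ pullback.snd g j.fromNormalization ≫ α := by
        have e1 : (h.fromNormalization ≫ g.toNormalization) ≫ g.fromNormalization =
            h.fromNormalization ≫ g := by
          rw [Category.assoc, g.toNormalization_fromNormalization]
        have e2 : (d ≫ pullback.snd g j.fromNormalization ≫ α) ≫ g.fromNormalization =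
            h.fromNormalization ≫ g := by
          simp only [Category.assoc]
          rw [hα1, ← pullback.condition, ← Category.assoc, hd1]
        have := Scheme.Hom.normalization.hom_ext h
          (pullback.lift h.fromNormalization (h.fromNormalization ≫ g.toNormalization) e1.symm)
          (pullback.lift h.fromNormalization (d ≫ pullback.snd g j.fromNormalization ≫ α)
            e2.symm)
          (pullback.fst g g.fromNormalization) ?_ (pullback.lift_fst _ _ _)
          (pullback.lift_fst _ _ _)
        · have h4 := congrArg (· ≫ pullback.snd g g.fromNormalization) this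
          simpa only [pullback.lift_snd] using h4
        · apply pullback.hom_ext
          · simp only [Category.assoc, pullback.lift_fst]
          · simp only [Category.assoc, pullback.lift_snd]
            rw [← Category.assoc, h.toNormalization_fromNormalization,
              ← Category.assoc h.toNormalization, hd2, ← Category.assoc f₁, pullback.lift_snd, hα2]
      simp only [c, Category.assoc]
      rw [← key, IsIso.inv_hom_id_assoc]
    · rw [Category.assoc, hα1, hβ1]
    · rw [Category.id_comp]
  exact ⟨⟨α, β, hαβ, hβα⟩, hα1, hα2⟩

section GenericFibre

variable {T S : Scheme.{u}} [IsIntegral T] [IsIntegral S] (π : T ⟶ S)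

theorem exists_snd_eq_genericPoint (hπ : π (genericPoint T) = genericPoint S) :
    ∃ η₀ : ↥(pullback (S.fromSpecStalk (genericPoint S)) π),
      pullback.snd (S.fromSpecStalk (genericPoint S)) π η₀ = genericPoint T := by
  have hmem : genericPoint T ∈
      Set.range (pullback.snd (S.fromSpecStalk (genericPoint S)) π) := by
    rw [Scheme.Pullback.range_snd]
    refine ⟨IsLocalRing.closedPoint _, ?_⟩
    rw [Scheme.fromSpecStalk_closedPoint, hπ]
  exact hmem

/-- The generic fibre of a morphism of integral schemes mapping the generic point to the generic
point is integral. -/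
theorem isIntegral_genericFibre (hπ : π (genericPoint T) = genericPoint S) :
    IsIntegral (pullback (S.fromSpecStalk (genericPoint S)) π) := by
  obtain ⟨η₀, hη₀⟩ := exists_snd_eq_genericPoint π hπ
  set ρ := pullback.snd (S.fromSpecStalk (genericPoint S)) π with hρ
  have hcl : closure ({η₀} : Set ↥(pullback (S.fromSpecStalk (genericPoint S)) π)) =
      Set.univ := by
    rw [ρ.isEmbedding.toIsInducing.closure_eq_preimage_closure_image, Set.image_singleton, hη₀,
      genericPoint_closure]
    rfl
  haveI : IrreducibleSpace ↥(pullback (S.fromSpecStalk (genericPoint S)) π) := by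
    have h1 : IsIrreducible (Set.univ : Set ↥(pullback (S.fromSpecStalk (genericPoint S)) π)) := by
      rw [← hcl]
      exact isIrreducible_singleton.closure
    exact { isPreirreducible_univ := h1.2, toNonempty := ⟨η₀⟩ }
  haveI : ∀ y : ↥(pullback (S.fromSpecStalk (genericPoint S)) π),
      _root_.IsReduced ((pullback (S.fromSpecStalk (genericPoint S)) π).presheaf.stalk y) := by
    intro y
    have hbij := Groth.Agent.Lib.helper3.StalkBC2.stalkMap_snd_bijective π (genericPoint S) y
    let e := RingEquiv.ofBijective _ hbij
    exact isReduced_of_injective e.symm.toRingHom e.symm.injective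
  haveI : IsReduced (pullback (S.fromSpecStalk (genericPoint S)) π) :=
    isReduced_of_isReduced_stalk _
  exact isIntegral_of_irreducibleSpace_of_isReduced _

theorem snd_genericPoint (hπ : π (genericPoint T) = genericPoint S)
    [IsIntegral (pullback (S.fromSpecStalk (genericPoint S)) π)] :
    pullback.snd (S.fromSpecStalk (genericPoint S)) π
      (genericPoint ↥(pullback (S.fromSpecStalk (genericPoint S)) π)) = genericPoint T := by
  obtain ⟨η₀, hη₀⟩ := exists_snd_eq_genericPoint π hπ
  have h1 : genericPoint ↥(pullback (S.fromSpecStalk (genericPoint S)) π) ⤳ η₀ :=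
    genericPoint_specializes η₀
  have h2 := h1.map (pullback.snd (S.fromSpecStalk (genericPoint S)) π).continuous
  rw [hη₀] at h2
  exact (h2.antisymm (genericPoint_specializes _)).eq

end GenericFibre

end Groth.Agent.Lib.helper17.NormBC
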