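import Mathlib
import Groth.Agent.Lib.Helper3.StalkBC2
import Groth.Agent.Lib.Helper13.Normal7
import Groth.Agent.Lib.Helper17.NormBC1

/-!
# Normalization of an integral scheme via a normal generic fibre; uniqueness of generic lifts
(helper17)
-/

set_option autoImplicit false
universe u
open CategoryTheory CategoryTheory.Limits AlgebraicGeometry

namespace Groth.Agent.Lib.helper17.NormBC

open Groth.Agent.Lib.helper13.Normal

/-- `fromNormalization` of an isomorphism is an isomorphism. -/
theorem isIso_fromNormalization_of_isIso {W W' : Scheme.{u}} (φ : W ⟶ W') [IsIso φ] :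
    IsIso φ.fromNormalization := by
  have h1 : φ.toNormalization ≫ φ.fromNormalization = φ := φ.toNormalization_fromNormalization
  have h2 : IsIso (φ.toNormalization ≫ φ.fromNormalization) := by rw [h1]; infer_instance
  exact IsIso.of_isIso_comp_left φ.toNormalization φ.fromNormalization

/-- Being one's own normalization is invariant under isomorphisms of the source. -/
theorem isIso_fromNormalization_comp_of_isIso {W W' Z : Scheme.{u}} (φ : W ⟶ W') [IsIso φ]
    (t : W' ⟶ Z) [QuasiCompact t] [QuasiSeparated t] [IsIso t.fromNormalization] :
    IsIso (φ ≫ t).fromNormalization := by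
  haveI := isIso_fromNormalization_of_isIso φ
  obtain ⟨I, hI, -⟩ := exists_iso_normalization_of_isIso_fromNormalization φ t (φ ≫ t) rfl
  rw [← hI]
  infer_instance

section GenericFibre

variable {T S : Scheme.{u}} [IsIntegral T] [IsIntegral S] (π : T ⟶ S)

/-- If the generic fibre `T_η` of `π : T ⟶ S` is a normal scheme, the normalization of `T` (in its
function field) is the normalization of `T` in `T_η`. -/
theorem exists_iso_normalization_genericFibre (hπ : π (genericPoint T) = genericPoint S)
    [QuasiCompact (S.fromSpecStalk (genericPoint S))]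
    [QuasiSeparated (S.fromSpecStalk (genericPoint S))]
    [QuasiCompact (T.fromSpecStalk (genericPoint T))]
    [QuasiSeparated (T.fromSpecStalk (genericPoint T))]
    (hn : Pi1.IsNormalScheme (pullback (S.fromSpecStalk (genericPoint S)) π)) :
    ∃ I : (T.fromSpecStalk (genericPoint T)).normalization ≅
        (pullback.snd (S.fromSpecStalk (genericPoint S)) π).normalization,
      I.hom ≫ (pullback.snd (S.fromSpecStalk (genericPoint S)) π).fromNormalization =
        (T.fromSpecStalk (genericPoint T)).fromNormalization := by
  haveI := isIntegral_genericFibre π hπ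
  set Tη := pullback (S.fromSpecStalk (genericPoint S)) π with hTη
  set ρ := pullback.snd (S.fromSpecStalk (genericPoint S)) π with hρ
  have hζ : ρ (genericPoint Tη) = genericPoint T := snd_genericPoint π hπ
  let t₁ := Tη.fromSpecStalk (genericPoint Tη)
  haveI : IsIso t₁.fromNormalization := isIso_fromNormalization_of_isNormalScheme hn
  -- the isomorphism of function fields
  have hbij := Groth.Agent.Lib.helper3.StalkBC2.stalkMap_snd_bijective π (genericPoint S)
    (genericPoint Tη)
  haveI : IsIso (ρ.stalkMap (genericPoint Tη)) :=
    (ConcreteCategory.isIso_iff_bijective _).mpr hbij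
  let sp : T.presheaf.stalk (genericPoint T) ≅ T.presheaf.stalk (ρ (genericPoint Tη)) :=
    T.presheaf.stalkCongr (.of_eq hζ.symm)
  have hsp : sp.hom = T.presheaf.stalkSpecializes (Inseparable.of_eq hζ.symm).ge := rfl
  let ψ : Spec (Tη.presheaf.stalk (genericPoint Tη)) ⟶ Spec (T.presheaf.stalk (genericPoint T)) :=
    Spec.map (ρ.stalkMap (genericPoint Tη)) ≫ Spec.map sp.hom
  haveI : IsIso ψ := by dsimp only [ψ]; infer_instance
  have hψ : ψ ≫ T.fromSpecStalk (genericPoint T) = t₁ ≫ ρ := by
    dsimp only [ψ]
    rw [Category.assoc, hsp, Scheme.SpecMap_stalkSpecializes_fromSpecStalk,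
      Scheme.SpecMap_stalkMap_fromSpecStalk]
  let h : Spec (T.presheaf.stalk (genericPoint T)) ⟶ Tη := inv ψ ≫ t₁
  have hh : h ≫ ρ = T.fromSpecStalk (genericPoint T) := by
    dsimp only [h]
    rw [Category.assoc, ← hψ, IsIso.inv_hom_id_assoc]
  haveI : IsIso h.fromNormalization := isIso_fromNormalization_comp_of_isIso (inv ψ) t₁
  obtain ⟨I, hI, -⟩ := exists_iso_normalization_of_isIso_fromNormalization h ρ
    (T.fromSpecStalk (genericPoint T)) hh
  exact ⟨I, hI⟩

end GenericFibre

/-- The generic point of an integral scheme lifts uniquely to the normalization. -/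
theorem eq_toNormalization_of_comp_fromNormalization {X : Scheme.{u}} [IsIntegral X]
    [QuasiCompact (X.fromSpecStalk (genericPoint X))]
    [QuasiSeparated (X.fromSpecStalk (genericPoint X))]
    (u : Spec (X.presheaf.stalk (genericPoint X)) ⟶ (X.fromSpecStalk (genericPoint X)).normalization)
    (hu : u ≫ (X.fromSpecStalk (genericPoint X)).fromNormalization =
      X.fromSpecStalk (genericPoint X)) :
    u = (X.fromSpecStalk (genericPoint X)).toNormalization := by
  set j := X.fromSpecStalk (genericPoint X) with hj
  haveI : IsIntegral (Spec (X.presheaf.stalk (genericPoint X))) :=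
    inferInstanceAs (IsIntegral (Spec X.functionField))
  have hgen : j.fromNormalization (genericPoint j.normalization) = genericPoint X :=
    fromNormalization_genericPoint (Field.toIsField X.functionField) j
      (IsLocalRing.closedPoint _) Scheme.fromSpecStalk_closedPoint
  haveI := isIntegral_genericFibre j.fromNormalization hgen
  let s : Spec (X.presheaf.stalk (genericPoint X)) ⟶ pullback j j.fromNormalization :=
    pullback.lift (𝟙 _) j.toNormalization
      (by rw [Category.id_comp, j.toNormalization_fromNormalization])
  have hs : s ≫ pullback.fst j j.fromNormalization = 𝟙 _ := pullback.lift_fst _ _ _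
  haveI : IsIso (pullback.fst j j.fromNormalization) :=
    isIso_of_section (pullback.fst j j.fromNormalization) s hs
  let su : Spec (X.presheaf.stalk (genericPoint X)) ⟶ pullback j j.fromNormalization :=
    pullback.lift (𝟙 _) u (by rw [Category.id_comp, hu])
  have hsu : su ≫ pullback.fst j j.fromNormalization = 𝟙 _ := pullback.lift_fst _ _ _
  have heq : su = s := by
    rw [← cancel_mono (pullback.fst j j.fromNormalization), hs, hsu]
  have h1 : su ≫ pullback.snd j j.fromNormalization = u := pullback.lift_snd _ _ _
  have h2 : s ≫ pullback.snd j j.fromNormalization = j.toNormalization := pullback.lift_snd _ _ _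
  rw [← h1, heq, h2]

end Groth.Agent.Lib.helper17.NormBC
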