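import Mathlib
import Groth.Prelude
import Groth.Agent.Lib.Helper17.NormHens3

/-!
# helper17: geometric branches and the strict henselization

* `ker_isMaximal`, `exists_hom_of_isMaximal`, `hom_ext_of_ker_eq`: for `C` integral over a local ring
  `S` with separably closed residue field and `ιS : S → Ω` (`Ω` algebraically closed, kernel `𝔪_S`),
  ring maps `C → Ω` extending `ιS` correspond bijectively to maximal ideals of `C`.
* `bijective_thetaOf`: for `C = A' ⊗[A] S` these maps correspond to pairs (maximal ideal `m'` of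
  `A'`, embedding of `A'/m'` into `κ̄` over `κ`) (`Brnch.Emb`).
* `card_minimalPrimes_strict`: `#Min(A^sh) = #(Σ m', Emb A m')` when `A` has finitely many minimal
  primes.
-/

set_option autoImplicit false
set_option linter.style.haveILetI false
set_option linter.unusedSectionVars false
universe u

namespace Groth.Agent.Lib.helper17.NormHens

open scoped TensorProduct
open IsLocalRing

section AbstractMax

variable {S C Ω : Type u} [CommRing S] [IsLocalRing S] [CommRing C] [Field Ω]
  (φ : S →+* C) (hφ : ∀ y : C, ∃ p : Polynomial S, p.Monic ∧ Polynomial.eval₂ φ y p = 0)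
  (ιS : S →+* Ω) (hι : RingHom.ker ιS = maximalIdeal S)

include hφ hι

theorem ker_isMaximal (θ : C →+* Ω) (hθ : θ.comp φ = ιS) : (RingHom.ker θ).IsMaximal := by
  letI : Algebra S C := φ.toAlgebra
  haveI : Algebra.IsIntegral S C := ⟨hφ⟩
  haveI : (RingHom.ker θ).IsPrime := RingHom.ker_isPrime θ
  apply Ideal.isMaximal_of_isIntegral_of_isMaximal_comap (R := S)
  have h1 : (RingHom.ker θ).comap (algebraMap S C) = maximalIdeal S := by
    rw [← hι, ← hθ]
    rfl
  rw [h1]
  exact IsLocalRing.maximalIdeal.isMaximal S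

theorem comap_eq_maximalIdeal (M : Ideal C) [hM : M.IsMaximal] : M.comap φ = maximalIdeal S := by
  letI : Algebra S C := φ.toAlgebra
  haveI : Algebra.IsIntegral S C := ⟨hφ⟩
  exact IsLocalRing.eq_maximalIdeal
    (Ideal.isMaximal_comap_of_isIntegral_of_isMaximal (R := S) (S := C) M)

theorem exists_hom_of_isMaximal [IsAlgClosed Ω] (M : Ideal C) [hM : M.IsMaximal] :
    ∃ θ : C →+* Ω, θ.comp φ = ιS ∧ RingHom.ker θ = M := by
  classical
  letI : Field (C ⧸ M) := Ideal.Quotient.field M
  have hcomap := comap_eq_maximalIdeal φ hφ ιS hι M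
  letI algF : Algebra (ResidueField S) (C ⧸ M) :=
    (Ideal.Quotient.lift (maximalIdeal S) ((Ideal.Quotient.mk M).comp φ) (by
      intro s hs
      rw [← hcomap] at hs
      exact Ideal.Quotient.eq_zero_iff_mem.2 hs)).toAlgebra
  letI algΩ : Algebra (ResidueField S) Ω :=
    (Ideal.Quotient.lift (maximalIdeal S) ιS (by
      intro s hs
      rw [← hι] at hs
      exact hs)).toAlgebra
  have hF : ∀ s : S, algebraMap (ResidueField S) (C ⧸ M) (residue S s) =
      Ideal.Quotient.mk M (φ s) := fun s => rfl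
  have hΩ : ∀ s : S, algebraMap (ResidueField S) Ω (residue S s) = ιS s := fun s => rfl
  haveI : Algebra.IsAlgebraic (ResidueField S) (C ⧸ M) := by
    haveI : Algebra.IsIntegral (ResidueField S) (C ⧸ M) := by
      refine ⟨fun x => ?_⟩
      obtain ⟨y, rfl⟩ := Ideal.Quotient.mk_surjective x
      obtain ⟨p, hp, hpy⟩ := hφ y
      refine ⟨p.map (residue S), hp.map _, ?_⟩
      rw [Polynomial.eval₂_map]
      have h1 := Polynomial.hom_eval₂ p φ (Ideal.Quotient.mk M) y
      rw [hpy, map_zero] at h1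
      have h2 : (algebraMap (ResidueField S) (C ⧸ M)).comp (residue S) =
          (Ideal.Quotient.mk M).comp φ := by
        ext s
        exact hF s
      rw [h2]
      exact h1.symm
    infer_instance
  let τ : (C ⧸ M) →ₐ[ResidueField S] Ω := IsAlgClosed.lift
  refine ⟨(τ : (C ⧸ M) →+* Ω).comp (Ideal.Quotient.mk M), ?_, ?_⟩
  · ext s
    show τ (Ideal.Quotient.mk M (φ s)) = ιS s
    rw [← hF, τ.commutes, hΩ]
  · ext x
    rw [RingHom.mem_ker]
    show τ (Ideal.Quotient.mk M x) = 0 ↔ _
    rw [map_eq_zero_iff τ τ.toRingHom.injective, Ideal.Quotient.eq_zero_iff_mem]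

theorem hom_ext_of_ker_eq [IsSepClosed (ResidueField S)] (θ θ' : C →+* Ω)
    (hθ : θ.comp φ = ιS) (hθ' : θ'.comp φ = ιS) (hker : RingHom.ker θ = RingHom.ker θ') :
    θ = θ' := by
  classical
  haveI hM : (RingHom.ker θ).IsMaximal := ker_isMaximal φ hφ ιS hι θ hθ
  letI : Field (C ⧸ RingHom.ker θ) := Ideal.Quotient.field _
  have hcomap := comap_eq_maximalIdeal φ hφ ιS hι (RingHom.ker θ)
  letI algF : Algebra (ResidueField S) (C ⧸ RingHom.ker θ) :=
    (Ideal.Quotient.lift (maximalIdeal S) ((Ideal.Quotient.mk (RingHom.ker θ)).comp φ) (by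
      intro s hs
      rw [← hcomap] at hs
      exact Ideal.Quotient.eq_zero_iff_mem.2 hs)).toAlgebra
  have hF : ∀ s : S, algebraMap (ResidueField S) (C ⧸ RingHom.ker θ) (residue S s) =
      Ideal.Quotient.mk (RingHom.ker θ) (φ s) := fun s => rfl
  haveI : Algebra.IsAlgebraic (ResidueField S) (C ⧸ RingHom.ker θ) := by
    haveI : Algebra.IsIntegral (ResidueField S) (C ⧸ RingHom.ker θ) := by
      refine ⟨fun x => ?_⟩
      obtain ⟨y, rfl⟩ := Ideal.Quotient.mk_surjective x
      obtain ⟨p, hp, hpy⟩ := hφ y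
      refine ⟨p.map (residue S), hp.map _, ?_⟩
      rw [Polynomial.eval₂_map]
      have h1 := Polynomial.hom_eval₂ p φ (Ideal.Quotient.mk (RingHom.ker θ)) y
      rw [hpy, map_zero] at h1
      have h2 : (algebraMap (ResidueField S) (C ⧸ RingHom.ker θ)).comp (residue S) =
          (Ideal.Quotient.mk (RingHom.ker θ)).comp φ := by
        ext s
        exact hF s
      rw [h2]
      exact h1.symm
    infer_instance
  let τ : (C ⧸ RingHom.ker θ) →+* Ω := Ideal.Quotient.lift _ θ (fun x hx => hx)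
  let τ' : (C ⧸ RingHom.ker θ) →+* Ω := Ideal.Quotient.lift _ θ' (fun x hx => by
    rw [hker] at hx
    exact hx)
  have hττ' : τ = τ' := by
    apply IsPurelyInseparable.injective_comp_algebraMap (ResidueField S) (C ⧸ RingHom.ker θ) Ω
    apply Ideal.Quotient.ringHom_ext
    ext s
    show τ (Ideal.Quotient.mk _ (φ s)) = τ' (Ideal.Quotient.mk _ (φ s))
    show θ (φ s) = θ' (φ s)
    have h1 : θ (φ s) = ιS s := RingHom.congr_fun hθ s
    have h2 : θ' (φ s) = ιS s := RingHom.congr_fun hθ' s
    rw [h1, h2]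
  ext x
  have := RingHom.congr_fun hττ' (Ideal.Quotient.mk _ x)
  exact this

end AbstractMax


section Emb

open Groth.Agent.S2125

variable (A : Type u) [CommRing A] [IsLocalRing A] (S : Type u) [CommRing S] [IsLocalRing S]
  [Algebra A S] [IsLocalHom (algebraMap A S)]

/-- the algebraic closure of the residue field of `A`. -/
abbrev Om : Type u := AlgebraicClosure (IsLocalRing.ResidueField A)

theorem algebraMap_Om (a : A) : algebraMap A (Om A) a = Brnch.toClosure A a := by
  rw [IsScalarTower.algebraMap_apply A (IsLocalRing.ResidueField A) (Om A)]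
  rfl

theorem toResidue_apply (m' : MaximalSpectrum (CAlg2.normRed A)) (a : A) :
    Brnch.toResidue A m' a = Ideal.Quotient.mk m'.asIdeal (algebraMap A (CAlg2.normRed A) a) := by
  unfold Brnch.toResidue
  rw [RingHom.comp_apply, RingHom.comp_apply,
    IsScalarTower.algebraMap_apply A (CAlg2.red A) (CAlg2.normRed A)]
  rfl

variable {A S}

/-- the ring map `A' ⊗[A] S → κ̄` attached to an embedding. -/
noncomputable def thetaOf (ιS : S →+* Om A) (hιS : ιS.comp (algebraMap A S) = Brnch.toClosure A)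
    (m' : MaximalSpectrum (CAlg2.normRed A)) (σ : Brnch.Emb A m') :
    (CAlg2.normRed A) ⊗[A] S →+* Om A :=
  let f₁ : CAlg2.normRed A →ₐ[A] Om A :=
    { σ.1.comp (Ideal.Quotient.mk m'.asIdeal) with
      commutes' := fun a => by
        show σ.1 (Ideal.Quotient.mk m'.asIdeal (algebraMap A (CAlg2.normRed A) a)) = _
        rw [← toResidue_apply, algebraMap_Om]
        exact RingHom.congr_fun σ.2 a }
  let f₂ : S →ₐ[A] Om A :=
    { ιS with
      commutes' := fun a => (RingHom.congr_fun hιS a).trans (algebraMap_Om A a).symm }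
  (Algebra.TensorProduct.lift f₁ f₂ (fun _ _ => Commute.all _ _)).toRingHom

theorem thetaOf_tmul (ιS : S →+* Om A) (hιS : ιS.comp (algebraMap A S) = Brnch.toClosure A)
    (m' : MaximalSpectrum (CAlg2.normRed A)) (σ : Brnch.Emb A m') (x : CAlg2.normRed A) (s : S) :
    thetaOf ιS hιS m' σ (x ⊗ₜ[A] s) = σ.1 (Ideal.Quotient.mk m'.asIdeal x) * ιS s := by
  unfold thetaOf
  exact Algebra.TensorProduct.lift_tmul _ _ _ _ _

theorem ringHom_ext_tensor {R : Type u} [CommRing R] (θ θ' : (CAlg2.normRed A) ⊗[A] S →+* R)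
    (h : ∀ (x : CAlg2.normRed A) (s : S), θ (x ⊗ₜ[A] s) = θ' (x ⊗ₜ[A] s)) : θ = θ' := by
  apply RingHom.ext
  intro y
  induction y using TensorProduct.induction_on with
  | zero => rw [map_zero, map_zero]
  | tmul x s => exact h x s
  | add y z hy hz => rw [map_add, map_add, hy, hz]

theorem bijective_thetaOf (ιS : S →+* Om A) (hιS : ιS.comp (algebraMap A S) = Brnch.toClosure A)
    (hker : RingHom.ker ιS = maximalIdeal S) :
    Function.Bijective (fun p : (Σ m' : MaximalSpectrum (CAlg2.normRed A), Brnch.Emb A m') =>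
      (⟨thetaOf ιS hιS p.1 p.2, by
        apply RingHom.ext
        intro s
        show thetaOf ιS hιS p.1 p.2 ((1 : CAlg2.normRed A) ⊗ₜ[A] s) = ιS s
        rw [thetaOf_tmul, map_one, map_one, one_mul]⟩ :
        {θ : (CAlg2.normRed A) ⊗[A] S →+* Om A // θ.comp (phi A S) = ιS})) := by
  classical
  constructor
  · rintro ⟨⟨m₁, hm₁⟩, σ₁⟩ ⟨⟨m₂, hm₂⟩, σ₂⟩ h12
    have h1 : thetaOf ιS hιS ⟨m₁, hm₁⟩ σ₁ = thetaOf ιS hιS ⟨m₂, hm₂⟩ σ₂ :=
      congrArg Subtype.val h12
    have h2 : ∀ x : CAlg2.normRed A, σ₁.1 (Ideal.Quotient.mk m₁ x) =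
        σ₂.1 (Ideal.Quotient.mk m₂ x) := by
      intro x
      have := RingHom.congr_fun h1 (x ⊗ₜ[A] (1 : S))
      rwa [thetaOf_tmul, thetaOf_tmul, map_one, mul_one, mul_one] at this
    have hinj₁ : Function.Injective σ₁.1 := by
      letI := Ideal.Quotient.field m₁
      exact σ₁.1.injective
    have hinj₂ : Function.Injective σ₂.1 := by
      letI := Ideal.Quotient.field m₂
      exact σ₂.1.injective
    have hm : m₁ = m₂ := by
      ext x
      rw [← Ideal.Quotient.eq_zero_iff_mem, ← Ideal.Quotient.eq_zero_iff_mem,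
        ← map_eq_zero_iff σ₁.1 hinj₁, ← map_eq_zero_iff σ₂.1 hinj₂, h2]
    subst hm
    have hσ : σ₁ = σ₂ := by
      apply Subtype.ext
      apply Ideal.Quotient.ringHom_ext
      ext x
      exact h2 x
    rw [hσ]
  · rintro ⟨θ, hθ⟩
    have hθ' : ∀ s, θ ((1 : CAlg2.normRed A) ⊗ₜ[A] s) = ιS s := fun s => RingHom.congr_fun hθ s
    haveI hM : (RingHom.ker θ).IsMaximal :=
      ker_isMaximal (C := (CAlg2.normRed A) ⊗[A] S) (phi A S) (phi_isIntegral A S) ιS hker θ hθ
    haveI hm' : ((RingHom.ker θ).comap (psi A S)).IsMaximal := comap_psi_isMaximal A S _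
    let m' : MaximalSpectrum (CAlg2.normRed A) := ⟨(RingHom.ker θ).comap (psi A S), hm'⟩
    let σ₀ : CAlg2.normRed A ⧸ m'.asIdeal →+* Om A :=
      Ideal.Quotient.lift _ (θ.comp (psi A S)) (fun x hx => hx)
    have hσ₀ : σ₀.comp (Brnch.toResidue A m') = Brnch.toClosure A := by
      ext a
      rw [RingHom.comp_apply, toResidue_apply]
      show θ (psi A S (algebraMap A (CAlg2.normRed A) a)) = _
      rw [psi_comp_algebraMap, phi_apply, hθ']
      exact RingHom.congr_fun hιS a
    refine ⟨⟨m', ⟨σ₀, hσ₀⟩⟩, ?_⟩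
    apply Subtype.ext
    apply ringHom_ext_tensor
    intro x s
    show thetaOf ιS hιS m' ⟨σ₀, hσ₀⟩ (x ⊗ₜ[A] s) = θ (x ⊗ₜ[A] s)
    rw [thetaOf_tmul]
    show θ (psi A S x) * ιS s = _
    rw [← hθ', ← map_mul, psi_apply, Algebra.TensorProduct.tmul_mul_tmul, mul_one, one_mul]

end Emb


section StrictCount

open Groth.Agent.S2125

variable (A : Type u) [CommRing A] [IsLocalRing A] (S : Type u) [CommRing S] [IsLocalRing S]
  [Algebra A S] [IsLocalHom (algebraMap A S)] [Hensel.IsStrictHenselization A S]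

theorem card_minimalPrimes_strict (hfin : (minimalPrimes A).Finite) :
    ENat.card (minimalPrimes S) =
      ENat.card (Σ m' : MaximalSpectrum (CAlg2.normRed A), Brnch.Emb A m') := by
  classical
  haveI : Module.FaithfullyFlat A S :=
    Groth.Agent.Lib.Helper24.StrictHens.faithfullyFlat_of_isStrictHenselization A S
  haveI : HenselianLocalRing S := Hensel.IsStrictHenselization.henselian (R := A)
  haveI hsc : IsSepClosure (ResidueField A) (ResidueField S) :=
    Hensel.IsStrictHenselization.isSepClosure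
  haveI : IsSepClosed (ResidueField S) := hsc.sep_closed
  haveI : Algebra.IsSeparable (ResidueField A) (ResidueField S) := hsc.separable
  haveI : Algebra.IsAlgebraic (ResidueField A) (ResidueField S) := inferInstance
  -- the embedding of `S` into the algebraic closure
  let ι₀ : ResidueField S →ₐ[ResidueField A] Om A := IsAlgClosed.lift
  let ιS : S →+* Om A := (ι₀ : ResidueField S →+* Om A).comp (residue S)
  have hιS : ιS.comp (algebraMap A S) = Brnch.toClosure A := by
    ext a
    show ι₀ (residue S (algebraMap A S a)) = _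
    have h1 : residue S (algebraMap A S a) =
        algebraMap (ResidueField A) (ResidueField S) (residue A a) :=
      (IsLocalRing.ResidueField.map_residue (algebraMap A S) a).symm
    rw [h1, ι₀.commutes]
    rfl
  have hker : RingHom.ker ιS = maximalIdeal S := by
    ext s
    rw [RingHom.mem_ker]
    show ι₀ (residue S s) = 0 ↔ _
    rw [map_eq_zero_iff ι₀ ι₀.toRingHom.injective, IsLocalRing.residue_eq_zero_iff]
  have hmain := main (A := A) (B := S) hfin (indQF_of_isStrictHenselization A S)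
    (indSmooth_of_isStrictHenselization A S)
  rw [← ENat.card_congr (bijOn_minimalPrimes A S).equiv]
  -- minimal primes ↔ maximal ideals of `C`
  have hex : ∀ q : minimalPrimes ((CAlg2.normRed A) ⊗[A] S),
      ∃ m : Ideal ((CAlg2.normRed A) ⊗[A] S), m.IsMaximal ∧ q.1 ≤ m :=
    fun q => (hmain.1 q.1 q.2).exists
  choose Mq hMq using hex
  let F : minimalPrimes ((CAlg2.normRed A) ⊗[A] S) →
      {M : Ideal ((CAlg2.normRed A) ⊗[A] S) // M.IsMaximal} := fun q => ⟨Mq q, (hMq q).1⟩
  have hF : Function.Bijective F := by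
    constructor
    · intro q₁ q₂ h12
      have h2 : Mq q₁ = Mq q₂ := congrArg Subtype.val h12
      have h3 := (hmain.2 (Mq q₁) (hMq q₁).1).unique ⟨q₁.2, (hMq q₁).2⟩
        ⟨q₂.2, h2 ▸ (hMq q₂).2⟩
      exact Subtype.ext h3
    · rintro ⟨M, hM⟩
      obtain ⟨q, hq, hqM⟩ := Ideal.exists_minimalPrimes_le (bot_le : (⊥ : Ideal _) ≤ M)
      refine ⟨⟨q, hq⟩, Subtype.ext ?_⟩
      exact (hmain.1 q hq).unique (hMq ⟨q, hq⟩) ⟨hM, hqM⟩
  rw [ENat.card_congr (Equiv.ofBijective F hF)]
  -- maximal ideals ↔ homomorphisms to `κ̄`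
  let K : {θ : (CAlg2.normRed A) ⊗[A] S →+* Om A // θ.comp (phi A S) = ιS} →
      {M : Ideal ((CAlg2.normRed A) ⊗[A] S) // M.IsMaximal} := fun θ =>
    ⟨RingHom.ker θ.1, ker_isMaximal (C := (CAlg2.normRed A) ⊗[A] S) (phi A S)
      (phi_isIntegral A S) ιS hker θ.1 θ.2⟩
  have hK : Function.Bijective K := by
    constructor
    · rintro ⟨θ, hθ⟩ ⟨θ', hθ'⟩ h12
      have h2 : RingHom.ker θ = RingHom.ker θ' := congrArg Subtype.val h12
      exact Subtype.ext (hom_ext_of_ker_eq (C := (CAlg2.normRed A) ⊗[A] S) (phi A S)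
        (phi_isIntegral A S) ιS hker θ θ' hθ hθ' h2)
    · rintro ⟨M, hM⟩
      haveI := hM
      obtain ⟨θ, hθ, hθM⟩ := exists_hom_of_isMaximal (C := (CAlg2.normRed A) ⊗[A] S) (phi A S)
        (phi_isIntegral A S) ιS hker M
      exact ⟨⟨θ, hθ⟩, Subtype.ext hθM⟩
  rw [← ENat.card_congr (Equiv.ofBijective K hK)]
  exact (ENat.card_congr (Equiv.ofBijective _ (bijective_thetaOf ιS hιS hker))).symm

end StrictCount

end Groth.Agent.Lib.helper17.NormHens
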