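import Mathlib

/-!
# Helper lemmas on quotients by powers of ideals (for the principal parts block)
-/

namespace Groth.Agent.Lib.helper17

namespace PP

/-- If `τ : T → T'` is a surjective ring map carrying the ideal `I` onto `I'`, then a ring map
`T / I^n → T' / I'^n` compatible with `τ` is surjective, with kernel the image of `ker τ`. -/
theorem quotient_pow_map_ker {T T' : Type*} [CommRing T] [CommRing T']
    (τ : T →+* T') (hτ : Function.Surjective τ)
    (I : Ideal T) (I' : Ideal T') (hI : I.map τ = I') (n : ℕ)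
    {F : Type*} [FunLike F (T ⧸ I ^ n) (T' ⧸ I' ^ n)] [RingHomClass F (T ⧸ I ^ n) (T' ⧸ I' ^ n)]
    (f : F)
    (hf : ∀ t, f (Ideal.Quotient.mk _ t) = Ideal.Quotient.mk _ (τ t)) :
    Function.Surjective f ∧
      RingHom.ker f = (RingHom.ker τ).map (Ideal.Quotient.mk (I ^ n)) := by
  constructor
  · intro y
    obtain ⟨t', rfl⟩ := Ideal.Quotient.mk_surjective y
    obtain ⟨t, rfl⟩ := hτ t'
    exact ⟨Ideal.Quotient.mk _ t, hf t⟩
  · apply le_antisymm
    · intro x hx
      obtain ⟨t, rfl⟩ := Ideal.Quotient.mk_surjective x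
      rw [RingHom.mem_ker, hf, Ideal.Quotient.eq_zero_iff_mem, ← hI, ← Ideal.map_pow] at hx
      obtain ⟨u, hu, hut⟩ := (Ideal.mem_map_iff_of_surjective τ hτ).1 hx
      have h1 : t - u ∈ RingHom.ker τ := by
        rw [RingHom.mem_ker, map_sub, hut, sub_self]
      have h2 : Ideal.Quotient.mk (I ^ n) t = Ideal.Quotient.mk (I ^ n) (t - u) := by
        rw [map_sub, Ideal.Quotient.eq_zero_iff_mem.2 hu, sub_zero]
      rw [h2]
      exact Ideal.mem_map_of_mem _ h1
    · rw [Ideal.map_le_iff_le_comap]
      intro t ht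
      rw [Ideal.mem_comap, RingHom.mem_ker, hf, (RingHom.mem_ker).1 ht, map_zero]

/-- `Ideal.map` along a composite, for arbitrary ring-hom-like maps. -/
theorem map_map_eq {R S T F G H : Type*} [CommRing R] [CommRing S] [CommRing T]
    [FunLike F R S] [RingHomClass F R S] [FunLike G S T] [RingHomClass G S T]
    [FunLike H R T] [RingHomClass H R T] (f : F) (g : G) (h : H)
    (hfg : ∀ x, g (f x) = h x) (I : Ideal R) : (I.map f).map g = I.map h := by
  apply le_antisymm
  · refine Ideal.map_le_iff_le_comap.2 (Ideal.map_le_iff_le_comap.2 (fun x hx => ?_))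
    rw [Ideal.mem_comap, Ideal.mem_comap, hfg]
    exact Ideal.mem_map_of_mem h hx
  · refine Ideal.map_le_iff_le_comap.2 (fun x hx => ?_)
    rw [Ideal.mem_comap, ← hfg]
    exact Ideal.mem_map_of_mem g (Ideal.mem_map_of_mem f hx)

end PP

end Groth.Agent.Lib.helper17
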