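import Groth.Agent.Lib.Helper17.SchlB
import Groth.Agent.S12729
import Groth.Agent.S12728
import Groth.Agent.S12713
import Groth.Agent.S12711
import Groth.Agent.S12250
import Groth.Agent.LibCR29g
import Mathlib

/-!
# Schlessinger existence, part C: the tower and the versal family
-/

set_option autoImplicit false
universe u v

namespace Groth.Agent.Lib.helper17.Schl

open CategoryTheory ArtFun IsLocalRing

variable {Λ : Type u} {k : Type u} [CommRing Λ] [Field k] [Algebra Λ k]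

/-- a stage of the tower: a quotient of `S` in `Art` with an element of `F`. -/
structure Stage (S : CRing Λ k) (F : Art Λ k ⥤ Type v) where
  R : Art Λ k
  π : HomSet S.carrier S.res R
  surj : Function.Surjective π.1
  ξ : F.obj R

/-- the step relation: `st'` lies over `st`, and its kernel is least among the admissible ones. -/
def Step (S : CRing Λ k) (F : Art Λ k ⥤ Type v) (st st' : Stage S F) : Prop :=
  (∃ τ : st'.R ⟶ st.R, HomSet.map τ st'.π = st.π ∧ F.map τ st'.ξ = st.ξ) ∧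
  ∀ (C : Art Λ k) (γ : HomSet S.carrier S.res C), Function.Surjective γ.1 →
    maximalIdeal S.carrier * RingHom.ker st.π.1 ≤ RingHom.ker γ.1 →
    ∀ σ : C ⟶ st.R, HomSet.map σ γ = st.π → ∀ c : F.obj C, F.map σ c = st.ξ →
      RingHom.ker st'.π.1 ≤ RingHom.ker γ.1

theorem homSet_mem_max {S : CRing Λ k} {C : Art Λ k} (γ : HomSet S.carrier S.res C) (s : S.carrier) :
    γ.1 s ∈ maximalIdeal C ↔ s ∈ maximalIdeal S.carrier := by
  rw [Art.mem_maximalIdeal_iff, CRing.mem_maximalIdeal_iff]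
  have := congrArg (fun f : S.carrier →ₐ[Λ] k => f s) γ.2
  change C.res (γ.1 s) = S.res s at this
  rw [this]

theorem exists_next [IsNoetherianRing Λ] [Module.Finite Λ k] (S : CRing Λ k)
    (F : Art Λ k ⥤ Type v) (h1 : S1 F) (st : Stage S F) : ∃ st' : Stage S F, Step S F st st' := by
  set K := RingHom.ker st.π.1 with hKdef
  obtain ⟨M, hM⟩ := Groth.Agent.S12250.exists_mpow_le_ker S st.R st.π
  have hM' : maximalIdeal S.carrier ^ (M + 1) ≤ K := fun s hs => hM hs
  have hKm : K ≤ maximalIdeal S.carrier := by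
    intro s hs
    rw [← homSet_mem_max st.π]
    have : st.π.1 s = 0 := hs
    rw [this]
    exact Ideal.zero_mem _
  set K' := maximalIdeal S.carrier * K with hK'def
  have hK'K : K' ≤ K := Ideal.mul_le_right
  have hK'm : K' ≤ maximalIdeal S.carrier := hK'K.trans hKm
  have hK'M : maximalIdeal S.carrier ^ (M + 1 + 1) ≤ K' := by
    rw [pow_succ']
    exact Ideal.mul_mono_right hM'
  let B := Groth.Agent.LibCR29.artQuot S K' hK'm (M + 1 + 1) hK'M
  let ρ : HomSet S.carrier S.res B := Groth.Agent.LibCR29.artQuotHom S K' hK'm (M + 1 + 1) hK'M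
  have hρs : Function.Surjective ρ.1 := Ideal.Quotient.mk_surjective
  have hρk : RingHom.ker ρ.1 = K' := Ideal.Quotient.mkₐ_ker Λ K'
  obtain ⟨p, hp⟩ := exists_fac ρ hρs st.π (by rw [hρk]; exact hK'K)
  have hp' : ∀ s, p (ρ.1 s) = st.π.1 s := fun s =>
    congrArg (fun f : HomSet S.carrier S.res st.R => f.1 s) hp
  have hsemi : Art.IsSemismallExt p := by
    refine ⟨fun r => ?_, ?_⟩
    · obtain ⟨s, rfl⟩ := st.surj r
      exact ⟨ρ.1 s, hp' s⟩
    · rw [← le_bot_iff, Ideal.mul_le]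
      intro b hb c hc
      obtain ⟨s, rfl⟩ := hρs b
      obtain ⟨t, rfl⟩ := hρs c
      have hs : s ∈ maximalIdeal S.carrier := (homSet_mem_max ρ s).1 hb
      have ht : t ∈ K := by
        rw [hKdef, RingHom.mem_ker, ← hp']
        exact hc
      rw [Ideal.mem_bot, ← map_mul]
      have : s * t ∈ RingHom.ker ρ.1 := by rw [hρk]; exact Ideal.mul_mem_mul hs ht
      exact this
  obtain ⟨J₀, hJ₀, hJ₀', ⟨y, hy⟩, hleast⟩ := Groth.Agent.S12729.result h1 p hsemi st.ξ
  have hsurj' : Function.Surjective (HomSet.map (Art.quotMk B J₀ hJ₀') ρ).1 := by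
    intro x
    obtain ⟨b, rfl⟩ := Art.quotMk_surjective B J₀ hJ₀' x
    obtain ⟨s, rfl⟩ := hρs b
    exact ⟨s, rfl⟩
  refine ⟨⟨Art.quot B J₀ hJ₀', HomSet.map (Art.quotMk B J₀ hJ₀') ρ, hsurj', y⟩,
    ⟨Art.quotFactor hJ₀' p hJ₀, ?_, hy⟩, ?_⟩
  · change HomSet.map (Art.quotFactor hJ₀' p hJ₀) (HomSet.map (Art.quotMk B J₀ hJ₀') ρ) = st.π
    rw [← hmap_comp, Art.quotMk_quotFactor, hp]
  · intro C γ hγ hmK σ hσ c hc
    change RingHom.ker (HomSet.map (Art.quotMk B J₀ hJ₀') ρ).1 ≤ RingHom.ker γ.1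
    obtain ⟨γ', hγ'⟩ := exists_fac ρ hρs γ (by rw [hρk]; exact hmK)
    have hγ'' : ∀ s, γ' (ρ.1 s) = γ.1 s := fun s =>
      congrArg (fun f : HomSet S.carrier S.res C => f.1 s) hγ'
    have hcomp : γ' ≫ σ = p := fac_unique ρ hρs _ _ (by rw [hmap_comp, hγ', hσ, hp])
    have hγ's : Function.Surjective γ' := by
      intro x
      obtain ⟨s, rfl⟩ := hγ x
      exact ⟨ρ.1 s, hγ'' s⟩
    obtain ⟨hJ, hJ', y', hy'⟩ := Groth.Agent.S12729.lifts_ker (F := F) γ' hγ's c
    have hJp : RingHom.ker γ'.toAlgHom ≤ RingHom.ker p.toAlgHom := by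
      intro b hb
      rw [RingHom.mem_ker] at hb ⊢
      rw [← hcomp]
      change σ (γ' b) = 0
      have hb' : γ' b = 0 := hb
      rw [hb']
      exact map_zero σ.toAlgHom
    have hfac : Art.quotFactor hJ' p hJp = Art.quotFactor hJ' γ' hJ ≫ σ := by
      apply Art.hom_ext
      apply AlgHom.ext
      intro x
      obtain ⟨b, rfl⟩ := Art.quotMk_surjective B _ hJ' x
      change p b = σ (γ' b)
      rw [← hcomp]
      rfl
    have hle := hleast (RingHom.ker γ'.toAlgHom) hJp hJ'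
      ⟨y', by rw [hfac, ArtAct.map_comp_apply, hy', hc]⟩
    intro s hs
    rw [RingHom.mem_ker] at hs ⊢
    have h1 : ρ.1 s ∈ J₀ := Ideal.Quotient.eq_zero_iff_mem.1 hs
    have h2 : γ' (ρ.1 s) = 0 := hle h1
    rw [← hγ'']
    exact h2

/-- the tower. -/
noncomputable def tower [IsNoetherianRing Λ] [Module.Finite Λ k] (S : CRing Λ k)
    (F : Art Λ k ⥤ Type v) (h1 : S1 F) (st₀ : Stage S F) : ℕ → Stage S F
  | 0 => st₀
  | n + 1 => (exists_next S F h1 (tower S F h1 st₀ n)).choose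

theorem tower_step [IsNoetherianRing Λ] [Module.Finite Λ k] (S : CRing Λ k)
    (F : Art Λ k ⥤ Type v) (h1 : S1 F) (st₀ : Stage S F) (n : ℕ) :
    Step S F (tower S F h1 st₀ n) (tower S F h1 st₀ (n + 1)) :=
  (exists_next S F h1 (tower S F h1 st₀ n)).choose_spec

theorem tower_trans [IsNoetherianRing Λ] [Module.Finite Λ k] (S : CRing Λ k)
    (F : Art Λ k ⥤ Type v) (h1 : S1 F) (st₀ : Stage S F) {q q' : ℕ} (h : q ≤ q') :
    ∃ τ : (tower S F h1 st₀ q').R ⟶ (tower S F h1 st₀ q).R,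
      HomSet.map τ (tower S F h1 st₀ q').π = (tower S F h1 st₀ q).π ∧
      F.map τ (tower S F h1 st₀ q').ξ = (tower S F h1 st₀ q).ξ := by
  induction q', h using Nat.le_induction with
  | base => exact ⟨𝟙 _, hmap_id _, ArtAct.map_id_apply F _⟩
  | succ q' _ ih =>
    obtain ⟨τ, hτ1, hτ2⟩ := ih
    obtain ⟨⟨τ', hτ'1, hτ'2⟩, -⟩ := tower_step S F h1 st₀ q'
    exact ⟨τ' ≫ τ, by rw [hmap_comp, hτ'1, hτ1], by rw [ArtAct.map_comp_apply, hτ'2, hτ2]⟩

theorem tower_ker_antitone [IsNoetherianRing Λ] [Module.Finite Λ k] (S : CRing Λ k)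
    (F : Art Λ k ⥤ Type v) (h1 : S1 F) (st₀ : Stage S F) :
    Antitone (fun q => RingHom.ker (tower S F h1 st₀ q).π.1) := by
  intro q q' h
  obtain ⟨τ, hτ1, -⟩ := tower_trans S F h1 st₀ h
  change RingHom.ker (tower S F h1 st₀ q').π.1 ≤ RingHom.ker (tower S F h1 st₀ q).π.1
  rw [← hτ1]
  exact ker_le_ker_map τ _

/-- the main construction: from a smooth cover of a tangent start, a versal family. -/
theorem hasVersal_of_start [IsNoetherianRing Λ] [Module.Finite Λ k] (S : CRing Λ k)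
    (hS : IsSmoothFunctor (hR S.carrier S.res))
    (F : Art Λ k ⥤ Type v) (h0 : H0 F) (h1 : S1 F) (h2 : Heps F) (st₀ : Stage S F)
    (hst₀ : ∀ w : F.obj (Art.dual Λ k), ∃ s : st₀.R ⟶ Art.dual Λ k, F.map s st₀.ξ = w) :
    HasVersal F := by
  classical
  set tw := tower S F h1 st₀ with htw
  have hstep : ∀ q, Step S F (tw q) (tw (q + 1)) := tower_step S F h1 st₀
  have htrans : ∀ {q q' : ℕ}, q ≤ q' → ∃ τ : (tw q').R ⟶ (tw q).R,
      HomSet.map τ (tw q').π = (tw q).π ∧ F.map τ (tw q').ξ = (tw q).ξ :=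
    fun h => tower_trans S F h1 st₀ h
  have hanti : Antitone (fun q => RingHom.ker (tw q).π.1) := tower_ker_antitone S F h1 st₀
  set J : Ideal S.carrier := ⨅ q, RingHom.ker (tw q).π.1 with hJdef
  have hJq : ∀ q, J ≤ RingHom.ker (tw q).π.1 := fun q => iInf_le _ q
  have hJm : J ≤ maximalIdeal S.carrier := by
    intro s hs
    rw [← homSet_mem_max (tw 0).π]
    have : (tw 0).π.1 s = 0 := hJq 0 hs
    rw [this]
    exact Ideal.zero_mem _
  obtain ⟨R, π, hπs, hπk, hπres⟩ := Groth.Agent.LibCR29.exists_quot S J hJm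
  -- precomposition with `π`
  let compS : ∀ {C : Art Λ k}, HomSet R.carrier R.res C → HomSet S.carrier S.res C :=
    fun φ => ⟨φ.1.comp π, by rw [← AlgHom.comp_assoc, φ.2, hπres]⟩
  have compS_map : ∀ {C C' : Art Λ k} (f : C ⟶ C') (φ : HomSet R.carrier R.res C),
      compS (HomSet.map f φ) = HomSet.map f (compS φ) := fun f φ => rfl
  have compS_ker : ∀ {C : Art Λ k} (φ : HomSet R.carrier R.res C), J ≤ RingHom.ker (compS φ).1 := by
    intro C φ s hs
    rw [← hπk, RingHom.mem_ker] at hs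
    rw [RingHom.mem_ker]
    change φ.1 (π s) = 0
    rw [hs, map_zero]
  -- every map factors through a level
  have exists_level : ∀ (C : Art Λ k) (φ : HomSet R.carrier R.res C),
      ∃ q, ∃ σ : (tw q).R ⟶ C, HomSet.map σ (tw q).π = compS φ := by
    intro C φ
    obtain ⟨N, hN⟩ := Groth.Agent.S12250.exists_mpow_le_ker S C (compS φ)
    obtain ⟨q, hq⟩ := chevalley S (fun q => RingHom.ker (tw q).π.1) hanti (N + 1)
    refine ⟨q, exists_fac (tw q).π (tw q).surj (compS φ) ?_⟩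
    refine hq.trans (sup_le (compS_ker φ) ?_)
    intro s hs
    exact hN hs
  -- independence of the level
  have val_indep : ∀ {C : Art Λ k} (γ : HomSet S.carrier S.res C) (q q' : ℕ)
      (σ : (tw q).R ⟶ C) (σ' : (tw q').R ⟶ C), HomSet.map σ (tw q).π = γ →
      HomSet.map σ' (tw q').π = γ → F.map σ (tw q).ξ = F.map σ' (tw q').ξ := by
    have key : ∀ {C : Art Λ k} (γ : HomSet S.carrier S.res C) (q q' : ℕ), q ≤ q' →
        ∀ (σ : (tw q).R ⟶ C) (σ' : (tw q').R ⟶ C), HomSet.map σ (tw q).π = γ →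
        HomSet.map σ' (tw q').π = γ → F.map σ (tw q).ξ = F.map σ' (tw q').ξ := by
      intro C γ q q' hqq' σ σ' hσ hσ'
      obtain ⟨τ, hτ1, hτ2⟩ := htrans hqq'
      have : τ ≫ σ = σ' := fac_unique (tw q').π (tw q').surj _ _ (by rw [hmap_comp, hτ1, hσ, hσ'])
      rw [← this, ArtAct.map_comp_apply, hτ2]
    intro C γ q q' σ σ' hσ hσ'
    rcases le_total q q' with h | h
    · exact key γ q q' h σ σ' hσ hσ'
    · exact (key γ q' q h σ' σ hσ' hσ).symm
  choose lv sg hsg using exists_level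
  let ξ : Family R.carrier R.res F :=
    { app := fun C φ => F.map (sg C φ) (tw (lv C φ)).ξ
      natural := by
        intro C C' f φ
        have h1 : HomSet.map (sg C φ ≫ f) (tw (lv C φ)).π = compS (HomSet.map f φ) := by
          rw [hmap_comp, hsg, compS_map]
        rw [val_indep (compS (HomSet.map f φ)) _ _ _ _ (hsg C' (HomSet.map f φ)) h1,
          ArtAct.map_comp_apply] }
  have hξ_eq : ∀ {C : Art Λ k} (φ : HomSet R.carrier R.res C) (q : ℕ) (σ : (tw q).R ⟶ C),
      HomSet.map σ (tw q).π = compS φ → ξ.app C φ = F.map σ (tw q).ξ := by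
    intro C φ q σ hσ
    exact val_indep (compS φ) _ _ _ _ (hsg C φ) hσ
  -- tangent surjectivity
  have htan : Function.Surjective (TangentSpace.ofFamily ξ) := by
    intro w
    obtain ⟨s, hs⟩ := hst₀ w
    have hker : RingHom.ker π ≤ RingHom.ker (HomSet.map s (tw 0).π).1 := by
      rw [hπk]
      exact (hJq 0).trans (ker_le_ker_map s _)
    obtain ⟨φ, hφ⟩ := exists_fac_ring (resR := R.res) π hπs hπres (HomSet.map s (tw 0).π) hker
    refine ⟨φ, ?_⟩
    have h3 : HomSet.map s (tw 0).π = compS φ := Subtype.ext hφ.symm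
    change ξ.app _ φ = w
    rw [hξ_eq φ 0 s h3]
    exact hs
  -- lifting along small extensions
  have hsmall : ∀ ⦃B A : Art Λ k⦄ (μ : B ⟶ A), Art.IsSmallExt μ →
      ∀ (φ : HomSet R.carrier R.res A) (y : F.obj B), F.map μ y = ξ.app A φ →
        ∃ ψ : HomSet R.carrier R.res B, HomSet.map μ ψ = φ := by
    intro B A μ hμ φ y hy
    -- it suffices to find a suitable element of `h_S(B)`
    suffices hw : ∃ w₁ : HomSet S.carrier S.res B, HomSet.map μ w₁ = compS φ ∧
        J ≤ RingHom.ker w₁.1 by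
      obtain ⟨w₁, hw1, hw2⟩ := hw
      obtain ⟨ψ, hψ⟩ := exists_fac_ring (resR := R.res) π hπs hπres w₁ (by rw [hπk]; exact hw2)
      refine ⟨ψ, ?_⟩
      apply Subtype.ext
      apply AlgHom.ext
      intro r
      obtain ⟨s, rfl⟩ := hπs r
      have e1 : ψ.1 (π s) = w₁.1 s := congrArg (fun f : S.carrier →ₐ[Λ] B => f s) hψ
      have e2 : μ (w₁.1 s) = φ.1 (π s) :=
        congrArg (fun f : HomSet S.carrier S.res A => f.1 s) hw1
      change μ (ψ.1 (π s)) = φ.1 (π s)
      rw [e1, e2]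
    obtain ⟨q, σ, hσ⟩ : ∃ q, ∃ σ : (tw q).R ⟶ A, HomSet.map σ (tw q).π = compS φ :=
      ⟨lv A φ, sg A φ, hsg A φ⟩
    have hξφ : ξ.app A φ = F.map σ (tw q).ξ := hξ_eq φ q σ hσ
    obtain ⟨B', p', p'', hfp⟩ := Groth.Agent.S12710.result σ μ hμ.1
    have hsm' : Art.IsSmallExt p' := Groth.Agent.S12711.result hfp hμ
    obtain ⟨ζ, hζ⟩ := h1 p' p'' σ μ hfp hμ.1 ⟨((tw q).ξ, y), by rw [hy, hξφ]⟩
    have hζ1 : F.map p' ζ = (tw q).ξ := congrArg (fun t => t.1.1) hζ
    obtain ⟨w₀, hw₀⟩ := hS μ hμ.1 (compS φ)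
    have hw₀' : HomSet.map μ w₀ = compS φ := hw₀
    obtain ⟨w, hw1, hw2⟩ := Groth.Agent.S12727.exists_lift_homSet hfp (tw q).π w₀
      (by rw [hσ, hw₀'])
    have hw1' : ∀ s, p' (w.1 s) = (tw q).π.1 s := fun s =>
      congrArg (fun f : HomSet S.carrier S.res (tw q).R => f.1 s) hw1
    by_cases hws : Function.Surjective w.1
    · -- minimality applies
      have hmK : maximalIdeal S.carrier * RingHom.ker (tw q).π.1 ≤ RingHom.ker w.1 := by
        rw [Ideal.mul_le]
        intro s hs t ht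
        rw [RingHom.mem_ker, map_mul]
        have h3 : w.1 s * w.1 t ∈ maximalIdeal B' * RingHom.ker p'.toAlgHom := by
          apply Ideal.mul_mem_mul ((homSet_mem_max w s).2 hs)
          rw [RingHom.mem_ker]
          have : p' (w.1 t) = 0 := by rw [hw1']; exact ht
          exact this
        rw [hsm'.2.2.2] at h3
        exact h3
      have hmin := (hstep q).2 B' w hws hmK p' hw1 ζ hζ1
      refine ⟨w₀, hw₀', ?_⟩
      rw [← hw2]
      exact ((hJq (q + 1)).trans hmin).trans (ker_le_ker_map p'' w)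
    · -- the small extension `p'` is not essential, so it has a section
      obtain ⟨n, hn⟩ := Groth.Agent.S12250.exists_mpow_le_ker S B' w
      let g : S.trunc n ⟶ B' := Groth.Agent.S12250.fac S w n hn
      have hg : HomSet.map g (S.truncHom n) = w := Groth.Agent.S12250.map_fac S w n hn
      have hg' : ∀ s, g ((S.truncHom n).1 s) = w.1 s := fun s =>
        congrArg (fun f : HomSet S.carrier S.res B' => f.1 s) hg
      have hgns : ¬ Function.Surjective g := by
        intro hgs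
        apply hws
        intro b
        obtain ⟨x, rfl⟩ := hgs b
        obtain ⟨s, rfl⟩ := Ideal.Quotient.mk_surjective x
        exact ⟨s, (hg' s).symm⟩
      have hgp : Function.Surjective (g ≫ p') := by
        intro r
        obtain ⟨s, rfl⟩ := (tw q).surj r
        refine ⟨(S.truncHom n).1 s, ?_⟩
        change p' (g ((S.truncHom n).1 s)) = _
        rw [hg', hw1']
      obtain ⟨sec, hsec⟩ := (Groth.Agent.S12713.result p' hsm').1 ⟨S.trunc n, g, hgp, hgns⟩
      refine ⟨HomSet.map (sec ≫ p'') (tw q).π, ?_, ?_⟩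
      · rw [← hmap_comp, Category.assoc, ← hfp.w, ← Category.assoc, hsec, Category.id_comp, hσ]
      · exact (hJq q).trans (ker_le_ker_map _ _)
  exact ⟨⟨R, ξ, (Groth.Agent.S12728.result h0 h1 h2 R ξ).2 ⟨htan, hsmall⟩⟩⟩

/-- Schlessinger: existence of a versal family. -/
theorem hasVersal [IsNoetherianRing Λ] [Module.Finite Λ k]
    (F : Art Λ k ⥤ Type v) [TangentStr F] (h0 : H0 F) (h1 : S1 F) (h2 : Heps F) (h3 : Hfin F) :
    HasVersal F := by
  obtain ⟨D, x, hD⟩ := exists_tangent_start F h0 h2 h3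
  obtain ⟨S, hS, φ, hφ⟩ := exists_smooth_cover D
  exact hasVersal_of_start S hS F h0 h1 h2 ⟨D, φ, hφ, x⟩ hD

end Groth.Agent.Lib.helper17.Schl
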