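import Groth.Agent.Lib.Helper17.ArtAct
import Groth.Agent.Lib.Helper17.SchlC
import Groth.Agent.Lib.Helper17.HullStep
import Groth.Agent.S12738
import Groth.Agent.S12724
import Groth.Agent.S12731
import Groth.Agent.S12707
import Mathlib

/-!
# Pro-representability criteria (Schlessinger), general base
-/

set_option autoImplicit false
universe u v

namespace Groth.Agent.Lib.helper17.ProRepCrit

open CategoryTheory ArtFun
open Groth.Agent.Lib.helper17.ArtAct

variable {Λ : Type u} {k : Type u} [CommRing Λ] [Field k] [Algebra Λ k]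

/-- (H1), (H2), (H4) imply (RS), over a general base. -/
theorem rs_of_hbar_heps_hsq [IsNoetherianRing Λ] [Module.Finite Λ k]
    (F : ArtFun.Art Λ k ⥤ Type v)
    (h1 : ArtFun.Hbar F) (h2 : ArtFun.Heps F) (h4 : ArtFun.HSq F)
    ⦃B A A' A'' : ArtFun.Art Λ k⦄ (p' : B ⟶ A') (p'' : B ⟶ A'') (f' : A' ⟶ A) (f'' : A'' ⟶ A)
    (h : ArtFun.Art.IsFibreProd p' p'' f' f'') (hf : Function.Surjective f'') :
    Function.Bijective (ArtFun.cmp F h) := by
  classical
  revert B A A' A'' p' p'' f' f'' h hf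
  apply Groth.Agent.S12738.result F
  intro B A A' A'' p' p'' f' f'' h hsm
  refine ⟨?_, h1 p' p'' f' f'' h hsm⟩
  obtain ⟨t'', ht''0, hker'', ht'', htm''⟩ := exists_gen f'' hsm
  have hf''t : f'' t'' = 0 := by
    have : t'' ∈ RingHom.ker f''.toAlgHom := by rw [hker'']; exact Ideal.mem_span_singleton_self _
    exact this
  obtain ⟨t, htp', htp''⟩ := h.surj 0 t'' (by
    rw [hf''t]
    show f'.toAlgHom 0 = 0
    rw [map_zero])
  have ht0 : t ≠ 0 := by
    rintro rfl
    apply ht''0
    rw [← htp'']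
    show p''.toAlgHom 0 = 0
    rw [map_zero]
  have hmul : ∀ (x : B) (y : B), p' (x * y) = p' x * p' y := fun x y => map_mul p'.toAlgHom x y
  have hmul' : ∀ (x : B) (y : B), p'' (x * y) = p'' x * p'' y := fun x y => map_mul p''.toAlgHom x y
  have ht : ∀ x ∈ IsLocalRing.maximalIdeal B, x * t = 0 := by
    intro x hx
    apply h.inj
    · rw [hmul, htp', mul_zero]
      show _ = p'.toAlgHom 0
      rw [map_zero]
    · rw [hmul', htp'']
      have : p'' x ∈ IsLocalRing.maximalIdeal A'' := by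
        rw [ArtFun.Art.mem_maximalIdeal_iff, ArtFun.Art.res_app p'' x,
          ← ArtFun.Art.mem_maximalIdeal_iff]
        exact hx
      rw [ht'' _ this]
      show _ = p''.toAlgHom 0
      rw [map_zero]
  have htm : t ∈ IsLocalRing.maximalIdeal B := by
    rw [ArtFun.Art.mem_maximalIdeal_iff, ← ArtFun.Art.res_app p' t, htp', map_zero]
  have hkerB : RingHom.ker p'.toAlgHom = Ideal.span {t} := by
    apply le_antisymm
    · intro b hb
      have hb' : p' b = 0 := hb
      have h1 : p'' b ∈ RingHom.ker f''.toAlgHom := by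
        show f'' (p'' b) = 0
        rw [← h.w_apply, hb']
        show f'.toAlgHom 0 = 0
        rw [map_zero]
      rw [hker'', Ideal.mem_span_singleton'] at h1
      obtain ⟨a, ha⟩ := h1
      obtain ⟨x, hx⟩ := B.res_surjective (A''.res a)
      rw [Ideal.mem_span_singleton']
      refine ⟨x, ?_⟩
      apply h.inj
      · rw [hmul, htp', mul_zero, hb']
      · rw [hmul', htp'', ← ha]
        have : p'' x - a ∈ IsLocalRing.maximalIdeal A'' := by
          rw [ArtFun.Art.mem_maximalIdeal_iff, map_sub, ArtFun.Art.res_app p'' x, hx, sub_self]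
        have := ht'' _ this
        rw [sub_mul, sub_eq_zero] at this
        exact this
    · rw [Ideal.span_singleton_le_iff_mem]
      exact htp'
  obtain ⟨QB, q1, q2, s, hQ, hσ, hs1, hs2, hs3⟩ := exists_sigma_t p' t ht0 hkerB ht htm
  obtain ⟨Q'', q1'', q2'', s'', hQ'', hσ'', hs1'', hs2'', hs3''⟩ :=
    exists_sigma_t f'' t'' ht''0 hker'' ht'' htm''
  obtain ⟨P, hP1, hP2⟩ := Groth.Agent.S12727.exists_lift_hom hQ'' (q1 ≫ p'') q2
    (by rw [ArtFun.Art.eq_toBase ((q1 ≫ p'') ≫ ArtFun.Art.toBase A''),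
      ArtFun.Art.eq_toBase (q2 ≫ ArtFun.Art.toBase (ArtFun.Art.dual Λ k))])
  have hnat := sigma_natural q1 q2 t ht htm q1'' q2'' t'' ht'' htm'' p'' P hP1 hP2 htp''
  apply cmp_injective_of_forall
  intro z₁ z₂ hz1 hz2
  have hp'surj : Function.Surjective p' := by
    intro a'
    obtain ⟨a'', ha''⟩ := hsm.1 (f' a')
    obtain ⟨b, hb, -⟩ := h.surj a' a'' ha''.symm
    exact ⟨b, hb⟩
  have hp'small : ArtFun.Art.IsSmallExt p' := isSmallExt_of_gen p' hp'surj t ht0 hkerB ht
  obtain ⟨z, hzq, hzσ⟩ := exists_of_cmp_surjective hσ (h1 _ _ _ _ hσ hp'small) z₁ z₂ hz1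
  -- push to Q''
  have hz'' : F.map P z = F.map s'' (F.map p'' z₁) := by
    apply eq_of_cmp_injective hσ'' (h4 _ _ _ hσ'' hsm).1
    · rw [← map_comp_apply, hP1, map_comp_apply, hzq, ← map_comp_apply, hs1'', map_id_apply]
    · rw [← map_comp_apply, hnat, map_comp_apply, hzσ, ← map_comp_apply, hs2'', map_id_apply, hz2]
  have hv : F.map q2 z = F.map q2 (F.map s z₁) := by
    have e1 : F.map q2 z = F.map q2'' (F.map P z) := by rw [← map_comp_apply, hP2]
    have e2 : F.map q2'' (F.map s'' (F.map p'' z₁)) =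
        F.map (ArtFun.Art.toBase B ≫ ArtFun.Art.baseToDual) z₁ := by
      rw [← map_comp_apply, hs3'', ← map_comp_apply, ← Category.assoc,
        ArtFun.Art.eq_toBase (p'' ≫ ArtFun.Art.toBase A'')]
    have e3 : F.map q2 (F.map s z₁) = F.map (ArtFun.Art.toBase B ≫ ArtFun.Art.baseToDual) z₁ := by
      rw [← map_comp_apply, hs3]
    rw [e1, hz'', e2, e3]
  have hz : z = F.map s z₁ := by
    apply eq_of_cmp_injective hQ (h2 q1 q2 hQ).1
    · rw [hzq, ← map_comp_apply, hs1, map_id_apply]
    · exact hv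
  rw [← hzσ, hz, ← map_comp_apply, hs2, map_id_apply]

/-- a family which is injective on tangent vectors is injective everywhere, if `F` satisfies (RS). -/
theorem family_injective [IsNoetherianRing Λ] [Module.Finite Λ k]
    {R : Type u} [CommRing R] [Algebra Λ R] {resR : R →ₐ[Λ] k} {F : Art Λ k ⥤ Type v}
    (hF : ∀ ⦃B A A' A'' : Art Λ k⦄ (p' : B ⟶ A') (p'' : B ⟶ A'') (f' : A' ⟶ A) (f'' : A'' ⟶ A)
        (h : Art.IsFibreProd p' p'' f' f''), Function.Surjective f'' → Function.Bijective (cmp F h))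
    (ξ : Family R resR F) (hd : Function.Injective (ξ.app (Art.dual Λ k))) (A : Art Λ k) :
    Function.Injective (ξ.app A) := by
  classical
  have key : Function.Injective (ξ.app (Art.base Λ k)) → Function.Injective (ξ.app A) := by
    refine Groth.Agent.S12707.result
      (fun A B μ => Function.Injective (ξ.app A) → Function.Injective (ξ.app B)) ?_ ?_ ?_
      (Art.toBase A) A.res_surjective
    · intro A B e he hA y₁ y₂ h
      have h1 : HomSet.map e y₁ = HomSet.map e y₂ := by
        apply hA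
        rw [ξ.natural e y₁, ξ.natural e y₂, h]
      have h2 := congrArg (HomSet.map (inv e)) h1
      rwa [← homSet_map_comp, ← homSet_map_comp, IsIso.hom_inv_id, homSet_map_id,
        homSet_map_id] at h2
    · intro A B μ hμ hA y₁ y₂ h
      have hμy : HomSet.map μ y₁ = HomSet.map μ y₂ := by
        apply hA
        rw [ξ.natural μ y₁, ξ.natural μ y₂, h]
      obtain ⟨Q, q1, q2, σ, s, hQ, hσ, hs1, hs2, hs3⟩ := exists_sigma μ hμ
      obtain ⟨z, hz1, hz2⟩ := Groth.Agent.S12727.exists_lift_homSet hσ y₁ y₂ hμy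
      have hφz : ξ.app Q z = F.map s (ξ.app B y₁) := by
        apply eq_of_cmp_injective hσ (hF q1 σ μ μ hσ hμ.1).1
        · rw [← ξ.natural q1 z, hz1, ← map_comp_apply, hs1, map_id_apply]
        · rw [← ξ.natural σ z, hz2, ← map_comp_apply, hs2, map_id_apply, h]
      have hv : HomSet.map q2 z = HomSet.map q2 (HomSet.map s y₁) := by
        apply hd
        rw [ξ.natural q2 z, hφz, ξ.natural q2 (HomSet.map s y₁), ξ.natural s y₁]
      have hz : z = HomSet.map s y₁ := by
        apply Subtype.ext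
        apply AlgHom.ext
        intro r
        apply hQ.inj
        · have e1 : q1 (z.1 r) = y₁.1 r :=
            congrArg (fun f : HomSet R resR B => f.1 r) hz1
          have e2 : q1 (s (y₁.1 r)) = y₁.1 r := by
            have := congrArg (fun f : B ⟶ B => f (y₁.1 r)) hs1
            exact this
          exact e1.trans e2.symm
        · exact congrArg (fun f : HomSet R resR (Art.dual Λ k) => f.1 r) hv
      rw [← hz2, hz, ← homSet_map_comp, hs2, homSet_map_id]
    · intro A B C p q hp hq hA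
      exact hp (hq hA)
  exact key (fun a b _ => Subsingleton.elim a b)

/-- a universal family is versal. -/
theorem isVersal_of_isUniversal {R : Type u} [CommRing R] [Algebra Λ R] {resR : R →ₐ[Λ] k}
    {F : Art Λ k ⥤ Type v} (ξ : Family R resR F) (hξ : IsUniversal ξ) : IsVersal ξ := by
  intro B A μ hμ φ y hy
  obtain ⟨ψ, hψ⟩ := (hξ B).2 y
  refine ⟨ψ, ?_, hψ⟩
  apply (hξ A).1
  rw [ξ.natural, hψ, hy]

/-- a pro-representable functor is left exact. -/
theorem isLeftExact_of_isUniversal {R : Type u} [CommRing R] [Algebra Λ R] {resR : R →ₐ[Λ] k}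
    {F : Art Λ k ⥤ Type v} (ξ : Family R resR F) (hξ : IsUniversal ξ) : IsLeftExact F := by
  intro B A A' A'' p' p'' f' f'' h
  constructor
  · apply cmp_injective_of_forall
    intro z₁ z₂ h1 h2
    obtain ⟨ψ₁, rfl⟩ := (hξ B).2 z₁
    obtain ⟨ψ₂, rfl⟩ := (hξ B).2 z₂
    have e1 : HomSet.map p' ψ₁ = HomSet.map p' ψ₂ := by
      apply (hξ A').1
      rw [ξ.natural, ξ.natural, h1]
    have e2 : HomSet.map p'' ψ₁ = HomSet.map p'' ψ₂ := by
      apply (hξ A'').1
      rw [ξ.natural, ξ.natural, h2]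
    have : ψ₁ = ψ₂ := by
      apply Subtype.ext
      apply AlgHom.ext
      intro r
      apply h.inj
      · exact congrArg (fun f : HomSet R resR A' => f.1 r) e1
      · exact congrArg (fun f : HomSet R resR A'' => f.1 r) e2
    rw [this]
  · apply cmp_surjective_of_exists
    intro x' x'' hx
    obtain ⟨φ', rfl⟩ := (hξ A').2 x'
    obtain ⟨φ'', rfl⟩ := (hξ A'').2 x''
    have e : HomSet.map f' φ' = HomSet.map f'' φ'' := by
      apply (hξ A).1
      rw [ξ.natural, ξ.natural, hx]
    obtain ⟨ψ, hψ1, hψ2⟩ := Groth.Agent.S12727.exists_lift_homSet h φ' φ'' e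
    exact ⟨ξ.app B ψ, by rw [← ξ.natural, hψ1], by rw [← ξ.natural, hψ2]⟩

/-- Schlessinger's pro-representability criterion over a general base, when `k` has no
`Λ`-derivations. -/
theorem prorep_iff [IsNoetherianRing Λ] [Module.Finite Λ k]
    (hk : Subsingleton (Derivation Λ k k))
    (F : Art Λ k ⥤ Type v) [TangentStr F] (h0 : H0 F) :
    IsProrepresentable F ↔ (Hbar F ∧ Heps F ∧ Hfin F ∧ HSq F) := by
  constructor
  · rintro ⟨⟨R, ξ, hξ⟩⟩
    have hle := isLeftExact_of_isUniversal ξ hξ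
    have hhull : HasHull F := ⟨⟨R, ξ, isVersal_of_isUniversal ξ hξ, hξ _⟩⟩
    obtain ⟨-, -, hfin⟩ := Groth.Agent.S12731.result F h0 hhull
    refine ⟨?_, ?_, hfin, ?_⟩
    · intro B A A' A'' p' p'' f' f'' h _
      exact (hle p' p'' f' f'' h).2
    · intro B A' p' p'' h
      exact hle p' p'' _ _ h
    · intro B A A' p₁ p₂ f h _
      exact hle p₁ p₂ f f h
  · rintro ⟨h1, h2, h3, h4⟩
    have hS1 : S1 F := (Groth.Agent.S12724.result F).2 h1
    obtain ⟨⟨R, ξ, hver⟩⟩ := Groth.Agent.Lib.helper17.Schl.hasVersal F h0 hS1 h2 h3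
    obtain ⟨⟨R₁, ξ₁, hver₁, hinj, hsurj⟩⟩ :=
      Groth.Agent.Lib.helper17.HullStep.hasHull_of_versal hk h0 h2 R ξ hver
    refine ⟨⟨R₁, ξ₁, fun A => ⟨?_, ?_⟩⟩⟩
    · exact family_injective (rs_of_hbar_heps_hsq F h1 h2 h4) ξ₁ hinj A
    · exact Groth.Agent.S12727.surjective_app_of_isVersal h0 ξ₁ hver₁ A

theorem prorep_iff_leftExact [IsNoetherianRing Λ] [Module.Finite Λ k]
    (hk : Subsingleton (Derivation Λ k k))
    (F : Art Λ k ⥤ Type v) [TangentStr F] (h0 : H0 F) :
    IsProrepresentable F ↔ (IsLeftExact F ∧ Hfin F) := by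
  constructor
  · intro hp
    obtain ⟨⟨R, ξ, hξ⟩⟩ := id hp
    exact ⟨isLeftExact_of_isUniversal ξ hξ, ((prorep_iff hk F h0).1 hp).2.2.1⟩
  · rintro ⟨hle, hfin⟩
    refine (prorep_iff hk F h0).2 ⟨?_, ?_, hfin, ?_⟩
    · intro B A A' A'' p' p'' f' f'' h _
      exact (hle p' p'' f' f'' h).2
    · intro B A' p' p'' h
      exact hle p' p'' _ _ h
    · intro B A A' p₁ p₂ f h _
      exact hle p₁ p₂ f f h

/-- when `Λ → k` is surjective there are no `Λ`-derivations of `k`. -/
theorem subsingleton_derivation_of_surjective (hs : Function.Surjective (algebraMap Λ k)) :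
    Subsingleton (Derivation Λ k k) := by
  constructor
  intro D D'
  ext c
  obtain ⟨l, rfl⟩ := hs c
  rw [Derivation.map_algebraMap, Derivation.map_algebraMap]

end Groth.Agent.Lib.helper17.ProRepCrit
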