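import Mathlib
import Groth.Agent.S2195
import Groth.Agent.S0249

/-!
# Quasi-finite flat morphisms unramified in codimension one (helper17), part 1

* `height_eq_of_goingDown_of_incomparable`: heights along a going-down extension at a prime isolated
  from below in its fibre.
* `formallyUnramified_of_forall_isMaximal`: unramified at all maximal ideals implies unramified.
* `etale_of_free_of_unramified_height_one`: a finite free algebra over a Noetherian local ring of
  dimension at least one which is unramified at all primes of height one is étale (discriminant +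
  Krull's Hauptidealsatz in the form S0249).
* `notMem_support_baseChange`, `mem_support_baseChange_of_flat`: supports and base change.
* `isUnramifiedAt_baseChange`, `isUnramifiedAt_of_baseChange_of_flat`: unramifiedness at a prime
  under (flat) base change.
-/

set_option autoImplicit false
universe u

namespace Groth.Agent.Lib.helper17.QFEt

/-- Height is preserved along a going-down extension at primes which are isolated from below in
their fibre. -/
theorem height_eq_of_goingDown_of_incomparable {R S : Type*} [CommRing R] [CommRing S]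
    [Algebra R S] [IsNoetherianRing R] [IsNoetherianRing S] [Algebra.HasGoingDown R S]
    (p : Ideal R) [p.IsPrime] (P : Ideal S) [P.IsPrime] [P.LiesOver p]
    (hinc : ∀ P' : Ideal S, P'.IsPrime → P' ≤ P → P'.under R = p → P' = P) :
    P.height = p.height := by
  rw [Ideal.height_eq_height_add_of_liesOver_of_hasGoingDown p P]
  set I : Ideal S := p.map (algebraMap R S) with hI
  have hIP : I ≤ P := by
    rw [hI, Ideal.map_le_iff_le_comap]
    exact le_of_eq (Ideal.LiesOver.over (p := p) (P := P))
  have hsurj : Function.Surjective (Ideal.Quotient.mk I) := Ideal.Quotient.mk_surjective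
  have hker : RingHom.ker (Ideal.Quotient.mk I) ≤ P := by rwa [Ideal.mk_ker]
  haveI hprime : (P.map (Ideal.Quotient.mk I)).IsPrime := Ideal.map_isPrime_of_surjective hsurj hker
  have hcomap : (P.map (Ideal.Quotient.mk I)).comap (Ideal.Quotient.mk I) = P :=
    (Ideal.comap_map_of_surjective' _ hsurj P).trans (by rw [Ideal.mk_ker]; exact sup_eq_left.mpr hIP)
  suffices h : (P.map (Ideal.Quotient.mk I)).height = 0 by rw [h, add_zero]
  rw [Ideal.height_eq_zero_iff]
  refine ⟨⟨hprime, bot_le⟩, ?_⟩
  rintro J ⟨hJ, -⟩ hJP
  haveI := hJ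
  have h1 : J.comap (Ideal.Quotient.mk I) ≤ P := by
    rw [← hcomap]; exact Ideal.comap_mono hJP
  have h2 : I ≤ J.comap (Ideal.Quotient.mk I) := by
    intro x hx
    rw [Ideal.mem_comap, Ideal.Quotient.eq_zero_iff_mem.mpr hx]
    exact J.zero_mem
  have h3 : (J.comap (Ideal.Quotient.mk I)).under R = p := by
    apply le_antisymm
    · calc (J.comap (Ideal.Quotient.mk I)).under R ≤ P.under R := Ideal.comap_mono h1
        _ = p := (Ideal.LiesOver.over (p := p) (P := P)).symm
    · rw [Ideal.under_def, ← Ideal.map_le_iff_le_comap]; exact h2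
  have h4 := hinc _ inferInstance h1 h3
  rw [← Ideal.map_comap_of_surjective _ hsurj J, h4]

open IsLocalRing

/-- A finite `A`-algebra `B` over a ring all of whose maximal ideals are unramified is unramified. -/
theorem formallyUnramified_of_forall_isMaximal {A B : Type*} [CommRing A] [CommRing B] [Algebra A B]
    [Algebra.EssFiniteType A B]
    (h : ∀ (Q : Ideal B) [Q.IsMaximal], Algebra.IsUnramifiedAt A Q) :
    Algebra.FormallyUnramified A B := by
  by_contra hnot
  have hI : Module.annihilator B Ω[B⁄A] ≠ ⊤ := by
    intro h'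
    apply hnot
    rw [Algebra.formallyUnramified_iff]
    exact Module.annihilator_eq_top_iff.mp h'
  obtain ⟨Q, hQ, hIQ⟩ := Ideal.exists_le_maximal _ hI
  haveI := hQ
  have hsupp : (⟨Q, hQ.isPrime⟩ : PrimeSpectrum B) ∈ Module.support B Ω[B⁄A] :=
    Module.mem_support_iff_of_finite.mpr hIQ
  have hun : (⟨Q, hQ.isPrime⟩ : PrimeSpectrum B) ∈ Algebra.unramifiedLocus A B := h Q
  rw [Algebra.unramifiedLocus_eq_compl_support] at hun
  exact hun hsupp

/-- **Finite free algebras unramified in codimension one are étale.**  Let `A` be a Noetherian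
local ring of dimension at least one and `B` a finite free `A`-algebra which is unramified over `A`
at every prime of height one.  Then `B` is étale over `A`. -/
theorem etale_of_free_of_unramified_height_one {A : Type u} [CommRing A] [IsNoetherianRing A]
    [IsLocalRing A] (hA : (1 : WithBot ℕ∞) ≤ ringKrullDim A)
    (B : Type u) [CommRing B] [Algebra A B] [Module.Finite A B] [Module.Free A B]
    (hB : ∀ (Q : Ideal B) [Q.IsPrime], Q.height = 1 → Algebra.IsUnramifiedAt A Q) :
    Algebra.Etale A B := by
  classical
  let b := Module.finBasis A B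
  rw [Groth.Agent.S2195.result b]
  by_contra hd
  have hdm : Algebra.discr A b ∈ maximalIdeal A := (mem_maximalIdeal _).2 hd
  obtain ⟨p, hp, hdp, hht⟩ := Groth.Agent.S0249.result A hA _ hdm
  haveI := hp
  haveI : IsNoetherianRing B := IsNoetherianRing.of_finite A B
  let M := p.primeCompl
  let Ap := Localization.AtPrime p
  let Bp := Localization (Algebra.algebraMapSubmonoid B M)
  have hU : Algebra.FormallyUnramified A Bp := by
    apply formallyUnramified_of_forall_isMaximal
    intro N hN
    haveI := hN
    haveI : N.IsPrime := hN.isPrime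
    let Q : Ideal B := N.comap (algebraMap B Bp)
    haveI : Q.IsPrime := inferInstance
    have hloc : IsLocalization.AtPrime (Localization.AtPrime N) Q :=
      IsLocalization.isLocalization_isLocalization_atPrime_isLocalization
        (Algebra.algebraMapSubmonoid B M) (Localization.AtPrime N) N
    -- `N` lies over the maximal ideal of `Ap`
    haveI : Module.Finite Ap Bp := inferInstance
    haveI : Algebra.IsIntegral Ap Bp := Algebra.IsIntegral.of_finite Ap Bp
    have hNmax : (N.comap (algebraMap Ap Bp)).IsMaximal :=
      Ideal.isMaximal_comap_of_isIntegral_of_isMaximal N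
    have hN1 : N.comap (algebraMap Ap Bp) = maximalIdeal Ap := IsLocalRing.eq_maximalIdeal hNmax
    have hQp : Q.under A = p := by
      show (N.comap (algebraMap B Bp)).comap (algebraMap A B) = p
      rw [Ideal.comap_comap, ← IsScalarTower.algebraMap_eq, IsScalarTower.algebraMap_eq A Ap Bp,
        ← Ideal.comap_comap, hN1]
      exact IsLocalization.AtPrime.under_maximalIdeal Ap p
    haveI : Q.LiesOver p := ⟨hQp.symm⟩
    have hQht : Q.height = 1 := by
      rw [height_eq_of_goingDown_of_incomparable p Q, hht]
      intro P' hP' hle hP'p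
      haveI := hP'
      exact Algebra.QuasiFinite.eq_of_le_of_under_eq (R := A) P' Q hle (hP'p.trans hQp.symm)
    have h1 : Algebra.FormallyUnramified A (Localization.AtPrime Q) := hB Q hQht
    let e : Localization.AtPrime Q ≃ₐ[B] Localization.AtPrime N :=
      IsLocalization.algEquiv Q.primeCompl _ _
    exact Algebra.FormallyUnramified.of_equiv (e.restrictScalars A)
  have hU' : Algebra.FormallyUnramified Ap Bp := Algebra.FormallyUnramified.of_restrictScalars A _ _
  have hu : IsUnit (algebraMap A Ap (Algebra.discr A b)) := by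
    rw [← Algebra.discr_localizationLocalization A M Bp b]
    exact Groth.Agent.Lib.helper22.TraceSep.isUnit_discr_of_formallyUnramified _
  exact ((IsLocalization.AtPrime.isUnit_to_map_iff Ap p _).mp hu) hdp

open TensorProduct

section Supp

variable {S S' : Type*} [CommRing S] [CommRing S'] [Algebra S S']
  (M : Type*) [AddCommGroup M] [Module S M]

theorem notMem_support_baseChange (Q : PrimeSpectrum S')
    (h : PrimeSpectrum.comap (algebraMap S S') Q ∉ Module.support S M) :
    Q ∉ Module.support S' (S' ⊗[S] M) := by
  rw [Module.notMem_support_iff'] at h ⊢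
  intro m
  induction m with
  | zero => exact ⟨1, Q.asIdeal.one_notMem, by simp⟩
  | tmul s ω =>
    obtain ⟨t, ht, htω⟩ := h ω
    refine ⟨algebraMap S S' t, ht, ?_⟩
    rw [TensorProduct.smul_tmul', smul_eq_mul, ← Algebra.smul_def, TensorProduct.smul_tmul, htω,
      tmul_zero]
  | add x y hx hy =>
    obtain ⟨r, hr, hrx⟩ := hx
    obtain ⟨r', hr', hry⟩ := hy
    refine ⟨r * r', fun hmem => (Q.2.mem_or_mem hmem).elim hr hr', ?_⟩
    have e1 : (r * r') • x = 0 := by rw [mul_comm, mul_smul, hrx, smul_zero]
    have e2 : (r * r') • y = 0 := by rw [mul_smul, hry, smul_zero]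
    rw [smul_add, e1, e2, add_zero]

theorem mem_support_baseChange_of_flat [Module.Flat S S'] (Q : PrimeSpectrum S')
    (h : PrimeSpectrum.comap (algebraMap S S') Q ∈ Module.support S M) :
    Q ∈ Module.support S' (S' ⊗[S] M) := by
  rw [Module.mem_support_iff'] at h ⊢
  obtain ⟨ω, hω⟩ := h
  refine ⟨1 ⊗ₜ ω, fun x hxQ hx => hxQ ?_⟩
  -- the ideal `I = Ann ω`
  let φ : S →ₗ[S] M := LinearMap.toSpanSingleton S M ω
  let I : Ideal S := LinearMap.ker φ
  have hIq : ∀ i ∈ I, algebraMap S S' i ∈ Q.asIdeal := by
    intro i hi
    by_contra hcon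
    exact hω i hcon (by simpa [φ, I] using hi)
  let ψ : (S ⧸ I) →ₗ[S] M := Submodule.liftQ I φ le_rfl
  have hψ : Function.Injective ψ := by
    rw [← LinearMap.ker_eq_bot]
    exact Submodule.ker_liftQ_eq_bot _ _ _ le_rfl
  have hinj : Function.Injective (ψ.lTensor S') := Module.Flat.lTensor_preserves_injective_linearMap ψ hψ
  have h1 : ψ.lTensor S' (x ⊗ₜ (Ideal.Quotient.mk I 1)) = 0 := by
    rw [LinearMap.lTensor_tmul]
    have : ψ (Ideal.Quotient.mk I 1) = ω := by
      show ψ (Submodule.Quotient.mk 1) = ω
      rw [Submodule.liftQ_apply]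
      simp [φ]
    rw [this]
    rw [← hx, TensorProduct.smul_tmul', smul_eq_mul, mul_one]
  have h2 : x ⊗ₜ[S] (Ideal.Quotient.mk I 1) = 0 := hinj (by rw [h1, map_zero])
  have h3 := congrArg (TensorProduct.tensorQuotEquivQuotSMul S' I) h2
  rw [TensorProduct.tensorQuotEquivQuotSMul_tmul_mk, one_smul, map_zero,
    Submodule.Quotient.mk_eq_zero] at h3
  refine Submodule.smul_induction_on h3 ?_ ?_
  · intro i hi s' _
    rw [Algebra.smul_def]
    exact Q.asIdeal.mul_mem_right _ (hIq i hi)
  · intro a b ha hb
    exact Q.asIdeal.add_mem ha hb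

end Supp

section Unram

variable {R R' S S' : Type*} [CommRing R] [CommRing R'] [CommRing S] [CommRing S']
  [Algebra R R'] [Algebra R S] [Algebra R' S'] [Algebra S S'] [Algebra R S']
  [IsScalarTower R R' S'] [IsScalarTower R S S'] [Algebra.IsPushout R R' S S']

/-- Unramifiedness at a prime is stable under base change. -/
theorem isUnramifiedAt_baseChange (Q : Ideal S') [Q.IsPrime]
    (h : Algebra.IsUnramifiedAt R (Q.under S)) : Algebra.IsUnramifiedAt R' Q := by
  have h1 : (⟨Q.under S, inferInstance⟩ : PrimeSpectrum S) ∈ Algebra.unramifiedLocus R S := h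
  show (⟨Q, inferInstance⟩ : PrimeSpectrum S') ∈ Algebra.unramifiedLocus R' S'
  rw [Algebra.unramifiedLocus_eq_compl_support] at h1 ⊢
  rw [Set.mem_compl_iff, ← (KaehlerDifferential.tensorKaehlerEquiv R R' S S').support_eq]
  exact notMem_support_baseChange _ ⟨Q, inferInstance⟩ h1

/-- Unramifiedness at a prime descends along flat base change. -/
theorem isUnramifiedAt_of_baseChange_of_flat [Module.Flat S S'] (Q : Ideal S') [Q.IsPrime]
    (h : Algebra.IsUnramifiedAt R' Q) : Algebra.IsUnramifiedAt R (Q.under S) := by
  have h1 : (⟨Q, inferInstance⟩ : PrimeSpectrum S') ∈ Algebra.unramifiedLocus R' S' := h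
  show (⟨Q.under S, inferInstance⟩ : PrimeSpectrum S) ∈ Algebra.unramifiedLocus R S
  rw [Algebra.unramifiedLocus_eq_compl_support] at h1 ⊢
  rw [Set.mem_compl_iff, ← (KaehlerDifferential.tensorKaehlerEquiv R R' S S').support_eq] at h1
  intro hmem
  exact h1 (mem_support_baseChange_of_flat _ ⟨Q, inferInstance⟩ hmem)

end Unram

end Groth.Agent.Lib.helper17.QFEt
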