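import Groth.Agent.Lib.Helper17.QFEt1

/-!
# Quasi-finite flat morphisms unramified in codimension one (helper17), part 2

`isUnramifiedAt_of_flat_of_quasiFiniteAt`: `R` Noetherian, `S` a flat `R`-algebra of finite type,
`q` a prime of `S` of height at least one at which `S` is quasi-finite over `R`.  If `S` is
unramified over `R` at all primes of height one contained in `q`, then `S` is unramified at `q`.

Proof: étale localisation (Mathlib `Algebra.exists_etale_isIdempotentElem_forall_liesOver_eq`,
Stacks 00UJ) makes `S` finite free near `q`; then the discriminant argument of part 1 applies.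
Auxiliary: `height_under_right` (heights are preserved by étale base change),
`isUnramifiedAt_under_iff_of_isLocalization`.
-/

set_option autoImplicit false
universe u

namespace Groth.Agent.Lib.helper17.QFEt

open TensorProduct IsLocalRing

attribute [local instance] Algebra.TensorProduct.rightAlgebra

section EtaleBC

variable (R : Type u) (S : Type u) (R' : Type u) [CommRing R] [CommRing S] [CommRing R']
  [Algebra R S] [Algebra R R'] [Algebra.Etale R R']

/-- the flip isomorphism, `S`-linear -/
noncomputable def flipEquiv : S ⊗[R] R' ≃ₐ[S] R' ⊗[R] S :=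
  .ofRingEquiv (f := Algebra.TensorProduct.comm R S R') <| by simp [RingHom.algebraMap_toAlgebra]

theorem flat_right : Module.Flat S (R' ⊗[R] S) :=
  Module.Flat.of_linearEquiv (flipEquiv R S R').symm.toLinearEquiv

theorem quasiFinite_right : Algebra.QuasiFinite S (R' ⊗[R] S) :=
  (Algebra.QuasiFinite.iff_of_algEquiv (flipEquiv R S R')).mp inferInstance

theorem height_under_right [IsNoetherianRing S] [IsNoetherianRing (R' ⊗[R] S)]
    (Q : Ideal (R' ⊗[R] S)) [Q.IsPrime] : (Q.under S).height = Q.height := by
  haveI := flat_right R S R'
  haveI := quasiFinite_right R S R'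
  symm
  apply height_eq_of_goingDown_of_incomparable (Q.under S) Q
  intro P' hP' hle hP'p
  haveI := hP'
  exact Algebra.QuasiFinite.eq_of_le_of_under_eq (R := S) P' Q hle hP'p

end EtaleBC

/-- Unramifiedness at a prime of a localization can be checked at the contracted prime. -/
theorem isUnramifiedAt_under_iff_of_isLocalization {R' S' T : Type*} [CommRing R'] [CommRing S']
    [CommRing T] [Algebra R' S'] [Algebra S' T] [Algebra R' T] [IsScalarTower R' S' T]
    (M : Submonoid S') [IsLocalization M T] (Q : Ideal T) [Q.IsPrime] :
    Algebra.IsUnramifiedAt R' (Q.under S') ↔ Algebra.IsUnramifiedAt R' Q := by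
  have hloc : IsLocalization.AtPrime (Localization.AtPrime Q) (Q.under S') :=
    IsLocalization.isLocalization_isLocalization_atPrime_isLocalization M (Localization.AtPrime Q) Q
  let e : Localization.AtPrime (Q.under S') ≃ₐ[S'] Localization.AtPrime Q :=
    IsLocalization.algEquiv (Q.under S').primeCompl _ _
  constructor
  · intro h
    exact Algebra.FormallyUnramified.of_equiv (e.restrictScalars R')
  · intro h
    exact Algebra.FormallyUnramified.of_equiv (e.symm.restrictScalars R')

/-- **Flat quasi-finite algebras unramified in codimension one are unramified** (ring level).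
`R` Noetherian, `S` a flat `R`-algebra of finite type, `q` a prime of `S` at which `S` is
quasi-finite over `R`, of height at least one.  If `S` is unramified over `R` at all primes of
height one contained in `q`, then `S` is unramified over `R` at `q`. -/
theorem isUnramifiedAt_of_flat_of_quasiFiniteAt {R S : Type u} [CommRing R] [CommRing S]
    [Algebra R S] [IsNoetherianRing R] [Algebra.FiniteType R S] [Module.Flat R S]
    (q : Ideal S) [q.IsPrime] [Algebra.QuasiFiniteAt R q] (hdim : 1 ≤ q.height)
    (h : ∀ (q' : Ideal S) [q'.IsPrime], q' ≤ q → q'.height = 1 → Algebra.IsUnramifiedAt R q') :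
    Algebra.IsUnramifiedAt R q := by
  classical
  obtain ⟨p, hp⟩ : ∃ p : Ideal R, p = q.under R := ⟨_, rfl⟩
  haveI : p.IsPrime := hp ▸ inferInstance
  haveI : q.LiesOver p := ⟨hp⟩
  obtain ⟨R', _, _, hEt, P, hP, hPp, e, he, P', hP', hP'P, hP'q, heP', -, hfin, huniq⟩ :=
    Algebra.exists_etale_isIdempotentElem_forall_liesOver_eq p q
  haveI : IsNoetherianRing S := Algebra.FiniteType.isNoetherianRing R S
  haveI : IsNoetherianRing R' := Algebra.FiniteType.isNoetherianRing R R'
  haveI : IsNoetherianRing (R' ⊗[R] S) := Algebra.FiniteType.isNoetherianRing R' _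
  haveI : Module.Flat R R' := inferInstance
  haveI hflatS := flat_right R S R'
  -- heights
  have hq_p : q.height = p.height :=
    height_eq_of_goingDown_of_incomparable p q (fun P'' hP'' hle hu => by
      haveI := hP''
      exact Algebra.QuasiFiniteAt.eq_of_le_of_under_eq (R := R) hle (hu.trans hp))
  have hP_p : P.height = p.height :=
    height_eq_of_goingDown_of_incomparable p P (fun P'' hP'' hle hu => by
      haveI := hP''
      exact Algebra.QuasiFinite.eq_of_le_of_under_eq (R := R) P'' P hle
        (hu.trans (Ideal.LiesOver.over (p := p) (P := P))))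
  have hA : (1 : WithBot ℕ∞) ≤ ringKrullDim (Localization.AtPrime P) := by
    rw [IsLocalization.AtPrime.ringKrullDim_eq_height P, hP_p, ← hq_p]
    exact_mod_cast hdim
  -- the finite piece and its localization at `P`
  haveI : Module.Finite R' (Localization.Away e) := hfin
  haveI : Module.Flat R' (Localization.Away e) := Module.Flat.trans R' (R' ⊗[R] S) _
  let M2 : Submonoid (Localization.Away e) := Algebra.algebraMapSubmonoid _ P.primeCompl
  haveI : Module.Free (Localization.AtPrime P) (Localization M2) :=
    Module.free_of_flat_of_isLocalRing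
  -- the key transfer: primes of `B` correspond to primes of `S'` inside `P'`
  have key : ∀ (Q : Ideal (Localization M2)) [Q.IsPrime],
      ((Q.under (Localization.Away e)).under (R' ⊗[R] S)) ≤ P' := by
    intro Q hQ
    obtain ⟨N, hN, hQN⟩ := Ideal.exists_le_maximal Q hQ.ne_top
    haveI := hN
    haveI : N.IsPrime := hN.isPrime
    haveI : Algebra.IsIntegral (Localization.AtPrime P) (Localization M2) :=
      Algebra.IsIntegral.of_finite _ _
    have hNmax : (N.comap (algebraMap (Localization.AtPrime P) (Localization M2))).IsMaximal :=
      Ideal.isMaximal_comap_of_isIntegral_of_isMaximal N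
    have hN1 : N.comap (algebraMap (Localization.AtPrime P) (Localization M2)) =
        maximalIdeal (Localization.AtPrime P) := IsLocalRing.eq_maximalIdeal hNmax
    let N' : Ideal (R' ⊗[R] S) := (N.under (Localization.Away e)).under (R' ⊗[R] S)
    haveI : N'.IsPrime := inferInstance
    have hN'P : N'.under R' = P := by
      show ((N.comap (algebraMap (Localization.Away e) (Localization M2))).comap
        (algebraMap (R' ⊗[R] S) (Localization.Away e))).comap (algebraMap R' (R' ⊗[R] S)) = P
      rw [Ideal.comap_comap, Ideal.comap_comap, ← IsScalarTower.algebraMap_eq,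
        ← IsScalarTower.algebraMap_eq,
        IsScalarTower.algebraMap_eq R' (Localization.AtPrime P) (Localization M2),
        ← Ideal.comap_comap, hN1]
      exact IsLocalization.AtPrime.under_maximalIdeal (Localization.AtPrime P) P
    haveI : N'.LiesOver P := ⟨hN'P.symm⟩
    have heN' : e ∉ N' := by
      intro hmem
      have h1 : algebraMap (R' ⊗[R] S) (Localization.Away e) e ∈ N.under (Localization.Away e) :=
        hmem
      have hu : IsUnit (algebraMap (R' ⊗[R] S) (Localization.Away e) e) :=
        IsLocalization.Away.algebraMap_isUnit e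
      exact (Ideal.IsPrime.ne_top inferInstance) (Ideal.eq_top_of_isUnit_mem _ h1 hu)
    have hN'eq : N' = P' := huniq N' inferInstance inferInstance heN'
    rw [← hN'eq]
    exact Ideal.comap_mono (Ideal.comap_mono hQN)
  -- `B` is étale over `A`
  have hEtB : Algebra.Etale (Localization.AtPrime P) (Localization M2) := by
    refine etale_of_free_of_unramified_height_one hA _ (fun Q hQ hQht => ?_)
    haveI := hQ
    have hle := key Q
    set Q1 : Ideal (Localization.Away e) := Q.under (Localization.Away e) with hQ1
    set Q' : Ideal (R' ⊗[R] S) := Q1.under (R' ⊗[R] S) with hQ'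
    have h1 : Q1.height = 1 := by rw [hQ1, IsLocalization.height_under M2 Q, hQht]
    have h2 : Q'.height = 1 := by
      rw [hQ', IsLocalization.height_under (Submonoid.powers e) Q1, h1]
    have h3 : (Q'.under S).height = 1 := by rw [height_under_right R S R' Q', h2]
    have h4 : Q'.under S ≤ q := by
      rw [← hP'q]
      exact Ideal.comap_mono hle
    have h5 : Algebra.IsUnramifiedAt R (Q'.under S) := h _ h4 h3
    have h6 : Algebra.IsUnramifiedAt R' Q' := isUnramifiedAt_baseChange Q' h5
    have h7 : Algebra.IsUnramifiedAt R' Q1 :=
      (isUnramifiedAt_under_iff_of_isLocalization (Submonoid.powers e) Q1).mp h6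
    have h8 : Algebra.IsUnramifiedAt R' Q :=
      (isUnramifiedAt_under_iff_of_isLocalization M2 Q).mp h7
    exact Algebra.FormallyUnramified.of_restrictScalars R' _ _
  -- the prime of `B` corresponding to `P'`
  have hd1 : Disjoint ((Submonoid.powers e : Submonoid (R' ⊗[R] S)) : Set (R' ⊗[R] S)) (P' : Set _) :=
    (Ideal.disjoint_powers_iff_notMem e hP'.isRadical).mpr heP'
  let N1 : Ideal (Localization.Away e) := P'.map (algebraMap (R' ⊗[R] S) (Localization.Away e))
  haveI hN1 : N1.IsPrime := IsLocalization.isPrime_of_isPrime_disjoint (Submonoid.powers e) _ P' hP' hd1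
  have hN1u : N1.under (R' ⊗[R] S) = P' :=
    IsLocalization.under_map_of_isPrime_disjoint (Submonoid.powers e) _ hP' hd1
  have hd2 : Disjoint ((M2 : Submonoid (Localization.Away e)) : Set (Localization.Away e)) (N1 : Set _) := by
    rw [Set.disjoint_left]
    rintro x ⟨r, hr, rfl⟩ hx
    apply hr
    have h1 : algebraMap R' (R' ⊗[R] S) r ∈ N1.under (R' ⊗[R] S) := by
      show algebraMap (R' ⊗[R] S) (Localization.Away e) (algebraMap R' (R' ⊗[R] S) r) ∈ N1
      rw [← IsScalarTower.algebraMap_apply]
      exact hx
    rw [hN1u] at h1
    have h2 : r ∈ P'.under R' := h1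
    rwa [← Ideal.LiesOver.over (p := P) (P := P')] at h2
  let N : Ideal (Localization M2) := N1.map (algebraMap (Localization.Away e) (Localization M2))
  haveI hN : N.IsPrime := IsLocalization.isPrime_of_isPrime_disjoint M2 _ N1 hN1 hd2
  have hNu : N.under (Localization.Away e) = N1 :=
    IsLocalization.under_map_of_isPrime_disjoint M2 _ hN1 hd2
  -- `B_N` is unramified over `R'`
  haveI := hEtB
  haveI : Algebra.FormallyUnramified R' (Localization M2) :=
    Algebra.FormallyUnramified.comp R' (Localization.AtPrime P) (Localization M2)
  have h1 : Algebra.IsUnramifiedAt R' N :=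
    Algebra.FormallyUnramified.comp R' (Localization M2) (Localization.AtPrime N)
  have h2 : Algebra.IsUnramifiedAt R' (N.under (Localization.Away e)) :=
    (isUnramifiedAt_under_iff_of_isLocalization M2 N).mpr h1
  have h3 : Algebra.IsUnramifiedAt R' ((N.under (Localization.Away e)).under (R' ⊗[R] S)) :=
    (isUnramifiedAt_under_iff_of_isLocalization (Submonoid.powers e) _).mpr h2
  have h4 : (N.under (Localization.Away e)).under (R' ⊗[R] S) = P' := by rw [hNu, hN1u]
  have h5 : Algebra.IsUnramifiedAt R' P' := by
    convert h3 using 2
    all_goals exact h4.symm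
  have h6 := isUnramifiedAt_of_baseChange_of_flat (R := R) (S := S) P' h5
  convert h6 using 2
  all_goals exact hP'q.symm

end Groth.Agent.Lib.helper17.QFEt
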