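import Groth.Agent.Lib.Helper17.QFEt2
import Groth.Agent.Lib.Helper24.SmoothLocalIff
import Groth.Agent.Lib.Helper22.PurityInd
import Groth.Agent.Lib.Helper24.RegBC1
import Groth.Agent.Lib.Helper8.LocalFlat

/-!
# Purity of the branch locus for quasi-finite morphisms, ring level (helper17), part 3

`isUnramifiedAt_and_flat_of_normal_of_regular`: `R` Noetherian, `S` an `R`-algebra of finite type,
`q` a prime of `S` over `p` at which `S` is quasi-finite over `R`, `S_q` a normal domain, `R_p`
regular, `dim S_q = dim R_p ≥ 1`.  If `S` is unramified over `R` at all primes of height one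
contained in `q`, then `S_q` is flat and unramified over `R`.

Proof: étale localisation (Stacks 00UJ) reduces to a finite local algebra `B` over the regular
local ring `A = R'_P`; `B` is a normal domain (helper24, normality ascends along étale maps),
`A → B` is injective for dimension reasons, so Zariski–Nagata purity in the form of helper22's
`PurityInd.etale_of_unramCodimOne` shows that `B` is étale over `A`; flatness and unramifiedness
descend along the faithfully flat map `S_q → B`.
-/

set_option autoImplicit false
universe u

namespace Groth.Agent.Lib.helper17.QFEt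

open TensorProduct IsLocalRing

attribute [local instance] Algebra.TensorProduct.rightAlgebra

/-- étale base change, right-hand version -/
theorem etale_right (R : Type u) (S : Type u) (R' : Type u) [CommRing R] [CommRing S] [CommRing R']
    [Algebra R S] [Algebra R R'] [Algebra.Etale R R'] : Algebra.Etale S (R' ⊗[R] S) :=
  Algebra.Etale.of_equiv (flipEquiv R S R')

/-- Regularity ascends along étale maps (local form). -/
theorem isRegularLocalRing_atPrime_of_etale {R R' : Type u} [CommRing R] [CommRing R']
    [Algebra R R'] [Algebra.Etale R R'] [IsNoetherianRing R]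
    (p : Ideal R) [p.IsPrime] (P : Ideal R') [P.IsPrime] [P.LiesOver p]
    [IsRegularLocalRing (Localization.AtPrime p)] :
    IsRegularLocalRing (Localization.AtPrime P) := by
  letI := Localization.AtPrime.algebraOfLiesOver p P
  haveI : IsNoetherianRing R' := Algebra.FiniteType.isNoetherianRing R R'
  haveI : IsLocalHom (algebraMap (Localization.AtPrime p) (Localization.AtPrime P)) :=
    Localization.isLocalHom_localRingHom _ _ _ Ideal.LiesOver.over
  haveI : Algebra.FormallyUnramified R (Localization.AtPrime P) :=
    Algebra.FormallyUnramified.comp R R' _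
  haveI : Algebra.FormallyUnramified (Localization.AtPrime p) (Localization.AtPrime P) :=
    Algebra.FormallyUnramified.of_restrictScalars R _ _
  haveI : Algebra.EssFiniteType R (Localization.AtPrime P) :=
    Algebra.EssFiniteType.comp R R' _
  haveI : Algebra.EssFiniteType (Localization.AtPrime p) (Localization.AtPrime P) :=
    Algebra.EssFiniteType.of_comp R _ _
  have hmap := Algebra.FormallyUnramified.map_maximalIdeal
    (R := Localization.AtPrime p) (S := Localization.AtPrime P)
  exact (Groth.Agent.Lib.helper24.RegBC1.isRegularLocalRing_iff_of_flat_of_map_eq _ _ hmap).mp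
    inferInstance

/-- Integral ring maps do not raise the Krull dimension. -/
theorem ringKrullDim_le_of_isIntegral' {A B : Type*} [CommRing A] [CommRing B] (f : A →+* B)
    (hf : f.IsIntegral) : ringKrullDim B ≤ ringKrullDim A := by
  algebraize [f]
  have : Algebra.IsIntegral A B := ⟨hf⟩
  refine Order.krullDim_le_of_strictMono
    (fun p : PrimeSpectrum B => PrimeSpectrum.comap (algebraMap A B) p) ?_
  intro p q hpq
  have : p.asIdeal < q.asIdeal := hpq
  exact Ideal.IsIntegral.comap_lt_comap (R := A) this

/-- An integral map from a domain of finite dimension to a ring of the same dimension is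
injective. -/
theorem injective_of_isIntegral_of_ringKrullDim_eq {A B : Type*} [CommRing A] [IsDomain A]
    [FiniteRingKrullDim A] [CommRing B] [Algebra A B] [Algebra.IsIntegral A B]
    (h : ringKrullDim B = ringKrullDim A) : Function.Injective (algebraMap A B) := by
  rw [injective_iff_map_eq_zero]
  intro a ha
  by_contra hne
  have hker : Ideal.span {a} ≤ RingHom.ker (algebraMap A B) := by
    rw [Ideal.span_singleton_le_iff_mem]; exact ha
  let g : A ⧸ Ideal.span {a} →+* B := Ideal.Quotient.lift _ (algebraMap A B) (fun x hx => hker hx)
  have hg : g.IsIntegral := by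
    intro b
    obtain ⟨P, hP, hPb⟩ := Algebra.IsIntegral.isIntegral (R := A) b
    refine ⟨P.map (Ideal.Quotient.mk _), hP.map _, ?_⟩
    rw [Polynomial.eval₂_map]
    have : g.comp (Ideal.Quotient.mk (Ideal.span {a})) = algebraMap A B := by
      ext x; simp [g]
    rw [this]; exact hPb
  have h1 := ringKrullDim_le_of_isIntegral' g hg
  have h2 := ringKrullDim_quotient_succ_le_of_nonZeroDivisor (r := a)
    (mem_nonZeroDivisors_of_ne_zero hne)
  have h3 : ringKrullDim A + 1 ≤ ringKrullDim A := by
    calc ringKrullDim A + 1 = ringKrullDim B + 1 := by rw [h]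
      _ ≤ ringKrullDim (A ⧸ Ideal.span {a}) + 1 := by gcongr
      _ ≤ ringKrullDim A := h2
  obtain ⟨n, hn⟩ : ∃ n : ℕ, ringKrullDim A = n := by
    have h1 := ringKrullDim_ne_top (R := A)
    have h2 := ringKrullDim_ne_bot (R := A)
    generalize ringKrullDim A = d at h1 h2
    cases d with
    | bot => exact absurd rfl h2
    | coe d =>
      cases d with
      | top => exact absurd rfl h1
      | coe n => exact ⟨n, rfl⟩
  rw [hn] at h3
  have : ((n + 1 : ℕ) : WithBot ℕ∞) ≤ (n : ℕ) := by exact_mod_cast h3
  have h4 : (n + 1 : ℕ) ≤ n := by exact_mod_cast this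
  omega

/-- If a Noetherian local domain of dimension at least one is unramified over `A` at all primes
of height one, it is unramified at all primes of height at most one. -/
theorem unramCodimOne_of_height_one {A B : Type u} [CommRing A] [CommRing B] [Algebra A B]
    [Algebra.EssFiniteType A B] [IsNoetherianRing B] [IsLocalRing B] [IsDomain B]
    (hB : (1 : WithBot ℕ∞) ≤ ringKrullDim B)
    (h : ∀ (Q : Ideal B) [Q.IsPrime], Q.height = 1 → Algebra.IsUnramifiedAt A Q) :
    Groth.Agent.Lib.helper22.PurityInd.UnramCodimOne A B := by
  intro Q hQ hle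
  by_cases h1 : Q.height = 1
  · exact h Q h1
  · have h0 : Q.height = 0 := by
      have : Q.height < 1 := lt_of_le_of_ne hle h1
      exact Order.lt_one_iff.mp this
    have hQbot : Q = ⊥ := Ideal.height_eq_zero_iff_eq_bot.mp h0
    obtain ⟨Q1, hQ1, -, hQ1ht⟩ := Groth.Agent.S0249.result B hB 0 (zero_mem _)
    haveI := hQ1
    have hmem : (⟨Q1, hQ1⟩ : PrimeSpectrum B) ∈ Algebra.unramifiedLocus A B := h Q1 hQ1ht
    have hopen := Algebra.isOpen_unramifiedLocus (R := A) (A := B)
    have hspec : (⟨Q, hQ⟩ : PrimeSpectrum B) ⤳ ⟨Q1, hQ1⟩ := by
      rw [← PrimeSpectrum.le_iff_specializes]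
      show Q ≤ Q1
      rw [hQbot]; exact bot_le
    exact hspec.mem_open hopen hmem

/-- **Purity of the branch locus, ring level.**  `R` Noetherian, `S` an `R`-algebra of finite
type, `q` a prime of `S` over `p` at which `S` is quasi-finite over `R`, with `S_q` a normal
domain, `R_p` regular and `dim S_q = dim R_p ≥ 1`.  If `S` is unramified over `R` at all primes
of height one contained in `q`, then `S` is unramified and flat over `R` at `q`. -/
theorem isUnramifiedAt_and_flat_of_normal_of_regular {R S : Type u} [CommRing R] [CommRing S]
    [Algebra R S] [IsNoetherianRing R] [Algebra.FiniteType R S]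
    (p : Ideal R) [p.IsPrime] (q : Ideal S) [q.IsPrime] [q.LiesOver p] [Algebra.QuasiFiniteAt R q]
    (hdom : IsDomain (Localization.AtPrime q)) (hic : IsIntegrallyClosed (Localization.AtPrime q))
    (hreg : IsRegularLocalRing (Localization.AtPrime p))
    (hht : q.height = p.height) (hdim : 1 ≤ q.height)
    (h : ∀ (q' : Ideal S) [q'.IsPrime], q' ≤ q → q'.height = 1 → Algebra.IsUnramifiedAt R q') :
    Algebra.IsUnramifiedAt R q ∧ Module.Flat R (Localization.AtPrime q) := by
  classical
  obtain ⟨R', _, _, hEt, P, hP, hPp, e, he, P', hP', hP'P, hP'q, heP', -, hfin, huniq⟩ :=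
    Algebra.exists_etale_isIdempotentElem_forall_liesOver_eq p q
  haveI : IsNoetherianRing S := Algebra.FiniteType.isNoetherianRing R S
  haveI : IsNoetherianRing R' := Algebra.FiniteType.isNoetherianRing R R'
  haveI : IsNoetherianRing (R' ⊗[R] S) := Algebra.FiniteType.isNoetherianRing R' _
  haveI : Module.Flat R R' := inferInstance
  haveI hflatS := flat_right R S R'
  haveI hEtS := etale_right R S R'
  -- heights
  have hP_p : P.height = p.height :=
    height_eq_of_goingDown_of_incomparable p P (fun P'' hP'' hle hu => by
      haveI := hP''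
      exact Algebra.QuasiFinite.eq_of_le_of_under_eq (R := R) P'' P hle
        (hu.trans (Ideal.LiesOver.over (p := p) (P := P))))
  have hP'q' : P'.under S = q := hP'q
  have hP'_q : P'.height = q.height := by
    rw [← height_under_right R S R' P', hP'q']
  -- the local rings `A = R'_P` and `B`
  haveI : Module.Finite R' (Localization.Away e) := hfin
  let M2 : Submonoid (Localization.Away e) := Algebra.algebraMapSubmonoid _ P.primeCompl
  haveI hregA : IsRegularLocalRing (Localization.AtPrime P) :=
    isRegularLocalRing_atPrime_of_etale p P
  haveI : IsDomain (Localization.AtPrime P) :=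
    Groth.Agent.Lib.helper15.isDomain_of_isRegularLocalRing _
  -- the key transfer: primes of `B` correspond to primes of `S'` inside `P'`
  have key : ∀ (Q : Ideal (Localization M2)) [Q.IsPrime],
      ((Q.under (Localization.Away e)).under (R' ⊗[R] S)) ≤ P' := by
    intro Q hQ
    obtain ⟨N, hN, hQN⟩ := Ideal.exists_le_maximal Q hQ.ne_top
    haveI := hN
    haveI : N.IsPrime := hN.isPrime
    haveI : Algebra.IsIntegral (Localization.AtPrime P) (Localization M2) :=
      Algebra.IsIntegral.of_finite _ _
    have hNmax : (N.comap (algebraMap (Localization.AtPrime P) (Localization M2))).IsMaximal :=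
      Ideal.isMaximal_comap_of_isIntegral_of_isMaximal N
    have hN1 : N.comap (algebraMap (Localization.AtPrime P) (Localization M2)) =
        maximalIdeal (Localization.AtPrime P) := IsLocalRing.eq_maximalIdeal hNmax
    let N' : Ideal (R' ⊗[R] S) := (N.under (Localization.Away e)).under (R' ⊗[R] S)
    haveI : N'.IsPrime := inferInstance
    have hN'P : N'.under R' = P := by
      show ((N.comap (algebraMap (Localization.Away e) (Localization M2))).comap
        (algebraMap (R' ⊗[R] S) (Localization.Away e))).comap (algebraMap R' (R' ⊗[R] S)) = P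
      rw [Ideal.comap_comap, Ideal.comap_comap, ← IsScalarTower.algebraMap_eq,
        ← IsScalarTower.algebraMap_eq,
        IsScalarTower.algebraMap_eq R' (Localization.AtPrime P) (Localization M2),
        ← Ideal.comap_comap, hN1]
      exact IsLocalization.AtPrime.under_maximalIdeal (Localization.AtPrime P) P
    haveI : N'.LiesOver P := ⟨hN'P.symm⟩
    have heN' : e ∉ N' := by
      intro hmem
      have h1 : algebraMap (R' ⊗[R] S) (Localization.Away e) e ∈ N.under (Localization.Away e) :=
        hmem
      have hu : IsUnit (algebraMap (R' ⊗[R] S) (Localization.Away e) e) :=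
        IsLocalization.Away.algebraMap_isUnit e
      exact (Ideal.IsPrime.ne_top inferInstance) (Ideal.eq_top_of_isUnit_mem _ h1 hu)
    have hN'eq : N' = P' := huniq N' inferInstance inferInstance heN'
    rw [← hN'eq]
    exact Ideal.comap_mono (Ideal.comap_mono hQN)
  -- the prime of `B` corresponding to `P'`
  have hd1 : Disjoint ((Submonoid.powers e : Submonoid (R' ⊗[R] S)) : Set (R' ⊗[R] S)) (P' : Set _) :=
    (Ideal.disjoint_powers_iff_notMem e hP'.isRadical).mpr heP'
  let N1 : Ideal (Localization.Away e) := P'.map (algebraMap (R' ⊗[R] S) (Localization.Away e))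
  haveI hN1 : N1.IsPrime := IsLocalization.isPrime_of_isPrime_disjoint (Submonoid.powers e) _ P' hP' hd1
  have hN1u : N1.under (R' ⊗[R] S) = P' :=
    IsLocalization.under_map_of_isPrime_disjoint (Submonoid.powers e) _ hP' hd1
  have hd2 : Disjoint ((M2 : Submonoid (Localization.Away e)) : Set (Localization.Away e)) (N1 : Set _) := by
    rw [Set.disjoint_left]
    rintro x ⟨r, hr, rfl⟩ hx
    apply hr
    have h1 : algebraMap R' (R' ⊗[R] S) r ∈ N1.under (R' ⊗[R] S) := by
      show algebraMap (R' ⊗[R] S) (Localization.Away e) (algebraMap R' (R' ⊗[R] S) r) ∈ N1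
      rw [← IsScalarTower.algebraMap_apply]
      exact hx
    rw [hN1u] at h1
    have h2 : r ∈ P'.under R' := h1
    rwa [← Ideal.LiesOver.over (p := P) (P := P')] at h2
  let N : Ideal (Localization M2) := N1.map (algebraMap (Localization.Away e) (Localization M2))
  haveI hN : N.IsPrime := IsLocalization.isPrime_of_isPrime_disjoint M2 _ N1 hN1 hd2
  have hNu : N.under (Localization.Away e) = N1 :=
    IsLocalization.under_map_of_isPrime_disjoint M2 _ hN1 hd2
  -- `B` is local with maximal ideal `N`
  have hNtop : ∀ (Q : Ideal (Localization M2)) [Q.IsPrime], Q ≤ N := by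
    intro Q hQ
    have h1 := key Q
    have e1 : Q = (Q.under (Localization.Away e)).map (algebraMap _ (Localization M2)) :=
      (IsLocalization.map_under M2 _ Q).symm
    have e2 : Q.under (Localization.Away e) =
        ((Q.under (Localization.Away e)).under (R' ⊗[R] S)).map (algebraMap _ _) :=
      (IsLocalization.map_under (Submonoid.powers e) _ _).symm
    rw [e1, e2]
    exact Ideal.map_mono (Ideal.map_mono h1)
  have hunit : ∀ x : Localization M2, x ∈ N.primeCompl → IsUnit x := by
    intro x hx
    by_contra hu
    obtain ⟨Mx, hMx, hxM⟩ := exists_max_ideal_of_mem_nonunits hu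
    haveI := hMx.isPrime
    exact hx (hNtop Mx hxM)
  haveI hlocN : IsLocalization.AtPrime (Localization M2) N :=
    IsLocalization.of_le_isUnit (fun x hx => hunit x hx)
  have hloc1 : IsLocalization.AtPrime (Localization M2) (N.under (Localization.Away e)) :=
    IsLocalization.isLocalization_isLocalization_atPrime_isLocalization M2 (Localization M2) N
  haveI hloc1' : IsLocalization.AtPrime (Localization M2) N1 := by
    convert hloc1
    all_goals exact hNu.symm
  have hloc2 : IsLocalization.AtPrime (Localization M2) (N1.under (R' ⊗[R] S)) :=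
    IsLocalization.isLocalization_isLocalization_atPrime_isLocalization (Submonoid.powers e)
      (Localization M2) N1
  haveI hlocP' : IsLocalization.AtPrime (Localization M2) P' := by
    convert hloc2
    all_goals exact hN1u.symm
  let eB : Localization M2 ≃ₐ[R' ⊗[R] S] Localization.AtPrime P' :=
    IsLocalization.algEquiv P'.primeCompl _ _
  -- `B` is a normal domain
  have hnormP' : IsDomain (Localization.AtPrime P') ∧
      IsIntegrallyClosed (Localization.AtPrime P') := by
    haveI : Algebra.Smooth S (R' ⊗[R] S) := inferInstance
    have h1 := Groth.Agent.Lib.Helper24.SmoothLocalIff.isNormalDomain_atPrime_iff_of_smooth S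
      (R' ⊗[R] S) P'
    subst hP'q'
    exact h1.mp ⟨hdom, hic⟩
  haveI := hnormP'.1
  haveI := hnormP'.2
  haveI : IsDomain (Localization M2) := eB.toRingEquiv.toMulEquiv.isDomain
  haveI : IsIntegrallyClosed (Localization M2) := IsIntegrallyClosed.of_equiv eB.symm.toRingEquiv
  -- dimensions
  have hdimB : ringKrullDim (Localization M2) = ringKrullDim (Localization.AtPrime P) := by
    rw [IsLocalization.AtPrime.ringKrullDim_eq_height P' (Localization M2),
      IsLocalization.AtPrime.ringKrullDim_eq_height P (Localization.AtPrime P), hP'_q, hP_p, hht]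
  haveI : Algebra.IsIntegral (Localization.AtPrime P) (Localization M2) :=
    Algebra.IsIntegral.of_finite _ _
  have hinj := injective_of_isIntegral_of_ringKrullDim_eq hdimB
  -- unramified in codimension one
  haveI : IsLocalRing (Localization M2) := IsLocalization.AtPrime.isLocalRing (Localization M2) N
  haveI : IsNoetherianRing (Localization.Away e) :=
    IsLocalization.isNoetherianRing (Submonoid.powers e) _ inferInstance
  haveI : IsNoetherianRing (Localization M2) := IsLocalization.isNoetherianRing M2 _ inferInstance
  have hBdim : (1 : WithBot ℕ∞) ≤ ringKrullDim (Localization M2) := by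
    rw [IsLocalization.AtPrime.ringKrullDim_eq_height P' (Localization M2), hP'_q]
    exact_mod_cast hdim
  have hUCO : Groth.Agent.Lib.helper22.PurityInd.UnramCodimOne (Localization.AtPrime P)
      (Localization M2) := by
    refine unramCodimOne_of_height_one hBdim (fun Q hQ hQht => ?_)
    haveI := hQ
    have hle := key Q
    set Q1 : Ideal (Localization.Away e) := Q.under (Localization.Away e) with hQ1
    set Q' : Ideal (R' ⊗[R] S) := Q1.under (R' ⊗[R] S) with hQ'
    have h1 : Q1.height = 1 := by rw [hQ1, IsLocalization.height_under M2 Q, hQht]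
    have h2 : Q'.height = 1 := by
      rw [hQ', IsLocalization.height_under (Submonoid.powers e) Q1, h1]
    have h3 : (Q'.under S).height = 1 := by rw [height_under_right R S R' Q', h2]
    have h4 : Q'.under S ≤ q := by
      rw [← hP'q']
      exact Ideal.comap_mono hle
    have h5 : Algebra.IsUnramifiedAt R (Q'.under S) := h _ h4 h3
    have h6 : Algebra.IsUnramifiedAt R' Q' := isUnramifiedAt_baseChange Q' h5
    have h7 : Algebra.IsUnramifiedAt R' Q1 :=
      (isUnramifiedAt_under_iff_of_isLocalization (Submonoid.powers e) Q1).mp h6
    have h8 : Algebra.IsUnramifiedAt R' Q :=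
      (isUnramifiedAt_under_iff_of_isLocalization M2 Q).mp h7
    exact Algebra.FormallyUnramified.of_restrictScalars R' _ _
  haveI hEtB : Algebra.Etale (Localization.AtPrime P) (Localization M2) :=
    Groth.Agent.Lib.helper22.PurityInd.etale_of_unramCodimOne hinj hUCO
  -- unramifiedness descends
  haveI : Algebra.FormallyUnramified R' (Localization M2) :=
    Algebra.FormallyUnramified.comp R' (Localization.AtPrime P) (Localization M2)
  have h5 : Algebra.IsUnramifiedAt R' P' :=
    Algebra.FormallyUnramified.of_equiv (eB.restrictScalars R')
  have h6 := isUnramifiedAt_of_baseChange_of_flat (R := R) (S := S) P' h5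
  -- flatness descends
  haveI : Module.Flat R' (Localization M2) :=
    Module.Flat.trans R' (Localization.AtPrime P) (Localization M2)
  haveI : Module.Flat R (Localization M2) := Module.Flat.trans R R' (Localization M2)
  haveI : Module.Flat R (Localization.AtPrime P') :=
    Module.Flat.of_linearEquiv (eB.restrictScalars R).symm.toLinearEquiv
  subst hP'q'
  refine ⟨h6, ?_⟩
  letI : P'.LiesOver (P'.under S) := ⟨rfl⟩
  letI := Localization.AtPrime.algebraOfLiesOver (P'.under S) P'
  haveI := Groth.Agent.Lib.Helper24.SmoothLocalIff.faithfullyFlat_atPrime S (R' ⊗[R] S) P'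
  exact Groth.Agent.Lib.helper8.LocalFlat.flat_of_faithfullyFlat_of_flat (R := R)
    (S := Localization.AtPrime (P'.under S)) (Localization.AtPrime P')

end Groth.Agent.Lib.helper17.QFEt
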