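import Mathlib
import Groth.Agent.Lib.Helper24.NodeApprox

/-!
# Successive approximation for binary quadratic forms over a complete local base (helper17)

Generalisation of helper24's `NodeApprox.exists_limit` from `u v` to a binary quadratic form
`A u² + B u v + C v²` with invertible discriminant.
-/

set_option autoImplicit false
universe u

namespace Groth.Agent.Lib.helper17.QuadApprox

open IsLocalRing Groth.Agent.Lib.Helper24

variable {W R : Type u} [CommRing W] [IsLocalRing W] [CommRing R] [IsLocalRing R]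
  (φ : W →+* R)

variable [IsNoetherianRing R] [IsAdicComplete (maximalIdeal W) W]
  [IsAdicComplete (maximalIdeal R) R]

theorem exists_limit (hφ : (maximalIdeal W).map φ ≤ maximalIdeal R)
    (hres : ∀ r : R, ∃ w : W, r - φ w ∈ maximalIdeal R)
    (A B C Dinv : R) (hD : (4 * A * C - B ^ 2) * Dinv = 1)
    (u v : R) (huv : A * u ^ 2 + B * u * v + C * v ^ 2 ∈ (maximalIdeal W).map φ)
    (hgen : maximalIdeal R = Ideal.span {u, v} ⊔ (maximalIdeal W).map φ) :
    ∃ (u' v' : R) (α : W), α ∈ maximalIdeal W ∧ u' - u ∈ (maximalIdeal W).map φ ∧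
      v' - v ∈ (maximalIdeal W).map φ ∧ A * u' ^ 2 + B * u' * v' + C * v' ^ 2 = φ α := by
  set J := (maximalIdeal W).map φ with hJ
  let P : ℕ → R × R × W → Prop := fun n t =>
    t.1 - u ∈ J ∧ t.2.1 - v ∈ J ∧ t.2.2 ∈ maximalIdeal W ∧
      A * t.1 ^ 2 + B * t.1 * t.2.1 + C * t.2.1 ^ 2 - φ t.2.2 ∈ J ^ (n + 1)
  have hJpow : ∀ {m n : ℕ}, m ≤ n → J ^ n ≤ J ^ m := fun h => Ideal.pow_le_pow_right h
  have step : ∀ (n : ℕ) (t : R × R × W), P n t → ∃ t' : R × R × W, P (n + 1) t' ∧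
      t'.1 - t.1 ∈ J ^ (n + 1) ∧ t'.2.1 - t.2.1 ∈ J ^ (n + 1) ∧
      t'.2.2 - t.2.2 ∈ maximalIdeal W ^ (n + 1) := by
    rintro n ⟨u₁, v₁, α₁⟩ ⟨h1, h2, h3, h4⟩
    obtain ⟨a, ha, s, hs, t, ht, hrest⟩ :=
      NodeApprox.exists_approx φ hres u v hgen (n + 1) u₁ v₁ h1 h2 _ h4
    obtain ⟨σ, hσ⟩ : ∃ σ, σ = Dinv * (2 * C * s - B * t) := ⟨_, rfl⟩
    obtain ⟨τ, hτ⟩ : ∃ τ, τ = Dinv * (2 * A * t - B * s) := ⟨_, rfl⟩
    have hσm : σ ∈ J ^ (n + 1) := by
      rw [hσ]
      exact Ideal.mul_mem_left _ _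
        (Ideal.sub_mem _ (Ideal.mul_mem_left _ _ hs) (Ideal.mul_mem_left _ _ ht))
    have hτm : τ ∈ J ^ (n + 1) := by
      rw [hτ]
      exact Ideal.mul_mem_left _ _
        (Ideal.sub_mem _ (Ideal.mul_mem_left _ _ ht) (Ideal.mul_mem_left _ _ hs))
    have hσJ : σ ∈ J := by
      have := hJpow (Nat.le_add_left 1 n) hσm
      rwa [pow_one] at this
    have hτJ : τ ∈ J := by
      have := hJpow (Nat.le_add_left 1 n) hτm
      rwa [pow_one] at this
    refine ⟨(u₁ - σ, v₁ - τ, α₁ + a), ⟨?_, ?_, ?_, ?_⟩, ?_, ?_, ?_⟩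
    · have : u₁ - σ - u = (u₁ - u) - σ := by ring
      change u₁ - σ - u ∈ J
      rw [this]
      exact Ideal.sub_mem _ h1 hσJ
    · have : v₁ - τ - v = (v₁ - v) - τ := by ring
      change v₁ - τ - v ∈ J
      rw [this]
      exact Ideal.sub_mem _ h2 hτJ
    · refine Ideal.add_mem _ h3 ?_
      have := Ideal.pow_le_pow_right (I := maximalIdeal W) (Nat.le_add_left 1 n) ha
      rwa [pow_one] at this
    · have : A * (u₁ - σ) ^ 2 + B * (u₁ - σ) * (v₁ - τ) + C * (v₁ - τ) ^ 2 - φ (α₁ + a) =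
          (A * u₁ ^ 2 + B * u₁ * v₁ + C * v₁ ^ 2 - φ α₁ - (φ a + u₁ * s + v₁ * t)) +
            (A * (σ * σ) + B * (σ * τ) + C * (τ * τ)) := by
        rw [map_add, hσ, hτ]
        linear_combination (-(u₁ * s + v₁ * t)) * hD
      change A * (u₁ - σ) ^ 2 + B * (u₁ - σ) * (v₁ - τ) + C * (v₁ - τ) ^ 2 - φ (α₁ + a) ∈
        J ^ (n + 1 + 1)
      rw [this]
      refine Ideal.add_mem _ hrest ?_
      have hmm : ∀ x ∈ J ^ (n + 1), ∀ y ∈ J ^ (n + 1), x * y ∈ J ^ (n + 1 + 1) := by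
        intro x hx y hy
        have hts : x * y ∈ J ^ (n + 1) * J ^ (n + 1) := Ideal.mul_mem_mul hx hy
        rw [← pow_add] at hts
        exact hJpow (by omega) hts
      exact Ideal.add_mem _ (Ideal.add_mem _ (Ideal.mul_mem_left _ _ (hmm _ hσm _ hσm))
        (Ideal.mul_mem_left _ _ (hmm _ hσm _ hτm))) (Ideal.mul_mem_left _ _ (hmm _ hτm _ hτm))
    · change u₁ - σ - u₁ ∈ _
      have : u₁ - σ - u₁ = -σ := by ring
      rw [this]; exact Ideal.neg_mem_iff _ |>.2 hσm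
    · change v₁ - τ - v₁ ∈ _
      have : v₁ - τ - v₁ = -τ := by ring
      rw [this]; exact Ideal.neg_mem_iff _ |>.2 hτm
    · change α₁ + a - α₁ ∈ _
      have : α₁ + a - α₁ = a := by ring
      rw [this]; exact ha
  have base : P 0 (u, v, 0) := by
    refine ⟨by simp, by simp, Ideal.zero_mem _, ?_⟩
    simpa using huv
  let seq : ∀ n : ℕ, {t : R × R × W // P n t} := fun n =>
    Nat.rec ⟨(u, v, 0), base⟩
      (fun n t => ⟨Classical.choose (step n t.1 t.2), (Classical.choose_spec (step n t.1 t.2)).1⟩) n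
  have hseq : ∀ n, (seq (n + 1)).1.1 - (seq n).1.1 ∈ J ^ (n + 1) ∧
      (seq (n + 1)).1.2.1 - (seq n).1.2.1 ∈ J ^ (n + 1) ∧
      (seq (n + 1)).1.2.2 - (seq n).1.2.2 ∈ maximalIdeal W ^ (n + 1) := fun n =>
    (Classical.choose_spec (step n (seq n).1 (seq n).2)).2
  have hJn : ∀ n, J ^ n ≤ maximalIdeal R ^ n := fun n => Ideal.pow_right_mono hφ n
  -- limits
  have hcu : ∀ n, (fun n => (seq n).1.1) n ≡ (fun n => (seq n).1.1) (n + 1)
      [SMOD (maximalIdeal R ^ n • ⊤ : Submodule R R)] := by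
    intro n
    rw [NodeApprox.smodEq_iff, ← Ideal.neg_mem_iff, neg_sub]
    exact Ideal.pow_le_pow_right (Nat.le_succ n) (hJn _ (hseq n).1)
  have hcv : ∀ n, (fun n => (seq n).1.2.1) n ≡ (fun n => (seq n).1.2.1) (n + 1)
      [SMOD (maximalIdeal R ^ n • ⊤ : Submodule R R)] := by
    intro n
    rw [NodeApprox.smodEq_iff, ← Ideal.neg_mem_iff, neg_sub]
    exact Ideal.pow_le_pow_right (Nat.le_succ n) (hJn _ (hseq n).2.1)
  have hcα : ∀ n, (fun n => (seq n).1.2.2) n ≡ (fun n => (seq n).1.2.2) (n + 1)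
      [SMOD (maximalIdeal W ^ n • ⊤ : Submodule W W)] := by
    intro n
    rw [NodeApprox.smodEq_iff, ← Ideal.neg_mem_iff, neg_sub]
    exact Ideal.pow_le_pow_right (Nat.le_succ n) (hseq n).2.2
  obtain ⟨u', hu'⟩ := IsPrecomplete.prec' (I := maximalIdeal R) (M := R) _
    ((AdicCompletion.isAdicCauchy_iff _ _ _).2 hcu)
  obtain ⟨v', hv'⟩ := IsPrecomplete.prec' (I := maximalIdeal R) (M := R) _
    ((AdicCompletion.isAdicCauchy_iff _ _ _).2 hcv)
  obtain ⟨α, hα⟩ := IsPrecomplete.prec' (I := maximalIdeal W) (M := W) _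
    ((AdicCompletion.isAdicCauchy_iff _ _ _).2 hcα)
  simp only [NodeApprox.smodEq_iff] at hu' hv' hα
  refine ⟨u', v', α, ?_, ?_, ?_, ?_⟩
  · have h1 := hα 1
    rw [pow_one] at h1
    have h2 := (seq 1).2.2.2.1
    have : α = (seq 1).1.2.2 - ((seq 1).1.2.2 - α) := by ring
    rw [this]
    exact Ideal.sub_mem _ h2 h1
  · -- Krull intersection in R ⧸ J
    have hq : Ideal.Quotient.mk J (u' - u) = 0 := by
      apply IsHausdorff.haus' (I := maximalIdeal R) (M := R ⧸ J)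
      intro n
      rw [SModEq.zero]
      have h1 : u' - u = ((seq n).1.1 - u) - ((seq n).1.1 - u') := by ring
      rw [h1, map_sub, (Ideal.Quotient.eq_zero_iff_mem).2 (seq n).2.1, zero_sub]
      apply Submodule.neg_mem
      have := Submodule.smul_mem_smul (hu' n) (Submodule.mem_top (x := (1 : R ⧸ J)))
      convert this using 1
      rw [Algebra.smul_def, mul_one]; rfl
    exact Ideal.Quotient.eq_zero_iff_mem.1 hq
  · have hq : Ideal.Quotient.mk J (v' - v) = 0 := by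
      apply IsHausdorff.haus' (I := maximalIdeal R) (M := R ⧸ J)
      intro n
      rw [SModEq.zero]
      have h1 : v' - v = ((seq n).1.2.1 - v) - ((seq n).1.2.1 - v') := by ring
      rw [h1, map_sub, (Ideal.Quotient.eq_zero_iff_mem).2 (seq n).2.2.1, zero_sub]
      apply Submodule.neg_mem
      have := Submodule.smul_mem_smul (hv' n) (Submodule.mem_top (x := (1 : R ⧸ J)))
      convert this using 1
      rw [Algebra.smul_def, mul_one]; rfl
    exact Ideal.Quotient.eq_zero_iff_mem.1 hq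
  · rw [← sub_eq_zero]
    apply IsHausdorff.haus' (I := maximalIdeal R) (M := R)
    intro n
    rw [NodeApprox.smodEq_iff, sub_zero]
    have h1 : A * u' ^ 2 + B * u' * v' + C * v' ^ 2 - φ α =
        -(((seq n).1.1 - u') * (A * (u' + (seq n).1.1) + B * v')) -
          ((seq n).1.2.1 - v') * (B * (seq n).1.1 + C * (v' + (seq n).1.2.1)) +
        (A * (seq n).1.1 ^ 2 + B * (seq n).1.1 * (seq n).1.2.1 + C * (seq n).1.2.1 ^ 2
          - φ (seq n).1.2.2) + φ ((seq n).1.2.2 - α) := by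
      rw [map_sub]; ring
    rw [h1]
    refine Ideal.add_mem _ (Ideal.add_mem _ (Ideal.sub_mem _ ?_ ?_) ?_) ?_
    · exact Ideal.neg_mem_iff _ |>.2 (Ideal.mul_mem_right _ _ (hu' n))
    · exact Ideal.mul_mem_right _ _ (hv' n)
    · exact Ideal.pow_le_pow_right (Nat.le_succ n) (hJn _ (seq n).2.2.2.2)
    · apply hJn n
      rw [hJ, ← Ideal.map_pow]
      exact Ideal.mem_map_of_mem _ (hα n)

end Groth.Agent.Lib.helper17.QuadApprox
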