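import Mathlib
import Groth.Agent.Lib.Helper24.NodeInj

/-!
# Kernel of a surjection from a power series ring, general hypersurface version (helper17)

Generalisation of helper24's `NodeInj.ker_le_span` from `xy - α` to an arbitrary power series `G`
whose reduction `g₀` cuts out the closed fibre.
-/

set_option autoImplicit false
set_option linter.style.haveILetI false
universe u

namespace Groth.Agent.Lib.helper17.QuadInj

open IsLocalRing Groth.Agent.Lib.Helper24 Groth.Agent.Lib.Helper24.NodeInj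

open MvPowerSeries in
theorem ker_le_span {W k R : Type u} [CommRing W] [IsLocalRing W] [IsNoetherianRing W] [Field k]
    [CommRing R] (r : W →+* k) (hr : Function.Surjective r) (φ : W →+* R) (hφ : φ.Flat)
    (f : MvPowerSeries (Fin 2) W →+* R) (hfC : f.comp MvPowerSeries.C = φ)
    (hf : Function.Surjective f) (G : MvPowerSeries (Fin 2) W) (g₀ : MvPowerSeries (Fin 2) k)
    (hG : MvPowerSeries.map r G = g₀)
    (hker : f G = 0)
    (e : (R ⧸ (maximalIdeal W).map φ) ≃+*
      (MvPowerSeries (Fin 2) k ⧸ Ideal.span {g₀})) :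
    RingHom.ker f ≤ Ideal.span {G} := by
  classical
  have hkerr : RingHom.ker r = maximalIdeal W :=
    IsLocalRing.eq_maximalIdeal (RingHom.ker_isMaximal_of_surjective r hr)
  set ρ := MvPowerSeries.map (σ := Fin 2) r with hρdef
  have hρs : Function.Surjective ρ := map_surjective r hr
  have hρk : RingHom.ker ρ = (maximalIdeal W).map (C : W →+* MvPowerSeries (Fin 2) W) := by
    rw [hρdef, ker_map_eq r ((isNoetherianRing_iff_ideal_fg W).1 inferInstance _), hkerr]
  set J := (maximalIdeal W).map φ with hJ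
  have hfCa : ∀ a, f (C a) = φ a := fun a => RingHom.congr_fun hfC a
  let θ' : MvPowerSeries (Fin 2) W →+* R ⧸ J := (Ideal.Quotient.mk J).comp f
  have hθ'ker : RingHom.ker ρ ≤ RingHom.ker θ' := by
    rw [hρk, Ideal.map_le_iff_le_comap]
    intro m hm
    rw [Ideal.mem_comap, RingHom.mem_ker, RingHom.comp_apply, hfCa,
      Ideal.Quotient.eq_zero_iff_mem]
    exact Ideal.mem_map_of_mem _ hm
  let θ₁ : MvPowerSeries (Fin 2) k →+* R ⧸ J := ρ.liftOfSurjective hρs ⟨θ', hθ'ker⟩
  have hθ₁ : ∀ g, θ₁ (ρ g) = θ' g := fun g =>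
    RingHom.liftOfRightInverse_comp_apply ρ _ _ ⟨θ', hθ'ker⟩ g
  have hρxy : ρ G = g₀ := hG
  have hθ₁xy : ∀ q ∈ Ideal.span {g₀}, θ₁ q = 0 := by
    intro q hq
    obtain ⟨c, rfl⟩ := Ideal.mem_span_singleton'.1 hq
    rw [map_mul, ← hρxy, hθ₁, RingHom.comp_apply, hker, map_zero, mul_zero]
  let θ₂ := Ideal.Quotient.lift _ θ₁ hθ₁xy
  have hθ₂s : Function.Surjective θ₂ := by
    apply Ideal.Quotient.lift_surjective_of_surjective
    intro y
    obtain ⟨y', rfl⟩ := Ideal.Quotient.mk_surjective y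
    obtain ⟨g, rfl⟩ := hf y'
    exact ⟨ρ g, hθ₁ g⟩
  have hθ₂i : Function.Injective θ₂ := by
    have h1 : Function.Injective ((e : _ →+* _).comp θ₂) :=
      injective_of_surjective_ringEnd _ (e.surjective.comp hθ₂s)
    exact Function.Injective.of_comp (f := e) h1
  -- elements of the kernel
  have hstep : ∀ g ∈ RingHom.ker f, ∃ q, g - G * q ∈
      (maximalIdeal W).map (C : W →+* MvPowerSeries (Fin 2) W) := by
    intro g hg
    have h1 : θ₂ (Ideal.Quotient.mk _ (ρ g)) = 0 := by
      change θ₁ (ρ g) = 0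
      rw [hθ₁, RingHom.comp_apply, (RingHom.mem_ker).1 hg, map_zero]
    have h2 : Ideal.Quotient.mk _ (ρ g) = 0 := hθ₂i (by rw [h1, map_zero])
    rw [Ideal.Quotient.eq_zero_iff_mem] at h2
    obtain ⟨c, hc⟩ := Ideal.mem_span_singleton'.1 h2
    obtain ⟨q, rfl⟩ := hρs c
    refine ⟨q, ?_⟩
    rw [← hρk, RingHom.mem_ker, map_sub, map_mul, hρxy, ← hc]
    ring
  -- module structures
  letI : Algebra W R := φ.toAlgebra
  haveI : Module.Flat W R := hφ
  let fA : MvPowerSeries (Fin 2) W →ₐ[W] R :=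
    { f with
      commutes' := fun a => by
        change f (algebraMap W (MvPowerSeries (Fin 2) W) a) = φ a
        rw [MvPowerSeries.algebraMap_apply, Algebra.algebraMap_self, RingHom.id_apply, hfCa] }
  set K := RingHom.ker f with hK
  set M := (maximalIdeal W).map (C : W →+* MvPowerSeries (Fin 2) W) with hM
  have hfl : ∀ g ∈ K, g ∈ M → g ∈ M * K := by
    intro g hgK hgM
    have hMeq : M = (maximalIdeal W).map (algebraMap W (MvPowerSeries (Fin 2) W)) := by
      rw [hM]; congr 1
    rw [hMeq] at hgM ⊢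
    exact mem_mul_ker_of_flat fA hf (maximalIdeal W) g hgK hgM
  -- Nakayama
  have hMjac : M ≤ Ideal.jacobson (⊥ : Ideal (MvPowerSeries (Fin 2) W)) := by
    rw [IsLocalRing.jacobson_eq_maximalIdeal ⊥ bot_ne_top, hM, Ideal.map_le_iff_le_comap]
    intro m hm
    rw [Ideal.mem_comap, IsLocalRing.mem_maximalIdeal, mem_nonunits_iff,
      MvPowerSeries.isUnit_iff_constantCoeff, MvPowerSeries.constantCoeff_C]
    exact (IsLocalRing.mem_maximalIdeal _).1 hm
  have hKfg : (K : Submodule (MvPowerSeries (Fin 2) W) (MvPowerSeries (Fin 2) W)).FG :=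
    (isNoetherianRing_iff_ideal_fg _).1 inferInstance K
  refine Submodule.le_of_le_smul_of_le_jacobson_bot hKfg hMjac ?_
  intro g hg
  obtain ⟨q, hq⟩ := hstep g hg
  have h1 : g - G * q ∈ K := by
    refine Ideal.sub_mem _ hg ?_
    rw [hK, RingHom.mem_ker, map_mul, hker, zero_mul]
  have h2 := hfl _ h1 hq
  have h3 : g = G * q + (g - G * q) := by ring
  rw [h3]
  refine Submodule.add_mem_sup ?_ ?_
  · exact Ideal.mul_mem_right _ _ (Ideal.subset_span rfl)
  · rw [smul_eq_mul]; exact h2

end Groth.Agent.Lib.helper17.QuadInj
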