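import Mathlib
import Groth.Agent.Lib.Helper17.QuadApprox
import Groth.Agent.Lib.Helper17.QuadInj
import Groth.Agent.Lib.Helper24.CohenPS

/-!
# Formal structure of a flat deformation of a binary quadratic singularity (helper17)

`exists_equiv`: `W`, `R` complete Noetherian local rings, `φ : W → R` flat with `𝔪_W R ⊆ 𝔪_R`,
`r : W → k` the residue map, `a b c : W` with `b² - 4ac` a unit, and
`R / 𝔪_W R ≅ k⟦x,y⟧/(ā x² + b̄ xy + c̄ y²)` compatibly with `W`.  Then there is `h ∈ 𝔪_W` and an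
isomorphism `R ≅ W⟦x,y⟧/(a x² + b xy + c y² - h)` compatible with `W`.
-/

set_option autoImplicit false
set_option linter.style.haveILetI false
universe u

namespace Groth.Agent.Lib.helper17.QuadIso

open IsLocalRing Groth.Agent.Lib.Helper24

open MvPowerSeries in
theorem exists_equiv_aux {W R k : Type u} [CommRing W] [IsLocalRing W] [IsNoetherianRing W]
    [IsAdicComplete (maximalIdeal W) W] [CommRing R] [IsLocalRing R] [IsNoetherianRing R]
    [IsAdicComplete (maximalIdeal R) R] [Field k]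
    (r : W →+* k) (hr : Function.Surjective r) (φ : W →+* R) (hφ : φ.Flat)
    (J : Ideal R) (hJ : J = (maximalIdeal W).map φ)
    (hφJ : J ≤ maximalIdeal R)
    (a b c : W) (hD : IsUnit (b ^ 2 - 4 * a * c))
    (q : MvPowerSeries (Fin 2) k)
    (hq : q = C (r a) * X 0 ^ 2 + C (r b) * X 0 * X 1 + C (r c) * X 1 ^ 2)
    (e : (R ⧸ J) ≃+* (MvPowerSeries (Fin 2) k ⧸ Ideal.span {q}))
    (he : ∀ w : W, e (Ideal.Quotient.mk _ (φ w)) = Ideal.Quotient.mk _ (C (r w))) :
    ∃ h ∈ maximalIdeal W, ∃ E : R ≃+* (MvPowerSeries (Fin 2) W ⧸ Ideal.span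
        {(C a * X 0 ^ 2 + C b * X 0 * X 1 + C c * X 1 ^ 2 - C h : MvPowerSeries (Fin 2) W)}),
      ∀ w : W, E (φ w) = Ideal.Quotient.mk _ (C w) := by
  classical
  have hkerr : RingHom.ker r = maximalIdeal W :=
    IsLocalRing.eq_maximalIdeal (RingHom.ker_isMaximal_of_surjective r hr)
  -- the projection `π : R → k⟦x,y⟧/(q)` and the augmentation `χ`
  let π : R →+* (MvPowerSeries (Fin 2) k ⧸ Ideal.span {q}) :=
    (e : _ →+* _).comp (Ideal.Quotient.mk J)
  have hπs : Function.Surjective π := e.surjective.comp Ideal.Quotient.mk_surjective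
  have hπφ : ∀ w, π (φ w) = Ideal.Quotient.mk _ (C (r w)) := he
  have hπker : ∀ x, π x = 0 ↔ x ∈ J := by
    intro x
    change e (Ideal.Quotient.mk J x) = 0 ↔ _
    rw [map_eq_zero_iff e e.injective, Ideal.Quotient.eq_zero_iff_mem]
  have hqc : MvPowerSeries.constantCoeff q = 0 := by
    rw [hq]; simp
  let χ : (MvPowerSeries (Fin 2) k ⧸ Ideal.span {q}) →+* k :=
    Ideal.Quotient.lift _ (MvPowerSeries.constantCoeff (σ := Fin 2) (R := k)) (by
      intro x hx
      obtain ⟨y, rfl⟩ := Ideal.mem_span_singleton'.1 hx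
      rw [map_mul, hqc, mul_zero])
  have hχ : ∀ p, χ (Ideal.Quotient.mk _ p) = MvPowerSeries.constantCoeff p := fun p => rfl
  have hχπs : Function.Surjective (χ.comp π) := by
    intro y
    obtain ⟨w, rfl⟩ := hr y
    refine ⟨φ w, ?_⟩
    rw [RingHom.comp_apply, hπφ, hχ, MvPowerSeries.constantCoeff_C]
  have hmR : RingHom.ker (χ.comp π) = maximalIdeal R :=
    IsLocalRing.eq_maximalIdeal (RingHom.ker_isMaximal_of_surjective _ hχπs)
  have hmem : ∀ x, x ∈ maximalIdeal R ↔ χ (π x) = 0 := by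
    intro x; rw [← hmR, RingHom.mem_ker, RingHom.comp_apply]
  -- residue fields
  have hres : ∀ x : R, ∃ w : W, x - φ w ∈ maximalIdeal R := by
    intro x
    obtain ⟨w, hw⟩ := hr (χ (π x))
    refine ⟨w, ?_⟩
    rw [hmem, map_sub, map_sub, hπφ, hχ, MvPowerSeries.constantCoeff_C, hw, sub_self]
  -- lifts of the variables
  obtain ⟨u, hu⟩ := hπs (Ideal.Quotient.mk _ (X 0))
  obtain ⟨v, hv⟩ := hπs (Ideal.Quotient.mk _ (X 1))
  have huv : φ a * u ^ 2 + φ b * u * v + φ c * v ^ 2 ∈ J := by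
    rw [← hπker]
    simp only [map_add, map_mul, map_pow, hπφ, hu, hv]
    rw [← map_pow, ← map_pow, ← map_mul, ← map_mul, ← map_mul, ← map_mul, ← map_add, ← map_add,
      Ideal.Quotient.eq_zero_iff_mem, ← hq]
    exact Ideal.subset_span rfl
  have hgen : maximalIdeal R = Ideal.span {u, v} ⊔ J := by
    apply le_antisymm
    · intro x hx
      obtain ⟨p, hp⟩ := Ideal.Quotient.mk_surjective (π x)
      have hp0 : MvPowerSeries.constantCoeff p = 0 := by
        rw [← hχ, hp]; exact (hmem x).1 hx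
      have hpX := Groth.Agent.LibCR29.mem_span_X_of_constantCoeff_eq_zero p hp0
      obtain ⟨cf, hcf⟩ := (Ideal.mem_span_range_iff_exists_fun).1 hpX
      rw [Fin.sum_univ_two] at hcf
      obtain ⟨c0, hc0⟩ := hπs (Ideal.Quotient.mk _ (cf 0))
      obtain ⟨c1, hc1⟩ := hπs (Ideal.Quotient.mk _ (cf 1))
      have hxJ : x - (c0 * u + c1 * v) ∈ J := by
        rw [← hπker, map_sub, map_add, map_mul, map_mul, hc0, hc1, hu, hv, ← hp, ← hcf,
          map_add, map_mul, map_mul, sub_self]
      have hx' : x = (c0 * u + c1 * v) + (x - (c0 * u + c1 * v)) := by ring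
      rw [hx']
      refine Submodule.add_mem_sup ?_ hxJ
      exact Ideal.add_mem _ (Ideal.mul_mem_left _ _ (Ideal.subset_span (by simp)))
        (Ideal.mul_mem_left _ _ (Ideal.subset_span (by simp)))
    · refine sup_le ?_ hφJ
      rw [Ideal.span_le]
      rintro z (rfl | rfl)
      · change z ∈ maximalIdeal R
        rw [hmem, hu, hχ, MvPowerSeries.constantCoeff_X]
      · change z ∈ maximalIdeal R
        rw [hmem, hv, hχ, MvPowerSeries.constantCoeff_X]
  -- the discriminant
  obtain ⟨d, hd⟩ := hD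
  have hDinv : (4 * φ a * φ c - φ b ^ 2) * φ (-(↑d⁻¹ : W)) = 1 := by
    have h1 : (b ^ 2 - 4 * a * c) * (↑d⁻¹ : W) = 1 := by rw [← hd]; exact d.mul_inv
    have h2 := congrArg φ h1
    simp only [map_mul, map_sub, map_pow, map_one, map_ofNat, map_neg] at h2 ⊢
    linear_combination h2
  rw [hJ] at hφJ huv hgen
  obtain ⟨u', v', h, hh, hu', hv', huvh⟩ :=
    QuadApprox.exists_limit φ hφJ hres (φ a) (φ b) (φ c) _ hDinv u v huv hgen
  -- the surjection from the power series ring
  let x : Fin 2 → R := ![u', v']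
  have hx0 : x 0 = u' := rfl
  have hx1 : x 1 = v' := rfl
  have hx : maximalIdeal R = (maximalIdeal W).map φ ⊔ Ideal.span (Set.range x) := by
    rw [hgen]
    apply le_antisymm
    · refine sup_le ?_ le_sup_left
      rw [Ideal.span_le]
      rintro z (rfl | rfl)
      · have : z = u' - (u' - z) := by ring
        rw [this]
        exact Ideal.sub_mem _ (Ideal.mem_sup_right (Ideal.subset_span ⟨0, rfl⟩))
          (Ideal.mem_sup_left hu')
      · have : z = v' - (v' - z) := by ring
        rw [this]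
        exact Ideal.sub_mem _ (Ideal.mem_sup_right (Ideal.subset_span ⟨1, rfl⟩))
          (Ideal.mem_sup_left hv')
    · refine sup_le le_sup_right ?_
      rw [Ideal.span_le]
      rintro _ ⟨i, rfl⟩
      fin_cases i
      · have : x 0 = u + (u' - u) := by rw [hx0]; ring
        change x 0 ∈ _
        rw [this]
        exact Ideal.add_mem _ (Ideal.mem_sup_left (Ideal.subset_span (by simp)))
          (Ideal.mem_sup_right hu')
      · have : x 1 = v + (v' - v) := by rw [hx1]; ring
        change x 1 ∈ _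
        rw [this]
        exact Ideal.add_mem _ (Ideal.mem_sup_left (Ideal.subset_span (by simp)))
          (Ideal.mem_sup_right hv')
  have hres'' : Function.Surjective ((residue R).comp φ) := by
    intro y
    obtain ⟨z, rfl⟩ := IsLocalRing.residue_surjective y
    obtain ⟨w, hw⟩ := hres z
    refine ⟨w, ?_⟩
    rw [RingHom.comp_apply, eq_comm, ← sub_eq_zero, ← map_sub, IsLocalRing.residue_eq_zero_iff]
    exact hw
  obtain ⟨f, hfC, hfX, hfsurj, -⟩ := CohenPS.exists_ps_surjective φ hres'' 2 x hx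
  have hfCa : ∀ w, f (C w) = φ w := fun w => RingHom.congr_fun hfC w
  set G : MvPowerSeries (Fin 2) W := C a * X 0 ^ 2 + C b * X 0 * X 1 + C c * X 1 ^ 2 - C h with hG
  have hfG : f G = 0 := by
    rw [hG]
    simp only [map_sub, map_add, map_mul, map_pow, hfCa, hfX, hx0, hx1]
    rw [huvh, sub_self]
  have hrh : r h = 0 := by rw [← RingHom.mem_ker, hkerr]; exact hh
  have hGq : MvPowerSeries.map r G = q := by
    rw [hG, hq]
    simp only [map_sub, map_add, map_mul, map_pow, MvPowerSeries.map_C, MvPowerSeries.map_X, hrh,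
      map_zero, sub_zero]
  subst hJ
  have hle := QuadInj.ker_le_span r hr φ hφ f hfC hfsurj G q hGq hfG e
  have hlift : ∀ y ∈ Ideal.span {G}, f y = 0 := by
    intro y hy
    obtain ⟨z, rfl⟩ := Ideal.mem_span_singleton'.1 hy
    rw [map_mul, hfG, mul_zero]
  let ψ₀ := Ideal.Quotient.lift _ f hlift
  have hinj : Function.Injective ψ₀ := RingHom.lift_injective_of_ker_le_ideal _ hlift hle
  have hsurj : Function.Surjective ψ₀ :=
    Ideal.Quotient.lift_surjective_of_surjective _ hlift hfsurj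
  let E₀ := RingEquiv.ofBijective ψ₀ ⟨hinj, hsurj⟩
  refine ⟨h, hh, E₀.symm, ?_⟩
  intro w
  rw [RingEquiv.symm_apply_eq, RingEquiv.ofBijective_apply]
  change _ = ψ₀ _
  rw [Ideal.Quotient.lift_mk, hfCa]

open MvPowerSeries in
theorem exists_equiv {W R k : Type u} [CommRing W] [IsLocalRing W] [IsNoetherianRing W]
    [IsAdicComplete (maximalIdeal W) W] [CommRing R] [IsLocalRing R] [IsNoetherianRing R]
    [IsAdicComplete (maximalIdeal R) R] [Field k]
    (r : W →+* k) (hr : Function.Surjective r) (φ : W →+* R) (hφ : φ.Flat)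
    (hφJ : (maximalIdeal W).map φ ≤ maximalIdeal R)
    (a b c : W) (hD : IsUnit (b ^ 2 - 4 * a * c))
    (e : (R ⧸ (maximalIdeal W).map φ) ≃+* (MvPowerSeries (Fin 2) k ⧸ Ideal.span
      {(C (r a) * X 0 ^ 2 + C (r b) * X 0 * X 1 + C (r c) * X 1 ^ 2 : MvPowerSeries (Fin 2) k)}))
    (he : ∀ w : W, e (Ideal.Quotient.mk _ (φ w)) = Ideal.Quotient.mk _ (C (r w))) :
    ∃ h ∈ maximalIdeal W, ∃ E : R ≃+* (MvPowerSeries (Fin 2) W ⧸ Ideal.span
        {(C a * X 0 ^ 2 + C b * X 0 * X 1 + C c * X 1 ^ 2 - C h : MvPowerSeries (Fin 2) W)}),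
      ∀ w : W, E (φ w) = Ideal.Quotient.mk _ (C w) :=
  exists_equiv_aux r hr φ hφ _ rfl hφJ a b c hD _ rfl e he

end Groth.Agent.Lib.helper17.QuadIso
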