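import Mathlib
import Groth.Agent.Lib.Helper17.QuadIso
import Groth.Agent.Lib.Helper24.NodeIso
import Groth.Agent.Lib.Helper24.CplIso

/-!
# Completion of a flat local algebra whose closed fibre is a binary quadratic singularity (helper17)

`exists_equiv`: `A → B` a flat local homomorphism of Noetherian local rings, `ψ : B → F` a surjection
onto a local ring with kernel `𝔪_A B`, compatible with a map `alg : κ(A) → F`; if the completion of
`F` is `κ(A)⟦x,y⟧/(q)` for a binary quadratic form `q` whose coefficients lift to `a b c ∈ Â` with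
`b² - 4ac` a unit, then `B̂ ≅ Â⟦x,y⟧/(a x² + b xy + c y² - h)` for some `h ∈ 𝔪_Â`.
-/

set_option autoImplicit false
set_option linter.style.haveILetI false
universe u

namespace Groth.Agent.Lib.helper17.QuadLoc

open IsLocalRing Groth.Agent.Lib.Helper24

open MvPowerSeries in
theorem exists_equiv (A B F : Type u) [CommRing A] [IsLocalRing A] [IsNoetherianRing A]
    [CommRing B] [IsLocalRing B] [IsNoetherianRing B] [Algebra A B] [IsLocalHom (algebraMap A B)]
    [Module.Flat A B] [CommRing F] [IsLocalRing F]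
    (ψ : B →+* F) (hψ : Function.Surjective ψ)
    (hker : RingHom.ker ψ = (maximalIdeal A).map (algebraMap A B))
    (alg : ResidueField A →+* F) (halg : ∀ a₀ : A, ψ (algebraMap A B a₀) = alg (residue A a₀))
    (a b c : AdicCompletion (maximalIdeal A) A) (hD : IsUnit (b ^ 2 - 4 * a * c))
    (q : MvPowerSeries (Fin 2) (ResidueField A))
    (hq : q = C (NodeIso.resMap A a) * X 0 ^ 2 + C (NodeIso.resMap A b) * X 0 * X 1 +
      C (NodeIso.resMap A c) * X 1 ^ 2)
    (e : AdicCompletion (maximalIdeal F) F ≃+*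
      (MvPowerSeries (Fin 2) (ResidueField A) ⧸ Ideal.span {q}))
    (he : ∀ x : ResidueField A, e (algebraMap F (AdicCompletion (maximalIdeal F) F) (alg x)) =
      Ideal.Quotient.mk _ (C x)) :
    ∃ h ∈ maximalIdeal (AdicCompletion (maximalIdeal A) A),
      ∃ E : AdicCompletion (maximalIdeal B) B ≃+*
        (MvPowerSeries (Fin 2) (AdicCompletion (maximalIdeal A) A) ⧸ Ideal.span
          {(C a * X 0 ^ 2 + C b * X 0 * X 1 + C c * X 1 ^ 2 - C h :
            MvPowerSeries (Fin 2) (AdicCompletion (maximalIdeal A) A))}),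
        ∀ a₀ : A, E (algebraMap B (AdicCompletion (maximalIdeal B) B) (algebraMap A B a₀)) =
          Ideal.Quotient.mk _ (C (algebraMap A (AdicCompletion (maximalIdeal A) A) a₀)) := by
  classical
  have fgA : (maximalIdeal A).FG := (maximalIdeal A).fg_of_isNoetherianRing
  have fgB : (maximalIdeal B).FG := (maximalIdeal B).fg_of_isNoetherianRing
  haveI : IsNoetherianRing (AdicCompletion (maximalIdeal A) A) :=
    Groth.Agent.S0542.result A (maximalIdeal A) fgA
  haveI : IsNoetherianRing (AdicCompletion (maximalIdeal B) B) :=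
    Groth.Agent.S0542.result B (maximalIdeal B) fgB
  set φ := CplFlat.cplMap A B with hφdef
  have hφof : ∀ a₀ : A, φ (algebraMap A _ a₀) = algebraMap B _ (algebraMap A B a₀) := by
    intro a₀
    rw [AdicCompletion.algebraMap_apply, AdicCompletion.algebraMap_apply, Algebra.algebraMap_self,
      Algebra.algebraMap_self, RingHom.id_apply, RingHom.id_apply]
    exact CplFlat.cplMap_of A B a₀
  have hφJ : (maximalIdeal (AdicCompletion (maximalIdeal A) A)).map φ ≤
      maximalIdeal (AdicCompletion (maximalIdeal B) B) :=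
    ((IsLocalRing.local_hom_TFAE φ).out 0 2).1 (CplFlat.isLocalHom_cplMap A B)
  -- the fibre ring
  set I := (maximalIdeal A).map (algebraMap A B) with hI
  have hIB : I ≠ ⊤ := by
    intro h
    have h1 : I ≤ maximalIdeal B := CplFlat.map_maximalIdeal_le A B
    rw [h] at h1
    exact (Ideal.IsPrime.ne_top inferInstance) (top_le_iff.1 h1)
  haveI : Nontrivial (B ⧸ I) := Ideal.Quotient.nontrivial_iff.2 hIB
  haveI : IsLocalRing (B ⧸ I) :=
    IsLocalRing.of_surjective' (Ideal.Quotient.mk _) Ideal.Quotient.mk_surjective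
  let ψb : (B ⧸ I) ≃+* F :=
    (Ideal.quotEquivOfEq hker.symm).trans (RingHom.quotientKerEquivOfSurjective hψ)
  have hψb : ∀ x : B, ψb (Ideal.Quotient.mk I x) = ψ x := by
    intro x
    change RingHom.quotientKerEquivOfSurjective hψ (Ideal.quotEquivOfEq hker.symm
      (Ideal.Quotient.mk I x)) = _
    rw [Ideal.quotEquivOfEq_mk]
    exact RingHom.quotientKerEquivOfSurjective_apply_mk _ x
  have hle : (maximalIdeal (B ⧸ I)).map (ψb : (B ⧸ I) →+* F) ≤ maximalIdeal F :=
    IsLocalRing.map_maximalIdeal_le _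
  have hle' : (maximalIdeal F).map (ψb.symm : F →+* (B ⧸ I)) ≤ maximalIdeal (B ⧸ I) :=
    IsLocalRing.map_maximalIdeal_le _
  let e₃ : AdicCompletion (maximalIdeal (B ⧸ I)) (B ⧸ I) ≃+* AdicCompletion (maximalIdeal F) F :=
    CplIso.complEquiv (maximalIdeal (B ⧸ I)) (maximalIdeal F) (ψb : (B ⧸ I) →+* F) hle
      (by
        intro n x hx
        have h1 : (ψb.symm : F →+* (B ⧸ I)) ((ψb : (B ⧸ I) →+* F) x) ∈
            ((maximalIdeal F) ^ n).map (ψb.symm : F →+* (B ⧸ I)) := Ideal.mem_map_of_mem _ hx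
        rw [Ideal.map_pow] at h1
        have h2 := Ideal.pow_right_mono hle' n h1
        simpa using h2)
      (by
        intro n s
        refine ⟨ψb.symm s, ?_⟩
        simp)
  have he₃ : ∀ x : B ⧸ I, e₃ (AdicCompletion.of _ _ x) = AdicCompletion.of _ _ (ψb x) := by
    intro x
    exact CplFlat.complMap_of _ _ _ hle x
  let e₂ := CplQuot.equiv B I
  have hJ : (maximalIdeal (AdicCompletion (maximalIdeal A) A)).map φ =
      I.map (algebraMap B (AdicCompletion (maximalIdeal B) B)) := by
    rw [AdicCompletion.maximalIdeal_eq_map (R := A), Ideal.map_map, hφdef,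
      CplFlat.cplMap_comp_algebraMap, hI, Ideal.map_map, ← IsScalarTower.algebraMap_eq]
  let e₁ := Ideal.quotEquivOfEq hJ
  let eT := ((e₁.trans e₂).trans e₃).trans e
  have hkerr : RingHom.ker (NodeIso.resMap A) = maximalIdeal (AdicCompletion (maximalIdeal A) A) :=
    IsLocalRing.eq_maximalIdeal
      (RingHom.ker_isMaximal_of_surjective _ (NodeIso.resMap_surjective A))
  have heT0 : ∀ a₀ : A, eT (Ideal.Quotient.mk _ (φ (algebraMap A _ a₀))) =
      Ideal.Quotient.mk _ (C (NodeIso.resMap A (algebraMap A _ a₀))) := by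
    intro a₀
    change e (e₃ (e₂ (e₁ (Ideal.Quotient.mk _ (φ (algebraMap A _ a₀)))))) = _
    rw [Ideal.quotEquivOfEq_mk, hφof, AdicCompletion.algebraMap_apply, Algebra.algebraMap_self,
      RingHom.id_apply, CplQuot.equiv_mk_of, he₃, hψb, halg]
    have h1 := he (residue A a₀)
    rw [AdicCompletion.algebraMap_apply, Algebra.algebraMap_self, RingHom.id_apply] at h1
    rw [h1]
    rfl
  have heT : ∀ w, eT (Ideal.Quotient.mk _ (φ w)) = Ideal.Quotient.mk _ (C (NodeIso.resMap A w)) := by
    intro w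
    obtain ⟨a₀, ha₀⟩ := CplFlat.exists_sub_mem (maximalIdeal A) fgA 1 w
    rw [pow_one, ← AdicCompletion.maximalIdeal_eq_map (R := A)] at ha₀
    have h1 : Ideal.Quotient.mk ((maximalIdeal (AdicCompletion (maximalIdeal A) A)).map φ) (φ w) =
        Ideal.Quotient.mk _ (φ (algebraMap A _ a₀)) := by
      rw [Ideal.Quotient.eq, ← map_sub]
      exact Ideal.mem_map_of_mem _ ha₀
    have h2 : NodeIso.resMap A w = NodeIso.resMap A (algebraMap A _ a₀) := by
      rw [← sub_eq_zero, ← map_sub, ← RingHom.mem_ker, hkerr]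
      exact ha₀
    rw [h1, h2]
    exact heT0 a₀
  obtain ⟨h, hh, E, hE⟩ := QuadIso.exists_equiv_aux (NodeIso.resMap A) (NodeIso.resMap_surjective A)
    φ (CplFlat.flat_cplMap A B) _ rfl hφJ a b c hD q hq eT heT
  refine ⟨h, hh, E, ?_⟩
  intro a₀
  rw [← hφof, hE]

end Groth.Agent.Lib.helper17.QuadLoc
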