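import Mathlib
import Groth.Prelude.Def_Curv2
import Groth.Agent.Lib.Helper17.QuadLoc
import Groth.Agent.Lib.Helper17.FibreStalk3

/-!
# Completed local ring of a flat family at a point whose fibre is a binary quadratic singularity
(helper17)

Scheme-level form of `QuadLoc.exists_equiv`.
-/

set_option autoImplicit false
set_option linter.style.haveILetI false
universe u
open CategoryTheory CategoryTheory.Limits AlgebraicGeometry

namespace Groth.Agent.Lib.helper17.QuadSch

open IsLocalRing Groth.Agent.Lib.Helper24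

open MvPowerSeries in
theorem main {T S : Scheme.{u}} (f : T ⟶ S) [LocallyOfFiniteType f] (t : T)
    [IsNoetherianRing (S.presheaf.stalk (f t))] (hfl : (f.stalkMap t).hom.Flat)
    (a b c : Curv2.cpl (S.presheaf.stalk (f t))) (hD : IsUnit (b ^ 2 - 4 * a * c))
    (q : MvPowerSeries (Fin 2) (S.residueField (f t)))
    (hq : q = C (NodeIso.resMap (S.presheaf.stalk (f t)) a) * X 0 ^ 2 +
      C (NodeIso.resMap (S.presheaf.stalk (f t)) b) * X 0 * X 1 +
      C (NodeIso.resMap (S.presheaf.stalk (f t)) c) * X 1 ^ 2)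
    (e : Curv2.cpl ((f.fiber (f t)).presheaf.stalk (f.asFiber t)) ≃+*
      (MvPowerSeries (Fin 2) (S.residueField (f t)) ⧸ Ideal.span {q}))
    (he : ∀ x : S.residueField (f t),
      e (algebraMap ((f.fiber (f t)).presheaf.stalk (f.asFiber t)) _
        (@Curv2.stalkMap (S.residueField (f t)) _ (f.fiber (f t))
          ⟨f.fiberToSpecResidueField (f t)⟩ (f.asFiber t) x)) = Ideal.Quotient.mk _ (C x)) :
    ∃ h ∈ maximalIdeal (Curv2.cpl (S.presheaf.stalk (f t))),
      ∃ E : Curv2.cpl (T.presheaf.stalk t) ≃+*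
        (MvPowerSeries (Fin 2) (Curv2.cpl (S.presheaf.stalk (f t))) ⧸ Ideal.span
          {(C a * X 0 ^ 2 + C b * X 0 * X 1 + C c * X 1 ^ 2 - C h :
            MvPowerSeries (Fin 2) (Curv2.cpl (S.presheaf.stalk (f t))))}),
        ∀ r : S.presheaf.stalk (f t),
          E (algebraMap (T.presheaf.stalk t) (Curv2.cpl (T.presheaf.stalk t))
            ((f.stalkMap t).hom r)) =
          Ideal.Quotient.mk _ (C (algebraMap (S.presheaf.stalk (f t))
            (Curv2.cpl (S.presheaf.stalk (f t))) r)) := by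
  letI : Algebra (S.presheaf.stalk (f t)) (T.presheaf.stalk t) := (f.stalkMap t).hom.toAlgebra
  haveI : IsLocalHom (algebraMap (S.presheaf.stalk (f t)) (T.presheaf.stalk t)) :=
    inferInstanceAs (IsLocalHom (f.stalkMap t).hom)
  haveI : Module.Flat (S.presheaf.stalk (f t)) (T.presheaf.stalk t) := hfl
  haveI : IsNoetherianRing (T.presheaf.stalk t) := by
    have h1 : Algebra.EssFiniteType (S.presheaf.stalk (f t)) (T.presheaf.stalk t) :=
      LocallyOfFiniteType.stalkMap f t
    exact Algebra.EssFiniteType.isNoetherianRing (S.presheaf.stalk (f t)) (T.presheaf.stalk t)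
  obtain ⟨ψ, hψ, hker, hcompat⟩ := FibreStalk3.exists_fibre_hom f t
  exact QuadLoc.exists_equiv (S.presheaf.stalk (f t)) (T.presheaf.stalk t)
    ((f.fiber (f t)).presheaf.stalk (f.asFiber t)) ψ hψ hker _ hcompat a b c hD q hq e he

end Groth.Agent.Lib.helper17.QuadSch
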