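import Mathlib

/-!
# Quasi-homeomorphisms (helper17)

A continuous map `f : X → Y` is a quasi-homeomorphism when `U ↦ f ⁻¹' U` is a bijection from the
open sets of `Y` onto the open sets of `X`.  We use the unbundled form `IsQH f`.
-/

set_option autoImplicit false

namespace Groth.Agent.Lib.helper17

namespace QH

universe u v

variable {X : Type u} {Y : Type v} [TopologicalSpace X] [TopologicalSpace Y]

/-- Unbundled quasi-homeomorphism condition on open sets. -/
def IsQH (f : X → Y) : Prop :=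
  (∀ U₁ U₂ : Set Y, IsOpen U₁ → IsOpen U₂ → f ⁻¹' U₁ = f ⁻¹' U₂ → U₁ = U₂) ∧
    (∀ V : Set X, IsOpen V → ∃ U : Set Y, IsOpen U ∧ f ⁻¹' U = V)

/-- Unbundled quasi-homeomorphism condition on closed sets. -/
def IsQHClosed (f : X → Y) : Prop :=
  (∀ F₁ F₂ : Set Y, IsClosed F₁ → IsClosed F₂ → f ⁻¹' F₁ = f ⁻¹' F₂ → F₁ = F₂) ∧
    (∀ G : Set X, IsClosed G → ∃ F : Set Y, IsClosed F ∧ f ⁻¹' F = G)

theorem isQH_iff_closed (f : X → Y) : IsQH f ↔ IsQHClosed f := by
  constructor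
  · rintro ⟨h1, h2⟩
    refine ⟨fun F₁ F₂ hF₁ hF₂ e => ?_, fun G hG => ?_⟩
    · have := h1 F₁ᶜ F₂ᶜ hF₁.isOpen_compl hF₂.isOpen_compl (by rw [Set.preimage_compl,
        Set.preimage_compl, e])
      exact compl_injective this
    · obtain ⟨U, hU, e⟩ := h2 Gᶜ hG.isOpen_compl
      exact ⟨Uᶜ, hU.isClosed_compl, by rw [Set.preimage_compl, e, compl_compl]⟩
  · rintro ⟨h1, h2⟩
    refine ⟨fun U₁ U₂ hU₁ hU₂ e => ?_, fun V hV => ?_⟩
    · have := h1 U₁ᶜ U₂ᶜ hU₁.isClosed_compl hU₂.isClosed_compl (by rw [Set.preimage_compl,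
        Set.preimage_compl, e])
      exact compl_injective this
    · obtain ⟨F, hF, e⟩ := h2 Vᶜ hV.isClosed_compl
      exact ⟨Fᶜ, hF.isOpen_compl, by rw [Set.preimage_compl, e, compl_compl]⟩

theorem bijective_opens_iff (f : X → Y) (hf : Continuous f) :
    Function.Bijective (fun U : TopologicalSpace.Opens Y =>
      (⟨f ⁻¹' (U : Set Y), U.isOpen.preimage hf⟩ : TopologicalSpace.Opens X)) ↔ IsQH f := by
  constructor
  · rintro ⟨hi, hs⟩
    refine ⟨fun U₁ U₂ h₁ h₂ e => ?_, fun V hV => ?_⟩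
    · have := @hi ⟨U₁, h₁⟩ ⟨U₂, h₂⟩ (TopologicalSpace.Opens.ext e)
      exact congrArg (fun U : TopologicalSpace.Opens Y => (U : Set Y)) this
    · obtain ⟨U, hU⟩ := hs ⟨V, hV⟩
      exact ⟨U, U.isOpen, congrArg (fun U : TopologicalSpace.Opens X => (U : Set X)) hU⟩
  · rintro ⟨h1, h2⟩
    refine ⟨fun U₁ U₂ e => ?_, fun V => ?_⟩
    · apply TopologicalSpace.Opens.ext
      exact h1 _ _ U₁.isOpen U₂.isOpen
        (congrArg (fun U : TopologicalSpace.Opens X => (U : Set X)) e)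
    · obtain ⟨U, hU, e⟩ := h2 V V.isOpen
      exact ⟨⟨U, hU⟩, TopologicalSpace.Opens.ext e⟩

theorem bijective_closeds_iff (f : X → Y) (hf : Continuous f) :
    Function.Bijective (fun F : TopologicalSpace.Closeds Y =>
      (⟨f ⁻¹' (F : Set Y), F.isClosed.preimage hf⟩ : TopologicalSpace.Closeds X)) ↔
      IsQHClosed f := by
  constructor
  · rintro ⟨hi, hs⟩
    refine ⟨fun U₁ U₂ h₁ h₂ e => ?_, fun V hV => ?_⟩
    · have := @hi ⟨U₁, h₁⟩ ⟨U₂, h₂⟩ (TopologicalSpace.Closeds.ext e)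
      exact congrArg (fun U : TopologicalSpace.Closeds Y => (U : Set Y)) this
    · obtain ⟨U, hU⟩ := hs ⟨V, hV⟩
      exact ⟨U, U.isClosed, congrArg (fun U : TopologicalSpace.Closeds X => (U : Set X)) hU⟩
  · rintro ⟨h1, h2⟩
    refine ⟨fun U₁ U₂ e => ?_, fun V => ?_⟩
    · apply TopologicalSpace.Closeds.ext
      exact h1 _ _ U₁.isClosed U₂.isClosed
        (congrArg (fun U : TopologicalSpace.Closeds X => (U : Set X)) e)
    · obtain ⟨U, hU, e⟩ := h2 V V.isClosed
      exact ⟨⟨U, hU⟩, TopologicalSpace.Closeds.ext e⟩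

omit [TopologicalSpace X] [TopologicalSpace Y] in
theorem preimage_eq_iff_inter_range (f : X → Y) (U V : Set Y) :
    f ⁻¹' U = f ⁻¹' V ↔ U ∩ Set.range f = V ∩ Set.range f := by
  rw [← Set.preimage_inter_range (s := U), ← Set.preimage_inter_range (s := V)]
  exact Set.preimage_eq_preimage' Set.inter_subset_right Set.inter_subset_right

theorem isQH_iff_isInducing (f : X → Y) (hf : Continuous f) :
    IsQH f ↔ Topology.IsInducing f ∧
      ∀ U V : Set Y, IsOpen U → IsOpen V → U ∩ Set.range f = V ∩ Set.range f → U = V := by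
  constructor
  · rintro ⟨h1, h2⟩
    refine ⟨⟨?_⟩, fun U V hU hV e => h1 U V hU hV ((preimage_eq_iff_inter_range f U V).mpr e)⟩
    apply le_antisymm
    · exact hf.le_induced
    · intro W hW
      obtain ⟨U, hU, rfl⟩ := h2 W hW
      exact isOpen_induced_iff.mpr ⟨U, hU, rfl⟩
  · rintro ⟨hind, h⟩
    refine ⟨fun U V hU hV e => h U V hU hV ((preimage_eq_iff_inter_range f U V).mp e),
      fun W hW => ?_⟩
    exact hind.isOpen_iff.mp hW

/-- The image of a quasi-homeomorphism meets every nonempty locally closed set. -/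
theorem nonempty_inter_range {f : X → Y} (hq : IsQH f) (Z : Set Y) (hZ : IsLocallyClosed Z)
    (hne : Z.Nonempty) : ∃ x : X, f x ∈ Z := by
  obtain ⟨U, C, hU, hC, rfl⟩ := hZ
  obtain ⟨y, hyU, hyC⟩ := hne
  by_contra hcon
  rw [not_exists] at hcon
  have e : f ⁻¹' U = f ⁻¹' (U ∩ Cᶜ) := by
    ext x
    constructor
    · intro hx
      exact ⟨hx, fun hxC => hcon x ⟨hx, hxC⟩⟩
    · intro hx
      exact hx.1
  have := hq.1 U (U ∩ Cᶜ) hU (hU.inter hC.isOpen_compl) e
  rw [this] at hyU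
  exact hyU.2 hyC

/-- Locally quasi-constructible sets, in the unbundled form used in the statements. -/
def IsLQC (Z : Set Y) : Prop :=
  ∀ y : Y, ∃ U : Set Y, IsOpen U ∧ y ∈ U ∧
    ∃ T : Set (Set Y), T.Finite ∧ (∀ t ∈ T, IsLocallyClosed t) ∧ U ∩ Z = ⋃₀ T

/-- Restriction of a quasi-homeomorphism over a locally quasi-constructible subset. -/
theorem isQH_restrictPreimage {f : X → Y} (hq : IsQH f) (Y' : Set Y)
    (hY' : IsLQC Y') : IsQH (Y'.restrictPreimage f) := by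
  constructor
  · -- injectivity
    have key : ∀ U₁ U₂ : Set ↥Y', IsOpen U₁ → IsOpen U₂ →
        (Y'.restrictPreimage f) ⁻¹' U₁ = (Y'.restrictPreimage f) ⁻¹' U₂ → U₁ ⊆ U₂ := by
      intro U₁ U₂ h₁ h₂ e y hy
      by_contra hy2
      obtain ⟨W₁, hW₁, rfl⟩ := isOpen_induced_iff.mp h₁
      obtain ⟨W₂, hW₂, rfl⟩ := isOpen_induced_iff.mp h₂
      obtain ⟨U, hU, hyU, T, hT, hTlc, hUT⟩ := hY' y.1
      have hyT : y.1 ∈ ⋃₀ T := by
        rw [← hUT]
        exact ⟨hyU, y.2⟩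
      obtain ⟨t, htT, hyt⟩ := hyT
      have htY' : t ⊆ Y' := fun z hz => by
        have : z ∈ U ∩ Y' := by
          rw [hUT]
          exact ⟨t, htT, hz⟩
        exact this.2
      have hlc : IsLocallyClosed (t ∩ W₁ ∩ W₂ᶜ) :=
        ((hTlc t htT).inter hW₁.isLocallyClosed).inter hW₂.isClosed_compl.isLocallyClosed
      obtain ⟨x, ⟨⟨hxt, hx1⟩, hx2⟩⟩ := nonempty_inter_range hq _ hlc ⟨y.1, ⟨hyt, hy⟩, hy2⟩
      have hxY' : x ∈ f ⁻¹' Y' := htY' hxt
      have h3 : (⟨x, hxY'⟩ : ↥(f ⁻¹' Y')) ∈ (Y'.restrictPreimage f) ⁻¹' (Subtype.val ⁻¹' W₁) := hx1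
      rw [e] at h3
      exact hx2 h3
    intro U₁ U₂ h₁ h₂ e
    exact subset_antisymm (key U₁ U₂ h₁ h₂ e) (key U₂ U₁ h₂ h₁ e.symm)
  · intro V hV
    obtain ⟨V', hV', rfl⟩ := isOpen_induced_iff.mp hV
    obtain ⟨W, hW, rfl⟩ := hq.2 V' hV'
    exact ⟨Subtype.val ⁻¹' W, isOpen_induced_iff.mpr ⟨W, hW, rfl⟩, rfl⟩

/-- Being a quasi-homeomorphism is local on the target. -/
theorem isQH_of_cover {f : X → Y} {ι : Type*} (W : ι → Set Y)
    (hWo : ∀ i, IsOpen (W i)) (hWc : ⋃ i, W i = Set.univ)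
    (h : ∀ i, IsQH ((W i).restrictPreimage f)) : IsQH f := by
  constructor
  · have key : ∀ U₁ U₂ : Set Y, IsOpen U₁ → IsOpen U₂ → f ⁻¹' U₁ = f ⁻¹' U₂ → U₁ ⊆ U₂ := by
      intro U₁ U₂ h₁ h₂ e y hy
      obtain ⟨i, hi⟩ : ∃ i, y ∈ W i := by
        have : y ∈ ⋃ i, W i := by rw [hWc]; trivial
        exact Set.mem_iUnion.mp this
      have h3 := (h i).1 (Subtype.val ⁻¹' U₁) (Subtype.val ⁻¹' U₂)
        (isOpen_induced_iff.mpr ⟨U₁, h₁, rfl⟩) (isOpen_induced_iff.mpr ⟨U₂, h₂, rfl⟩) (by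
          ext x
          have : x.1 ∈ f ⁻¹' U₁ ↔ x.1 ∈ f ⁻¹' U₂ := by rw [e]
          exact this)
      have : (⟨y, hi⟩ : ↥(W i)) ∈ Subtype.val ⁻¹' U₁ := hy
      rw [h3] at this
      exact this
    intro U₁ U₂ h₁ h₂ e
    exact subset_antisymm (key U₁ U₂ h₁ h₂ e) (key U₂ U₁ h₂ h₁ e.symm)
  · intro V hV
    have hex : ∀ i, ∃ U' : Set ↥(W i), IsOpen U' ∧
        ((W i).restrictPreimage f) ⁻¹' U' = Subtype.val ⁻¹' V :=
      fun i => (h i).2 (Subtype.val ⁻¹' V) (isOpen_induced_iff.mpr ⟨V, hV, rfl⟩)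
    choose U' hU' hU'e using hex
    refine ⟨⋃ i, Subtype.val '' (U' i), isOpen_iUnion fun i =>
      (hWo i).isOpenMap_subtype_val _ (hU' i), ?_⟩
    ext x
    simp only [Set.mem_preimage, Set.mem_iUnion, Set.mem_image, Subtype.exists, exists_and_right,
      exists_eq_right]
    constructor
    · rintro ⟨i, hxi, hx⟩
      have : (⟨x, hxi⟩ : ↥(f ⁻¹' W i)) ∈ ((W i).restrictPreimage f) ⁻¹' (U' i) := hx
      rw [hU'e i] at this
      exact this
    · intro hx
      obtain ⟨i, hi⟩ : ∃ i, f x ∈ W i := by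
        have : f x ∈ ⋃ i, W i := by rw [hWc]; trivial
        exact Set.mem_iUnion.mp this
      refine ⟨i, hi, ?_⟩
      have : (⟨x, hi⟩ : ↥(f ⁻¹' W i)) ∈ (Subtype.val ⁻¹' V : Set ↥(f ⁻¹' W i)) := hx
      rw [← hU'e i] at this
      exact this

/-- Monotonicity reflected by a quasi-homeomorphism. -/
theorem subset_of_preimage_subset {f : X → Y} (hq : IsQH f) {U₁ U₂ : Set Y} (h₁ : IsOpen U₁)
    (h₂ : IsOpen U₂) (h : f ⁻¹' U₁ ⊆ f ⁻¹' U₂) : U₁ ⊆ U₂ := by
  have e : f ⁻¹' (U₁ ∩ U₂) = f ⁻¹' U₁ := by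
    rw [Set.preimage_inter]
    exact Set.inter_eq_left.mpr h
  have := hq.1 _ _ (h₁.inter h₂) h₁ e
  rw [← this]
  exact Set.inter_subset_right

/-- Compactness of an open set is detected on the source of a quasi-homeomorphism. -/
theorem isCompact_preimage_iff {f : X → Y} (hf : Continuous f) (hq : IsQH f) {U : Set Y}
    (hU : IsOpen U) : IsCompact (f ⁻¹' U) ↔ IsCompact U := by
  constructor
  · intro hc
    apply isCompact_of_finite_subcover
    intro ι W hW hUW
    have h1 : f ⁻¹' U ⊆ ⋃ i, f ⁻¹' (W i) := by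
      rw [← Set.preimage_iUnion]
      exact Set.preimage_mono hUW
    obtain ⟨t, ht⟩ := hc.elim_finite_subcover (fun i => f ⁻¹' (W i))
      (fun i => (hW i).preimage hf) h1
    refine ⟨t, ?_⟩
    apply subset_of_preimage_subset hq hU (isOpen_biUnion fun i _ => hW i)
    rw [Set.preimage_iUnion₂]
    exact ht
  · intro hc
    apply isCompact_of_finite_subcover
    intro ι V hV hUV
    have hex : ∀ i, ∃ W : Set Y, IsOpen W ∧ f ⁻¹' W = V i := fun i => hq.2 (V i) (hV i)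
    choose W hW hWV using hex
    have h1 : U ⊆ ⋃ i, W i := by
      apply subset_of_preimage_subset hq hU (isOpen_iUnion hW)
      rw [Set.preimage_iUnion]
      simpa only [hWV] using hUV
    obtain ⟨t, ht⟩ := hc.elim_finite_subcover W hW h1
    refine ⟨t, ?_⟩
    have := Set.preimage_mono (f := f) ht
    rw [Set.preimage_iUnion₂] at this
    simpa only [hWV] using this

/-- Open subsets are locally quasi-constructible. -/
theorem IsLQC.of_isOpen {U : Set Y} (hU : IsOpen U) : IsLQC U := by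
  intro y
  refine ⟨Set.univ, isOpen_univ, trivial, {U}, Set.finite_singleton _, ?_, by simp⟩
  intro t ht
  rw [Set.mem_singleton_iff] at ht
  rw [ht]
  exact hU.isLocallyClosed

/-- The intersection of an open set and a locally quasi-constructible set. -/
theorem IsLQC.inter_isOpen {Z U : Set Y} (hZ : IsLQC Z) (hU : IsOpen U) : IsLQC (U ∩ Z) := by
  intro y
  obtain ⟨U', hU', hyU', T, hT, hTlc, hUT⟩ := hZ y
  refine ⟨U', hU', hyU', (fun t => U ∩ t) '' T, hT.image _, ?_, ?_⟩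
  · rintro _ ⟨t, ht, rfl⟩
    exact hU.isLocallyClosed.inter (hTlc t ht)
  · rw [Set.sUnion_image, ← Set.inter_iUnion₂, ← Set.sUnion_eq_biUnion, ← hUT]
    ext z
    simp only [Set.mem_inter_iff]
    tauto

/-- Compactness of a locally quasi-constructible set is detected on the source. -/
theorem isCompact_preimage_iff_of_isLQC {f : X → Y} (hf : Continuous f) (hq : IsQH f)
    {Y' : Set Y} (hY' : IsLQC Y') : IsCompact (f ⁻¹' Y') ↔ IsCompact Y' := by
  have hq' := isQH_restrictPreimage hq Y' hY'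
  have hf' : Continuous (Y'.restrictPreimage f) := hf.restrictPreimage
  have := isCompact_preimage_iff hf' hq' (U := Set.univ) isOpen_univ
  rw [Set.preimage_univ, isCompact_univ_iff, isCompact_univ_iff] at this
  rw [isCompact_iff_compactSpace, isCompact_iff_compactSpace]
  exact this

/-- Noetherianity is detected on the source of a quasi-homeomorphism. -/
theorem noetherianSpace_iff {f : X → Y} (hf : Continuous f) (hq : IsQH f) :
    TopologicalSpace.NoetherianSpace X ↔ TopologicalSpace.NoetherianSpace Y := by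
  rw [TopologicalSpace.noetherianSpace_iff_opens, TopologicalSpace.noetherianSpace_iff_opens]
  constructor
  · intro h U
    have := h ⟨f ⁻¹' (U : Set Y), U.isOpen.preimage hf⟩
    exact (isCompact_preimage_iff hf hq U.isOpen).mp this
  · intro h V
    obtain ⟨U, hU, hUV⟩ := hq.2 V V.isOpen
    rw [← hUV]
    exact (isCompact_preimage_iff hf hq hU).mpr (h ⟨U, hU⟩)

end QH

end Groth.Agent.Lib.helper17
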