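import Mathlib
import Groth.Agent.Lib.Helper17.RegSmoothFlat
import Groth.Agent.Lib.Helper15.Regular

/-!
# helper17: a regular flat local algebra over a local PID with a retraction is formally smooth

* `formallySmooth_of_retraction`: `A` a local principal ideal domain (field or DVR), `B` a regular
  local ring, flat and essentially of finite type over `A` (local homomorphism), together with a
  local homomorphism `σ : B → A'` such that `A → B → A'` is bijective. Then `B` is formally smooth
  over `A`.
-/

set_option autoImplicit false
set_option linter.style.haveILetI false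
set_option linter.overlappingInstances false
universe u

open IsLocalRing

namespace Groth.Agent.Lib.helper17.RegSmooth

theorem formallySmooth_of_retraction (A A' B : Type u) [CommRing A] [CommRing A'] [CommRing B]
    [IsLocalRing A] [IsDomain A] [IsPrincipalIdealRing A]
    [IsLocalRing A'] [IsLocalRing B] [Algebra A B] [IsLocalHom (algebraMap A B)]
    [Module.Flat A B] [Algebra.EssFiniteType A B] [IsRegularLocalRing B]
    (σ : B →+* A') [IsLocalHom σ] (hσ : Function.Bijective (σ.comp (algebraMap A B))) :
    Algebra.FormallySmooth A B := by
  haveI : IsNoetherianRing A := inferInstance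
  let ψ : A ≃+* A' := RingEquiv.ofBijective (σ.comp (algebraMap A B)) hσ
  have hψ : ∀ a, ψ a = σ (algebraMap A B a) := fun _ => rfl
  have hker : ∀ b : B, σ b = 0 → b ∈ maximalIdeal B := by
    intro b hb
    rw [mem_maximalIdeal, mem_nonunits_iff]
    intro hu
    have := hu.map σ
    rw [hb] at this
    exact not_isUnit_zero this
  -- rational residue field
  have hres : Function.Surjective (algebraMap A (ResidueField B)) := by
    intro y
    obtain ⟨b, rfl⟩ := residue_surjective y
    refine ⟨ψ.symm (σ b), ?_⟩
    have h1 : b - algebraMap A B (ψ.symm (σ b)) ∈ maximalIdeal B := by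
      apply hker
      rw [map_sub, ← hψ, ψ.apply_symm_apply, sub_self]
    rw [← residue_eq_zero_iff, map_sub, sub_eq_zero] at h1
    exact h1.symm
  -- regular fibre
  obtain ⟨π, hπ⟩ := (IsPrincipalIdealRing.principal (maximalIdeal A)).principal
  have hπ' : maximalIdeal A = Ideal.span {π} := hπ
  have hmap : (maximalIdeal A).map (algebraMap A B) = Ideal.span {algebraMap A B π} := by
    rw [hπ', Ideal.map_span, Set.image_singleton]
  have hreg : IsRegularLocalRing (B ⧸ (maximalIdeal A).map (algebraMap A B)) := by
    by_cases h0 : π = 0
    · have hbot : (maximalIdeal A).map (algebraMap A B) = ⊥ := by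
        rw [hmap, h0, map_zero]
        simp
      exact IsRegularLocalRing.of_ringEquiv
        ((Ideal.quotEquivOfEq hbot).trans (RingEquiv.quotientBot B)).symm
    · have hπm : π ∈ maximalIdeal A := by rw [hπ']; exact Ideal.mem_span_singleton_self π
      have h1 : algebraMap A B π ∈ maximalIdeal B := by
        rw [mem_maximalIdeal, mem_nonunits_iff]
        intro hu
        exact hπm (isUnit_of_map_unit (algebraMap A B) π hu)
      have h2 : algebraMap A B π ∉ maximalIdeal B ^ 2 := by
        intro hmem
        have hle : (maximalIdeal B).map σ ≤ maximalIdeal A' :=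
          ((local_hom_TFAE σ).out 0 2 rfl rfl).mp inferInstance
        have h3 : σ (algebraMap A B π) ∈ maximalIdeal A' ^ 2 := by
          have := Ideal.mem_map_of_mem σ hmem
          rw [Ideal.map_pow] at this
          exact Ideal.pow_right_mono hle 2 this
        have h4 : maximalIdeal A' ^ 2 = (maximalIdeal A ^ 2).map ψ := by
          rw [Ideal.map_pow, map_ringEquiv_maximalIdeal ψ]
        rw [h4, ← hψ] at h3
        obtain ⟨y, hy, hyπ⟩ := (Ideal.mem_map_of_equiv ψ _).mp h3
        have hyπ' : y = π := ψ.injective hyπ
        rw [hyπ', hπ', Ideal.span_singleton_pow, Ideal.mem_span_singleton'] at hy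
        obtain ⟨c, hc⟩ := hy
        have h5 : π * (c * π - 1) = 0 := by
          have : π * (c * π - 1) = c * π ^ 2 - π := by ring
          rw [this, hc, sub_self]
        rcases mul_eq_zero.mp h5 with h6 | h6
        · exact h0 h6
        · have h7 : c * π = 1 := sub_eq_zero.mp h6
          exact hπm (IsUnit.of_mul_eq_one c (by rw [mul_comm]; exact h7))
      obtain ⟨hr, -⟩ := Groth.Agent.Lib.helper15.isRegularLocalRing_quotient_singleton
        (algebraMap A B π) h1 h2
      exact IsRegularLocalRing.of_ringEquiv (Ideal.quotEquivOfEq hmap).symm
  exact formallySmooth_of_flat_of_regular_fibre A B hreg hres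

end Groth.Agent.Lib.helper17.RegSmooth
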