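import Mathlib
import Groth.Agent.Lib.Helper17.RegSmoothSch3

/-!
# helper17: regular points of fibres over points with perfect local ring-field

* `mem_smoothLocus_of_isRegularLocalRing_of_perfectField_stalk`: `f : X ⟶ Y` locally of finite
  presentation, `x : X` such that `O_{Y,f x}` is (isomorphic to) a perfect field and `O_{X,x}` is
  regular. Then `f` is smooth at `x`.
* `smooth_morphismRestrict_of_preimage_le_smoothLocus`.
-/

set_option autoImplicit false
set_option linter.style.haveILetI false
universe u

open CategoryTheory AlgebraicGeometry IsLocalRing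

namespace Groth.Agent.Lib.helper17.RegSmooth

set_option backward.isDefEq.respectTransparency false in
theorem mem_smoothLocus_of_isRegularLocalRing_of_perfectField_stalk {X Y : Scheme.{u}} (f : X ⟶ Y)
    [LocallyOfFinitePresentation f] (x : X) (K : Type u) [Field K] [PerfectField K]
    (e : K ≃+* Y.presheaf.stalk (f x)) (hreg : IsRegularLocalRing (X.presheaf.stalk x)) :
    x ∈ f.smoothLocus := by
  have hess := LocallyOfFiniteType.stalkMap f x
  rw [Scheme.Hom.mem_smoothLocus]
  algebraize [(f.stalkMap x).hom]
  let : Field (Y.presheaf.stalk (f x)) := (e.symm.isField (Field.toIsField K)).toField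
  letI : Algebra K (Y.presheaf.stalk (f x)) := e.toRingHom.toAlgebra
  let e' : K ≃ₐ[K] Y.presheaf.stalk (f x) := AlgEquiv.ofRingEquiv (f := e) (fun _ => rfl)
  have : Algebra.IsAlgebraic K (Y.presheaf.stalk (f x)) :=
    .of_injective e'.symm.toAlgHom e'.symm.injective
  have : PerfectField (Y.presheaf.stalk (f x)) :=
    Algebra.IsAlgebraic.perfectField (K := K) (L := Y.presheaf.stalk (f x))
  haveI : Algebra.FormallySmooth (Y.presheaf.stalk (f x)) (ResidueField (X.presheaf.stalk x)) :=
    Groth.Agent.Lib.helper19.CohenK.formallySmooth_of_perfectField _ _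
  exact formallySmooth_of_isRegularLocalRing (Y.presheaf.stalk (f x)) (X.presheaf.stalk x)

theorem smooth_morphismRestrict_of_preimage_le_smoothLocus {X Y : Scheme.{u}} (f : X ⟶ Y)
    [LocallyOfFinitePresentation f] (V : Y.Opens) (h : f ⁻¹ᵁ V ≤ f.smoothLocus) :
    Smooth (f ∣_ V) := by
  rw [← Scheme.Hom.smoothLocus_eq_top_iff, ← top_le_iff]
  rintro x -
  rw [Scheme.Hom.mem_smoothLocus]
  refine (RingHom.FormallySmooth.respectsIso.arrow_mk_iso_iff (morphismRestrictStalkMap f V x)).mpr ?_
  exact h x.2

end Groth.Agent.Lib.helper17.RegSmooth
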