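import Groth.Prelude.Def_ArtFun5
import Mathlib

/-!
# Schlessinger existence, part A: factorisation through surjections and a Chevalley-type lemma
-/

set_option autoImplicit false
universe u v

namespace Groth.Agent.Lib.helper17.Schl

open CategoryTheory ArtFun IsLocalRing

section fac

variable {Λ : Type u} {k : Type u} [CommRing Λ] [Field k] [Algebra Λ k]
variable {S : Type u} [CommRing S] [Algebra Λ S] {resS : S →ₐ[Λ] k}

/-- factor `γ` through the surjective `π` when `ker π ≤ ker γ`. -/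
theorem exists_fac {C C' : Art Λ k} (π : HomSet S resS C) (hπ : Function.Surjective π.1)
    (γ : HomSet S resS C') (h : RingHom.ker π.1 ≤ RingHom.ker γ.1) :
    ∃ σ : C ⟶ C', HomSet.map σ π = γ := by
  have H : RingHom.ker π.1.toRingHom ≤ RingHom.ker γ.1.toRingHom := fun x hx => h hx
  refine ⟨⟨AlgHom.liftOfSurjective π.1 hπ γ.1 H, ?_⟩, ?_⟩
  · apply AlgHom.ext
    intro c
    obtain ⟨s, rfl⟩ := hπ c
    rw [AlgHom.comp_apply, AlgHom.liftOfSurjective_apply]
    have h1 := congrArg (fun f : S →ₐ[Λ] k => f s) γ.2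
    have h2 := congrArg (fun f : S →ₐ[Λ] k => f s) π.2
    exact h1.trans h2.symm
  · apply Subtype.ext
    exact AlgHom.liftOfSurjective_comp π.1 hπ γ.1 H

theorem fac_unique {C C' : Art Λ k} (π : HomSet S resS C) (hπ : Function.Surjective π.1)
    (σ σ' : C ⟶ C') (h : HomSet.map σ π = HomSet.map σ' π) : σ = σ' := by
  apply Art.hom_ext
  apply AlgHom.ext
  intro c
  obtain ⟨s, rfl⟩ := hπ c
  exact congrArg (fun f : HomSet S resS C' => f.1 s) h

theorem hmap_comp {A B C : Art Λ k} (f : A ⟶ B) (g : B ⟶ C) (φ : HomSet S resS A) :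
    HomSet.map (f ≫ g) φ = HomSet.map g (HomSet.map f φ) :=
  Subtype.ext (AlgHom.ext fun _ => rfl)

theorem hmap_id {A : Art Λ k} (φ : HomSet S resS A) : HomSet.map (𝟙 A) φ = φ :=
  Subtype.ext (AlgHom.ext fun _ => rfl)

theorem homSet_map_apply {A B : Art Λ k} (f : A ⟶ B) (φ : HomSet S resS A) (s : S) :
    (HomSet.map f φ).1 s = f (φ.1 s) := rfl

theorem ker_le_ker_map {A B : Art Λ k} (f : A ⟶ B) (φ : HomSet S resS A) :
    RingHom.ker φ.1 ≤ RingHom.ker (HomSet.map f φ).1 := by
  intro s hs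
  rw [RingHom.mem_ker] at hs ⊢
  rw [homSet_map_apply, hs]
  exact map_zero f.toAlgHom

/-- factor an element of `h_S(C)` through a surjection `π : S → R` of augmented algebras. -/
theorem exists_fac_ring {R : Type u} [CommRing R] [Algebra Λ R] {resR : R →ₐ[Λ] k}
    (π : S →ₐ[Λ] R) (hπ : Function.Surjective π) (hres : resR.comp π = resS)
    {C : Art Λ k} (γ : HomSet S resS C) (h : RingHom.ker π ≤ RingHom.ker γ.1) :
    ∃ ψ : HomSet R resR C, ψ.1.comp π = γ.1 := by
  have H : RingHom.ker π.toRingHom ≤ RingHom.ker γ.1.toRingHom := fun x hx => h hx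
  refine ⟨⟨AlgHom.liftOfSurjective π hπ γ.1 H, ?_⟩, AlgHom.liftOfSurjective_comp π hπ γ.1 H⟩
  apply AlgHom.ext
  intro c
  obtain ⟨s, rfl⟩ := hπ c
  rw [AlgHom.comp_apply, AlgHom.liftOfSurjective_apply]
  have h1 := congrArg (fun f : S →ₐ[Λ] k => f s) γ.2
  have h2 := congrArg (fun f : S →ₐ[Λ] k => f s) hres
  exact h1.trans h2.symm

end fac

section chevalley

variable {Λ : Type u} {k : Type u} [CommRing Λ] [Field k] [Algebra Λ k]

/-- Chevalley-type lemma: a decreasing sequence of ideals of a complete local Noetherian ring is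
eventually contained in its intersection plus any given power of the maximal ideal. -/
theorem chevalley (S : CRing Λ k) (J : ℕ → Ideal S.carrier) (hJ : Antitone J) (N : ℕ) :
    ∃ q, J q ≤ (⨅ q, J q) ⊔ maximalIdeal S.carrier ^ N := by
  classical
  set m := maximalIdeal S.carrier with hm
  -- stabilisation modulo powers
  have stab : ∀ n : ℕ, ∃ q₀, ∀ q, q₀ ≤ q → J q₀ ≤ J q ⊔ m ^ n := by
    intro n
    cases n with
    | zero => exact ⟨0, fun q _ => by rw [pow_zero, Ideal.one_eq_top, sup_top_eq]; exact le_top⟩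
    | succ n =>
      haveI : IsArtinianRing (S.carrier ⧸ CRing.mpow S n) := CRing.isArtinianRing_quot_mpow S n
      let f : ℕ →o (Ideal (S.carrier ⧸ CRing.mpow S n))ᵒᵈ :=
        ⟨fun q => OrderDual.toDual ((J q).map (Ideal.Quotient.mk (CRing.mpow S n))),
          fun a b hab => Ideal.map_mono (hJ hab)⟩
      obtain ⟨q₀, hq₀⟩ := IsArtinian.monotone_stabilizes f
      refine ⟨q₀, fun q hq => ?_⟩
      have h1 : (J q₀).map (Ideal.Quotient.mk (CRing.mpow S n)) =
          (J q).map (Ideal.Quotient.mk (CRing.mpow S n)) := hq₀ q hq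
      have h2 := Ideal.comap_map_of_surjective (Ideal.Quotient.mk (CRing.mpow S n))
        Ideal.Quotient.mk_surjective (J q)
      have h3 : Ideal.comap (Ideal.Quotient.mk (CRing.mpow S n)) ⊥ = m ^ (n + 1) := by
        rw [← RingHom.ker_eq_comap_bot, Ideal.mk_ker]
      rw [h3] at h2
      rw [← h2, ← h1]
      exact Ideal.le_comap_map
  choose q₀ hq₀ using stab
  have hE : ∀ n q, J (q₀ n) ≤ J q ⊔ m ^ n := by
    intro n q
    rcases le_total (q₀ n) q with h | h
    · exact hq₀ n q h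
    · exact (hJ h).trans le_sup_left
  have step : ∀ n, ∀ x ∈ J (q₀ n), ∃ x' ∈ J (q₀ (n + 1)), x - x' ∈ m ^ n := by
    intro n x hx
    obtain ⟨a, ha, b, hb, hab⟩ := Submodule.mem_sup.1 (hE n (q₀ (n + 1)) hx)
    refine ⟨a, ha, ?_⟩
    rw [← hab, add_sub_cancel_left]
    exact hb
  choose nxt hnxt1 hnxt2 using step
  refine ⟨q₀ N, ?_⟩
  intro x hx
  let g : (i : ℕ) → {y : S.carrier // y ∈ J (q₀ (N + i))} := fun i =>
    Nat.rec (motive := fun i => {y : S.carrier // y ∈ J (q₀ (N + i))}) ⟨x, hx⟩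
      (fun i y => ⟨nxt (N + i) y.1 y.2, hnxt1 (N + i) y.1 y.2⟩) i
  have hg0 : (g 0).1 = x := rfl
  have hgs : ∀ i, (g i).1 - (g (i + 1)).1 ∈ m ^ (N + i) := fun i => hnxt2 (N + i) (g i).1 (g i).2
  have hgle : ∀ i j, i ≤ j → (g i).1 - (g j).1 ∈ m ^ (N + i) := by
    intro i j hij
    induction j, hij using Nat.le_induction with
    | base => rw [sub_self]; exact Ideal.zero_mem _
    | succ j hij ih =>
      have : (g i).1 - (g (j + 1)).1 = ((g i).1 - (g j).1) + ((g j).1 - (g (j + 1)).1) := by ring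
      rw [this]
      exact Ideal.add_mem _ ih (Ideal.pow_le_pow_right (by omega) (hgs j))
  haveI hc : IsAdicComplete m S.carrier := S.isAdicComplete
  obtain ⟨L, hL⟩ := IsPrecomplete.prec (I := m) (M := S.carrier) inferInstance
    (f := fun i => (g i).1) (by
      intro i j hij
      rw [SModEq.sub_mem, smul_eq_mul, Ideal.mul_top]
      exact Ideal.pow_le_pow_right (Nat.le_add_left i N) (hgle i j hij))
  have hL' : ∀ i, (g i).1 - L ∈ m ^ i := by
    intro i
    have := hL i
    rw [SModEq.sub_mem, smul_eq_mul, Ideal.mul_top] at this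
    exact this
  -- `L` lies in every `J q`
  have hLJ : ∀ q, L ∈ J q := by
    intro q
    have hH : IsHausdorff m (S.carrier ⧸ J q) := inferInstance
    rw [← Ideal.Quotient.eq_zero_iff_mem]
    apply hH.haus'
    intro n
    rw [SModEq.zero]
    have h0 : J q ⊔ m ^ (N + n) ≤ J q ⊔ m ^ n :=
      sup_le_sup_left (Ideal.pow_le_pow_right (Nat.le_add_left n N)) _
    have h1 : (g n).1 ∈ J q ⊔ m ^ n := h0 (hE (N + n) q (g n).2)
    obtain ⟨a, ha, b, hb, hab⟩ := Submodule.mem_sup.1 h1
    have h2 : L = a + (b - ((g n).1 - L)) := by rw [← sub_add, ← hab]; ring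
    have h3 : b - ((g n).1 - L) ∈ m ^ n := Ideal.sub_mem _ hb (hL' n)
    have h4 : Ideal.Quotient.mk (J q) L =
        (b - ((g n).1 - L)) • (Ideal.Quotient.mk (J q) 1) := by
      conv_lhs => rw [h2]
      rw [map_add, Ideal.Quotient.eq_zero_iff_mem.2 ha, zero_add, Algebra.smul_def, map_one,
        mul_one]
      rfl
    rw [h4]
    exact Submodule.smul_mem_smul h3 Submodule.mem_top
  have hLinf : L ∈ ⨅ q, J q := by
    rw [Ideal.mem_iInf]; exact hLJ
  have hxL : x - L ∈ m ^ N := by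
    have h1 : x - L = ((g 0).1 - (g N).1) + ((g N).1 - L) := by rw [hg0]; ring
    rw [h1]
    exact Ideal.add_mem _ (by simpa using hgle 0 N (Nat.zero_le _)) (hL' N)
  have : x = L + (x - L) := by ring
  rw [this]
  exact Submodule.add_mem_sup hLinf hxL

end chevalley

end Groth.Agent.Lib.helper17.Schl
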