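import Groth.Agent.Lib.Helper17.SchlA
import Groth.Agent.Lib.Helper17.ArtAct
import Groth.Agent.S12710
import Groth.Agent.S12727
import Groth.Agent.S12737
import Groth.Agent.S12718
import Groth.Agent.S12714
import Mathlib

/-!
# Schlessinger existence, part B: the tangent start and smooth covers
-/

set_option autoImplicit false
universe u v

namespace Groth.Agent.Lib.helper17.Schl

open CategoryTheory ArtFun IsLocalRing

section tangent

variable {Λ : Type u} {k : Type u} [CommRing Λ] [Field k] [Algebra Λ k]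

theorem scale_zero : (Art.scale (0 : k) : Art.dual Λ k ⟶ Art.dual Λ k) =
    Art.toBase (Art.dual Λ k) ≫ Art.baseToDual := by
  apply Art.hom_ext
  apply AlgHom.ext
  intro x
  refine TrivSqZeroExt.ext rfl ?_
  change (0 : k) • x.snd = _
  rw [zero_smul]
  rfl

theorem map_baseToDual_eq_zero (F : Art Λ k ⥤ Type v) [T : TangentStr F] (h0 : H0 F)
    (pt : F.obj (Art.base Λ k)) :
    TangentSpace.mk (F.map Art.baseToDual pt) = (0 : TangentSpace F) := by
  have := h0.2
  have h1 : (0 : k) • TangentSpace.mk (F.map Art.baseToDual pt) =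
      TangentSpace.mk (F.map (Art.scale 0) (F.map Art.baseToDual pt)) :=
    T.smul_eq (0 : k) (F.map Art.baseToDual pt)
  rw [scale_zero, ArtAct.map_comp_apply,
    Subsingleton.elim (F.map (Art.toBase (Art.dual Λ k)) (F.map Art.baseToDual pt)) pt,
    zero_smul] at h1
  exact h1.symm

theorem exists_span_obj [IsNoetherianRing Λ] [Module.Finite Λ k] (F : Art Λ k ⥤ Type v)
    [T : TangentStr F] (h0 : H0 F) (h2 : Heps F) :
    ∀ (n : ℕ) (v : Fin n → TangentSpace F), ∃ (D : Art Λ k) (x : F.obj D), ∀ c : Fin n → k,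
      ∃ s : D ⟶ Art.dual Λ k, TangentSpace.mk (F.map s x) = ∑ i, c i • v i := by
  have := h0.2
  intro n
  induction n with
  | zero =>
    intro v
    obtain ⟨pt⟩ := h0.1
    refine ⟨Art.base Λ k, pt, fun c => ⟨Art.baseToDual, ?_⟩⟩
    rw [Finset.univ_eq_empty, Finset.sum_empty]
    exact map_baseToDual_eq_zero F h0 pt
  | succ n ih =>
    intro v
    obtain ⟨D', x', hD'⟩ := ih (fun i => v (Fin.castSucc i))
    obtain ⟨D, p', p'', hfp⟩ := Groth.Agent.S12710.result (Art.toBase D')
      (Art.toBase (Art.dual Λ k)) (Art.dual Λ k).res_surjective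
    obtain ⟨x, hx⟩ := (h2 p' p'' hfp).2 ⟨(x', v (Fin.last n)), Subsingleton.elim _ _⟩
    have hx1 : F.map p' x = x' := congrArg (fun t => t.1.1) hx
    have hx2 : F.map p'' x = v (Fin.last n) := congrArg (fun t => t.1.2) hx
    refine ⟨D, x, fun c => ?_⟩
    obtain ⟨s', hs'⟩ := hD' (fun i => c (Fin.castSucc i))
    obtain ⟨l, hl1, hl2⟩ := Groth.Agent.S12727.exists_lift_hom Art.isFibreProd_dual2 (p' ≫ s')
      (p'' ≫ Art.scale (c (Fin.last n)))
      (by rw [Art.eq_toBase ((p' ≫ s') ≫ _), Art.eq_toBase ((p'' ≫ _) ≫ _)])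
    refine ⟨l ≫ Art.plus, ?_⟩
    have e1 : F.map Art.pr₁ (F.map l x) = F.map s' x' := by
      rw [← ArtAct.map_comp_apply, hl1, ArtAct.map_comp_apply, hx1]
    have e2 : F.map Art.pr₂ (F.map l x) = F.map (Art.scale (c (Fin.last n))) (v (Fin.last n)) := by
      rw [← ArtAct.map_comp_apply, hl2, ArtAct.map_comp_apply, hx2]
    have e3 : TangentSpace.mk (F.map (Art.scale (c (Fin.last n))) (v (Fin.last n))) =
        c (Fin.last n) • v (Fin.last n) := (T.smul_eq (c (Fin.last n)) (v (Fin.last n))).symm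
    have h1 : TangentSpace.mk (F.map Art.pr₁ (F.map l x)) + TangentSpace.mk (F.map Art.pr₂ (F.map l x)) =
        TangentSpace.mk (F.map Art.plus (F.map l x)) := T.add_eq (F.map l x)
    rw [Fin.sum_univ_castSucc, ← hs', ← e3, ← e2, ← e1, h1, ArtAct.map_comp_apply]

/-- the tangent start: an object with an element through which every tangent vector factors. -/
theorem exists_tangent_start [IsNoetherianRing Λ] [Module.Finite Λ k] (F : Art Λ k ⥤ Type v)
    [T : TangentStr F] (h0 : H0 F) (h2 : Heps F) (h3 : Hfin F) :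
    ∃ (D : Art Λ k) (x : F.obj D), ∀ w : F.obj (Art.dual Λ k),
      ∃ s : D ⟶ Art.dual Λ k, F.map s x = w := by
  have : Module.Finite k (TangentSpace F) := h3
  obtain ⟨n, v, hv⟩ := Module.Finite.exists_fin (R := k) (M := TangentSpace F)
  obtain ⟨D, x, hD⟩ := exists_span_obj F h0 h2 n v
  refine ⟨D, x, fun w => ?_⟩
  have hw : TangentSpace.mk w ∈ Submodule.span k (Set.range v) := by rw [hv]; trivial
  obtain ⟨c, hc⟩ := (Submodule.mem_span_range_iff_exists_fun k).1 hw
  obtain ⟨s, hs⟩ := hD c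
  exact ⟨s, hs.trans hc⟩

end tangent

section cover

variable {Λ : Type u} {k : Type u} [CommRing Λ] [Field k] [Algebra Λ k]

/-- an Artinian object as a coefficient ring -/
noncomputable def toCRing (A : Art Λ k) : CRing Λ k :=
  { carrier := A
    isNoetherianRing := inferInstance
    res := A.res
    res_surjective := A.res_surjective
    isAdicComplete := inferInstance }

open Groth.Agent.LibCR29 Groth.Agent.LibPS29 in
/-- every object is a quotient of a smooth coefficient ring. -/
theorem exists_smooth_cover [IsNoetherianRing Λ] [Module.Finite Λ k] (A : Art Λ k) :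
    ∃ S : CRing Λ k, IsSmoothFunctor (hR S.carrier S.res) ∧
      ∃ φ : HomSet S.carrier S.res A, Function.Surjective φ.1 := by
  obtain ⟨S₀, hS₀⟩ := Groth.Agent.S12737.result (Λ := Λ) (k := k)
  let φ₀ : HomSet S₀.carrier S₀.res (Art.base Λ k) := ⟨S₀.res, AlgHom.id_comp _⟩
  obtain ⟨y₀, hy₀⟩ := hS₀ (Art.toBase A) A.res_surjective φ₀
  have hy₀' : ∀ r, A.res (y₀.1 r) = S₀.res r := fun r =>
    congrArg (fun f : S₀.carrier →ₐ[Λ] k => f r) y₀.2
  have hfg : (maximalIdeal A).FG := (isNoetherianRing_iff_ideal_fg A).1 inferInstance _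
  obtain ⟨n, a, ha⟩ := Submodule.fg_iff_exists_fin_generating_family.1 hfg
  have ham : ∀ i, a i ∈ maximalIdeal A := fun i => by
    rw [← ha]; exact Submodule.subset_span ⟨i, rfl⟩
  obtain ⟨N, hN⟩ := (isArtinianRing_iff_isNilpotent_maximalIdeal A).1 inferInstance
  have hN : maximalIdeal A ^ N = ⊥ := hN
  have hz : ∀ i, a i ^ (N + 1 + 1) = 0 := by
    intro i
    have h1 : a i ^ N ∈ maximalIdeal A ^ N := Ideal.pow_mem_pow (ham i) N
    rw [hN, Ideal.mem_bot] at h1
    rw [pow_succ, pow_succ, h1, zero_mul, zero_mul]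
  let _ : Algebra S₀.carrier A := y₀.1.toRingHom.toAlgebra
  have : IsScalarTower Λ S₀.carrier A :=
    IsScalarTower.of_algebraMap_eq (fun l => (y₀.1.commutes l).symm)
  let ψ' : MvPowerSeries (Fin n) S₀.carrier →ₐ[S₀.carrier] A := ev a (N + 1) hz
  let ψ : MvPowerSeries (Fin n) S₀.carrier →ₐ[Λ] A := ψ'.restrictScalars Λ
  have hψX : ∀ i, ψ (MvPowerSeries.X i) = a i := fun i => ev_X a (N + 1) (Nat.le_add_left 1 N) hz i
  have hψC : ∀ r : S₀.carrier, ψ (MvPowerSeries.C r) = y₀.1 r := by
    intro r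
    have : (MvPowerSeries.C r : MvPowerSeries (Fin n) S₀.carrier) =
        algebraMap S₀.carrier (MvPowerSeries (Fin n) S₀.carrier) r := by
      rw [MvPowerSeries.algebraMap_apply]; rfl
    rw [this]
    exact ψ'.commutes r
  have hspan : ∀ f ∈ Ideal.span (Set.range
      (MvPowerSeries.X : Fin n → MvPowerSeries (Fin n) S₀.carrier)), ψ f ∈ maximalIdeal A := by
    intro f hf
    have h1 : ψ.toRingHom f ∈ (Ideal.span (Set.range
      (MvPowerSeries.X : Fin n → MvPowerSeries (Fin n) S₀.carrier))).map ψ.toRingHom :=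
      Ideal.mem_map_of_mem _ hf
    rw [Ideal.map_span] at h1
    refine (Ideal.span_le.2 ?_) h1
    rintro _ ⟨_, ⟨i, rfl⟩, rfl⟩
    exact (hψX i).symm ▸ ham i
  have hres : A.res.comp ψ = (psCRing S₀ n).res := by
    apply AlgHom.ext
    intro f
    have h1 : f = MvPowerSeries.C (MvPowerSeries.constantCoeff f) +
        (f - MvPowerSeries.C (MvPowerSeries.constantCoeff f)) := by ring
    have h2 := hspan _ (sub_C_mem_span_X f)
    rw [Art.mem_maximalIdeal_iff] at h2
    rw [AlgHom.comp_apply]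
    conv_lhs => rw [h1]
    rw [map_add, map_add, h2, add_zero, hψC, hy₀']
    rfl
  refine ⟨psCRing S₀ n, ?_, ⟨ψ, hres⟩, ?_⟩
  · -- smoothness
    let _ : Algebra S₀.carrier (psCRing S₀ n).carrier :=
      (inferInstance : Algebra S₀.carrier (MvPowerSeries (Fin n) S₀.carrier))
    have : IsScalarTower Λ S₀.carrier (psCRing S₀ n).carrier :=
      (inferInstance : IsScalarTower Λ S₀.carrier (MvPowerSeries (Fin n) S₀.carrier))
    have hRS : (psCRing S₀ n).res.comp
        (IsScalarTower.toAlgHom Λ S₀.carrier (psCRing S₀ n).carrier) = S₀.res := by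
      apply AlgHom.ext
      intro r
      change S₀.res (MvPowerSeries.constantCoeff
        (algebraMap S₀.carrier (MvPowerSeries (Fin n) S₀.carrier) r)) = _
      rw [MvPowerSeries.algebraMap_apply, MvPowerSeries.constantCoeff_C]
      rfl
    have hver := Groth.Agent.S12718.versal_of_equiv S₀ (psCRing S₀ n) hRS n AlgEquiv.refl
    intro B A' μ hμ φ
    obtain ⟨y, hy⟩ := hS₀ μ hμ
      (⟨φ.1.comp (IsScalarTower.toAlgHom Λ S₀.carrier (psCRing S₀ n).carrier), by
        rw [← AlgHom.comp_assoc, φ.2, hRS]⟩ : HomSet S₀.carrier S₀.res A')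
    obtain ⟨χ, hχ1, -⟩ := hver μ hμ φ y hy
    exact ⟨χ, hχ1⟩
  · -- surjectivity
    apply Groth.Agent.S12714.surjective_of_map_eq (psCRing S₀ n) (toCRing A) ψ hres
    apply le_antisymm (Groth.Agent.S12714.map_le_maximalIdeal (psCRing S₀ n) (toCRing A) ψ hres)
    change maximalIdeal A ≤ _
    rw [← ha]
    refine Submodule.span_le.2 ?_
    rintro _ ⟨i, rfl⟩
    rw [← hψX i]
    exact Ideal.mem_map_of_mem _ (X_mem_maximalIdeal_ps i)

end cover

end Groth.Agent.Lib.helper17.Schl
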