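import Groth.Agent.Lib.Helper17.SchlC
import Mathlib

/-!
# Schlessinger existence, part D: a variant of the tower step recording the kernel condition
-/

set_option autoImplicit false
universe u v

namespace Groth.Agent.Lib.helper17.Schl

open CategoryTheory ArtFun IsLocalRing

variable {Λ : Type u} {k : Type u} [CommRing Λ] [Field k] [Algebra Λ k]

theorem exists_next' [IsNoetherianRing Λ] [Module.Finite Λ k] (S : CRing Λ k)
    (F : Art Λ k ⥤ Type v) (h1 : S1 F) (st : Stage S F) : ∃ st' : Stage S F, Step S F st st' ∧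
      maximalIdeal S.carrier * RingHom.ker st.π.1 ≤ RingHom.ker st'.π.1 := by
  set K := RingHom.ker st.π.1 with hKdef
  obtain ⟨M, hM⟩ := Groth.Agent.S12250.exists_mpow_le_ker S st.R st.π
  have hM' : maximalIdeal S.carrier ^ (M + 1) ≤ K := fun s hs => hM hs
  have hKm : K ≤ maximalIdeal S.carrier := by
    intro s hs
    rw [← homSet_mem_max st.π]
    have : st.π.1 s = 0 := hs
    rw [this]
    exact Ideal.zero_mem _
  set K' := maximalIdeal S.carrier * K with hK'def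
  have hK'K : K' ≤ K := Ideal.mul_le_right
  have hK'm : K' ≤ maximalIdeal S.carrier := hK'K.trans hKm
  have hK'M : maximalIdeal S.carrier ^ (M + 1 + 1) ≤ K' := by
    rw [pow_succ']
    exact Ideal.mul_mono_right hM'
  let B := Groth.Agent.LibCR29.artQuot S K' hK'm (M + 1 + 1) hK'M
  let ρ : HomSet S.carrier S.res B := Groth.Agent.LibCR29.artQuotHom S K' hK'm (M + 1 + 1) hK'M
  have hρs : Function.Surjective ρ.1 := Ideal.Quotient.mk_surjective
  have hρk : RingHom.ker ρ.1 = K' := Ideal.Quotient.mkₐ_ker Λ K'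
  obtain ⟨p, hp⟩ := exists_fac ρ hρs st.π (by rw [hρk]; exact hK'K)
  have hp' : ∀ s, p (ρ.1 s) = st.π.1 s := fun s =>
    congrArg (fun f : HomSet S.carrier S.res st.R => f.1 s) hp
  have hsemi : Art.IsSemismallExt p := by
    refine ⟨fun r => ?_, ?_⟩
    · obtain ⟨s, rfl⟩ := st.surj r
      exact ⟨ρ.1 s, hp' s⟩
    · rw [← le_bot_iff, Ideal.mul_le]
      intro b hb c hc
      obtain ⟨s, rfl⟩ := hρs b
      obtain ⟨t, rfl⟩ := hρs c
      have hs : s ∈ maximalIdeal S.carrier := (homSet_mem_max ρ s).1 hb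
      have ht : t ∈ K := by
        rw [hKdef, RingHom.mem_ker, ← hp']
        exact hc
      rw [Ideal.mem_bot, ← map_mul]
      have : s * t ∈ RingHom.ker ρ.1 := by rw [hρk]; exact Ideal.mul_mem_mul hs ht
      exact this
  obtain ⟨J₀, hJ₀, hJ₀', ⟨y, hy⟩, hleast⟩ := Groth.Agent.S12729.result h1 p hsemi st.ξ
  have hsurj' : Function.Surjective (HomSet.map (Art.quotMk B J₀ hJ₀') ρ).1 := by
    intro x
    obtain ⟨b, rfl⟩ := Art.quotMk_surjective B J₀ hJ₀' x
    obtain ⟨s, rfl⟩ := hρs b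
    exact ⟨s, rfl⟩
  refine ⟨⟨Art.quot B J₀ hJ₀', HomSet.map (Art.quotMk B J₀ hJ₀') ρ, hsurj', y⟩,
    ⟨⟨Art.quotFactor hJ₀' p hJ₀, ?_, hy⟩, ?_⟩, ?_⟩
  rotate_left 2
  · change K' ≤ RingHom.ker (HomSet.map (Art.quotMk B J₀ hJ₀') ρ).1
    rw [← hρk]
    exact ker_le_ker_map _ ρ
  · change HomSet.map (Art.quotFactor hJ₀' p hJ₀) (HomSet.map (Art.quotMk B J₀ hJ₀') ρ) = st.π
    rw [← hmap_comp, Art.quotMk_quotFactor, hp]
  · intro C γ hγ hmK σ hσ c hc
    change RingHom.ker (HomSet.map (Art.quotMk B J₀ hJ₀') ρ).1 ≤ RingHom.ker γ.1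
    obtain ⟨γ', hγ'⟩ := exists_fac ρ hρs γ (by rw [hρk]; exact hmK)
    have hγ'' : ∀ s, γ' (ρ.1 s) = γ.1 s := fun s =>
      congrArg (fun f : HomSet S.carrier S.res C => f.1 s) hγ'
    have hcomp : γ' ≫ σ = p := fac_unique ρ hρs _ _ (by rw [hmap_comp, hγ', hσ, hp])
    have hγ's : Function.Surjective γ' := by
      intro x
      obtain ⟨s, rfl⟩ := hγ x
      exact ⟨ρ.1 s, hγ'' s⟩
    obtain ⟨hJ, hJ', y', hy'⟩ := Groth.Agent.S12729.lifts_ker (F := F) γ' hγ's c
    have hJp : RingHom.ker γ'.toAlgHom ≤ RingHom.ker p.toAlgHom := by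
      intro b hb
      rw [RingHom.mem_ker] at hb ⊢
      rw [← hcomp]
      change σ (γ' b) = 0
      have hb' : γ' b = 0 := hb
      rw [hb']
      exact map_zero σ.toAlgHom
    have hfac : Art.quotFactor hJ' p hJp = Art.quotFactor hJ' γ' hJ ≫ σ := by
      apply Art.hom_ext
      apply AlgHom.ext
      intro x
      obtain ⟨b, rfl⟩ := Art.quotMk_surjective B _ hJ' x
      change p b = σ (γ' b)
      rw [← hcomp]
      rfl
    have hle := hleast (RingHom.ker γ'.toAlgHom) hJp hJ'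
      ⟨y', by rw [hfac, ArtAct.map_comp_apply, hy', hc]⟩
    intro s hs
    rw [RingHom.mem_ker] at hs ⊢
    have h1 : ρ.1 s ∈ J₀ := Ideal.Quotient.eq_zero_iff_mem.1 hs
    have h2 : γ' (ρ.1 s) = 0 := hle h1
    rw [← hγ'']
    exact h2


end Groth.Agent.Lib.helper17.Schl
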