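import Mathlib
import Groth.Prelude.Def_RegImm
import Groth.Agent.Lib.Helper17.LciCM
import Groth.Agent.Lib.Helper24.FibreFF
import Groth.Agent.Lib.Helper24.SerreNormal1
import Groth.Agent.Lib.Helper24.FlatDepth5

/-!
# helper17: Serre's condition `(S_k)` along syntomic ring maps and flat local homomorphisms
-/

set_option autoImplicit false
set_option linter.style.haveILetI false
universe u
open IsLocalRing

namespace Groth.Agent.Lib.helper17.SkSynt

open Groth.Agent.Lib.Helper24.HensDepth

theorem skAt_congr (k : ℕ) (A : Type u) [CommRing A] (q q' : Ideal A) [q.IsPrime] [q'.IsPrime]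
    (h : q = q') : SkAt k A q → SkAt k A q' := by
  subst h
  exact id

/-- `(S_k)` for `A_p` gives `(S_k)` of `A` at `p`. -/
theorem skAt_of_hasSk_localization (k : ℕ) (A : Type u) [CommRing A] [IsNoetherianRing A]
    (p : Ideal A) [p.IsPrime]
    (h : LocCoh.HasSk k (Localization.AtPrime p) (Localization.AtPrime p)) : SkAt k A p := by
  rw [hasSk_iff_skAt] at h
  have h1 := h (maximalIdeal (Localization.AtPrime p))
  obtain ⟨e⟩ := Groth.Agent.Lib.Helper24.SerreNormal.exists_equiv_under A p
    (maximalIdeal (Localization.AtPrime p))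
  have hu : (maximalIdeal (Localization.AtPrime p)).under A = p :=
    Localization.AtPrime.under_maximalIdeal
  refine skAt_congr k A _ p hu ?_
  unfold SkAt at h1 ⊢
  rw [Module.supportDim_self_eq_ringKrullDim] at h1 ⊢
  rw [ringKrullDim_eq_of_ringEquiv e,
    ← Groth.Agent.Lib.Helper24.FlatDepth.depth_eq_of_ringEquiv e]
  exact h1

/-- A Cohen–Macaulay ring satisfies `(S_k)` at every prime. -/
theorem skAt_of_cm (k : ℕ) (F : Type u) [CommRing F] [hF : LocCoh.IsCohenMacaulayRing F]
    (q : Ideal F) [q.IsPrime] : SkAt k F q := by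
  have h := (hF.isCohenMacaulayLocalRing_localization q).supportDim_eq_depth
  unfold SkAt
  rw [h]
  exact min_le_right _ _

/-- `(S_k)` ascends along syntomic ring maps. -/
theorem hasSk_of_isSyntomic (k : ℕ) (A B : Type u) [CommRing A] [CommRing B] [Algebra A B]
    [IsNoetherianRing A] (hsy : Synt.IsSyntomic A B) (hA : LocCoh.HasSk k A A) :
    IsNoetherianRing B ∧ LocCoh.HasSk k B B := by
  obtain ⟨hfl, hfp, hfib⟩ := hsy
  haveI : Algebra.FiniteType A B := inferInstance
  haveI : IsNoetherianRing B := Algebra.FiniteType.isNoetherianRing A B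
  refine ⟨inferInstance, ?_⟩
  rw [hasSk_iff_skAt] at hA ⊢
  intro Q hQ
  let p : Ideal A := Q.under A
  have hp : p.IsPrime := inferInstance
  have hlo : Q.LiesOver p := inferInstance
  refine Groth.Agent.Lib.Helper24.FlatDepth.skAt_of_flat A B p Q k (hA p) ?_
  intro q hq
  haveI := Groth.Agent.Lib.helper17.LciCM.isCohenMacaulayRing_of_isLCIOver _ _ (hfib ⟨p, hp⟩)
  exact skAt_of_cm k _ q

end Groth.Agent.Lib.helper17.SkSynt
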