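import Mathlib
import Groth.Prelude.Def_CAlgX
import Groth.Agent.Lib.Helper7.OmegaSeqAlg5

/-!
# helper17: Jacobian criterion for a quotient by an `H_1`-regular sequence

* `exists_one_tmul`, `one_tmul_eq_zero_iff`: `κ ⊗[P] M` for a surjection `P → κ`.
* `formallySmooth_of_h1Regular`: `P → B → C` surjections, `P` formally smooth over `R` with finite free
  differentials, `B` local, `ker (B → C)` generated by an `H_1`-regular sequence, `C` formally smooth over `R`
  ⇒ `B` formally smooth over `R` (no Noetherian or flatness hypotheses).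
* `formallySmooth_of_isLocalization_h1Regular`: same with `B = M⁻¹A`, `A` finitely presented over `R`.
* `isSmoothAt_of_h1Regular`: chart form, `A → A'` surjective, primes `q'` over `q`: `A'` smooth at `q'` and
  the kernel of `A_q → A'_{q'}` generated by an `H_1`-regular sequence ⇒ `A` smooth at `q`.
* `mem_mul_ker_of_h1`: `J ∩ 𝔫 K ⊆ 𝔫 J` for `K = J + (a)`, `a` lifting an `H_1`-regular sequence mod `J`.
-/

set_option autoImplicit false
set_option linter.style.haveILetI false
universe u
open TensorProduct IsLocalRing KaehlerDifferential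

namespace Groth.Agent.Lib.helper17.SmoothRegAlg

open Groth.Agent.Lib.helper8.PullbackUnit Groth.Agent.Lib.helper7.OmegaSeqAlg

section Tensor

variable {P κ : Type u} [CommRing P] [CommRing κ] [Algebra P κ]
  (hκ : Function.Surjective (algebraMap P κ)) (M : Type u) [AddCommGroup M] [Module P M]

include hκ in
theorem exists_one_tmul (x : κ ⊗[P] M) : ∃ m : M, x = (1 : κ) ⊗ₜ[P] m := by
  induction x using TensorProduct.induction_on with
  | zero => exact ⟨0, by simp⟩
  | tmul a m =>
    obtain ⟨p, rfl⟩ := hκ a
    refine ⟨p • m, ?_⟩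
    rw [TensorProduct.tmul_smul, TensorProduct.smul_tmul', Algebra.smul_def, mul_one]
  | add x y hx hy =>
    obtain ⟨m, rfl⟩ := hx
    obtain ⟨n, rfl⟩ := hy
    exact ⟨m + n, by rw [TensorProduct.tmul_add]⟩

include hκ in
theorem one_tmul_eq_zero_iff (m : M) :
    (1 : κ) ⊗ₜ[P] m = 0 ↔ m ∈ RingHom.ker (algebraMap P κ) • (⊤ : Submodule P M) := by
  constructor
  · intro h
    exact mem_smul_top_of_isBC_eq_zero hκ (isBC_tmul (A := κ) M) m h
  · intro h
    refine Submodule.smul_induction_on h (fun r hr n _ => ?_) (fun x y hx hy => ?_)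
    · rw [TensorProduct.tmul_smul, TensorProduct.smul_tmul', Algebra.smul_def, mul_one,
        (RingHom.mem_ker).mp hr, TensorProduct.zero_tmul]
    · rw [TensorProduct.tmul_add, hx, hy, add_zero]

/-- membership in `I • ⊤` of an ideal viewed as a module -/
theorem mem_smul_top_ideal_iff (I N : Ideal P) (m : N) :
    m ∈ I • (⊤ : Submodule P N) ↔ (m : P) ∈ I * N := by
  have h1 : (I • (⊤ : Submodule P N)).map N.subtype = I * N := by
    rw [Submodule.map_smul'', Submodule.map_subtype_top]; rfl
  rw [← h1]
  constructor
  · intro h; exact Submodule.mem_map_of_mem h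
  · rintro ⟨m', hm', h⟩
    have : m' = m := Subtype.ext h
    rwa [← this]

end Tensor

section Ideals

variable {P B : Type u} [CommRing P] [CommRing B] (π : P →+* B) (hπ : Function.Surjective π)
  {n : ℕ} (b : Fin n → B) (hb : CAlgX.IsH1Regular b) (a : Fin n → P) (ha : ∀ i, π (a i) = b i)

include hπ hb ha in
/-- `J ∩ 𝔫 K ⊆ 𝔫 J` for `J = ker π`, `K = J + (a)`, `(a) ⊆ 𝔫`, `a` lifting an `H_1`-regular
sequence. -/
theorem mem_mul_ker_of_h1 (𝔫 : Ideal P) (h𝔫 : Ideal.span (Set.range a) ≤ 𝔫) (x : P)
    (hxJ : x ∈ RingHom.ker π)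
    (hx : x ∈ 𝔫 * (RingHom.ker π ⊔ Ideal.span (Set.range a))) : x ∈ 𝔫 * RingHom.ker π := by
  rw [Ideal.mul_sup] at hx
  obtain ⟨u, hu, w, hw, rfl⟩ := Submodule.mem_sup.mp hx
  have hw' : w ∈ Ideal.span (Set.range a) := Ideal.mul_le_right hw
  obtain ⟨c, rfl⟩ := (Ideal.mem_span_range_iff_exists_fun).mp hw'
  have huJ : u ∈ RingHom.ker π := Ideal.mul_le_right hu
  have hwJ : π (∑ i, c i * a i) = 0 := by
    have := (RingHom.ker π).sub_mem hxJ huJ
    rwa [add_sub_cancel_left] at this
  have h2 := sum_mem_of_h1 π hπ b hb a ha c hwJ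
  refine Ideal.add_mem _ hu ?_
  rw [mul_comm]
  exact Ideal.mul_mono_right h𝔫 h2

end Ideals

section Core

variable {R P B C : Type u} [CommRing R] [CommRing P] [CommRing B] [CommRing C]
  [Algebra R P] [Algebra P B] [Algebra B C] [Algebra P C] [Algebra R B] [Algebra R C]
  [IsScalarTower R P B] [IsScalarTower P B C] [IsScalarTower R P C]
  [IsLocalRing B] [Nontrivial C]
  [Algebra.FormallySmooth R P] [Module.Free P Ω[P⁄R]] [Module.Finite P Ω[P⁄R]]
  (h₁ : Function.Surjective (algebraMap P B)) (h₂ : (RingHom.ker (algebraMap P B)).FG)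
  (h₃ : Function.Surjective (algebraMap B C))
  {n : ℕ} (b : Fin n → B) (hb : CAlgX.IsH1Regular b)
  (hgen : RingHom.ker (algebraMap B C) = Ideal.span (Set.range b))

include h₁ h₂ h₃ hb hgen in
/-- **Jacobian criterion, regular quotient.** `P → B → C` surjections of `R`-algebras, `P` formally
smooth over `R` with finite free differentials, `B` local, `ker (B → C)` generated by an
`H_1`-regular sequence and `C` formally smooth over `R`: then `B` is formally smooth over `R`. -/
theorem formallySmooth_of_h1Regular [Algebra.FormallySmooth R C] : Algebra.FormallySmooth R B := by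
  haveI : IsLocalHom (algebraMap B C) := IsLocalHom.of_surjective _ h₃
  haveI : IsLocalRing C := IsLocalRing.of_surjective (algebraMap B C) h₃
  let κ := ResidueField C
  haveI : IsScalarTower P B κ := IsScalarTower.of_algebraMap_eq fun x => by
    rw [IsScalarTower.algebraMap_apply P C κ, IsScalarTower.algebraMap_apply B C κ,
      ← IsScalarTower.algebraMap_apply P B C]
  have hPC : Function.Surjective (algebraMap P C) := by
    rw [IsScalarTower.algebraMap_eq P B C]
    exact h₃.comp h₁
  -- lifts of the generators
  choose a ha using fun i => h₁ (b i)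
  set J := RingHom.ker (algebraMap P B) with hJ
  set K := RingHom.ker (algebraMap P C) with hK
  have hKJ : K = J ⊔ Ideal.span (Set.range a) := by
    have h1 : K = (RingHom.ker (algebraMap B C)).comap (algebraMap P B) := by
      rw [hK, IsScalarTower.algebraMap_eq P B C, ← RingHom.comap_ker]
    rw [h1, hgen]
    have h2 : Ideal.span (Set.range b) = (Ideal.span (Set.range a)).map (algebraMap P B) := by
      rw [Ideal.map_span, ← Set.range_comp]
      congr 2
      ext i
      exact (ha i).symm
    rw [h2, Ideal.comap_map_of_surjective _ h₁, ← RingHom.ker_eq_comap_bot, sup_comm]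
  have hJK : J ≤ K := hKJ ▸ le_sup_left
  have hKFG : K.FG := by
    rw [hKJ]
    exact Submodule.FG.sup h₂ (Submodule.fg_span (Set.finite_range a))
  -- the residue map
  have hκ : Function.Surjective (algebraMap P κ) :=
    by
      rw [IsScalarTower.algebraMap_eq P C κ]
      exact (IsLocalRing.residue_surjective (R := C)).comp hPC
  set 𝔫 := RingHom.ker (algebraMap P κ) with h𝔫
  have hK𝔫 : K ≤ 𝔫 := by
    intro x hx
    rw [h𝔫, RingHom.mem_ker, IsScalarTower.algebraMap_apply P C κ, (RingHom.mem_ker).mp hx, map_zero]
  have ha𝔫 : Ideal.span (Set.range a) ≤ 𝔫 := le_trans (hKJ ▸ le_sup_right) hK𝔫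
  -- the two Jacobian criteria
  have hmaxC : maximalIdeal C ≤ RingHom.ker (algebraMap C κ) := by
    intro x hx
    rw [RingHom.mem_ker]
    exact (IsLocalRing.residue_eq_zero_iff x).mpr hx
  have hmaxB : maximalIdeal B ≤ RingHom.ker (algebraMap B κ) := by
    intro x hx
    rw [RingHom.mem_ker]
    rw [IsScalarTower.algebraMap_apply B C κ]
    refine (IsLocalRing.residue_eq_zero_iff _).mpr ?_
    rw [IsLocalRing.mem_maximalIdeal, mem_nonunits_iff] at hx ⊢
    exact fun h => hx (isUnit_of_map_unit (algebraMap B C) x h)
  have hC := (Algebra.FormallySmooth.iff_injective_cotangentComplexBaseChange (R := R) (S := C)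
    P κ hPC hKFG hmaxC).mp inferInstance
  rw [Algebra.FormallySmooth.iff_injective_cotangentComplexBaseChange (R := R) (S := B)
    P κ h₁ h₂ hmaxB]
  -- comparison map
  let ι : J →ₗ[P] K := Submodule.inclusion hJK
  have hcomp : ∀ x : κ ⊗[P] J, cotangentComplexBaseChange R B P κ x =
      cotangentComplexBaseChange R C P κ (LinearMap.lTensor κ ι x) := by
    intro x
    induction x using TensorProduct.induction_on with
    | zero => simp
    | tmul c j => rfl
    | add x y hx hy => rw [map_add, map_add, map_add, hx, hy]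
  have hιinj : Function.Injective (LinearMap.lTensor κ ι) := by
    rw [injective_iff_map_eq_zero]
    intro x hx
    obtain ⟨j, rfl⟩ := exists_one_tmul hκ J x
    rw [LinearMap.lTensor_tmul, one_tmul_eq_zero_iff hκ, mem_smul_top_ideal_iff] at hx
    rw [one_tmul_eq_zero_iff hκ, mem_smul_top_ideal_iff]
    have hx' : (j : P) ∈ 𝔫 * (RingHom.ker (algebraMap P B) ⊔ Ideal.span (Set.range a)) := by
      rw [← hKJ]; exact hx
    exact mem_mul_ker_of_h1 (algebraMap P B) h₁ b hb a ha 𝔫 ha𝔫 (j : P) j.2 hx'
  intro x y hxy
  rw [hcomp, hcomp] at hxy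
  exact hιinj (hC hxy)

end Core

section Loc

/-- **Regular quotient, essentially finitely presented form.** `A` finitely presented over `R`,
`B = M⁻¹A` local, `C` a quotient of `B` by an `H_1`-regular sequence; if `C` is formally smooth over `R`
then so is `B`. -/
theorem formallySmooth_of_isLocalization_h1Regular
    {R A B C : Type u} [CommRing R] [CommRing A] [CommRing B] [CommRing C]
    [Algebra R A] [Algebra A B] [Algebra R B] [IsScalarTower R A B] [Algebra B C] [Algebra R C]
    [IsScalarTower R B C] [Algebra.FinitePresentation R A] (M : Submonoid A) [IsLocalization M B]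
    [IsLocalRing B] [Nontrivial C] (h₃ : Function.Surjective (algebraMap B C))
    {n : ℕ} (b : Fin n → B) (hb : CAlgX.IsH1Regular b)
    (hgen : RingHom.ker (algebraMap B C) = Ideal.span (Set.range b))
    [Algebra.FormallySmooth R C] : Algebra.FormallySmooth R B := by
  obtain ⟨m, f₀, hf₀⟩ := Algebra.FiniteType.iff_quotient_mvPolynomial''.mp
    (inferInstance : Algebra.FiniteType R A)
  let M' := M.comap f₀
  let P' := Localization M'
  let fP : P' →ₐ[R] B := IsLocalization.liftAlgHom (M := M')
      (f := (IsScalarTower.toAlgHom R A B).comp f₀) fun x ↦ by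
    simpa using IsLocalization.map_units (M := M) _ ⟨f₀ x.1, x.2⟩
  have hf₁ : Function.Surjective fP := by
    intro x
    obtain ⟨x, ⟨s, hs⟩, rfl⟩ := IsLocalization.exists_mk'_eq M x
    obtain ⟨x, rfl⟩ := hf₀ x
    obtain ⟨s, rfl⟩ := hf₀ s
    refine ⟨IsLocalization.mk' (M := M') _ x ⟨s, hs⟩, ?_⟩
    simp [fP, IsLocalization.lift_mk', Units.mul_inv_eq_iff_eq_mul, IsUnit.liftRight]
  have hfP : (RingHom.ker fP).FG := by
    have := Algebra.FinitePresentation.ker_fG_of_surjective _ hf₀
    convert this.map (algebraMap _ P')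
    refine le_antisymm ?_ (Ideal.map_le_iff_le_comap.mpr fun x hx ↦ by simp_all [fP])
    intro x hx
    obtain ⟨x, s, rfl⟩ := IsLocalization.exists_mk'_eq M' x
    obtain ⟨a, ha, e⟩ : ∃ a ∈ M, a * f₀ x = 0 := by
      simpa [fP, IsLocalization.lift_mk', IsLocalization.map_eq_zero_iff M] using hx
    obtain ⟨a, rfl⟩ := hf₀ a
    rw [IsLocalization.mk'_mem_map_algebraMap_iff]
    exact ⟨a, ha, by simpa⟩
  algebraize [fP.toRingHom]
  have : Algebra.FormallyEtale (MvPolynomial (Fin m) R) P' := .of_isLocalization M'
  have : Algebra.FormallySmooth R P' := .comp _ (MvPolynomial (Fin m) R) _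
  have : Module.Free P' Ω[P'⁄R] :=
    .of_equiv (KaehlerDifferential.tensorKaehlerEquivOfFormallyEtale R (MvPolynomial (Fin m) R) P')
  have : Module.Finite P' Ω[P'⁄R] :=
    .of_surjective (KaehlerDifferential.tensorKaehlerEquivOfFormallyEtale R
      (MvPolynomial (Fin m) R) P').toLinearMap
      (KaehlerDifferential.tensorKaehlerEquivOfFormallyEtale R
      (MvPolynomial (Fin m) R) P').surjective
  letI : Algebra P' C := ((algebraMap B C).comp (algebraMap P' B)).toAlgebra
  haveI : IsScalarTower P' B C := IsScalarTower.of_algebraMap_eq fun _ => rfl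
  haveI : IsScalarTower R P' B := IsScalarTower.of_algebraMap_eq fun r => (fP.commutes r).symm
  haveI : IsScalarTower R P' C := by
    refine IsScalarTower.of_algebraMap_eq (R := R) (S := P') (A := C) (fun r => ?_)
    change algebraMap R C r = algebraMap B C (algebraMap P' B (algebraMap R P' r))
    rw [← IsScalarTower.algebraMap_apply R P' B, ← IsScalarTower.algebraMap_apply R B C]
  exact formallySmooth_of_h1Regular (R := R) (P := P') hf₁ hfP h₃ b hb hgen

end Loc

section Chart

/-- **Regular quotient, chart form.** `A` finitely presented over `R`, `A → A'` surjective, `q'` a prime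
of `A'` over the prime `q` of `A`, the kernel of `A_q → A'_{q'}` generated by an `H_1`-regular sequence
`b`. If `A'` is smooth over `R` at `q'` then `A` is smooth over `R` at `q`. -/
theorem isSmoothAt_of_h1Regular {R A A' : Type u} [CommRing R] [CommRing A] [CommRing A']
    [Algebra R A] [Algebra A A'] [Algebra R A'] [IsScalarTower R A A']
    [Algebra.FinitePresentation R A] (hs : Function.Surjective (algebraMap A A'))
    (q : Ideal A) [q.IsPrime] (q' : Ideal A') [q'.IsPrime] [q'.LiesOver q]
    {n : ℕ} (b : Fin n → Localization.AtPrime q) (hb : CAlgX.IsH1Regular b)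
    (hgen : (RingHom.ker (algebraMap A A')).map (algebraMap A (Localization.AtPrime q)) =
      Ideal.span (Set.range b))
    [Algebra.IsSmoothAt R q'] : Algebra.IsSmoothAt R q := by
  letI := Localization.AtPrime.algebraOfLiesOver q q'
  have hq : q = q'.comap (algebraMap A A') := Ideal.LiesOver.over
  have hT : Submonoid.map (algebraMap A A') q.primeCompl = q'.primeCompl := by
    ext x
    constructor
    · rintro ⟨a, ha, rfl⟩
      intro h
      apply ha
      rw [hq]
      exact h
    · intro hx
      obtain ⟨a, rfl⟩ := hs x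
      refine ⟨a, ?_, rfl⟩
      intro h
      apply hx
      rw [hq] at h
      exact h
  haveI : IsLocalization (Submonoid.map (algebraMap A A') q.primeCompl)
      (Localization.AtPrime q') := by
    rw [hT]
    infer_instance
  have hmap : algebraMap (Localization.AtPrime q) (Localization.AtPrime q') =
      IsLocalization.map (Localization.AtPrime q') (algebraMap A A')
        (hT.symm ▸ q.primeCompl.le_comap_map) := rfl
  have h₃ : Function.Surjective (algebraMap (Localization.AtPrime q) (Localization.AtPrime q')) := by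
    rw [hmap]
    exact IsLocalization.map_surjective_of_surjective q.primeCompl (Localization.AtPrime q) _ hs
  have hk : RingHom.ker (algebraMap (Localization.AtPrime q) (Localization.AtPrime q')) =
      Ideal.span (Set.range b) := by
    rw [hmap, IsLocalization.ker_map (S := Localization.AtPrime q) (Localization.AtPrime q')
      (algebraMap A A') hT, hgen]
  exact formallySmooth_of_isLocalization_h1Regular (R := R) (A := A) q.primeCompl h₃ b hb hk

end Chart

end Groth.Agent.Lib.helper17.SmoothRegAlg
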