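import Mathlib
import Groth.Prelude.Def_CAlgX
import Groth.Agent.Lib.Helper17.RegSmooth
import Groth.Agent.Lib.Helper19.CohenK4
import Groth.Agent.Lib.Helper17.LciFibre
import Groth.Agent.Lib.Helper17.TransReg1
import Groth.Agent.Lib.Helper28.RegBlowUp2

/-!
# helper17: smooth pairs are regular immersions (local algebra)

* `isRegularLocalRing_fibre`: the closed fibre `B/𝔪_A B` of a formally smooth local homomorphism of
  Noetherian local rings is regular.
* `exists_isRegular_of_formallySmooth`: `A → B → C` local, Noetherian, `B → C` surjective, `B`, `C` flat and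
  formally smooth over `A` ⇒ `ker (B → C)` is generated by a regular sequence.
-/

set_option autoImplicit false
set_option linter.style.haveILetI false
universe u
open TensorProduct IsLocalRing

namespace Groth.Agent.Lib.helper17.SmoothRegFib

section Fibre

variable (A B : Type u) [CommRing A] [CommRing B] [IsLocalRing A] [IsLocalRing B]
  [Algebra A B] [IsLocalHom (algebraMap A B)]

theorem map_maximalIdeal_le : (maximalIdeal A).map (algebraMap A B) ≤ maximalIdeal B :=
  ((local_hom_TFAE (algebraMap A B)).out 0 2 rfl rfl).mp inferInstance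

instance nontrivial_fibre : Nontrivial (B ⧸ (maximalIdeal A).map (algebraMap A B)) := by
  rw [Ideal.Quotient.nontrivial_iff]
  exact ((map_maximalIdeal_le A B).trans_lt
    (inferInstance : (maximalIdeal B).IsMaximal).lt_top).ne

instance isLocalRing_fibre : IsLocalRing (B ⧸ (maximalIdeal A).map (algebraMap A B)) :=
  IsLocalRing.of_surjective' (Ideal.Quotient.mk _) Ideal.Quotient.mk_surjective

/-- the closed fibre of a formally smooth local homomorphism of Noetherian local rings is a regular
local ring. -/
theorem isRegularLocalRing_fibre [IsNoetherianRing B] [Algebra.FormallySmooth A B] :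
    IsRegularLocalRing (B ⧸ (maximalIdeal A).map (algebraMap A B)) := by
  letI : Field (A ⧸ maximalIdeal A) := Ideal.Quotient.field (maximalIdeal A)
  let e := Algebra.TensorProduct.quotIdealMapEquivQuotTensor B (maximalIdeal A)
  haveI : Algebra.FormallySmooth (A ⧸ maximalIdeal A)
      (B ⧸ (maximalIdeal A).map (algebraMap A B)) := .of_equiv e.symm
  exact Groth.Agent.Lib.helper19.CohenK.isRegularLocalRing_of_isAdicFormallySmooth_field
    (A ⧸ maximalIdeal A) (B ⧸ (maximalIdeal A).map (algebraMap A B))
    (Groth.Agent.Lib.helper17.RegSmooth.isAdicFormallySmooth_of_formallySmooth _ _ _)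

end Fibre

section Main

variable {A B C : Type u} [CommRing A] [CommRing B] [CommRing C] [IsLocalRing A]
  [IsNoetherianRing A] [IsLocalRing B] [IsNoetherianRing B] [Algebra A B]
  [IsLocalHom (algebraMap A B)] [Algebra B C] [Algebra A C] [IsScalarTower A B C] [Nontrivial C]

open RingTheory.Sequence in
/-- **Smooth pairs are regular immersions (local form).** `A → B → C` local homomorphisms of
Noetherian local rings, `B → C` surjective, `B` and `C` flat and formally smooth over `A`: the kernel
of `B → C` is generated by a regular sequence. -/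
theorem exists_isRegular_of_formallySmooth (hs : Function.Surjective (algebraMap B C))
    [Module.Flat A B] [Module.Flat A C] [Algebra.FormallySmooth A B] [Algebra.FormallySmooth A C] :
    ∃ rs : List B, IsRegular B rs ∧ Ideal.ofList rs = RingHom.ker (algebraMap B C) := by
  haveI : IsLocalHom (algebraMap B C) := IsLocalHom.of_surjective _ hs
  haveI : IsLocalRing C := IsLocalRing.of_surjective (algebraMap B C) hs
  haveI : IsNoetherianRing C := isNoetherianRing_of_surjective B C (algebraMap B C) hs
  haveI : IsLocalHom (algebraMap A C) := by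
    rw [IsScalarTower.algebraMap_eq A B C]
    infer_instance
  set 𝔪 := maximalIdeal A with h𝔪
  set J := RingHom.ker (algebraMap B C) with hJ
  have hJtop : J ≠ ⊤ := RingHom.ker_ne_top _
  have hJmax : J ≤ maximalIdeal B := IsLocalRing.le_maximalIdeal hJtop
  let π := Ideal.Quotient.mk (𝔪.map (algebraMap A B))
  have hπ : Function.Surjective π := Ideal.Quotient.mk_surjective
  -- the fibres are regular
  haveI hregB := isRegularLocalRing_fibre A B
  haveI hregC := isRegularLocalRing_fibre A C
  -- identify `B̄ / J̄` with `C̄`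
  have hmapC : 𝔪.map (algebraMap A C) = (𝔪.map (algebraMap A B)).map (algebraMap B C) := by
    rw [Ideal.map_map, ← IsScalarTower.algebraMap_eq]
  let φ : (B ⧸ 𝔪.map (algebraMap A B)) →+* (C ⧸ 𝔪.map (algebraMap A C)) :=
    Ideal.Quotient.lift _ ((Ideal.Quotient.mk _).comp (algebraMap B C)) (by
      intro x hx
      rw [RingHom.comp_apply, Ideal.Quotient.eq_zero_iff_mem, hmapC]
      exact Ideal.mem_map_of_mem _ hx)
  have hφs : Function.Surjective φ := by
    intro z
    obtain ⟨c, rfl⟩ := Ideal.Quotient.mk_surjective z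
    obtain ⟨x, rfl⟩ := hs c
    exact ⟨π x, rfl⟩
  have hφk : RingHom.ker φ = J.map π := by
    ext z
    obtain ⟨x, rfl⟩ := hπ z
    rw [RingHom.mem_ker]
    change Ideal.Quotient.mk _ (algebraMap B C x) = 0 ↔ _
    rw [Ideal.Quotient.eq_zero_iff_mem, hmapC, ← Ideal.mem_comap,
      Ideal.comap_map_of_surjective _ hs, ← RingHom.ker_eq_comap_bot]
    rw [← Ideal.mem_comap (f := π), Ideal.comap_map_of_surjective _ hπ,
      ← RingHom.ker_eq_comap_bot, Ideal.mk_ker, sup_comm]
  haveI : IsRegularLocalRing ((B ⧸ 𝔪.map (algebraMap A B)) ⧸ J.map π) :=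
    IsRegularLocalRing.of_ringEquiv
      ((Ideal.quotEquivOfEq hφk).symm.trans (RingHom.quotientKerEquivOfSurjective hφs)).symm
  obtain ⟨rsb, hrsb, hJb⟩ :=
    Groth.Agent.Lib.helper28.RegBlowUp.exists_isWeaklyRegular_of_regular_quotient
      (B ⧸ 𝔪.map (algebraMap A B)) (J.map π)
  -- lift the generators into `J`
  have hlift : ∀ z ∈ J.map π, ∃ x ∈ J, π x = z := by
    intro z hz
    exact (Ideal.mem_map_iff_of_surjective π hπ).mp hz
  have hlist : ∃ rs : List B, (∀ r ∈ rs, r ∈ J) ∧ rs.map π = rsb := by
    have : ∀ l : List (B ⧸ 𝔪.map (algebraMap A B)), (∀ z ∈ l, z ∈ J.map π) →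
        ∃ rs : List B, (∀ r ∈ rs, r ∈ J) ∧ rs.map π = l := by
      intro l
      induction l with
      | nil => exact fun _ => ⟨[], by simp, rfl⟩
      | cons z l ih =>
        intro h
        obtain ⟨rs, h1, h2⟩ := ih (fun w hw => h w (List.mem_cons_of_mem _ hw))
        obtain ⟨x, hx, hxz⟩ := hlift z (h z List.mem_cons_self)
        refine ⟨x :: rs, ?_, by rw [List.map_cons, hxz, h2]⟩
        intro r hr
        rcases List.mem_cons.mp hr with rfl | hr
        · exact hx
        · exact h1 r hr
    apply this
    intro z hz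
    rw [hJb]
    exact Ideal.subset_span hz
  obtain ⟨rs, hrsJ, hrsmap⟩ := hlist
  -- weak regularity on `B` from the fibre
  have hw1 : IsWeaklyRegular (B ⧸ 𝔪.map (algebraMap A B)) rs := by
    have := (isWeaklyRegular_map_algebraMap_iff (R := B) (S := B ⧸ 𝔪.map (algebraMap A B))
      (M := B ⧸ 𝔪.map (algebraMap A B)) rs).mp
    apply this
    change IsWeaklyRegular _ (rs.map π)
    rw [hrsmap]
    exact hrsb
  have hw2 : IsWeaklyRegular (B ⊗[A] (A ⧸ maximalIdeal A)) rs :=
    ((Algebra.TensorProduct.quotIdealMapEquivTensorQuot B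
      (maximalIdeal A)).toLinearEquiv.isWeaklyRegular_congr rs).mp hw1
  obtain ⟨hw, -⟩ := Groth.Agent.Lib.helper17.TransReg.isWeaklyRegular_of_fibre A B rs B hw2
  -- generation
  have hle : Ideal.ofList rs ≤ J := Ideal.span_le.mpr hrsJ
  have hge : J ≤ Ideal.ofList rs := by
    haveI : Module.Flat A (B ⧸ J) :=
      Module.Flat.of_linearEquiv
        ((Ideal.quotientKerAlgEquivOfSurjective (f := IsScalarTower.toAlgHom A B C)
          hs).toLinearEquiv)
    have h1 : J ≤ Ideal.ofList rs ⊔ maximalIdeal B • J := by
      intro x hx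
      have hx1 : π x ∈ (Ideal.ofList rs).map π := by
        rw [Ideal.map_ofList, hrsmap, ← hJb]
        exact Ideal.mem_map_of_mem _ hx
      rw [← Ideal.mem_comap, Ideal.comap_map_of_surjective _ hπ, ← RingHom.ker_eq_comap_bot,
        Ideal.mk_ker] at hx1
      obtain ⟨r, hr, m, hm, rfl⟩ := Submodule.mem_sup.mp hx1
      have hmJ : m ∈ J := by
        have := J.sub_mem hx (hle hr)
        rwa [add_sub_cancel_left] at this
      have hm2 := Groth.Agent.Lib.helper17.LciFibre.mem_mul_of_flat (A := A) J 𝔪 hmJ hm
      refine Submodule.add_mem_sup hr ?_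
      rw [smul_eq_mul]
      exact Ideal.mul_mono_left (map_maximalIdeal_le A B) hm2
    exact Submodule.le_of_le_smul_of_le_jacobson_bot (IsNoetherian.noetherian J)
      (IsLocalRing.maximalIdeal_le_jacobson _) h1
  have heq : Ideal.ofList rs = J := le_antisymm hle hge
  exact ⟨rs, IsRegular.of_isWeaklyRegular_of_mem_maximalIdeal B (fun r hr => hJmax (hrsJ r hr)) hw,
    heq⟩

end Main

end Groth.Agent.Lib.helper17.SmoothRegFib
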