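import Mathlib
import Groth.Prelude.Def_CAlgX
import Groth.Agent.Lib.Helper17.SmoothRegAlg
import Groth.Agent.Lib.Helper17.RegNear
import Groth.Agent.Lib.Helper17.H1Reg
import Groth.Agent.Lib.Helper11.KoszulReg

/-!
# helper17: a scheme containing a smooth closed subscheme regularly immersed is smooth there

* `mem_smoothLocus_of_chart`: chart form (`H_1`-regular generators of the ideal in the local ring).
* `mem_smoothLocus_of_regular_stalk`: `f : X ⟶ S`, `j : Y ⟶ X` closed immersion, both locally of finite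
  presentation over `S`, `y ∈ (j ≫ f).smoothLocus`, kernel of `O_{X,j y} → O_{Y,y}` generated by a weakly
  regular sequence ⇒ `j y ∈ f.smoothLocus`. No Noetherian hypotheses (Jacobian criterion).
-/

set_option autoImplicit false
set_option linter.style.haveILetI false
universe u
open CategoryTheory AlgebraicGeometry

namespace Groth.Agent.Lib.helper17.SmoothRegSch

open Groth.Agent.Lib.helper17.SmoothRegAlg

/-- weakly regular sequences are `H_1`-regular (wrapper around helper11's `H1Z_of_isWeaklyRegular`,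
same as helper28's `RegBlowUp.isH1Regular_of_isWeaklyRegular`). -/
theorem isH1Regular_of_isWeaklyRegular {A : Type u} [CommRing A] {n : ℕ} (f : Fin n → A)
    (h : RingTheory.Sequence.IsWeaklyRegular A (List.ofFn f)) : CAlgX.IsH1Regular f := by
  have h1 := Groth.Agent.Lib.helper11.KoszulH1.H1Z_of_isWeaklyRegular (M := A) n f h
  intro a ha
  have h2 : a ∈ Groth.Agent.Lib.helper11.KoszulH1.Triv f A := by
    apply h1
    rw [← ha]
    exact Finset.sum_congr rfl (fun i _ => by rw [smul_eq_mul, mul_comm])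
  refine (Submodule.span_le.mpr ?_) h2
  rintro _ ⟨i, j, x, rfl⟩
  have e : f j • (Pi.single i x : Fin n → A) - f i • (Pi.single j x : Fin n → A) =
      x • (Pi.single i (f j) - Pi.single j (f i) : Fin n → A) := by
    ext k
    simp only [Pi.sub_apply, Pi.smul_apply, Pi.single_apply, smul_eq_mul]
    split_ifs <;> ring
  rw [e]
  exact Submodule.smul_mem _ _ (Submodule.subset_span ⟨i, j, rfl⟩)

/-- **Chart criterion.** `j : Y ⟶ X` a closed immersion of `S`-schemes locally of finite presentation,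
`Y` smooth over `S` at `y`, and on an affine chart `U ∋ j y` (over an affine `W ⊆ S`) the ideal of `Y`
generated in the local ring at `j y` by an `H_1`-regular sequence: then `X` is smooth over `S`
at `j y`. -/
theorem mem_smoothLocus_of_chart {X Y S : Scheme.{u}} (f : X ⟶ S) [LocallyOfFinitePresentation f]
    (j : Y ⟶ X) [IsClosedImmersion j] [LocallyOfFinitePresentation (j ≫ f)] (y : Y)
    (hy : y ∈ (j ≫ f).smoothLocus)
    (W : S.Opens) (hW : IsAffineOpen W) (U : X.Opens) (hU : IsAffineOpen U) (hUW : U ≤ f ⁻¹ᵁ W)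
    (hyU : j y ∈ U) {n : ℕ}
    (b : Fin n → Localization.AtPrime (hU.primeIdealOf ⟨j y, hyU⟩).asIdeal)
    (hb : CAlgX.IsH1Regular b)
    (hgen : (RingHom.ker (j.app U).hom).map (algebraMap Γ(X, U)
      (Localization.AtPrime (hU.primeIdealOf ⟨j y, hyU⟩).asIdeal)) = Ideal.span (Set.range b)) :
    j y ∈ f.smoothLocus := by
  have hV : IsAffineOpen (j ⁻¹ᵁ U) := hU.preimage j
  have hyV : y ∈ j ⁻¹ᵁ U := hyU
  have hVW : j ⁻¹ᵁ U ≤ (j ≫ f) ⁻¹ᵁ W := fun z hz => hUW hz
  letI algRA := (f.appLE W U hUW).hom.toAlgebra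
  letI algAA' := (j.app U).hom.toAlgebra
  letI algRA' := ((j ≫ f).appLE W (j ⁻¹ᵁ U) hVW).hom.toAlgebra
  haveI : IsScalarTower Γ(S, W) Γ(X, U) Γ(Y, j ⁻¹ᵁ U) := by
    refine IsScalarTower.of_algebraMap_eq' ?_
    change ((j ≫ f).appLE W (j ⁻¹ᵁ U) hVW).hom = (j.app U).hom.comp (f.appLE W U hUW).hom
    rw [← CommRingCat.hom_comp, ← Scheme.Hom.appLE_eq_app, Scheme.Hom.appLE_comp_appLE]
  haveI : Algebra.FinitePresentation Γ(S, W) Γ(X, U) := f.finitePresentation_appLE hW hU hUW
  have hs : Function.Surjective (algebraMap Γ(X, U) Γ(Y, j ⁻¹ᵁ U)) := j.app_surjective U hU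
  set q := (hU.primeIdealOf ⟨j y, hyU⟩).asIdeal with hq
  set q' := (hV.primeIdealOf ⟨y, hyV⟩).asIdeal with hq'
  haveI : q'.LiesOver q := by
    constructor
    have h := IsAffineOpen.comap_primeIdealOf_appLE (f := j) U hU (j ⁻¹ᵁ U) hV le_rfl hyV
    rw [Scheme.Hom.appLE_eq_app] at h
    exact (congrArg PrimeSpectrum.asIdeal h).symm
  haveI : Algebra.IsSmoothAt Γ(S, W) q' :=
    (formallySmooth_stalkMap_iff W hW (j ⁻¹ᵁ U) hV hVW hyV).mp hy
  rw [Scheme.Hom.mem_smoothLocus, formallySmooth_stalkMap_iff W hW U hU hUW hyU]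
  exact isSmoothAt_of_h1Regular (R := Γ(S, W)) hs q q' b hb hgen

open RingTheory.Sequence in
/-- **Smoothness from a regular immersion into it.** `j : Y ⟶ X` a closed immersion of `S`-schemes
locally of finite presentation, `Y` smooth over `S` at `y`, and the kernel of `O_{X,j y} → O_{Y,y}`
generated by a (weakly) regular sequence: then `X` is smooth over `S` at `j y`.
No Noetherian hypotheses. -/
theorem mem_smoothLocus_of_regular_stalk {X Y S : Scheme.{u}} (f : X ⟶ S)
    [LocallyOfFinitePresentation f] (j : Y ⟶ X) [IsClosedImmersion j]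
    [LocallyOfFinitePresentation (j ≫ f)] (y : Y) (hy : y ∈ (j ≫ f).smoothLocus)
    (rs : List ↑(X.presheaf.stalk (j y))) (hrs : IsWeaklyRegular ↑(X.presheaf.stalk (j y)) rs)
    (hker : RingHom.ker (j.stalkMap y).hom = Ideal.ofList rs) : j y ∈ f.smoothLocus := by
  obtain ⟨W, hW, hzW, -⟩ :=
    exists_isAffineOpen_mem_and_subset (X := S) (x := f (j y)) (U := ⊤) trivial
  obtain ⟨U, hU, hyU, hUW⟩ :=
    exists_isAffineOpen_mem_and_subset (X := X) (x := j y) (U := f ⁻¹ᵁ W) hzW
  have hk := Groth.Agent.Lib.helper17.RegNear.ker_stalkMap_eq_map j y U hU hyU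
  letI := X.presheaf.algebra_section_stalk (⟨j y, hyU⟩ : U)
  haveI ip : IsLocalization.AtPrime (X.presheaf.stalk (j y))
      (hU.primeIdealOf ⟨j y, hyU⟩).asIdeal := hU.isLocalization_stalk ⟨j y, hyU⟩
  set q := (hU.primeIdealOf ⟨j y, hyU⟩).asIdeal with hq
  let e : ↑(X.presheaf.stalk (j y)) ≃ₐ[Γ(X, U)] Localization.AtPrime q :=
    IsLocalization.algEquiv q.primeCompl _ _
  let b : Fin rs.length → Localization.AtPrime q := fun i => e (rs.get i)
  have hofn : List.ofFn b = rs.map e.toRingEquiv := by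
    have h1 : b = (e.toRingEquiv : _ → _) ∘ rs.get := rfl
    rw [h1, ← List.map_ofFn, List.ofFn_get]
  have hb : CAlgX.IsH1Regular b := by
    apply isH1Regular_of_isWeaklyRegular
    rw [hofn]
    exact (Groth.Agent.Lib.helper17.RegNear.isWeaklyRegular_map_ringEquiv e.toRingEquiv rs).mp hrs
  refine mem_smoothLocus_of_chart f j y hy W hW U hU hUW hyU b hb ?_
  have h1 : (algebraMap Γ(X, U) (Localization.AtPrime q)) =
      (e.toRingEquiv : ↑(X.presheaf.stalk (j y)) →+* Localization.AtPrime q).comp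
        (algebraMap Γ(X, U) (X.presheaf.stalk (j y))) := by
    ext a
    exact (e.commutes a).symm
  rw [h1, ← Ideal.map_map, hk, hker, Ideal.map_ofList,
    ← Groth.Agent.Lib.helper17.H1Reg.ofList_ofFn, hofn]
  rfl

end Groth.Agent.Lib.helper17.SmoothRegSch
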