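import Mathlib
import Groth.Prelude.Def_CInt
import Groth.Agent.Lib.Helper17.SmoothRegFib

/-!
# helper17: a smooth closed subscheme of a smooth scheme is regularly immersed

* `flat_stalkMap_of_mem_smoothLocus`: stalk maps at points of the smooth locus are flat.
* `exists_isRegular_ker_stalkMap`: `S` locally Noetherian, `f : X ⟶ S` locally of finite type/presentation,
  `j : Y ⟶ X` closed immersion, `Y` smooth over `S` at `y`, `X` smooth over `S` at `j y` ⇒ the kernel of
  `O_{X,j y} → O_{Y,y}` is generated by a regular sequence (EGA IV 17.12.1 a ⇒ c).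
-/

set_option autoImplicit false
set_option linter.style.haveILetI false
universe u
open CategoryTheory AlgebraicGeometry

namespace Groth.Agent.Lib.helper17.SmoothRegSch2

/-- the stalk map at a point of the smooth locus is flat -/
theorem flat_stalkMap_of_mem_smoothLocus {X S : Scheme.{u}} (f : X ⟶ S)
    [LocallyOfFinitePresentation f] (x : X) (hx : x ∈ f.smoothLocus) :
    (f.stalkMap x).hom.Flat := by
  set U := f.smoothLocus with hU
  haveI : Smooth (U.ι ≫ f) := by
    rw [← Scheme.Hom.smoothLocus_eq_top_iff, ← Scheme.Hom.preimage_smoothLocus_eq]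
    exact Scheme.Opens.ι_preimage_self _
  have h1 : ((U.ι ≫ f).stalkMap ⟨x, hx⟩).hom.Flat := Flat.stalkMap _ _
  rw [Scheme.Hom.stalkMap_comp] at h1
  exact (RingHom.Flat.respectsIso.cancel_right_isIso _ (U.ι.stalkMap ⟨x, hx⟩)).mp h1

open RingTheory.Sequence in
/-- **A smooth closed subscheme of a smooth scheme is regularly immersed** (locally Noetherian base):
`f : X ⟶ S`, `j : Y ⟶ X` a closed immersion, `y` a point with `X` smooth over `S` at `j y` and `Y`
smooth over `S` at `y`. Then the kernel of `O_{X,j y} → O_{Y,y}` is generated by a regular sequence. -/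
theorem exists_isRegular_ker_stalkMap {X Y S : Scheme.{u}} [IsLocallyNoetherian S] (f : X ⟶ S)
    [LocallyOfFiniteType f] [LocallyOfFinitePresentation f] (j : Y ⟶ X) [IsClosedImmersion j]
    [LocallyOfFinitePresentation (j ≫ f)] (y : Y) (hy : y ∈ (j ≫ f).smoothLocus)
    (hx : j y ∈ f.smoothLocus) :
    ∃ rs : List ↑(X.presheaf.stalk (j y)), IsRegular ↑(X.presheaf.stalk (j y)) rs ∧
      Ideal.ofList rs = RingHom.ker (j.stalkMap y).hom := by
  haveI : IsLocallyNoetherian X := LocallyOfFiniteType.isLocallyNoetherian f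
  letI algAB : Algebra ↑(S.presheaf.stalk (f (j y))) ↑(X.presheaf.stalk (j y)) :=
    (f.stalkMap (j y)).hom.toAlgebra
  letI algBC : Algebra ↑(X.presheaf.stalk (j y)) ↑(Y.presheaf.stalk y) := (j.stalkMap y).hom.toAlgebra
  letI algAC : Algebra ↑(S.presheaf.stalk (f (j y))) ↑(Y.presheaf.stalk y) :=
    ((j.stalkMap y).hom.comp (f.stalkMap (j y)).hom).toAlgebra
  haveI : IsScalarTower ↑(S.presheaf.stalk (f (j y))) ↑(X.presheaf.stalk (j y))
      ↑(Y.presheaf.stalk y) := IsScalarTower.of_algebraMap_eq fun _ => rfl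
  haveI : IsLocalHom (algebraMap ↑(S.presheaf.stalk (f (j y))) ↑(X.presheaf.stalk (j y))) :=
    inferInstanceAs (IsLocalHom (f.stalkMap (j y)).hom)
  have hs : Function.Surjective (algebraMap ↑(X.presheaf.stalk (j y)) ↑(Y.presheaf.stalk y)) :=
    j.stalkMap_surjective y
  haveI : Module.Flat ↑(S.presheaf.stalk (f (j y))) ↑(X.presheaf.stalk (j y)) :=
    flat_stalkMap_of_mem_smoothLocus f (j y) hx
  haveI : Algebra.FormallySmooth ↑(S.presheaf.stalk (f (j y))) ↑(X.presheaf.stalk (j y)) := hx
  have hy1 : ((j ≫ f).stalkMap y).hom.FormallySmooth := hy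
  have hy2 : ((j ≫ f).stalkMap y).hom.Flat := flat_stalkMap_of_mem_smoothLocus (j ≫ f) y hy
  rw [Scheme.Hom.stalkMap_comp] at hy1 hy2
  haveI : Module.Flat ↑(S.presheaf.stalk (f (j y))) ↑(Y.presheaf.stalk y) := hy2
  haveI : Algebra.FormallySmooth ↑(S.presheaf.stalk (f (j y))) ↑(Y.presheaf.stalk y) := hy1
  exact Groth.Agent.Lib.helper17.SmoothRegFib.exists_isRegular_of_formallySmooth
    (A := ↑(S.presheaf.stalk (f (j y)))) hs

end Groth.Agent.Lib.helper17.SmoothRegSch2
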