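import Mathlib

/-!
# helper17: ring properties of stalks pass to generizations; a Krull-intersection reducedness lemma

* `atPrime_of_le`: iso-invariant `P` stable under localization at primes passes from `R_p` to `R_q`
  for `q ≤ p`.
* `stalk_of_specializes`: hence from `O_{X,x₀}` to `O_{X,x}` for `x ⤳ x₀`.
* `isReduced_of_regular_quotient`: `B` Noetherian local, `b ∈ m_B` regular with `B/(b)` reduced ⇒
  `B` reduced.
-/

set_option autoImplicit false
set_option linter.style.haveILetI false
universe u
open CategoryTheory AlgebraicGeometry TopologicalSpace IsLocalRing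

namespace Groth.Agent.Lib.helper17.StalkGen

variable (P : ∀ (R : Type u) [CommRing R], Prop)
  (hiso : ∀ (R R' : Type u) [CommRing R] [CommRing R'], (R ≃+* R') → P R → P R')
  (hloc : ∀ (R : Type u) [CommRing R] (q : Ideal R) [q.IsPrime], P R → P (Localization.AtPrime q))

include hiso hloc in
theorem atPrime_of_le (R : Type u) [CommRing R] (p q : Ideal R) [p.IsPrime]
    [q.IsPrime] (hqp : q ≤ p) (h : P (Localization.AtPrime p)) :
    P (Localization.AtPrime q) := by
  have hdisj : Disjoint (p.primeCompl : Set R) (q : Set R) := by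
    rw [Set.disjoint_left]
    intro a ha hq
    exact ha (hqp hq)
  let q' : Ideal (Localization.AtPrime p) := q.map (algebraMap R (Localization.AtPrime p))
  haveI hq' : q'.IsPrime :=
    IsLocalization.isPrime_of_isPrime_disjoint _ (Localization.AtPrime p) q inferInstance hdisj
  have hq'c : q'.comap (algebraMap R (Localization.AtPrime p)) = q :=
    IsLocalization.under_map_of_isPrime_disjoint _ (Localization.AtPrime p) inferInstance hdisj
  haveI h1 : IsLocalization.AtPrime (Localization.AtPrime q')
      (q'.comap (algebraMap R (Localization.AtPrime p))) :=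
    IsLocalization.isLocalization_isLocalization_atPrime_isLocalization p.primeCompl
      (Localization.AtPrime q') q'
  have hreg : P (Localization.AtPrime q') := hloc _ q' h
  have aux : ∀ (q₀ : Ideal R) [q₀.IsPrime], q₀ = q →
      IsLocalization.AtPrime (Localization.AtPrime q') q₀ →
      P (Localization.AtPrime q) := by
    intro q₀ _ h0 hloc'
    subst h0
    let e : Localization.AtPrime q₀ ≃ₐ[R] Localization.AtPrime q' :=
      IsLocalization.algEquiv q₀.primeCompl _ _
    exact hiso _ _ e.symm.toRingEquiv hreg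
  exact aux _ hq'c h1

include hiso hloc in
theorem stalk_of_specializes {X : Scheme.{u}} {x x0 : X} (hspec : x ⤳ x0)
    (h : P (X.presheaf.stalk x0)) : P (X.presheaf.stalk x) := by
  obtain ⟨W, hW, hx0W, -⟩ :=
    exists_isAffineOpen_mem_and_subset (X := X) (x := x0) (U := ⊤) trivial
  have hxW : x ∈ W := hspec.mem_open W.2 hx0W
  let q : Ideal Γ(X, W) := (hW.primeIdealOf ⟨x, hxW⟩).asIdeal
  let p : Ideal Γ(X, W) := (hW.primeIdealOf ⟨x0, hx0W⟩).asIdeal
  have hqp : q ≤ p := by
    change hW.primeIdealOf ⟨x, hxW⟩ ≤ hW.primeIdealOf ⟨x0, hx0W⟩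
    rw [PrimeSpectrum.le_iff_specializes]
    have hemb : Topology.IsOpenEmbedding hW.fromSpec := hW.fromSpec.isOpenEmbedding
    refine (hemb.toIsInducing.specializes_iff (x := hW.primeIdealOf ⟨x, hxW⟩)
      (y := hW.primeIdealOf ⟨x0, hx0W⟩)).mp ?_
    rw [hW.fromSpec_primeIdealOf, hW.fromSpec_primeIdealOf]
    exact hspec
  letI := X.presheaf.algebra_section_stalk (⟨x, hxW⟩ : W)
  letI := X.presheaf.algebra_section_stalk (⟨x0, hx0W⟩ : W)
  haveI iq : IsLocalization.AtPrime (X.presheaf.stalk x) q := hW.isLocalization_stalk ⟨x, hxW⟩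
  haveI ip : IsLocalization.AtPrime (X.presheaf.stalk x0) p :=
    hW.isLocalization_stalk ⟨x0, hx0W⟩
  let eq : Localization.AtPrime q ≃ₐ[Γ(X, W)] X.presheaf.stalk x :=
    IsLocalization.algEquiv q.primeCompl _ _
  let ep : Localization.AtPrime p ≃ₐ[Γ(X, W)] X.presheaf.stalk x0 :=
    IsLocalization.algEquiv p.primeCompl _ _
  have h1 : P (Localization.AtPrime p) := hiso _ _ ep.symm.toRingEquiv h
  have h2 : P (Localization.AtPrime q) := atPrime_of_le P hiso hloc Γ(X, W) p q hqp h1
  exact hiso _ _ eq.toRingEquiv h2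

/-- Reducedness of stalks passes to generizations. -/
theorem isReduced_stalk_of_specializes {X : Scheme.{u}} {x x0 : X} (hspec : x ⤳ x0)
    (h : _root_.IsReduced (X.presheaf.stalk x0)) : _root_.IsReduced (X.presheaf.stalk x) := by
  refine stalk_of_specializes (fun R _ => _root_.IsReduced R) ?_ ?_ hspec h
  · intro R R' _ _ e hR
    haveI := hR
    exact isReduced_of_injective e.symm.toRingHom e.symm.injective
  · intro R _ q _ hR
    haveI := hR
    infer_instance

/-- `B` Noetherian local, `b ∈ m_B` regular with `B/(b)` reduced ⇒ `B` reduced. -/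
theorem isReduced_of_regular_quotient (B : Type u) [CommRing B] [IsLocalRing B]
    [IsNoetherianRing B] (b : B) (hb : b ∈ maximalIdeal B) (hreg : IsSMulRegular B b)
    (hq : _root_.IsReduced (B ⧸ Ideal.span {b})) : _root_.IsReduced B := by
  have key : ∀ (x : B), IsNilpotent x → ∀ n : ℕ, ∃ y : B, x = b ^ n * y ∧ IsNilpotent y := by
    intro x hx n
    induction n with
    | zero => exact ⟨x, by simp, hx⟩
    | succ n ih =>
      obtain ⟨y, hxy, hy⟩ := ih
      have h1 : Ideal.Quotient.mk (Ideal.span {b}) y = 0 :=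
        IsReduced.eq_zero _ (hy.map _)
      rw [Ideal.Quotient.eq_zero_iff_mem, Ideal.mem_span_singleton'] at h1
      obtain ⟨y', hy'⟩ := h1
      refine ⟨y', by rw [hxy, ← hy', pow_succ]; ring, ?_⟩
      obtain ⟨k, hk⟩ := hy
      refine ⟨k, ?_⟩
      have h2 : b ^ k * y' ^ k = 0 := by rw [← mul_pow, mul_comm, hy', hk]
      have h3 : IsSMulRegular B (b ^ k) := hreg.pow k
      apply h3
      change b ^ k * y' ^ k = b ^ k * 0
      rw [h2, mul_zero]
  refine ⟨fun x hx => ?_⟩
  have hne : Ideal.span {b} ≠ (⊤ : Ideal B) := by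
    intro htop
    have : Ideal.span {b} ≤ maximalIdeal B := (Ideal.span_singleton_le_iff_mem _).mpr hb
    rw [htop] at this
    exact (IsLocalRing.maximalIdeal.isMaximal B).ne_top (top_le_iff.mp this)
  have hbot := Ideal.iInf_pow_eq_bot_of_isLocalRing (Ideal.span {b}) hne
  have hx0 : x ∈ (⨅ n, (Ideal.span {b}) ^ n : Ideal B) := by
    rw [Ideal.mem_iInf]
    intro n
    obtain ⟨y, hxy, -⟩ := key x hx n
    rw [Ideal.span_singleton_pow, Ideal.mem_span_singleton']
    exact ⟨y, by rw [hxy]; ring⟩
  rw [hbot] at hx0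
  exact hx0

end Groth.Agent.Lib.helper17.StalkGen
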