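import Mathlib
import Groth.Agent.Lib.Helper24.StrictHensProps
import Groth.Agent.Lib.Helper24.HensIndEtale
import Groth.Agent.Lib.Helper24.FlatOverIndEtale
import Groth.Agent.Lib.Helper24.HensNoeth
import Groth.Agent.Lib.Helper24.HensDim

/-!
# The canonical map `A^sh → (Â)^sh` (helper17)

For a Noetherian local ring `A` with completion `Â`: `Ψ : SH A → SH Â`, a faithfully flat local
homomorphism compatible with the structure maps and inducing the isomorphism `τ` of residue fields.
-/

set_option autoImplicit false
set_option linter.style.haveILetI false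
universe u

namespace Groth.Agent.Lib.helper17.StrictCpl

open IsLocalRing Groth.Agent.Lib.Helper24.StrictHens

variable (A : Type u) [CommRing A] [IsLocalRing A] [IsNoetherianRing A]

attribute [local irreducible] Groth.Agent.Lib.Helper24.StrictHens.instCommRingSHens

/-- the completion. -/
abbrev Ah : Type u := AdicCompletion (maximalIdeal A) A

/-- the strict henselization of the completion. -/
abbrev S' : Type u := SH (Ah A)

noncomputable instance algAS' : Algebra A (S' A) :=
  ((algebraMap (Ah A) (S' A)).comp (algebraMap A (Ah A))).toAlgebra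

instance : IsScalarTower A (Ah A) (S' A) := IsScalarTower.of_algebraMap_eq (fun _ => rfl)

instance : IsLocalHom (algebraMap A (S' A)) := by
  show IsLocalHom ((algebraMap (Ah A) (S' A)).comp (algebraMap A (Ah A)))
  exact RingHom.isLocalHom_comp _ _

instance : IsSepClosure (ResidueField (Ah A)) (ResidueField (S' A)) :=
  Hensel.IsStrictHenselization.isSepClosure

instance : IsSepClosure (ResidueField A) (ResidueField (SH A)) :=
  Hensel.IsStrictHenselization.isSepClosure

theorem isSepClosure_res : IsSepClosure (ResidueField A) (ResidueField (S' A)) := by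
  refine ⟨(inferInstance : IsSepClosure (ResidueField (Ah A)) (ResidueField (S' A))).sep_closed, ?_⟩
  have hbij := AdicCompletion.residueField_map_bijective_of_fg
    (maximalIdeal A).fg_of_isNoetherianRing
  let e : ResidueField A ≃+* ResidueField (Ah A) := RingEquiv.ofBijective _ hbij
  haveI : Algebra.IsSeparable (ResidueField (Ah A)) (ResidueField (S' A)) :=
    (inferInstance : IsSepClosure (ResidueField (Ah A)) (ResidueField (S' A))).separable
  refine Algebra.IsSeparable.of_equiv_equiv e.symm (RingEquiv.refl _) ?_
  ext y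
  obtain ⟨x, rfl⟩ := e.surjective y
  simp only [RingHom.comp_apply, RingEquiv.coe_toRingHom, RingEquiv.symm_apply_apply,
    RingEquiv.refl_apply]
  obtain ⟨a, rfl⟩ := residue_surjective x
  rfl

/-- the identification of the residue fields. -/
noncomputable def τ : ResidueField (SH A) ≃ₐ[ResidueField A] ResidueField (S' A) :=
  haveI := isSepClosure_res A
  IsSepClosure.equiv (ResidueField A) (ResidueField (SH A)) (ResidueField (S' A))

theorem exists_Ψ : ∃ Ψ : SH A →+* S' A, Ψ.comp (algebraMap A (SH A)) = algebraMap A (S' A) ∧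
    ∀ x : SH A, residue (S' A) (Ψ x) = τ A (residue (SH A) x) := by
  have h := Hensel.IsStrictHenselization.universal (R := A) (S := SH A) (S' A)
    (algebraMap A (S' A)) ((τ A : ResidueField (SH A) →+* ResidueField (S' A))) (by
      ext x
      obtain ⟨a, rfl⟩ := residue_surjective x
      have := (τ A).commutes (residue A a)
      exact this)
  obtain ⟨g, hg, -⟩ := h
  exact ⟨g, hg.1, hg.2⟩

/-- the canonical map `A^sh → (Â)^sh`. -/
noncomputable def Ψ : SH A →+* S' A := (exists_Ψ A).choose

theorem Ψ_comp : (Ψ A).comp (algebraMap A (SH A)) = algebraMap A (S' A) :=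
  (exists_Ψ A).choose_spec.1

theorem residue_Ψ (x : SH A) : residue (S' A) (Ψ A x) = τ A (residue (SH A) x) :=
  (exists_Ψ A).choose_spec.2 x

noncomputable instance algSS' : Algebra (SH A) (S' A) := (Ψ A).toAlgebra

instance : IsScalarTower A (SH A) (S' A) :=
  IsScalarTower.of_algebraMap_eq (fun a => (congrArg (fun h : A →+* S' A => h a) (Ψ_comp A)).symm)

instance isLocalHom_Ψ : IsLocalHom (algebraMap (SH A) (S' A)) := by
  refine ⟨fun x hx => ?_⟩
  have h1 : residue (S' A) (Ψ A x) ≠ 0 := by
    intro h0
    exact (IsLocalRing.residue_eq_zero_iff _).1 h0 |> fun hm =>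
      (IsLocalRing.mem_maximalIdeal _).1 hm hx
  rw [residue_Ψ] at h1
  have h2 : residue (SH A) x ≠ 0 := fun h0 => h1 (by rw [h0, map_zero])
  by_contra hnu
  exact h2 ((IsLocalRing.residue_eq_zero_iff _).2 hnu)

instance flat_Ψ : Module.Flat (SH A) (S' A) := by
  haveI : Module.Flat (Ah A) (S' A) :=
    (Groth.Agent.Lib.Helper24.StrictHens.faithfullyFlat_of_isStrictHenselization (Ah A) (S' A)).1
  haveI : Module.Flat A (S' A) := Module.Flat.trans A (Ah A) (S' A)
  have h : EtPBC.IsIndEtale A (SH A) :=
    Groth.Agent.Lib.Helper24.HensIndEtale.isIndEtale_SHens A (Ωstd A)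
  exact Groth.Agent.Lib.Helper24.FlatOverIndEtale.flat_of_isIndEtale h (S' A)

instance faithfullyFlat_Ψ : Module.FaithfullyFlat (SH A) (S' A) :=
  Module.FaithfullyFlat.of_flat_of_isLocalHom

end Groth.Agent.Lib.helper17.StrictCpl
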