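import Mathlib
import Groth.Prelude.Def_Hensel
import Groth.Agent.Lib.Helper12.HenselUniv

set_option autoImplicit false
set_option linter.style.haveILetI false
universe u

namespace Groth.Agent.Lib.helper17.StrictDense

open IsLocalRing

theorem dense_of_strict {B S S' : Type u} [CommRing B] [IsLocalRing B] [CommRing S]
    [hS : HenselianLocalRing S]
    [CommRing S'] [IsLocalRing S'] [Algebra B S'] [IsLocalHom (algebraMap B S')]
    [hSH : Hensel.IsStrictHenselization B S'] (Ψ : S →+* S') [hΨ : IsLocalHom Ψ]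
    (σ : ResidueField S' →+* ResidueField S)
    (hσ : ∀ y, ResidueField.map Ψ (σ y) = y)
    (J₀ : Ideal S) (hJ₀ : J₀ ≠ ⊤)
    (f : B →+* S ⧸ J₀)
    (hf1 : ∀ b : B, Ideal.quotientMap (J₀.map Ψ) Ψ Ideal.le_comap_map (f b) =
      Ideal.Quotient.mk (J₀.map Ψ) (algebraMap B S' b))
    (hf2 : ∀ b : B, ∃ s : S, f b = Ideal.Quotient.mk J₀ s ∧
      σ (residue S' (algebraMap B S' b)) = residue S s)
    (x : S') : ∃ s : S, x - Ψ s ∈ J₀.map Ψ := by
  classical
  have hJ₀m : J₀ ≤ maximalIdeal S := IsLocalRing.le_maximalIdeal hJ₀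
  have hmapm : (maximalIdeal S).map Ψ ≤ maximalIdeal S' :=
    ((IsLocalRing.local_hom_TFAE Ψ).out 0 2).1 hΨ
  have hJle : J₀.map Ψ ≤ maximalIdeal S' := (Ideal.map_mono hJ₀m).trans hmapm
  have hJtop : J₀.map Ψ ≠ ⊤ := by
    intro h
    rw [h] at hJle
    exact (maximalIdeal.isMaximal S').ne_top (top_le_iff.1 hJle)
  haveI hH1 : HenselianLocalRing (S ⧸ J₀) :=
    Groth.Agent.Lib.helper12.henselianLocalRing_quotient _ hJ₀
  haveI hSH' : HenselianLocalRing S' := hSH.henselian
  haveI hH2 : HenselianLocalRing (S' ⧸ J₀.map Ψ) :=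
    Groth.Agent.Lib.helper12.henselianLocalRing_quotient _ hJtop
  haveI hlocπS : IsLocalHom (Ideal.Quotient.mk J₀) :=
    IsLocalHom.of_surjective _ Ideal.Quotient.mk_surjective
  haveI hlocπ' : IsLocalHom (Ideal.Quotient.mk (J₀.map Ψ)) :=
    IsLocalHom.of_surjective _ Ideal.Quotient.mk_surjective
  -- `f` is local
  haveI hlocf : IsLocalHom f := by
    refine ⟨fun b hb => ?_⟩
    obtain ⟨s, hs, hσs⟩ := hf2 b
    rw [hs] at hb
    have hsu : IsUnit s := isUnit_of_map_unit (Ideal.Quotient.mk J₀) s hb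
    have h1 : residue S s ≠ 0 := by
      intro h0
      exact (IsLocalRing.mem_maximalIdeal _).1 ((IsLocalRing.residue_eq_zero_iff _).1 h0) hsu
    rw [← hσs] at h1
    have h2 : residue S' (algebraMap B S' b) ≠ 0 := fun h0 => h1 (by rw [h0, map_zero])
    have h3 : IsUnit (algebraMap B S' b) := by
      by_contra hnu
      exact h2 ((IsLocalRing.residue_eq_zero_iff _).2 hnu)
    exact isUnit_of_map_unit (algebraMap B S') b h3
  -- the residue map
  let τr : ResidueField S' →+* ResidueField (S ⧸ J₀) :=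
    (ResidueField.map (Ideal.Quotient.mk J₀)).comp σ
  have hτr : τr.comp (ResidueField.map (algebraMap B S')) = ResidueField.map f := by
    ext y
    obtain ⟨b, rfl⟩ := residue_surjective y
    obtain ⟨s, hs, hσs⟩ := hf2 b
    show ResidueField.map (Ideal.Quotient.mk J₀) (σ (ResidueField.map (algebraMap B S')
      (residue B b))) = ResidueField.map f (residue B b)
    rw [ResidueField.map_residue, hσs, ResidueField.map_residue, ResidueField.map_residue, hs]
  obtain ⟨g, ⟨hg1, hg2⟩, -⟩ := hSH.universal (S ⧸ J₀) f τr hτr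
  -- uniqueness into `S' ⧸ J`
  haveI hlocF : IsLocalHom ((Ideal.Quotient.mk (J₀.map Ψ)).comp (algebraMap B S')) :=
    RingHom.isLocalHom_comp _ _
  have hρ : (ResidueField.map (Ideal.Quotient.mk (J₀.map Ψ))).comp
      (ResidueField.map (algebraMap B S')) =
      ResidueField.map ((Ideal.Quotient.mk (J₀.map Ψ)).comp (algebraMap B S')) := by
    ext y
    obtain ⟨b, rfl⟩ := residue_surjective y
    rfl
  obtain ⟨g', -, hg'uniq⟩ := hSH.universal (S' ⧸ J₀.map Ψ)
    ((Ideal.Quotient.mk (J₀.map Ψ)).comp (algebraMap B S'))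
    (ResidueField.map (Ideal.Quotient.mk (J₀.map Ψ))) hρ
  have h1 := hg'uniq (Ideal.Quotient.mk (J₀.map Ψ)) ⟨rfl, fun y => rfl⟩
  have h2 := hg'uniq ((Ideal.quotientMap (J₀.map Ψ) Ψ Ideal.le_comap_map).comp g) ⟨by
      ext b
      have := congrArg (fun h : B →+* S ⧸ J₀ => h b) hg1
      simp only [RingHom.comp_apply] at this ⊢
      rw [this, hf1], fun y => by
      obtain ⟨s, hs⟩ := Ideal.Quotient.mk_surjective (g y)
      have h3 := hg2 y
      rw [← hs] at h3
      have h4 : ResidueField.map (Ideal.Quotient.mk J₀) (residue S s) =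
          ResidueField.map (Ideal.Quotient.mk J₀) (σ (residue S' y)) := by
        rw [ResidueField.map_residue]
        exact h3
      have h5 : residue S s = σ (residue S' y) :=
        (ResidueField.map (Ideal.Quotient.mk J₀)).injective h4
      show residue _ (Ideal.quotientMap (J₀.map Ψ) Ψ Ideal.le_comap_map (g y)) = _
      rw [← hs, Ideal.quotientMap_mk, ← ResidueField.map_residue (Ideal.Quotient.mk (J₀.map Ψ)),
        ← ResidueField.map_residue Ψ, h5, hσ]⟩
  obtain ⟨s, hs⟩ := Ideal.Quotient.mk_surjective (g x)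
  refine ⟨s, ?_⟩
  rw [← Ideal.Quotient.mk_eq_mk_iff_sub_mem]
  have h3 : Ideal.Quotient.mk (J₀.map Ψ) x =
      (Ideal.quotientMap (J₀.map Ψ) Ψ Ideal.le_comap_map).comp g x := by
    rw [h1, ← h2]
  rw [h3, RingHom.comp_apply, ← hs, Ideal.quotientMap_mk]

end Groth.Agent.Lib.helper17.StrictDense
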