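import Mathlib
import Groth.Agent.Lib.Helper17.StrictCpl
import Groth.Agent.Lib.Helper17.StrictDense
import Groth.Agent.Lib.Helper24.CplQuot
import Groth.Agent.Lib.Helper24.CplFlat

set_option autoImplicit false
set_option linter.style.haveILetI false
universe u

namespace Groth.Agent.Lib.helper17.StrictCpl

open IsLocalRing Groth.Agent.Lib.Helper24.StrictHens

variable (A : Type u) [CommRing A] [IsLocalRing A] [IsNoetherianRing A]

attribute [local irreducible] Groth.Agent.Lib.Helper24.StrictHens.instCommRingSHens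

theorem map_Ψ_residue (y : ResidueField (SH A)) :
    ResidueField.map (algebraMap (SH A) (S' A)) y = τ A y := by
  obtain ⟨s, rfl⟩ := residue_surjective y
  rw [ResidueField.map_residue]
  exact residue_Ψ A s

theorem dense_Ψ (r : ℕ) (x : S' A) :
    ∃ s : SH A, x - algebraMap (SH A) (S' A) s ∈
      (maximalIdeal (SH A) ^ r).map (algebraMap (SH A) (S' A)) := by
  classical
  rcases Nat.eq_zero_or_pos r with rfl | hr
  · refine ⟨0, ?_⟩
    rw [pow_zero, Ideal.one_eq_top, Ideal.map_top]
    exact Submodule.mem_top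
  have hmSr : maximalIdeal (SH A) ^ r ≠ ⊤ := by
    intro h
    have h1 : maximalIdeal (SH A) ^ r ≤ maximalIdeal (SH A) := Ideal.pow_le_self hr.ne'
    rw [h] at h1
    exact (maximalIdeal.isMaximal (SH A)).ne_top (top_le_iff.1 h1)
  have hmAS : (maximalIdeal A).map (algebraMap A (SH A)) ≤ maximalIdeal (SH A) :=
    ((IsLocalRing.local_hom_TFAE (algebraMap A (SH A))).out 0 2).1
      (inferInstance : IsLocalHom (algebraMap A (SH A)))
  have hIr : maximalIdeal A ^ r ≤ (maximalIdeal (SH A) ^ r).comap (algebraMap A (SH A)) := by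
    rw [← Ideal.map_le_iff_le_comap, Ideal.map_pow]
    exact Ideal.pow_right_mono hmAS r
  -- the map `Â → S / 𝔪ʳ`
  let f : Ah A →+* SH A ⧸ maximalIdeal (SH A) ^ r :=
    (Ideal.quotientMap _ (algebraMap A (SH A)) hIr).comp
      (AdicCompletion.evalₐ (maximalIdeal A) r).toRingHom
  have hfa : ∀ a : A, f (algebraMap A (Ah A) a) =
      Ideal.Quotient.mk _ (algebraMap A (SH A) a) := by
    intro a
    show Ideal.quotientMap _ (algebraMap A (SH A)) hIr
      (AdicCompletion.evalₐ (maximalIdeal A) r (algebraMap A (Ah A) a)) = _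
    rw [AdicCompletion.algebraMap_apply, AdicCompletion.evalₐ_of, Algebra.algebraMap_self,
      RingHom.id_apply, Ideal.quotientMap_mk]
  have hfker : ∀ y : Ah A, y ∈ (maximalIdeal A ^ r).map (algebraMap A (Ah A)) → f y = 0 := by
    intro y hy
    show Ideal.quotientMap _ (algebraMap A (SH A)) hIr
      (AdicCompletion.evalₐ (maximalIdeal A) r y) = 0
    rw [Groth.Agent.Lib.Helper24.CplQuot.evalₐ_eq_zero_of_mem_map _ _ y hy, map_zero]
  have happrox : ∀ b : Ah A, ∃ a : A, b - algebraMap A (Ah A) a ∈
      (maximalIdeal A ^ r).map (algebraMap A (Ah A)) := fun b =>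
    Groth.Agent.Lib.Helper24.CplFlat.exists_sub_mem (maximalIdeal A)
      (maximalIdeal A).fg_of_isNoetherianRing r b
  have hfb : ∀ (b : Ah A) (a : A), b - algebraMap A (Ah A) a ∈
      (maximalIdeal A ^ r).map (algebraMap A (Ah A)) →
      f b = Ideal.Quotient.mk _ (algebraMap A (SH A) a) := by
    intro b a hba
    have h1 := hfker _ hba
    rw [map_sub, sub_eq_zero] at h1
    rw [h1, hfa]
  have hmapIr : ∀ y : Ah A, y ∈ (maximalIdeal A ^ r).map (algebraMap A (Ah A)) →
      algebraMap (Ah A) (S' A) y ∈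
        (maximalIdeal (SH A) ^ r).map (algebraMap (SH A) (S' A)) := by
    intro y hy
    have h1 : algebraMap (Ah A) (S' A) y ∈
        ((maximalIdeal A ^ r).map (algebraMap A (Ah A))).map (algebraMap (Ah A) (S' A)) :=
      Ideal.mem_map_of_mem _ hy
    rw [Ideal.map_map, ← IsScalarTower.algebraMap_eq,
      IsScalarTower.algebraMap_eq A (SH A) (S' A), ← Ideal.map_map] at h1
    refine Ideal.map_mono ?_ h1
    rw [Ideal.map_pow]
    exact Ideal.pow_right_mono hmAS r
  refine Groth.Agent.Lib.helper17.StrictDense.dense_of_strict (B := Ah A) (S := SH A)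
    (S' := S' A) (algebraMap (SH A) (S' A)) ((τ A).symm : ResidueField (S' A) →+* _) ?_
    (maximalIdeal (SH A) ^ r) hmSr f ?_ ?_ x
  · intro y
    rw [map_Ψ_residue]
    exact (τ A).apply_symm_apply y
  · intro b
    obtain ⟨a, ha⟩ := happrox b
    rw [hfb b a ha, Ideal.quotientMap_mk, Ideal.Quotient.mk_eq_mk_iff_sub_mem,
      ← IsScalarTower.algebraMap_apply A (SH A) (S' A),
      IsScalarTower.algebraMap_apply A (Ah A) (S' A)]
    have h1 := hmapIr _ ha
    rw [map_sub] at h1
    have := Ideal.neg_mem_iff _ |>.2 h1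
    rwa [neg_sub] at this
  · intro b
    obtain ⟨a, ha⟩ := happrox b
    refine ⟨algebraMap A (SH A) a, hfb b a ha, ?_⟩
    have h1 : residue (S' A) (algebraMap (Ah A) (S' A) b) =
        residue (S' A) (algebraMap A (S' A) a) := by
      rw [IsScalarTower.algebraMap_apply A (Ah A) (S' A), ← sub_eq_zero, ← map_sub, ← map_sub,
        IsLocalRing.residue_eq_zero_iff]
      have hmapm : (maximalIdeal (SH A)).map (algebraMap (SH A) (S' A)) ≤ maximalIdeal (S' A) :=
        ((IsLocalRing.local_hom_TFAE (algebraMap (SH A) (S' A))).out 0 2).1 (isLocalHom_Ψ A)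
      exact hmapm (Ideal.map_mono (Ideal.pow_le_self hr.ne') (hmapIr _ ha))
    rw [h1]
    have h2 : residue (S' A) (algebraMap A (S' A) a) =
        algebraMap (ResidueField A) (ResidueField (S' A)) (residue A a) := rfl
    have h3 : residue (SH A) (algebraMap A (SH A) a) =
        algebraMap (ResidueField A) (ResidueField (SH A)) (residue A a) := rfl
    rw [h2, h3]
    exact (τ A).symm.commutes (residue A a)

end Groth.Agent.Lib.helper17.StrictCpl
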