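import Mathlib
import Groth.Agent.LibPS29
import Groth.Agent.LibCR29f

/-!
# T¹-lifting for quotients of power series rings in characteristic zero

`S = k[[x₁,…,x_d]]`, `Fil e` the ideal of power series of order `≥ e`.  If `π : S → R` is surjective with kernel inside
`𝔪²` and derivations of `R` lift along surjections of modules (over the truncations of `S`), the kernel is zero.
-/

set_option autoImplicit false
set_option linter.unusedSectionVars false
set_option linter.unusedVariables false
universe u

namespace Groth.Agent.Lib.helper17.T1Core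

open MvPowerSeries Groth.Agent.LibPS29

section Filtration

variable {k : Type u} [Field k] {d : ℕ}

/-- the ideal of power series of order at least `e`. -/
noncomputable abbrev F (k : Type u) [Field k] (d e : ℕ) : Ideal (MvPowerSeries (Fin d) k) :=
  Fil (n := d) (⊥ : Ideal k) e

lemma mem_F (e : ℕ) (p : MvPowerSeries (Fin d) k) :
    p ∈ F k d e ↔ ∀ m : Fin d →₀ ℕ, tdeg m < e → coeff m p = 0 := by
  rw [mem_Fil]
  constructor
  · intro h m hm
    have := h m
    have h1 : e - tdeg m ≠ 0 := by omega
    rw [Ideal.bot_pow h1, Ideal.mem_bot] at this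
    exact this
  · intro h m
    by_cases hm : tdeg m < e
    · rw [h m hm]; exact Ideal.zero_mem _
    · have h1 : e - tdeg m = 0 := by omega
      rw [h1, pow_zero, Ideal.one_eq_top]; trivial

lemma F_mul_le (a b : ℕ) : F k d a * F k d b ≤ F k d (a + b) := Fil_mul_le _ a b

lemma F_anti {a b : ℕ} (h : a ≤ b) : F k d b ≤ F k d a := by
  intro p hp
  rw [mem_F] at hp ⊢
  intro m hm
  exact hp m (by omega)

lemma maximalIdeal_le_F_one :
    IsLocalRing.maximalIdeal (MvPowerSeries (Fin d) k) ≤ F k d 1 := by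
  intro p hp
  rw [Groth.Agent.LibCR29.mem_maximalIdeal_ps_iff, IsLocalRing.maximalIdeal_eq_bot, Ideal.mem_bot] at hp
  rw [mem_F]
  intro m hm
  have hm0 : m = 0 := by
    by_contra h
    have := tdeg_pos_of_ne_zero m h
    omega
  rw [hm0, coeff_zero_eq_constantCoeff_apply, hp]

lemma maximalIdeal_pow_le_F (e : ℕ) :
    IsLocalRing.maximalIdeal (MvPowerSeries (Fin d) k) ^ e ≤ F k d e := by
  induction e with
  | zero =>
    intro p _
    rw [mem_F]
    intro m hm
    omega
  | succ e ih =>
    rw [pow_succ]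
    exact (Ideal.mul_mono ih maximalIdeal_le_F_one).trans (F_mul_le e 1)

lemma F_le_maximalIdeal {e : ℕ} (he : 1 ≤ e) :
    F k d e ≤ IsLocalRing.maximalIdeal (MvPowerSeries (Fin d) k) := by
  intro p hp
  rw [Groth.Agent.LibCR29.mem_maximalIdeal_ps_iff, IsLocalRing.maximalIdeal_eq_bot, Ideal.mem_bot,
    ← coeff_zero_eq_constantCoeff_apply]
  rw [mem_F] at hp
  apply hp
  simp [tdeg]
  omega

lemma eq_zero_of_forall_mem_F (p : MvPowerSeries (Fin d) k) (h : ∀ e, p ∈ F k d e) : p = 0 := by
  ext m
  rw [map_zero]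
  exact (mem_F _ p).1 (h (tdeg m + 1)) m (by omega)

lemma tdeg_single (j : Fin d) : tdeg (Finsupp.single j 1 : Fin d →₀ ℕ) = 1 := by
  simp [tdeg, Finsupp.single_apply]

/-- the partial derivative lowers the order by at most one. -/
lemma pderiv_mem_F (e : ℕ) (j : Fin d) (p : MvPowerSeries (Fin d) k) (hp : p ∈ F k d (e + 1)) :
    pderiv k j p ∈ F k d e := by
  rw [mem_F] at hp ⊢
  intro m hm
  rw [coeff_pderiv, hp _ (by rw [tdeg_add, tdeg_single]; omega), zero_mul]

/-- in characteristic zero, a series of order `≥ e` all of whose partial derivatives have order `≥ e` has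
order `≥ e + 1`. -/
lemma mem_F_succ_of_pderiv [CharZero k] (e : ℕ) (he : 1 ≤ e) (p : MvPowerSeries (Fin d) k)
    (hp : p ∈ F k d e) (h : ∀ j, pderiv k j p ∈ F k d e) : p ∈ F k d (e + 1) := by
  rw [mem_F] at hp ⊢
  intro m hm
  by_cases hlt : tdeg m < e
  · exact hp m hlt
  · have hme : tdeg m = e := by omega
    have hex : ∃ j, 1 ≤ m j := by
      by_contra hcon
      push Not at hcon
      have : tdeg m = 0 := by
        unfold tdeg
        apply Finset.sum_eq_zero
        intro i _
        have := hcon i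
        omega
      omega
    obtain ⟨j, hj⟩ := hex
    have hm' : m = (m - Finsupp.single j 1) + Finsupp.single j 1 := by
      ext i
      by_cases hij : i = j
      · subst hij
        simp only [Finsupp.coe_add, Finsupp.coe_tsub, Pi.add_apply, Pi.sub_apply, Finsupp.single_eq_same]
        omega
      · simp [Finsupp.single_apply, Ne.symm hij]
    have htd : tdeg (m - Finsupp.single j 1) < e := by
      have h1 : tdeg m = tdeg (m - Finsupp.single j 1) + 1 := by
        conv_lhs => rw [hm', tdeg_add, tdeg_single]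
      omega
    have h2 := (mem_F e _).1 (h j) _ htd
    rw [coeff_pderiv, ← hm'] at h2
    rcases mul_eq_zero.1 h2 with h3 | h3
    · exact h3
    · exact absurd h3 (Nat.cast_add_one_ne_zero _)

end Filtration


section Helpers

variable {k : Type u} [Field k]

/-- factor an algebra map through a surjection. -/
theorem exists_descend {S R T : Type u} [CommRing S] [CommRing R] [Ring T] [Algebra k S] [Algebra k R]
    [Algebra k T] (π : S →ₐ[k] R) (hπ : Function.Surjective π) (Φ : S →ₐ[k] T)
    (h : ∀ g ∈ RingHom.ker π, Φ g = 0) : ∃ φ : R →ₐ[k] T, ∀ s, φ (π s) = Φ s := by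
  let e := Ideal.quotientKerAlgEquivOfSurjective hπ
  refine ⟨(Ideal.Quotient.liftₐ (RingHom.ker π) Φ h).comp e.symm.toAlgHom, fun s => ?_⟩
  have h1 : e.symm (π s) = Ideal.Quotient.mk (RingHom.ker π) s := by
    rw [AlgEquiv.symm_apply_eq]
    rfl
  change (Ideal.Quotient.liftₐ (RingHom.ker π) Φ h) (e.symm (π s)) = Φ s
  rw [h1]
  rfl

/-- the algebra map into a trivial square-zero extension defined by an algebra map and a derivation over it. -/
noncomputable def tszeHom {S A M : Type u} [CommRing S] [Algebra k S] [CommRing A] [Algebra k A]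
    [AddCommGroup M] [Module A M] [Module Aᵐᵒᵖ M] [IsCentralScalar A M] [Module k M]
    [IsScalarTower k A M] [IsScalarTower k Aᵐᵒᵖ M]
    (q : S →ₐ[k] A) (D : S →ₗ[k] M) (hD : ∀ a b, D (a * b) = q a • D b + q b • D a) :
    S →ₐ[k] TrivSqZeroExt A M :=
  have h1 : D 1 = 0 := by
    have := hD 1 1
    rw [mul_one, map_one q, one_smul] at this
    exact left_eq_add.1 this
  { toFun := fun p => (q p, D p)
    map_one' := TrivSqZeroExt.ext (map_one q) h1
    map_mul' := fun a b => TrivSqZeroExt.ext (map_mul q a b) (by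
      change D (a * b) = q a • D b + MulOpposite.op (q b) • D a
      rw [op_smul_eq_smul, hD])
    map_zero' := TrivSqZeroExt.ext (map_zero q) (map_zero D)
    map_add' := fun a b => TrivSqZeroExt.ext (map_add q a b) (map_add D a b)
    commutes' := fun c => by
      rw [TrivSqZeroExt.algebraMap_eq_inl']
      refine TrivSqZeroExt.ext (q.commutes c) ?_
      change D (algebraMap k S c) = 0
      rw [Algebra.algebraMap_eq_smul_one, map_smul, h1, smul_zero] }

lemma tszeHom_fst {S A M : Type u} [CommRing S] [Algebra k S] [CommRing A] [Algebra k A]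
    [AddCommGroup M] [Module A M] [Module Aᵐᵒᵖ M] [IsCentralScalar A M] [Module k M]
    [IsScalarTower k A M] [IsScalarTower k Aᵐᵒᵖ M]
    (q : S →ₐ[k] A) (D : S →ₗ[k] M) (hD : ∀ a b, D (a * b) = q a • D b + q b • D a) (p : S) :
    (tszeHom q D hD p).fst = q p := rfl

lemma tszeHom_snd {S A M : Type u} [CommRing S] [Algebra k S] [CommRing A] [Algebra k A]
    [AddCommGroup M] [Module A M] [Module Aᵐᵒᵖ M] [IsCentralScalar A M] [Module k M]
    [IsScalarTower k A M] [IsScalarTower k Aᵐᵒᵖ M]
    (q : S →ₐ[k] A) (D : S →ₗ[k] M) (hD : ∀ a b, D (a * b) = q a • D b + q b • D a) (p : S) :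
    (tszeHom q D hD p).snd = D p := rfl

end Helpers


section Step

variable {k : Type u} [Field k] [CharZero k] {d : ℕ}
  {R : Type u} [CommRing R] [Algebra k R]
  {A : Type u} [CommRing A] [Algebra k A]

/-- one step: if derivations of `R = S/I` into quotients of `A = S/Fil e` lift to derivations into `A`, and `I` has
order `≥ e`, then `I` has order `≥ e + 1`. -/
theorem step (π : MvPowerSeries (Fin d) k →ₐ[k] R) (hπ : Function.Surjective π)
    (q : MvPowerSeries (Fin d) k →ₐ[k] A) (e : ℕ) (he : 1 ≤ e) (hq : RingHom.ker q = F k d e)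
    (hI2 : RingHom.ker π ≤ IsLocalRing.maximalIdeal (MvPowerSeries (Fin d) k) ^ 2)
    (hIe : RingHom.ker π ≤ F k d e)
    (hT1 : ∀ (U : Submodule A A) (φ : R →ₐ[k] TrivSqZeroExt A (A ⧸ U)),
      ∃ ψ : R →ₐ[k] TrivSqZeroExt A A, ∀ r, (ψ r).fst = (φ r).fst ∧ U.mkQ (ψ r).snd = (φ r).snd) :
    RingHom.ker π ≤ F k d (e + 1) := by
  intro f hf
  apply mem_F_succ_of_pderiv e he f (hIe hf)
  intro j
  rw [← hq, RingHom.mem_ker]
  -- the submodule generated by the derivatives of the kernel
  let U : Submodule A A := Submodule.span A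
    ((fun g => q (pderiv k j g)) '' (RingHom.ker π : Set (MvPowerSeries (Fin d) k)))
  let D : MvPowerSeries (Fin d) k →ₗ[k] A ⧸ U :=
    (U.mkQ.restrictScalars k).comp (q.toLinearMap.comp (pderiv k j : MvPowerSeries (Fin d) k →ₗ[k] _))
  have hDapp : ∀ p, D p = U.mkQ (q (pderiv k j p)) := fun p => rfl
  have hD : ∀ a b, D (a * b) = q a • D b + q b • D a := by
    intro a b
    rw [hDapp, hDapp, hDapp, Derivation.leibniz, map_add, smul_eq_mul, smul_eq_mul, map_mul, map_mul,
      map_add, ← smul_eq_mul, ← smul_eq_mul (q b), map_smul, map_smul]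
  let Φ := tszeHom q D hD
  have hΦker : ∀ g ∈ RingHom.ker π, Φ g = 0 := by
    intro g hg
    apply TrivSqZeroExt.ext
    · change q g = 0
      rw [← RingHom.mem_ker, hq]
      exact hIe hg
    · change D g = 0
      rw [hDapp]
      exact (Submodule.Quotient.mk_eq_zero U).2 (Submodule.subset_span ⟨g, hg, rfl⟩)
  obtain ⟨φ, hφ⟩ := exists_descend π hπ Φ hΦker
  obtain ⟨ψ, hψ⟩ := hT1 U φ
  have hfst : ∀ s, (ψ (π s)).fst = q s := fun s => by
    rw [(hψ _).1, hφ]; rfl
  have hsnd : ∀ s, (ψ (π s)).snd - q (pderiv k j s) ∈ U := fun s => by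
    have h1 := (hψ (π s)).2
    rw [hφ] at h1
    change U.mkQ (ψ (π s)).snd = U.mkQ (q (pderiv k j s)) at h1
    rw [← sub_eq_zero, ← map_sub] at h1
    exact (Submodule.Quotient.mk_eq_zero U).1 h1
  -- `U` is killed by the image of the maximal ideal
  have hU : ∀ b ∈ IsLocalRing.maximalIdeal (MvPowerSeries (Fin d) k), ∀ u ∈ U, q b * u = 0 := by
    intro b hb u hu
    induction hu using Submodule.span_induction with
    | mem x hx =>
      obtain ⟨g, hg, rfl⟩ := hx
      change q b * q (pderiv k j g) = 0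
      rw [← map_mul, ← RingHom.mem_ker, hq]
      have h1 : pderiv k j g ∈ F k d (e - 1) := by
        apply pderiv_mem_F
        have : e - 1 + 1 = e := by omega
        rw [this]
        exact hIe hg
      have h2 := F_mul_le (k := k) (d := d) 1 (e - 1) (Ideal.mul_mem_mul (maximalIdeal_le_F_one hb) h1)
      have : 1 + (e - 1) = e := by omega
      rwa [this] at h2
    | zero => rw [mul_zero]
    | add x y _ _ hx hy => rw [mul_add, hx, hy, add_zero]
    | smul c x _ hx => rw [smul_eq_mul, mul_left_comm, hx, mul_zero]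
  have hΔ : ∀ g ∈ IsLocalRing.maximalIdeal (MvPowerSeries (Fin d) k) ^ 2,
      (ψ (π g)).snd = q (pderiv k j g) := by
    intro g hg
    rw [pow_two] at hg
    refine Submodule.mul_induction_on hg ?_ ?_
    · intro a ha b hb
      rw [map_mul, map_mul, TrivSqZeroExt.snd_mul, hfst, hfst, op_smul_eq_smul, Derivation.leibniz, map_add,
        smul_eq_mul, smul_eq_mul, smul_eq_mul, smul_eq_mul, map_mul, map_mul]
      have h1 := hU a ha _ (hsnd b)
      have h2 := hU b hb _ (hsnd a)
      rw [mul_sub, sub_eq_zero] at h1 h2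
      rw [h1, h2]
    · intro x y hx hy
      rw [map_add, map_add, TrivSqZeroExt.snd_add, hx, hy, map_add, map_add]
  have h3 := hΔ f (hI2 hf)
  rw [← h3, (RingHom.mem_ker).1 hf, map_zero, TrivSqZeroExt.snd_zero]

/-- the kernel vanishes. -/
theorem ker_eq_bot (π : MvPowerSeries (Fin d) k →ₐ[k] R)
    (hI2 : RingHom.ker π ≤ IsLocalRing.maximalIdeal (MvPowerSeries (Fin d) k) ^ 2)
    (hstep : ∀ e, 2 ≤ e → RingHom.ker π ≤ F k d e → RingHom.ker π ≤ F k d (e + 1)) :
    RingHom.ker π = ⊥ := by
  have h2 : RingHom.ker π ≤ F k d 2 := hI2.trans (maximalIdeal_pow_le_F 2)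
  have hall : ∀ e, RingHom.ker π ≤ F k d (e + 2) := by
    intro e
    induction e with
    | zero => exact h2
    | succ e ih => exact hstep (e + 2) (by omega) ih
  rw [eq_bot_iff]
  intro p hp
  rw [Ideal.mem_bot]
  apply eq_zero_of_forall_mem_F
  intro e
  exact F_anti (by omega) (hall e hp)

end Step

end Groth.Agent.Lib.helper17.T1Core
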