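import Mathlib
import Groth.Agent.Lib.Helper17.SmoothQF
/-!
# Tame ramification forces a separable residue field (helper17), ring level

* `subsingleton_of_D_algebraMap_eq_zero`, `formallyUnramified_of_cyclic`,
  `isSeparable_residueField_of_pow`.
-/
set_option autoImplicit false

open IsLocalRing KaehlerDifferential

namespace Groth.Agent.Lib.helper17.TameSep

universe u


variable (k A B : Type u) [Field k] [CommRing A] [CommRing B] [IsLocalRing A] [IsLocalRing B]
  [Algebra k A] [Algebra k B] [Algebra A B] [IsScalarTower k A B] [IsLocalHom (algebraMap A B)]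

/-- If `d(φ a) = 0` in `Ω[κ_B/k]` for all `a ∈ κ_A` and `κ_B/κ_A` is separable, then
`Ω[κ_B/k] = 0`. -/
theorem subsingleton_of_D_algebraMap_eq_zero (K L : Type u) [Field K] [Field L] [Algebra k K]
    [Algebra k L] [Algebra K L] [IsScalarTower k K L] [Algebra.IsSeparable K L]
    (h : ∀ c : K, D k L (algebraMap K L c) = 0) : Subsingleton (Ω[L⁄k]) := by
  haveI : Algebra.FormallyUnramified K L := Algebra.FormallyUnramified.of_isSeparable K L
  haveI : Subsingleton (Ω[L⁄K]) := inferInstance
  have hker : LinearMap.ker (KaehlerDifferential.map k K L L) = ⊥ := by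
    rw [← KaehlerDifferential.range_mapBaseChange, LinearMap.range_eq_bot]
    ext z
    simp [h]
  refine ⟨fun x y => ?_⟩
  have : KaehlerDifferential.map k K L L x = KaehlerDifferential.map k K L L y :=
    Subsingleton.elim _ _
  exact LinearMap.ker_eq_bot.mp hker this



/-- Local `k`-algebras `A → B` with `Ω[B⁄k]` cyclic, `κ_B/κ_A` separable and `Ω[κ_B⁄k] ≠ 0`
(i.e. `κ_B/k` inseparable): then `B` is formally unramified over `A`. -/
theorem formallyUnramified_of_cyclic
    [Algebra.IsSeparable (ResidueField A) (ResidueField B)]
    (hΩ : Nontrivial (Ω[ResidueField B⁄k]))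
    (ω : Ω[B⁄k]) (hω : Submodule.span B {ω} = ⊤) : Algebra.FormallyUnramified A B := by
  -- coefficients
  have hcoef : ∀ x : Ω[B⁄k], ∃ b : B, x = b • ω := by
    intro x
    have hx : x ∈ Submodule.span B {ω} := by rw [hω]; trivial
    obtain ⟨b, hb⟩ := Submodule.mem_span_singleton.mp hx
    exact ⟨b, hb.symm⟩
  -- some `d(φ a)` has unit coefficient
  have hex : ∃ a : A, ∃ b : B, IsUnit b ∧ D k B (algebraMap A B a) = b • ω := by
    by_contra hcon
    have hall : ∀ a : A, ∀ b : B, D k B (algebraMap A B a) = b • ω → b ∈ maximalIdeal B := by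
      intro a b hab
      by_contra hb
      exact hcon ⟨a, b, by simpa [IsLocalRing.mem_maximalIdeal] using hb, hab⟩
    have hzero : ∀ c : ResidueField A,
        D k (ResidueField B) (algebraMap (ResidueField A) (ResidueField B) c) = 0 := by
      intro c
      obtain ⟨a, rfl⟩ := IsLocalRing.residue_surjective c
      obtain ⟨b, hb⟩ := hcoef (D k B (algebraMap A B a))
      have hbm := hall a b hb
      rw [IsLocalRing.ResidueField.algebraMap_residue]
      have h1 : KaehlerDifferential.map k k B (ResidueField B) (D k B (algebraMap A B a)) =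
          D k (ResidueField B) (residue B (algebraMap A B a)) :=
        KaehlerDifferential.map_D k k B (ResidueField B) _
      rw [← h1, hb, map_smul, ← algebraMap_smul (ResidueField B) b,
        IsLocalRing.ResidueField.algebraMap_eq, (IsLocalRing.residue_eq_zero_iff b).mpr hbm,
        zero_smul]
    haveI := subsingleton_of_D_algebraMap_eq_zero k (ResidueField A) (ResidueField B) hzero
    exact not_subsingleton _ ‹_›
  obtain ⟨a, b, hb, hab⟩ := hex
  rw [Algebra.formallyUnramified_iff]
  have hrange : LinearMap.range (KaehlerDifferential.mapBaseChange k A B) = ⊤ := by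
    rw [eq_top_iff, ← hω, Submodule.span_le, Set.singleton_subset_iff]
    obtain ⟨u, rfl⟩ := hb
    refine ⟨(↑u⁻¹ : B) ⊗ₜ D k A a, ?_⟩
    rw [KaehlerDifferential.mapBaseChange_tmul, KaehlerDifferential.map_D, hab, smul_smul,
      Units.inv_mul, one_smul]
  rw [KaehlerDifferential.range_mapBaseChange] at hrange
  refine ⟨fun x y => ?_⟩
  obtain ⟨x, rfl⟩ := KaehlerDifferential.map_surjective k A B x
  obtain ⟨y, rfl⟩ := KaehlerDifferential.map_surjective k A B y
  have hx : x ∈ LinearMap.ker (KaehlerDifferential.map k A B B) := by rw [hrange]; trivial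
  have hy : y ∈ LinearMap.ker (KaehlerDifferential.map k A B B) := by rw [hrange]; trivial
  rw [LinearMap.mem_ker.mp hx, LinearMap.mem_ker.mp hy]



/-- **Tame ramification forces separable residue field** (ring form). `A → B` a local
homomorphism of local `k`-algebras, `B` Noetherian, essentially of finite type and formally smooth
over `k`, with `Ω[B⁄k]` cyclic; `κ_B` finite over `k` and separable over `κ_A`; and
`m_A B = m_B ^ e` with `e ≥ 2`.  Then `κ_B` is separable over `k`. -/
theorem isSeparable_residueField_of_pow [Algebra.EssFiniteType k B] [Algebra.FormallySmooth k B]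
    [IsNoetherianRing B]
    [Algebra.IsSeparable (ResidueField A) (ResidueField B)] [Module.Finite k (ResidueField B)]
    (ω : Ω[B⁄k]) (hω : Submodule.span B {ω} = ⊤) (e : ℕ)
    (he : (maximalIdeal A).map (algebraMap A B) = maximalIdeal B ^ e) (h2 : 2 ≤ e) :
    Algebra.IsSeparable k (ResidueField B) := by
  by_contra hins
  have hΩ : Nontrivial (Ω[ResidueField B⁄k]) := by
    by_contra hnt
    rw [not_nontrivial_iff_subsingleton] at hnt
    haveI : Algebra.FormallyUnramified k (ResidueField B) :=
      (Algebra.formallyUnramified_iff k (ResidueField B)).mpr hnt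
    exact hins (Algebra.FormallyUnramified.isSeparable k (ResidueField B))
  haveI : Algebra.FormallyUnramified A B := formallyUnramified_of_cyclic k A B hΩ ω hω
  haveI : Algebra.EssFiniteType A B := Algebra.EssFiniteType.of_comp k A B
  have hm : (maximalIdeal A).map (algebraMap A B) = maximalIdeal B :=
    Algebra.FormallyUnramified.map_maximalIdeal
  rw [hm] at he
  have hle : maximalIdeal B ≤ maximalIdeal B • maximalIdeal B := by
    rw [smul_eq_mul, ← pow_two]
    conv_lhs => rw [he]
    exact Ideal.pow_le_pow_right h2
  have hbot : maximalIdeal B = ⊥ :=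
    Submodule.eq_bot_of_le_smul_of_le_jacobson_bot (maximalIdeal B) (maximalIdeal B)
      (IsNoetherian.noetherian _) hle (IsLocalRing.maximalIdeal_le_jacobson ⊥)
  -- `B` is a field isomorphic to its residue field
  have hbij : Function.Bijective (IsScalarTower.toAlgHom k B (ResidueField B)) := by
    refine ⟨?_, IsLocalRing.residue_surjective⟩
    rw [injective_iff_map_eq_zero]
    intro x hx
    have : x ∈ maximalIdeal B := (IsLocalRing.residue_eq_zero_iff x).mp hx
    rw [hbot] at this
    exact this
  haveI : Algebra.FormallySmooth k (ResidueField B) :=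
    Algebra.FormallySmooth.of_equiv (AlgEquiv.ofBijective _ hbij)
  haveI : Algebra.IsAlgebraic k (ResidueField B) := Algebra.IsAlgebraic.of_finite k _
  exact hins (SmoothQF.isSeparable_of_formallySmooth k (ResidueField B))


end Groth.Agent.Lib.helper17.TameSep
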