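import Mathlib
import Groth.Prelude.Def_Coh
import Groth.Prelude.Def_Curv2
import Groth.Agent.Lib.Helper3.FTField
import Groth.Agent.Lib.Helper3.StalkBC2
import Groth.Agent.Lib.Helper17.NodeEtale
import Groth.Agent.Lib.Helper17.TameSep
/-!
# Local rings of curves smooth over a field (helper17)

* `stalk_facts`: the local ring of a `k`-scheme smooth of relative dimension one is essentially of
  finite type, formally smooth, with cyclic module of differentials;
* `finite_resMap_of_isClosed`: residue fields at closed points are finite over `k`;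
* `isSeparable_of_tame`: S16548.
-/
set_option autoImplicit false

open CategoryTheory CategoryTheory.Limits AlgebraicGeometry IsLocalRing KaehlerDifferential

namespace Groth.Agent.Lib.helper17.TameSepSch

universe u

variable (k : Type u) [Field k] (X : Scheme.{u}) [X.Over (Spec (CommRingCat.of k))]


/-- The local ring of a `k`-scheme smooth of relative dimension one: it is essentially of finite
type and formally smooth over `k`, and its module of differentials is cyclic. -/
theorem stalk_facts [SmoothOfRelativeDimension 1 (X ↘ Spec (CommRingCat.of k))] (x : X) :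
    letI := Curv2.stalkAlgebra k X x
    Algebra.EssFiniteType k (X.presheaf.stalk x) ∧ Algebra.FormallySmooth k (X.presheaf.stalk x) ∧
      ∃ ω : Ω[X.presheaf.stalk x⁄k], Submodule.span (X.presheaf.stalk x) {ω} = ⊤ := by
  letI := Curv2.stalkAlgebra k X x
  obtain ⟨U, hU, V, hV, hxV, e, hstd⟩ :=
    SmoothOfRelativeDimension.exists_isStandardSmoothOfRelativeDimension (n := 1)
      (f := X ↘ Spec (CommRingCat.of k)) x
  have hUtop : U = ⊤ := by
    ext z
    simp only [TopologicalSpace.Opens.coe_top, Set.mem_univ, iff_true, SetLike.mem_coe]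
    have h1 : (X ↘ Spec (CommRingCat.of k)) x ∈ U := e hxV
    have h2 : z = (X ↘ Spec (CommRingCat.of k)) x :=
      @Subsingleton.elim (PrimeSpectrum k) _ z _
    rw [h2]; exact h1
  subst hUtop
  -- the `k`-algebra `S = Γ(X, V)`
  letI algS : Algebra k Γ(X, V) := (Groth.Agent.Lib.helper3.FTField.sec k X V).toAlgebra
  have hstdS : Algebra.IsStandardSmoothOfRelativeDimension 1 k Γ(X, V) := by
    have h1 : (Groth.Agent.Lib.helper3.FTField.sec k X V).IsStandardSmoothOfRelativeDimension 1 := by
      rw [Groth.Agent.Lib.helper3.FTField.sec_eq_appLE]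
      exact RingHom.isStandardSmoothOfRelativeDimension_respectsIso.right _
        (Scheme.ΓSpecIso (CommRingCat.of k)).symm.commRingCatIsoToRingEquiv hstd
    exact h1
  haveI : Algebra.IsStandardSmooth k Γ(X, V) :=
    Algebra.IsStandardSmoothOfRelativeDimension.isStandardSmooth 1
  letI algSB : Algebra Γ(X, V) (X.presheaf.stalk x) :=
    X.presheaf.algebra_section_stalk (⟨x, hxV⟩ : V)
  haveI ip : IsLocalization.AtPrime (X.presheaf.stalk x) (hV.primeIdealOf ⟨x, hxV⟩).asIdeal :=
    hV.isLocalization_stalk ⟨x, hxV⟩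
  haveI : IsScalarTower k Γ(X, V) (X.presheaf.stalk x) := by
    refine IsScalarTower.of_algebraMap_eq fun c => ?_
    change Curv2.stalkMap k X x c = (X.presheaf.germ V x hxV).hom
      (Groth.Agent.Lib.helper3.FTField.sec k X V c)
    simp only [Curv2.stalkMap, Groth.Agent.Lib.helper3.FTField.sec, RingHom.comp_apply]
    exact (TopCat.Presheaf.germ_res_apply X.presheaf (homOfLE (le_top : V ≤ ⊤)) x hxV _).symm
  haveI : Nontrivial Γ(X, V) := (algebraMap Γ(X, V) (X.presheaf.stalk x)).domain_nontrivial
  haveI : Algebra.FormallySmooth Γ(X, V) (X.presheaf.stalk x) :=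
    Algebra.FormallySmooth.of_isLocalization (hV.primeIdealOf ⟨x, hxV⟩).asIdeal.primeCompl
  haveI : Algebra.EssFiniteType Γ(X, V) (X.presheaf.stalk x) :=
    Algebra.EssFiniteType.of_isLocalization _ (hV.primeIdealOf ⟨x, hxV⟩).asIdeal.primeCompl
  refine ⟨Algebra.EssFiniteType.comp k Γ(X, V) _, Algebra.FormallySmooth.comp k Γ(X, V) _, ?_⟩
  -- differentials
  have hrank : Module.rank Γ(X, V) (Ω[Γ(X, V)⁄k]) = 1 := by
    rw [Algebra.IsStandardSmoothOfRelativeDimension.rank_kaehlerDifferential 1]; rfl
  obtain ⟨ω₀, -, hω₀⟩ := rank_eq_one_iff.mp hrank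
  refine ⟨KaehlerDifferential.map k k Γ(X, V) (X.presheaf.stalk x) ω₀, ?_⟩
  rw [eq_top_iff]
  intro y _
  haveI : IsLocalizedModule (hV.primeIdealOf ⟨x, hxV⟩).asIdeal.primeCompl
      (KaehlerDifferential.map k k Γ(X, V) (X.presheaf.stalk x)) :=
    KaehlerDifferential.isLocalizedModule_map (R := k) (S := Γ(X, V)) (T := X.presheaf.stalk x)
      (hV.primeIdealOf ⟨x, hxV⟩).asIdeal.primeCompl
  obtain ⟨⟨m, s⟩, hms⟩ := IsLocalizedModule.surj (hV.primeIdealOf ⟨x, hxV⟩).asIdeal.primeCompl
    (KaehlerDifferential.map k k Γ(X, V) (X.presheaf.stalk x)) y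
  obtain ⟨c, rfl⟩ := hω₀ m
  have hu : IsUnit (algebraMap Γ(X, V) (X.presheaf.stalk x) s) :=
    IsLocalization.map_units _ s
  obtain ⟨u, hu⟩ := hu
  rw [Submodule.mem_span_singleton]
  refine ⟨(↑u⁻¹ : X.presheaf.stalk x) * algebraMap Γ(X, V) (X.presheaf.stalk x) c, ?_⟩
  have h3 : (u : X.presheaf.stalk x) • y =
      algebraMap Γ(X, V) (X.presheaf.stalk x) c •
        KaehlerDifferential.map k k Γ(X, V) (X.presheaf.stalk x) ω₀ := by
    rw [hu, algebraMap_smul, algebraMap_smul, ← map_smul]
    exact hms
  rw [mul_smul, ← h3, smul_smul, Units.inv_mul, one_smul]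



theorem fromSpecResidueField_comp (x : X) :
    X.fromSpecResidueField x ≫ (X ↘ Spec (CommRingCat.of k)) =
      Spec.map (CommRingCat.ofHom (Curv2.resMap k X x)) := by
  have h1 := Groth.Agent.Lib.helper3.StalkBC2.specMap_stalkMap k X x
  rw [Scheme.fromSpecResidueField, Category.assoc, h1, ← Spec.map_comp]
  rfl

/-- the residue field at a closed point of a scheme locally of finite type over `k` is finite
over `k`. -/
theorem finite_resMap_of_isClosed [LocallyOfFiniteType (X ↘ Spec (CommRingCat.of k))] (x : X)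
    (hx : IsClosed ({x} : Set X)) : (Curv2.resMap k X x).Finite := by
  haveI : IsClosedImmersion (X.fromSpecResidueField x) :=
    isClosed_singleton_iff_isClosedImmersion.mp hx
  haveI : LocallyOfFiniteType (X.fromSpecResidueField x ≫ (X ↘ Spec (CommRingCat.of k))) :=
    inferInstance
  have hfin : IsFinite (X.fromSpecResidueField x ≫ (X ↘ Spec (CommRingCat.of k))) :=
    (isFinite_iff_locallyOfFiniteType_of_jacobsonSpace
      (f := X.fromSpecResidueField x ≫ (X ↘ Spec (CommRingCat.of k)))).mpr inferInstance
  rw [fromSpecResidueField_comp, IsFinite.SpecMap_iff] at hfin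
  exact hfin


/-- **Tame ramification forces a separable residue field.** -/
theorem isSeparable_of_tame (k : Type u) [Field k]
    (X Y : Scheme.{u}) [X.Over (Spec (CommRingCat.of k))] [Y.Over (Spec (CommRingCat.of k))]
    [SmoothOfRelativeDimension 1 (X ↘ Spec (CommRingCat.of k))]
    (f : X ⟶ Y) (hf : f ≫ (Y ↘ Spec (CommRingCat.of k)) = X ↘ Spec (CommRingCat.of k))
    (x : X) (hx : IsClosed ({x} : Set X)) (e : ℕ)
    (he : (IsLocalRing.maximalIdeal (Y.presheaf.stalk (f.base x))).map (f.stalkMap x).hom =
      IsLocalRing.maximalIdeal (X.presheaf.stalk x) ^ e)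
    (h2 : 2 ≤ e)
    (hsep : @Algebra.IsSeparable (Y.residueField (f.base x)) (X.residueField x) _ _
      (f.residueFieldMap x).hom.toAlgebra) :
    @Algebra.IsSeparable k (X.residueField x) _ _ (Curv2.resAlgebra k X x) := by
  classical
  set y := f.base x with hy
  letI algB : Algebra k (X.presheaf.stalk x) := Curv2.stalkAlgebra k X x
  letI algA : Algebra k (Y.presheaf.stalk y) := Curv2.stalkAlgebra k Y y
  letI algAB : Algebra (Y.presheaf.stalk y) (X.presheaf.stalk x) := (f.stalkMap x).hom.toAlgebra
  haveI : IsLocalHom (algebraMap (Y.presheaf.stalk y) (X.presheaf.stalk x)) :=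
    inferInstanceAs (IsLocalHom (f.stalkMap x).hom)
  haveI : IsScalarTower k (Y.presheaf.stalk y) (X.presheaf.stalk x) := by
    refine IsScalarTower.of_algebraMap_eq fun c => ?_
    have h := Groth.Agent.Lib.helper17.NodeEtale.stalkMap_comp k
      (Y ↘ Spec (CommRingCat.of k)) f (X ↘ Spec (CommRingCat.of k)) hf x
    exact RingHom.congr_fun h c
  obtain ⟨hess, hfs, ω, hω⟩ := stalk_facts k X x
  haveI := hess
  haveI := hfs
  haveI : IsNoetherianRing (X.presheaf.stalk x) :=
    Algebra.EssFiniteType.isNoetherianRing k (X.presheaf.stalk x)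
  haveI : LocallyOfFiniteType (X ↘ Spec (CommRingCat.of k)) :=
    haveI : Smooth (X ↘ Spec (CommRingCat.of k)) := SmoothOfRelativeDimension.smooth 1 _
    inferInstance
  -- residue field algebra structures
  have halg1 : Curv2.resAlgebra k X x =
      (inferInstance : Algebra k (IsLocalRing.ResidueField (X.presheaf.stalk x))) :=
    Algebra.algebra_ext _ _ fun r => rfl
  have halg2 : (f.residueFieldMap x).hom.toAlgebra =
      (inferInstance : Algebra (IsLocalRing.ResidueField (Y.presheaf.stalk y))
        (IsLocalRing.ResidueField (X.presheaf.stalk x))) := by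
    refine Algebra.algebra_ext _ _ fun r => ?_
    obtain ⟨r, rfl⟩ := IsLocalRing.residue_surjective r
    rfl
  haveI hsep' : Algebra.IsSeparable (IsLocalRing.ResidueField (Y.presheaf.stalk y))
      (IsLocalRing.ResidueField (X.presheaf.stalk x)) := by
    have h := hsep
    rw [halg2] at h
    exact h
  haveI hfin' : Module.Finite k (IsLocalRing.ResidueField (X.presheaf.stalk x)) := by
    have h := finite_resMap_of_isClosed k X x hx
    change @Module.Finite k _ _ _ (Curv2.resAlgebra k X x).toModule at h
    rw [halg1] at h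
    exact h
  have key := Groth.Agent.Lib.helper17.TameSep.isSeparable_residueField_of_pow k
    (Y.presheaf.stalk y) (X.presheaf.stalk x) ω hω e he h2
  rw [halg1]
  exact key

end Groth.Agent.Lib.helper17.TameSepSch
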