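import Mathlib
import Groth.Prelude.Def_FlatCA
import Groth.Agent.Lib.Helper24.WeakAssBC

set_option autoImplicit false

noncomputable section

namespace Groth.Agent.Lib.helper17.WeakAssField

open TensorProduct Groth.Agent.Lib.Helper24.WeakAssBC

universe u1 u2 u3 u4 u5

theorem W_of_finsupp {A : Type*} [CommRing A] {ι : Type*} (p : Ideal A) [hp : p.IsPrime]
    (M : Type*) [AddCommGroup M] [Module A M] (h : W A p (ι →₀ M)) : W A p M := by
  classical
  obtain ⟨y, h1, h2⟩ := h
  have hex : ∃ i, ∀ a : A, a ∉ p → a • y i ≠ 0 := by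
    by_contra hcon
    push Not at hcon
    choose a ha ha0 using hcon
    have hprod : (∏ i ∈ y.support, a i) ∉ p := by
      intro h
      obtain ⟨i, -, hi⟩ := (Ideal.IsPrime.prod_mem_iff).1 h
      exact ha i hi
    refine h1 _ hprod ?_
    ext i
    rw [Finsupp.smul_apply, Finsupp.zero_apply]
    by_cases hi : i ∈ y.support
    · rw [← Finset.mul_prod_erase y.support a hi, mul_comm, mul_smul, ha0 i, smul_zero]
    · rw [Finsupp.notMem_support_iff.1 hi, smul_zero]
  obtain ⟨i, hi⟩ := hex
  refine ⟨y i, hi, ?_⟩
  intro b hb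
  obtain ⟨s, hs, n, hn⟩ := h2 b hb
  refine ⟨s, hs, n, ?_⟩
  have := DFunLike.congr_fun hn i
  rw [Finsupp.smul_apply, Finsupp.zero_apply] at this
  exact this

/-- If `g` is nonzero in the (domain) fibre `B ⊗ κ(p)` of a free algebra and `g • z = 0`, then
`z` is killed by an element outside `p`. -/
theorem exists_smul_eq_zero_of_fibre_ne_zero {R : Type*} [CommRing R] {B : Type*} [CommRing B]
    [Algebra R B] [Module.Free R B] (p : Ideal R) [hp : p.IsPrime]
    [NoZeroDivisors (B ⊗[R] p.ResidueField)]
    (M : Type*) [AddCommGroup M] [Module R M] (g : B)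
    (hg : g ⊗ₜ[R] (1 : p.ResidueField) ≠ 0)
    (z : B ⊗[R] M) (hz : g • z = 0) : ∃ a : R, a ∉ p ∧ a • z = 0 := by
  classical
  by_contra hcon
  push Not at hcon
  let I := Module.Free.ChooseBasisIndex R B
  let β : Module.Basis I R B := Module.Free.chooseBasis R B
  obtain ⟨c, hc⟩ := TensorProduct.eq_repr_basis_left β z
  let S : Set M := c '' (c.support : Set I)
  have hSfin : S.Finite := (Finset.finite_toSet _).image _
  let M' : Submodule R M := Submodule.span R S
  haveI : Module.Finite R M' := Module.Finite.span_of_finite R hSfin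
  have hc_mem : ∀ i, c i ∈ M' := by
    intro i
    by_cases hi : i ∈ c.support
    · exact Submodule.subset_span ⟨i, hi, rfl⟩
    · rw [Finsupp.notMem_support_iff.1 hi]; exact M'.zero_mem
  let c' : I → M' := fun i => ⟨c i, hc_mem i⟩
  let z' : B ⊗[R] M' := ∑ i ∈ c.support, β i ⊗ₜ[R] c' i
  have hz' : LinearMap.baseChange B M'.subtype z' = z := by
    rw [← hc, map_sum]
    rfl
  have hinj : Function.Injective (LinearMap.baseChange B M'.subtype) := by
    have := Module.Flat.lTensor_preserves_injective_linearMap (M := B) M'.subtype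
      M'.injective_subtype
    exact this
  have hgz' : g • z' = 0 := by
    apply hinj
    rw [map_smul, hz', hz, map_zero]
  -- p is in the support of M'
  have hsupp : (⟨p, hp⟩ : PrimeSpectrum R) ∈ Module.support R M' := by
    rw [Module.mem_support_iff_of_finite]
    intro a ha
    by_contra hap
    refine hcon a hap ?_
    rw [← hc, Finsupp.sum, Finset.smul_sum]
    refine Finset.sum_eq_zero fun i hi => ?_
    rw [TensorProduct.smul_tmul', TensorProduct.smul_tmul]
    have : a • c' i = 0 := (Module.mem_annihilator.1 ha) (c' i)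
    have h2 : a • c i = 0 := congrArg Subtype.val this
    rw [h2, tmul_zero]
  rw [Module.mem_support_iff_nontrivial_residueField_tensorProduct] at hsupp
  obtain ⟨v, hv⟩ := exists_ne (0 : p.ResidueField ⊗[R] M')
  obtain ⟨φ, hφ⟩ := Module.Projective.exists_dual_ne_zero p.ResidueField hv
  let lam : M' →ₗ[R] p.ResidueField :=
    (φ.restrictScalars R).comp (TensorProduct.mk R p.ResidueField M' 1)
  -- lam kills all the c' i
  have hw : LinearMap.baseChange B lam z' = 0 := by
    have h1 : g • LinearMap.baseChange B lam z' = 0 := by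
      rw [← map_smul, hgz', map_zero]
    rw [Algebra.smul_def, Algebra.TensorProduct.algebraMap_apply] at h1
    rcases mul_eq_zero.1 h1 with h | h
    · exact absurd h hg
    · exact h
  have hlam0 : ∀ i, lam (c' i) = 0 := by
    have hne : ∀ i, lam (c' i) ≠ 0 → i ∈ c.support := by
      intro i hi
      by_contra hns
      apply hi
      have : c' i = 0 := Subtype.ext (Finsupp.notMem_support_iff.1 hns)
      rw [this, map_zero]
    let b : I →₀ p.ResidueField := Finsupp.onFinset c.support (fun i => lam (c' i)) hne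
    have hb : b = 0 := by
      apply TensorProduct.sum_tmul_basis_left_eq_zero β
      rw [Finsupp.onFinset_sum hne (fun i => tmul_zero _ _), ← hw, map_sum]
      rfl
    intro i
    have := DFunLike.congr_fun hb i
    exact this
  have hlam : lam = 0 := by
    rw [Submodule.linearMap_eq_zero_iff_of_eq_span lam (S := S) rfl]
    rintro ⟨s, i, hi, rfl⟩
    exact hlam0 i
  apply hφ
  clear hφ hv
  induction v using TensorProduct.induction_on with
  | zero => rw [map_zero]
  | tmul a m =>
    have e : a ⊗ₜ[R] m = a • ((1 : p.ResidueField) ⊗ₜ[R] m) := by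
      rw [TensorProduct.smul_tmul', smul_eq_mul, mul_one]
    have h3 : φ ((1 : p.ResidueField) ⊗ₜ[R] m) = 0 := DFunLike.congr_fun hlam m
    rw [e, map_smul, h3, smul_zero]
  | add x y hx hy => rw [map_add, hx, hy, add_zero]

/-- Weakly associated primes descend along a free algebra whose fibre over `p` is a domain. -/
theorem W_of_free_domain_fibre {R : Type*} [CommRing R] {B : Type*} [CommRing B] [Algebra R B]
    [Module.Free R B] (p : Ideal R) [hp : p.IsPrime] [NoZeroDivisors (B ⊗[R] p.ResidueField)]
    (q : Ideal B) [hq : q.IsPrime] (hqp : q.comap (algebraMap R B) = p)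
    (M : Type*) [AddCommGroup M] [Module R M] (h : W B q (B ⊗[R] M)) : W R p M := by
  classical
  obtain ⟨y, h1, h2⟩ := h
  have hfib : ∀ s : B, s ∉ q → s ⊗ₜ[R] (1 : p.ResidueField) ≠ 0 := by
    intro s hs h0
    apply hs
    let β := Module.Free.chooseBasis R B
    have h3 := congrArg (TensorProduct.equivFinsuppOfBasisLeft β) h0
    rw [map_zero] at h3
    have h4 : ∀ i, β.repr s i ∈ p := by
      intro i
      have := DFunLike.congr_fun h3 i
      rw [TensorProduct.equivFinsuppOfBasisLeft_apply_tmul_apply, Finsupp.zero_apply,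
        Algebra.smul_def, mul_one, Ideal.algebraMap_residueField_eq_zero] at this
      exact this
    rw [← β.linearCombination_repr s, Finsupp.linearCombination_apply, Finsupp.sum]
    refine Ideal.sum_mem _ fun i _ => ?_
    rw [Algebra.smul_def]
    apply Ideal.mul_mem_right
    have : β.repr s i ∈ q.comap (algebraMap R B) := hqp ▸ h4 i
    exact this
  apply W_of_finsupp (ι := Module.Free.ChooseBasisIndex R B) p M
  refine W_of_linearEquiv
    (TensorProduct.equivFinsuppOfBasisLeft (Module.Free.chooseBasis R B)) p ?_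
  refine ⟨y, ?_, ?_⟩
  · intro a ha h0
    refine h1 (algebraMap R B a) ?_ ?_
    · intro hmem
      apply ha
      rw [← hqp]
      exact hmem
    · rw [algebraMap_smul]
      exact h0
  · intro b hb
    have hbq : algebraMap R B b ∈ q := by
      have : b ∈ q.comap (algebraMap R B) := hqp ▸ hb
      exact this
    obtain ⟨s, hs, n, hn⟩ := h2 _ hbq
    rw [mul_smul] at hn
    obtain ⟨a, ha, ha0⟩ := exists_smul_eq_zero_of_fibre_ne_zero p M s (hfib s hs) _ hn
    refine ⟨a, ha, n, ?_⟩
    rw [mul_smul, ← algebraMap_smul B (b ^ n), map_pow]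
    exact ha0


/-- Tower of pushouts: for `k → L → K` and a pushout `RK` of `K` along `k → R`, there is an
intermediate pushout `RL` of `L` along `k → R` such that `RK` is the pushout of `K` along
`L → RL`. -/
theorem exists_mid (k : Type u1) (L : Type u2) (K : Type u3) [CommRing k] [CommRing L] [CommRing K]
    [Algebra k L] [Algebra L K] [Algebra k K] [IsScalarTower k L K]
    (R : Type u4) [CommRing R] [Algebra k R] (RK : Type u5) [CommRing RK] [Algebra k RK]
    [Algebra K RK] [Algebra R RK] [IsScalarTower k K RK] [IsScalarTower k R RK]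
    [Algebra.IsPushout k K R RK] [Algebra L RK] [IsScalarTower L K RK] :
    ∃ (RL : Type (max u2 u4)) (_ : CommRing RL) (_ : Algebra k RL) (_ : Algebra L RL)
      (_ : Algebra R RL) (_ : Algebra RL RK) (_ : IsScalarTower k L RL)
      (_ : IsScalarTower k R RL) (_ : Algebra.IsPushout k L R RL)
      (_ : IsScalarTower L RL RK) (_ : IsScalarTower R RL RK), Algebra.IsPushout L K RL RK := by
  letI : Algebra R (L ⊗[k] R) := Algebra.TensorProduct.rightAlgebra
  haveI : IsScalarTower k L RK := IsScalarTower.of_algebraMap_eq fun x => by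
    rw [IsScalarTower.algebraMap_apply k K RK, IsScalarTower.algebraMap_apply k L K,
      ← IsScalarTower.algebraMap_apply L K RK]
  let φ : L ⊗[k] R →ₐ[L] RK := Algebra.TensorProduct.lift (Algebra.ofId L RK)
    (IsScalarTower.toAlgHom k R RK) (fun _ _ => Commute.all _ _)
  letI : Algebra (L ⊗[k] R) RK := φ.toRingHom.toAlgebra
  haveI : IsScalarTower L (L ⊗[k] R) RK :=
    IsScalarTower.of_algebraMap_eq fun x => (φ.commutes x).symm
  haveI : IsScalarTower R (L ⊗[k] R) RK := IsScalarTower.of_algebraMap_eq fun x => by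
    show algebraMap R RK x = φ (1 ⊗ₜ x)
    simp [φ]
  haveI : IsScalarTower k (L ⊗[k] R) RK := IsScalarTower.of_algebraMap_eq fun x => by
    rw [IsScalarTower.algebraMap_apply k L RK, IsScalarTower.algebraMap_apply k L (L ⊗[k] R),
      ← IsScalarTower.algebraMap_apply L (L ⊗[k] R) RK]
  haveI : Algebra.IsPushout k L R (L ⊗[k] R) := TensorProduct.isPushout
  refine ⟨L ⊗[k] R, inferInstance, inferInstance, inferInstance, inferInstance, inferInstance,
    inferInstance, inferInstance, inferInstance, inferInstance, inferInstance, ?_⟩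
  exact (Algebra.IsPushout.comp_iff k L R (L ⊗[k] R) (T := K) (T' := RK)).1 inferInstance

theorem W_tensor_tower {A : Type*} {B : Type*} {C : Type*} [CommRing A] [CommRing B] [CommRing C]
    [Algebra A B] [Algebra B C] [Algebra A C] [IsScalarTower A B C] (M : Type*) [AddCommGroup M]
    [Module A M] (u : Ideal C) :
    W C u (C ⊗[A] M) ↔ W C u (C ⊗[B] (B ⊗[A] M)) :=
  ⟨W_of_linearEquiv (AlgebraTensorModule.cancelBaseChange A B C C M).symm u,
    W_of_linearEquiv (AlgebraTensorModule.cancelBaseChange A B C C M) u⟩

/-- Flat descent of a weakly associated prime whose witness is defined over the base. -/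
theorem W_comap_of_flat_of_witness {A : Type*} {B : Type*} [CommRing A] [CommRing B] [Algebra A B]
    [Module.Flat A B] (N : Type*) [AddCommGroup N] [Module A N] (u : Ideal B) [hu : u.IsPrime]
    (y0 : N) (h1 : ∀ s : B, s ∉ u → s • ((1 : B) ⊗ₜ[A] y0) ≠ 0)
    (h2 : ∀ b ∈ u, ∃ s : B, s ∉ u ∧ ∃ n : ℕ, (s * b ^ n) • ((1 : B) ⊗ₜ[A] y0) = 0) :
    W A (u.comap (algebraMap A B)) N := by
  refine ⟨y0, ?_, ?_⟩
  · intro a ha h0
    refine h1 (algebraMap A B a) ha ?_
    rw [algebraMap_smul, ← TensorProduct.tmul_smul, h0, tmul_zero]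
  · intro b hb
    obtain ⟨s, hs, n, hn⟩ := h2 (algebraMap A B b) hb
    have hn' : s ⊗ₜ[A] (b ^ n • y0) = 0 := by
      rw [mul_smul, ← map_pow, algebraMap_smul, ← TensorProduct.tmul_smul,
        TensorProduct.smul_tmul', smul_eq_mul, mul_one] at hn
      exact hn
    let p : Ideal A := LinearMap.ker (LinearMap.toSpanSingleton A N (b ^ n • y0))
    have hsp : s ∈ p.map (algebraMap A B) := by
      refine mem_map_of_tmul_eq_zero N p (b ^ n • y0) ?_ s hn'
      intro a ha
      show LinearMap.toSpanSingleton A N (b ^ n • y0) a = 0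
      rw [LinearMap.toSpanSingleton_apply]
      exact ha
    have hnle : ¬ p ≤ u.comap (algebraMap A B) := by
      intro hle
      exact hs (Ideal.map_le_iff_le_comap.2 hle hsp)
    obtain ⟨a, hap, hau⟩ := Set.not_subset.1 hnle
    refine ⟨a, hau, n, ?_⟩
    have : LinearMap.toSpanSingleton A N (b ^ n • y0) a = 0 := hap
    rw [LinearMap.toSpanSingleton_apply] at this
    rw [mul_smul]
    exact this

theorem W_of_W_tensor_of_finite_flat {A : Type*} {B : Type*} [CommRing A] [CommRing B]
    [Algebra A B] [Module.Finite A B] [Module.Flat A B] (M : Type*) [AddCommGroup M] [Module A M]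
    (t : Ideal B) [ht : t.IsPrime] (h : W B t (B ⊗[A] M)) :
    W A (t.comap (algebraMap A B)) M := by
  haveI : (t.comap (algebraMap A B)).IsPrime := Ideal.comap_isPrime _ _
  have h1 : W A (t.comap (algebraMap A B)) (B ⊗[A] M) :=
    W_restrictScalars_of_isIntegral (B ⊗[A] M) (t.comap (algebraMap A B))
      (Algebra.QuasiFinite.finite_primesOver _) t rfl h
  exact W_of_finite_flat_tensor _ B M h1

theorem flat_of_isPushout (L K RL RK : Type*) [CommRing L] [CommRing K] [CommRing RL]
    [CommRing RK] [Algebra L K] [Algebra L RL] [Algebra L RK] [Algebra K RK] [Algebra RL RK]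
    [IsScalarTower L K RK] [IsScalarTower L RL RK] [Module.Flat L K]
    (h : Algebra.IsPushout L K RL RK) : Module.Flat RL RK :=
  Module.Flat.isBaseChange L RL K RK (h.symm).out

theorem finite_of_isPushout (L K RL RK : Type*) [CommRing L] [CommRing K] [CommRing RL]
    [CommRing RK] [Algebra L K] [Algebra L RL] [Algebra L RK] [Algebra K RK] [Algebra RL RK]
    [IsScalarTower L K RK] [IsScalarTower L RL RK] [Module.Finite L K]
    (h : Algebra.IsPushout L K RL RK) : Module.Finite RL RK :=
  Module.Finite.equiv (h.symm.out).equiv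

theorem free_of_isPushout (L K RL RK : Type*) [CommRing L] [CommRing K] [CommRing RL]
    [CommRing RK] [Algebra L K] [Algebra L RL] [Algebra L RK] [Algebra K RK] [Algebra RL RK]
    [IsScalarTower L K RK] [IsScalarTower L RL RK] [Module.Free L K]
    (h : Algebra.IsPushout L K RL RK) : Module.Free RL RK :=
  (h.symm.out).free

end Groth.Agent.Lib.helper17.WeakAssField
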