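import Mathlib
import Groth.Prelude.Def_FlatCA
import Groth.Agent.Lib.Helper24.WeakAssBC
import Groth.Agent.Lib.Helper17.WeakAssField1

/-!
Weakly associated primes descend along base change by an arbitrary field extension
(Stacks 0CUB), ring level (helper17).
-/

set_option autoImplicit false

noncomputable section

namespace Groth.Agent.Lib.helper17.WeakAssField

open TensorProduct Groth.Agent.Lib.Helper24.WeakAssBC

universe u1 u2 u3 u4 u5

/-- Weakly associated primes descend along an algebraic field base change. -/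
theorem W_comap_of_isAlgebraic {k : Type u1} {K : Type u2} [Field k] [Field K] [Algebra k K]
    [Algebra.IsAlgebraic k K] {R : Type u3} [CommRing R] [Algebra k R] (RK : Type u4) [CommRing RK]
    [Algebra k RK] [Algebra K RK] [Algebra R RK] [IsScalarTower k K RK] [IsScalarTower k R RK]
    [Algebra.IsPushout k K R RK] (M : Type u5) [AddCommGroup M] [Module R M] (q : Ideal RK)
    [hq : q.IsPrime] (h : W RK q (RK ⊗[R] M)) : W R (q.comap (algebraMap R RK)) M := by
  classical
  obtain ⟨y, h1, h2⟩ := h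
  letI : Module k M := Module.compHom M (algebraMap k R)
  haveI : IsScalarTower k R M := IsScalarTower.of_algebraMap_smul fun r m => rfl
  let e : RK ⊗[R] M ≃ₗ[K] K ⊗[k] M := Algebra.IsPushout.cancelBaseChange k K R RK M
  obtain ⟨S, hS⟩ := TensorProduct.exists_finset (e y)
  have hy : y = ∑ i ∈ S, algebraMap K RK i.1 ⊗ₜ[R] i.2 := by
    rw [← e.symm_apply_apply y, hS, map_sum]
    refine Finset.sum_congr rfl fun i _ => ?_
    exact Algebra.IsPushout.cancelBaseChange_symm_tmul ..
  obtain ⟨L', hfin, hmem⟩ : ∃ L' : IntermediateField k K, FiniteDimensional k L' ∧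
      ∀ i ∈ S, i.1 ∈ L' := by
    let T : Set K := ↑(S.image Prod.fst)
    refine ⟨IntermediateField.adjoin k T, ?_, ?_⟩
    · exact IntermediateField.finiteDimensional_adjoin
        (fun x _ => Algebra.IsIntegral.isIntegral x)
    · exact fun i hi =>
        IntermediateField.subset_adjoin k T (Finset.mem_coe.2 (Finset.mem_image_of_mem _ hi))
  obtain ⟨RL, _, _, _, _, _, _, _, hpo1, _, _, hpo2⟩ := exists_mid k L' K R RK
  let a' : K × M → L' := fun i => if h : i ∈ S then ⟨i.1, hmem i h⟩ else 0
  let y' : RL ⊗[R] M := ∑ i ∈ S, algebraMap L' RL (a' i) ⊗ₜ[R] i.2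
  let E : RK ⊗[RL] (RL ⊗[R] M) ≃ₗ[RK] RK ⊗[R] M :=
    AlgebraTensorModule.cancelBaseChange R RL RK RK M
  have hE : E ((1 : RK) ⊗ₜ[RL] y') = y := by
    rw [hy, TensorProduct.tmul_sum, map_sum]
    refine Finset.sum_congr rfl fun i hi => ?_
    rw [AlgebraTensorModule.cancelBaseChange_tmul, Algebra.smul_def, mul_one,
      ← IsScalarTower.algebraMap_apply L' RL RK, IsScalarTower.algebraMap_apply L' K RK]
    have : a' i = ⟨i.1, hmem i hi⟩ := dif_pos hi
    rw [this]
    rfl
  haveI : Module.Flat RL RK := flat_of_isPushout L' K RL RK hpo2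
  have hW : W RL (q.comap (algebraMap RL RK)) (RL ⊗[R] M) := by
    refine W_comap_of_flat_of_witness (RL ⊗[R] M) q y' ?_ ?_
    · intro s hs h0
      apply h1 s hs
      rw [← hE, ← map_smul, h0, map_zero]
    · intro b hb
      obtain ⟨s, hs, n, hn⟩ := h2 b hb
      refine ⟨s, hs, n, ?_⟩
      apply E.injective
      rw [map_smul, hE, hn, map_zero]
  haveI : Module.Finite R RL := finite_of_isPushout k L' R RL hpo1
  haveI : Module.Flat R RL := flat_of_isPushout k L' R RL hpo1
  haveI : (q.comap (algebraMap RL RK)).IsPrime := Ideal.comap_isPrime _ _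
  have := W_of_W_tensor_of_finite_flat M (q.comap (algebraMap RL RK)) hW
  rw [Ideal.comap_comap, ← IsScalarTower.algebraMap_eq] at this
  exact this

theorem isDomain_fractionRing_mvPolynomial_tensor (k : Type*) [Field k] (ι : Type*) (κ : Type*)
    [Field κ] [Algebra k κ] : IsDomain (FractionRing (MvPolynomial ι k) ⊗[k] κ) := by
  let P := MvPolynomial ι k
  let F := FractionRing P
  let e1 : P ⊗[k] κ ≃ₐ[k] MvPolynomial ι κ :=
    (Algebra.TensorProduct.comm k P κ).trans
      ((MvPolynomial.algebraTensorAlgEquiv k κ).restrictScalars k)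
  haveI : IsDomain (P ⊗[k] κ) := e1.toMulEquiv.isDomain _
  letI : Algebra (P ⊗[k] κ) (F ⊗[P] (P ⊗[k] κ)) := Algebra.TensorProduct.rightAlgebra
  haveI : IsLocalization (Algebra.algebraMapSubmonoid (P ⊗[k] κ) (nonZeroDivisors P))
      (F ⊗[P] (P ⊗[k] κ)) := IsLocalization.tensorRight F (nonZeroDivisors P)
  have hle : Algebra.algebraMapSubmonoid (P ⊗[k] κ) (nonZeroDivisors P) ≤
      nonZeroDivisors (P ⊗[k] κ) := by
    rintro _ ⟨p, hp, rfl⟩
    apply mem_nonZeroDivisors_of_ne_zero
    have hinj : Function.Injective (algebraMap P (P ⊗[k] κ)) :=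
      Algebra.TensorProduct.includeLeft_injective (S := P) (algebraMap k κ).injective
    intro h0
    rw [← map_zero (algebraMap P (P ⊗[k] κ))] at h0
    exact nonZeroDivisors.ne_zero hp (hinj h0)
  haveI : IsDomain (F ⊗[P] (P ⊗[k] κ)) := IsLocalization.isDomain_of_le_nonZeroDivisors (F ⊗[P] (P ⊗[k] κ)) hle
  let e2 : F ⊗[P] (P ⊗[k] κ) ≃ₐ[P] F ⊗[k] κ := Algebra.TensorProduct.cancelBaseChange k P P F κ
  exact e2.symm.toMulEquiv.isDomain _

/-- Weakly associated primes descend along a purely transcendental field base change. -/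
theorem W_comap_of_purelyTranscendental {k : Type u1} {K : Type u2} [Field k] [Field K]
    [Algebra k K] {ι : Type*} (e : FractionRing (MvPolynomial ι k) ≃ₐ[k] K)
    {R : Type u3} [CommRing R] [Algebra k R] (RK : Type u4) [CommRing RK]
    [Algebra k RK] [Algebra K RK] [Algebra R RK] [IsScalarTower k K RK] [IsScalarTower k R RK]
    [Algebra.IsPushout k K R RK] (M : Type u5) [AddCommGroup M] [Module R M] (q : Ideal RK)
    [hq : q.IsPrime] (h : W RK q (RK ⊗[R] M)) : W R (q.comap (algebraMap R RK)) M := by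
  haveI : Module.Free R RK := free_of_isPushout k K R RK inferInstance
  haveI hp : (q.comap (algebraMap R RK)).IsPrime := Ideal.comap_isPrime _ _
  generalize hpdef : q.comap (algebraMap R RK) = p at hp ⊢
  haveI : IsDomain (RK ⊗[R] p.ResidueField) := by
    let e1 : RK ⊗[R] p.ResidueField ≃ₐ[K] K ⊗[k] p.ResidueField :=
      Algebra.IsPushout.cancelBaseChangeAlg k K R RK p.ResidueField
    let e2 : K ⊗[k] p.ResidueField ≃ₐ[k] FractionRing (MvPolynomial ι k) ⊗[k] p.ResidueField :=
      Algebra.TensorProduct.congr e.symm AlgEquiv.refl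
    haveI := isDomain_fractionRing_mvPolynomial_tensor k ι p.ResidueField
    haveI : IsDomain (K ⊗[k] p.ResidueField) := e2.toMulEquiv.isDomain _
    exact e1.toMulEquiv.isDomain _
  exact W_of_free_domain_fibre p q hpdef M h

/-- Weakly associated primes descend along base change by an arbitrary field extension. -/
theorem W_comap_of_field {k : Type u1} {K : Type u2} [Field k] [Field K] [Algebra k K]
    {R : Type u3} [CommRing R] [Algebra k R] (RK : Type u4) [CommRing RK]
    [Algebra k RK] [Algebra K RK] [Algebra R RK] [IsScalarTower k K RK] [IsScalarTower k R RK]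
    [Algebra.IsPushout k K R RK] (M : Type u5) [AddCommGroup M] [Module R M] (q : Ideal RK)
    [hq : q.IsPrime] (h : W RK q (RK ⊗[R] M)) : W R (q.comap (algebraMap R RK)) M := by
  obtain ⟨ι, x, hx⟩ := exists_isTranscendenceBasis' k K
  obtain ⟨L0, ⟨e⟩, halg⟩ : ∃ L0 : IntermediateField k K,
      Nonempty (FractionRing (MvPolynomial ι k) ≃ₐ[k] L0) ∧ Algebra.IsAlgebraic L0 K :=
    ⟨IntermediateField.adjoin k (Set.range x), ⟨hx.1.aevalEquivField⟩, hx.isAlgebraic_field⟩
  obtain ⟨RL, _, _, _, _, _, _, _, hpo1, _, _, hpo2⟩ := exists_mid k L0 K R RK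
  have h1 : W RK q (RK ⊗[RL] (RL ⊗[R] M)) := (W_tensor_tower M q).1 h
  have h2 : W RL (q.comap (algebraMap RL RK)) (RL ⊗[R] M) :=
    W_comap_of_isAlgebraic (k := L0) (K := K) (R := RL) RK (RL ⊗[R] M) q h1
  haveI : (q.comap (algebraMap RL RK)).IsPrime := Ideal.comap_isPrime _ _
  have h3 := W_comap_of_purelyTranscendental e (R := R) RL M (q.comap (algebraMap RL RK)) h2
  rw [Ideal.comap_comap, ← IsScalarTower.algebraMap_eq] at h3
  exact h3

end Groth.Agent.Lib.helper17.WeakAssField
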