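import Mathlib
import Groth.Prelude.Def_WeilCoh

/-!
# Formal properties of the push-forward of a Weil cohomology theory (helper17)
-/

set_option autoImplicit false
universe u v w

namespace Groth.Agent.Lib.helper17.WeilCohPush

open CategoryTheory AlgebraicGeometry WeilCoh

variable {k : Type u} [Field k] {P : ObjectProperty (Over (Spec (CommRingCat.of k)))}
variable {K : Type v} [Field K] (T : WeilCoh.TheoryOn.{u, v, w} k P K)

lemma pairing_apply {A : Type w} [Ring A] [Algebra K A] (S U : Submodule K A) (t : A →ₗ[K] K)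
    (x : S) (y : U) : WeilCoh.pairing K S U t x y = t ((x : A) * (y : A)) := rfl

/-- The defining property of the push-forward. -/
lemma tr_push_mul {X Y : P.FullSubcategory} (f : X ⟶ Y) (i : ℤ) (a : T.gr X i) (b : T.H Y)
    (hb : b ∈ T.gr Y (2 * (WeilCoh.dim X.obj.left : ℤ) - i)) :
    T.tr Y ((T.push f i a : T.H Y) * b) = T.tr X ((a : T.H X) * T.pull f b) := by
  haveI := T.duality Y (i + 2 * (dim Y.obj.left : ℤ) - 2 * (dim X.obj.left : ℤ))
    (2 * (dim X.obj.left : ℤ) - i) (by omega)
  have h1 : (pairing K (T.gr Y (i + 2 * (dim Y.obj.left : ℤ) - 2 * (dim X.obj.left : ℤ)))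
      (T.gr Y (2 * (dim X.obj.left : ℤ) - i)) (T.tr Y)) (T.push f i a) = T.pushFunctional f i a := by
    unfold WeilCoh.TheoryOn.push
    simp only [LinearMap.comp_apply, LinearEquiv.coe_coe]
    exact LinearMap.apply_symm_toPerfPair_self _ _
  have h2 := congrArg (fun φ => φ ⟨b, hb⟩) h1
  exact h2

/-- Classes of a fixed degree are detected by pairing with the complementary degree. -/
lemma eq_of_forall_tr_mul_eq {Y : P.FullSubcategory} (m n : ℤ)
    (hmn : m + n = 2 * (WeilCoh.dim Y.obj.left : ℤ)) (y y' : T.H Y) (hy : y ∈ T.gr Y m)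
    (hy' : y' ∈ T.gr Y m) (h : ∀ b ∈ T.gr Y n, T.tr Y (y * b) = T.tr Y (y' * b)) : y = y' := by
  haveI := T.duality Y m n hmn
  have hinj := (LinearMap.IsPerfPair.bijective_left
    (p := pairing K (T.gr Y m) (T.gr Y n) (T.tr Y))).1
  have : (⟨y, hy⟩ : T.gr Y m) = ⟨y', hy'⟩ := by
    apply hinj
    ext b
    exact h b.1 b.2
  exact congrArg Subtype.val this

end Groth.Agent.Lib.helper17.WeilCohPush
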