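import Mathlib

/-!
# Witt vector identities over arbitrary commutative rings (helper17)
-/

set_option autoImplicit false

namespace Groth.Agent.Lib.helper17

namespace Witt

open WittVector

variable {p : ℕ} [hp : Fact p.Prime] {R : Type*} [CommRing R]

/-- `V x * V y = p * V (x * y)` over any commutative ring. -/
theorem verschiebung_mul_verschiebung (x y : WittVector p R) :
    verschiebung x * verschiebung y = (p : WittVector p R) * verschiebung (x * y) := by
  rw [← verschiebung_mul_frobenius, frobenius_verschiebung, ← mul_assoc]
  have h : x * y * (p : WittVector p R) = (p : ℕ) • (x * y) := by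
    rw [nsmul_eq_mul, mul_comm]
  rw [h, map_nsmul, nsmul_eq_mul]

/-- A Witt vector with vanishing zeroth coefficient is in the image of Verschiebung. -/
theorem exists_verschiebung_of_coeff_zero (x : WittVector p R) (h : x.coeff 0 = 0) :
    ∃ z : WittVector p R, x = verschiebung z := by
  refine ⟨x.shift 1, ?_⟩
  have := eq_iterate_verschiebung (x := x) (n := 1) (by
    intro i hi
    obtain rfl : i = 0 := by omega
    exact h)
  simpa using this

/-- Iterated projection formula. -/
theorem iterate_verschiebung_mul_iterate_frobenius (x y : WittVector p R) (k : ℕ) :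
    verschiebung^[k] (x * frobenius^[k] y) = verschiebung^[k] x * y := by
  induction k generalizing x y with
  | zero => simp
  | succ k ih =>
    have h1 : (⇑(frobenius (p := p) (R := R)))^[k + 1] y =
        (⇑(frobenius (p := p) (R := R)))^[k] (frobenius y) := Function.iterate_succ_apply _ _ _
    rw [h1, Function.iterate_succ_apply', Function.iterate_succ_apply',
      ih, verschiebung_mul_frobenius]

theorem mem_ker_truncate_iff_exists (x : WittVector p R) (n : ℕ) :
    x ∈ RingHom.ker (WittVector.truncate (p := p) (R := R) n) ↔
      ∃ z : WittVector p R, x = verschiebung^[n] z := by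
  rw [WittVector.mem_ker_truncate]
  constructor
  · intro h
    exact ⟨x.shift n, eq_iterate_verschiebung h⟩
  · rintro ⟨z, rfl⟩ i hi
    exact iterate_verschiebung_coeff_eq_zero z hi

theorem mem_ker_constantCoeff_iff_exists (x : WittVector p R) :
    x ∈ RingHom.ker (WittVector.constantCoeff : WittVector p R →+* R) ↔
      ∃ z : WittVector p R, x = verschiebung z := by
  rw [RingHom.mem_ker]
  constructor
  · intro h
    exact exists_verschiebung_of_coeff_zero x h
  · rintro ⟨z, rfl⟩
    exact verschiebung_coeff_zero z

end Witt

end Groth.Agent.Lib.helper17
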